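import Mathlib
import Cfsg.Agent.Block.AbSyl
import Cfsg.Agent.Char.Brauer
import Cfsg.Agent.FGS.NilpPi
import Cfsg.Agent.PLocal.RelSylow

/-! Indicator functions of unions of `p`-sections, and an integrality argument for blocks. -/

set_option autoImplicit false
set_option linter.unusedSectionVars false

namespace Cfsg.Agent.Block

open Cfsg Cfsg.Agent.Char Subgroup
open scoped ComplexConjugate

theorem lattice_fix {ι : Type*} [Fintype ι] (a : ι → ι → ℤ) (d f : ι → ℤ)
    (hs : ∀ i j, a i j = a j i) (h2 : ∀ i j, ∑ k, a i k * a k j = 4 * a i j)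
    (hd : ∀ i, ∑ k, a i k * d k = 4 * d i)
    (hv : ∀ i, (d i ^ 2 = 1 ∧ f i = 0) ∨ (f i ^ 2 = 1 ∧ d i = 2 * f i)) (i : ι) :
    ∑ k, a i k * f k = 4 * f i := by
  have hp : ∀ i, ∃ s, ∑ k, a i k * f k = 2 * s := fun i => by
    have h1 : (2 : ℤ) ∣ ∑ k, (a i k * a k i - a i k * d k - a i k * f k) := by
      refine Finset.dvd_sum fun k _ => even_iff_two_dvd.1 ?_
      rw [← hs i k]
      rcases hv k with ⟨h, h'⟩ | ⟨h, h'⟩ <;> rcases sq_eq_one_iff.1 h with h | h <;>
        simp [h, h', parity_simps]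
    rw [Finset.sum_sub_distrib, Finset.sum_sub_distrib, h2, hd] at h1
    obtain ⟨c, hc⟩ := h1
    exact ⟨2 * a i i - 2 * d i - c, by linarith⟩
  choose s hs' using hp
  have e1 : ∑ i, s i * s i = 2 * ∑ i, f i * s i := by
    have : ∑ i, (2 * s i) * (2 * s i) = ∑ k, f k * (4 * (2 * s k)) := by
      simp_rw [← hs', Finset.sum_mul_sum, Finset.mul_sum]
      rw [Finset.sum_comm]
      refine Finset.sum_congr rfl fun k _ => ?_
      rw [Finset.sum_comm]
      refine Finset.sum_congr rfl fun l _ => ?_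
      rw [← mul_assoc 4, ← h2, Finset.sum_mul, Finset.mul_sum]
      exact Finset.sum_congr rfl fun i _ => by rw [hs k i]; ring
    have h3 : ∑ i, (2 * s i) * (2 * s i) = 4 * ∑ i, s i * s i := by
      rw [Finset.mul_sum]; exact Finset.sum_congr rfl fun _ _ => by ring
    have h4 : ∑ k, f k * (4 * (2 * s k)) = 8 * ∑ i, f i * s i := by
      rw [Finset.mul_sum]; exact Finset.sum_congr rfl fun _ _ => by ring
    omega
  have e2 : ∑ i, s i * d i = 4 * ∑ i, f i * f i := by
    have : ∑ i, (2 * s i) * d i = ∑ k, f k * (4 * d k) := by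
      simp_rw [← hs', ← hd, Finset.sum_mul, Finset.mul_sum]
      rw [Finset.sum_comm]
      exact Finset.sum_congr rfl fun k _ => Finset.sum_congr rfl fun i _ => by rw [hs k i]; ring
    have h3 : ∑ i, (2 * s i) * d i = 2 * ∑ i, s i * d i := by
      rw [Finset.mul_sum]; exact Finset.sum_congr rfl fun _ _ => by ring
    have h4 : ∑ k, f k * (4 * d k) = 8 * ∑ i, f i * f i := by
      rw [Finset.mul_sum]
      exact Finset.sum_congr rfl fun k _ => by rcases hv k with ⟨-, h⟩ | ⟨-, h⟩ <;> rw [h] <;> ring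
    omega
  have e3 : ∑ i, (s i - 2 * f i) ^ 2 = ∑ i, s i * s i - 4 * ∑ i, f i * s i + 4 * ∑ i, f i * f i := by
    rw [Finset.mul_sum, Finset.mul_sum, ← Finset.sum_sub_distrib, ← Finset.sum_add_distrib]
    exact Finset.sum_congr rfl fun _ _ => by ring
  have e4 : ∑ i, ((s i - 2 * f i) ^ 2 - s i * (d i - 2 * f i)) = 0 := by
    have : ∑ i, s i * (d i - 2 * f i) = ∑ i, s i * d i - 2 * ∑ i, f i * s i := by
      rw [Finset.mul_sum, ← Finset.sum_sub_distrib]
      exact Finset.sum_congr rfl fun _ _ => by ring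
    rw [Finset.sum_sub_distrib]
    omega
  rw [Finset.sum_eq_zero_iff_of_nonneg fun k _ => by
    rcases hv k with ⟨h, h'⟩ | ⟨h, h'⟩
    · have := Int.le_self_sq (s k * d k)
      rw [mul_pow, h] at this
      rw [h']; linarith
    · rw [h']; nlinarith [sq_nonneg (s k - 2 * f k)]] at e4
  have e5 : ∑ i, f i * s i = 2 * ∑ i, f i * f i := by
    rw [Finset.mul_sum]
    refine Finset.sum_congr rfl fun k _ => ?_
    rcases hv k with ⟨-, h'⟩ | ⟨-, h'⟩
    · simp [h']
    · have := e4 k (Finset.mem_univ _)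
      rw [h', sub_self, mul_zero, sub_zero, sq_eq_zero_iff, sub_eq_zero] at this
      rw [this]; ring
  have e6 : ∑ i, (s i - 2 * f i) ^ 2 = 0 := by omega
  rw [Finset.sum_eq_zero_iff_of_nonneg fun k _ => sq_nonneg _] at e6
  have := e6 i (Finset.mem_univ _)
  rw [sq_eq_zero_iff] at this
  rw [hs']
  omega

variable {G : Type*} [Group G] [Finite G] {M : Ideal AlgInt} {p : ℕ} [hp : Fact p.Prime]

theorem pPart_mul_of_isNilpotent [Group.IsNilpotent G] (a b : G) :
    pPart p (a * b) = pPart p a * pPart p b := by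
  have h1 : ∀ g : G, pPart p g ∈ pCore p G := fun g =>
    Grp.le_pCore_of_isNilpotent (isPGroup_zpowers_pPart p g) (mem_zpowers _)
  have h2 : ∀ g : G, pReg p g ∈ pPrimeCore p G := fun g =>
    Grp.le_pPrimeCore_of_isNilpotent (K := zpowers _)
      (by rw [Nat.card_zpowers]; exact not_dvd_iff_coprime.1 (not_dvd_orderOf_pReg p g))
      (mem_zpowers _)
  have h3 : ∀ x ∈ pCore p G, ∀ y ∈ pPrimeCore p G, Commute x y := fun x hx y hy => by
    obtain ⟨k, hk⟩ := orderOf_eq_pow_of_mem (Grp.pCore_isPGroup p G) hx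
    exact FGS.commute_of_coprime_of_isNilpotent
      (hk ▸ (Grp.orderOf_coprime_of_mem_pPrimeCore hy).symm.pow_left k)
  have h4 : a * b = (pPart p a * pPart p b) * (pReg p a * pReg p b) := by
    rw [mul_assoc, ← mul_assoc (pPart p b), (h3 _ (h1 b) _ (h2 a)).eq, mul_assoc, pPart_mul_pReg,
      ← mul_assoc, pPart_mul_pReg]
  rw [h4, pPart_mul_eq (h3 _ (mul_mem (h1 a) (h1 b)) _ (mul_mem (h2 a) (h2 b)))
    (orderOf_eq_pow_of_mem (Grp.pCore_isPGroup p G) (mul_mem (h1 a) (h1 b)))
    (not_dvd_orderOf_of_mem (Grp.not_dvd_card_pPrimeCore p G) (mul_mem (h2 a) (h2 b)))]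

/-- A class function depending only on `p`-parts whose restriction to a Sylow `p`-subgroup is a
generalized character is a generalized character. -/
theorem isGen_of_pPart (P : Sylow p G) {τ : G → ℂ} (hτ : IsClassFunction G τ)
    (h : ∀ g, τ (pPart p g) = τ g)
    (hP : IsGeneralizedCharacter (P : Subgroup G) fun y : (P : Subgroup G) => τ y) :
    IsGeneralizedCharacter G τ := by
  refine isGen_of_restrict_elementary hτ fun E q hq hE => ?_
  have := isNilpotent_of_isElementary hq hE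
  obtain ⟨c, hc⟩ := PLocal.RelSylow.exists_conj_mem_sylow' P
    ((Grp.pCore_isPGroup p E).map E.subtype)
  have h1 : ∀ e : E, c * (pPart p e : E) * c⁻¹ ∈ (P : Subgroup G) := fun e => hc _
    (mem_map_of_mem E.subtype
      (Grp.le_pCore_of_isNilpotent (isPGroup_zpowers_pPart p e) (mem_zpowers _)))
  let φ : E →* (P : Subgroup G) := MonoidHom.mk' (fun e => ⟨_, h1 e⟩) fun a b => Subtype.ext (by
    simp only [pPart_mul_of_isNilpotent, coe_mul]; group)
  convert hP.comp φ using 2 with e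
  rw [← h, pPart_coe]
  exact (hτ _ c).symm

open Classical in
/-- The indicator of the elements whose `p`-part is conjugate into `V`. -/
noncomputable def secInd (p : ℕ) (V : Subgroup G) (g : G) : ℂ :=
  if ∃ c : G, c * pPart p g * c⁻¹ ∈ V then 1 else 0

theorem secInd_congr (V : Subgroup G) {g h : G} (e : IsConj (pPart p g) (pPart p h)) :
    secInd p V g = secInd p V h := by
  obtain ⟨u, hu⟩ := isConj_iff.1 e
  unfold secInd
  rw [← hu]
  congr 1
  exact propext ⟨fun ⟨c, hc⟩ => ⟨c * u⁻¹, by simpa [mul_assoc] using hc⟩,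
    fun ⟨c, hc⟩ => ⟨c * u, by simpa [mul_assoc] using hc⟩⟩

variable (P : Sylow p G) [hab : IsMulCommutative (P : Subgroup G)] {V : Subgroup G}
  (hV : V ≤ P) (hN : ∀ n ∈ normalizer ((P : Subgroup G) : Set G), ∀ x ∈ V, n * x * n⁻¹ ∈ V)
include hV hN

open Classical in
theorem secInd_of_mem {y : G} (hy : y ∈ (P : Subgroup G)) :
    secInd p V y = if y ∈ V then 1 else 0 := by
  unfold secInd
  rw [pPart_eq_self_iff.2 (orderOf_eq_pow_of_mem P.2 hy)]
  congr 1
  refine propext ⟨fun ⟨c, hc⟩ => ?_, fun h => ⟨1, by simpa using h⟩⟩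
  obtain ⟨n, hn, e⟩ := mem_ncl_of_isConj P (hV hc) hy (isConj_iff.2 ⟨c, rfl⟩).symm
  exact e ▸ hN n hn _ hc

theorem isGen_secInd :
    IsGeneralizedCharacter G fun g => (V.relIndex P : ℂ) * secInd p V g := by
  classical
  refine isGen_of_pPart P (fun a b => by
    rw [secInd_congr V (g := a) (isConj_pPart (isConj_iff.2 ⟨b, rfl⟩))])
    (fun g => by rw [secInd_congr V (g := pPart p g) (h := g) (by rw [pPart_pPart])]) ?_
  have : (V.subgroupOf P).Normal := normal_of_isMulCommutative _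
  convert isCharacter_regChar.isGen.comp (QuotientGroup.mk' (V.subgroupOf P)) using 2 with y
  rw [secInd_of_mem P hV hN y.2]
  split_ifs with h
  · rw [QuotientGroup.mk'_apply, (QuotientGroup.eq_one_iff y).2 h, regChar_one, mul_one]
    rfl
  · rw [QuotientGroup.mk'_apply, regChar_of_ne_one fun h1 =>
      h ((QuotientGroup.eq_one_iff (N := V.subgroupOf P) y).1 h1), mul_zero]

omit hV hN hab P in
theorem eq_sum_of_blockPart [Fintype G] {B : Set (IrrCharacter G)} [Fintype B] {θ : G → ℂ}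
    (h : blockPart B θ = θ) (g : G) :
    θ g = ∑ ψ : B, classInner θ (ψ.1 : G → ℂ) * (ψ.1 : G → ℂ) g := by
  conv_lhs => rw [← h, blockPart_apply, finsum_mem_eq_finite_toFinset_sum _ (Set.toFinite _),
    Finset.sum_subtype (p := (· ∈ B)) _ (by simp)]

omit hV hN hab P in
theorem blockPart_mul_of_section [Fintype G] (hM : IsPModular p M) {B : Set (IrrCharacter G)}
    (hB : IsPBlock M B) {τ : G → ℂ}
    (hτ : ∀ g h, IsConj (pPart p g) (pPart p h) → τ g = τ h) {χ : IrrCharacter G} (hχ : χ ∈ B) :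
    blockPart B (τ * (χ : G → ℂ)) = τ * (χ : G → ℂ) := by
  ext u
  rw [blockPart_congr_of_val hM (val_blockCoeff_le_one hM hB) (η := τ u • (χ : G → ℂ))
    fun x hx => by rw [Pi.mul_apply, ← hτ u x hx]; rfl, blockPart_smul, blockPart_irr_of_mem hχ]
  rfl

omit hV hN hab P in
/-- If `τ` is a generalized character with values `0`, `4`, constant on `p`-sections, and the
members of `B` take the values `±1`, `±2` at a point `x` with `τ x = 4`, then the signed sum of
those with value `±2` vanishes where `τ` does. -/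
theorem sum_eq_zero_of_star [Fintype G] (hM : IsPModular p M) {B : Set (IrrCharacter G)}
    [Fintype B] (hB : IsPBlock M B) {τ : G → ℂ} (hg : IsGeneralizedCharacter G τ)
    (hτ : ∀ g h, IsConj (pPart p g) (pPart p h) → τ g = τ h) (h04 : ∀ g, τ g = 0 ∨ τ g = 4)
    {x : G} (hx : τ x = 4) (d f : B → ℤ) (hd : ∀ χ : B, (χ.1 : G → ℂ) x = d χ)
    (hv : ∀ i, (d i ^ 2 = 1 ∧ f i = 0) ∨ (f i ^ 2 = 1 ∧ d i = 2 * f i)) {g : G} (h0 : τ g = 0) :
    ∑ χ : B, (f χ : ℂ) * (χ.1 : G → ℂ) g = 0 := by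
  choose a ha using fun χ ψ : B => (hg.mul χ.1.2.isGen).exists_int_inner ψ.1.2.isGen
  have hex : ∀ (χ : B) (u : G), τ u * (χ.1 : G → ℂ) u = ∑ ψ : B, (a χ ψ : ℂ) * (ψ.1 : G → ℂ) u :=
    fun χ u => by
      simpa only [ha, Pi.mul_apply] using eq_sum_of_blockPart (blockPart_mul_of_section hM hB hτ χ.2) u
  have hs : ∀ i j, a i j = a j i := fun i j => by
    have : (a i j : ℂ) = a j i := by
      rw [← ha, ← ha, (hg.mul j.1.2.isGen).inner_symm i.1.2.isGen, mul_comm, classInner_mul_left]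
      congr 1
      ext u
      rcases h04 u with h | h <;> simp [h, map_ofNat]
    exact_mod_cast this
  have h2 : ∀ i j, ∑ k, a i k * a k j = 4 * a i j := fun i j => by
    have h1 : (4 : ℂ) • (τ * (i.1 : G → ℂ)) = ∑ k, (a i k : ℂ) • (τ * (k.1 : G → ℂ)) := by
      ext u
      simp only [Finset.sum_apply, Pi.smul_apply, Pi.mul_apply, smul_eq_mul, mul_left_comm _ (τ u)]
      rw [← Finset.mul_sum, ← hex]
      rcases h04 u with h | h <;> rw [h] <;> ring
    have h3 := congrArg (classInner · (j.1 : G → ℂ)) h1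
    simp only [classInner_sum_left, classInner_smul_left, ha] at h3
    exact_mod_cast h3.symm
  have h3 : ∀ i, ∑ k, a i k * d k = 4 * d i := fun i => by
    have := hex i x
    simp only [hx, hd] at this
    exact_mod_cast this.symm
  have h4 := lattice_fix a d f hs h2 h3 hv
  have h5 : (4 : ℂ) * ∑ χ : B, (f χ : ℂ) * (χ.1 : G → ℂ) g =
      ∑ χ : B, (f χ : ℂ) * (τ g * (χ.1 : G → ℂ) g) := by
    simp only [hex, Finset.mul_sum]
    rw [Finset.sum_comm]
    refine Finset.sum_congr rfl fun i _ => ?_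
    have : (4 : ℂ) * f i = ∑ k, (a i k : ℂ) * f k := by exact_mod_cast (h4 i).symm
    rw [← mul_assoc, this, Finset.sum_mul]
    exact Finset.sum_congr rfl fun k _ => by rw [hs i k]; ring
  simpa [h0] using h5

end Cfsg.Agent.Block
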