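import Mathlib
import Cfsg.Agent.Block.CoverBridge
import Cfsg.Agent.Block.Induce

/-! The Fong–Reynolds correspondence: for a block `b` of `N ⊴ G` and a subgroup `T` containing
its stabilizer, induction matches the blocks of `T` over `b` with the blocks of `G` over `b`. -/

namespace Cfsg.Agent.Block

open Cfsg Cfsg.Agent.Char MonoidAlgebra Subgroup

variable {G : Type*} [Group G] [Fintype G] {M : Ideal AlgInt} {p : ℕ}
  {N : Subgroup G} [hN : N.Normal] [Fintype N] {T : Subgroup G}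

/-- The irreducible characters of `T ≥ N` lying over some member of `b`. -/
def aboveIn (hNT : N ≤ T) (b : Set (IrrCharacter N)) : Set (IrrCharacter T) :=
  {ψ | ∃ θ ∈ b, classInner (fun n : N => (ψ : T → ℂ) ⟨n, hNT n.2⟩) (θ : N → ℂ) ≠ 0}

omit [Fintype G] hN in
theorem mem_aboveIn {hNT : N ≤ T} {b : Set (IrrCharacter N)} {ψ : IrrCharacter T} :
    ψ ∈ aboveIn hNT b ↔
      ∃ θ ∈ b, classInner (fun n : N => (ψ : T → ℂ) ⟨n, hNT n.2⟩) (θ : N → ℂ) ≠ 0 := Iff.rfl

theorem aboveIn_eq_above (hNT : N ≤ T) [Fintype (N.subgroupOf T)] (b : Set (IrrCharacter N)) :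
    aboveIn hNT b = above (N.subgroupOf T) (trSet (subgroupOfEquivOfLe hNT) b) := by
  classical
  have := Fintype.ofFinite T
  ext ψ
  rw [mem_aboveIn, mem_above]
  constructor
  · rintro ⟨θ, hθ, h⟩
    refine ⟨irrCongr (subgroupOfEquivOfLe hNT) θ, irrCongr_mem_trSet.2 hθ, ?_⟩
    rw [← classInner_subgroupOf hNT] at h
    exact h
  · rintro ⟨θ', hθ', h⟩
    obtain ⟨θ, hθ, rfl⟩ := mem_trSet'.1 hθ'
    refine ⟨θ, hθ, ?_⟩
    rw [← classInner_subgroupOf hNT]
    exact h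

theorem eSet_aboveIn_mem_intAlg (hM : IsPModular p M) (hNT : N ≤ T) {b : Set (IrrCharacter N)}
    (hb : IsPBlock M b) : eSet (aboveIn hNT b) ∈ intAlg M T := by
  have := Fintype.ofFinite (N.subgroupOf T)
  rw [aboveIn_eq_above]
  exact eSet_above_mem_intAlg hM (isPBlock_trSet _ hb)

theorem mem_aboveIn_of_sameBlock (hM : IsPModular p M) {hNT : N ≤ T} {b : Set (IrrCharacter N)}
    (hb : IsPBlock M b) {ψ η : IrrCharacter T} (hψ : ψ ∈ aboveIn hNT b)
    (h : SameBlock M (ψ : T → ℂ) η) : η ∈ aboveIn hNT b :=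
  mem_of_eSet_mem_intAlg hM (eSet_aboveIn_mem_intAlg hM hNT hb) hψ h

theorem subset_aboveIn (hM : IsPModular p M) {hNT : N ≤ T} {b : Set (IrrCharacter N)}
    (hb : IsPBlock M b) {B' : Set (IrrCharacter T)} (hB' : IsPBlock M B')
    (h : ∃ ψ ∈ B', ψ ∈ aboveIn hNT b) : B' ⊆ aboveIn hNT b := by
  obtain ⟨ψ, hψ, h⟩ := h
  exact fun η hη => mem_aboveIn_of_sameBlock hM hb h (sameBlock_of_mem hM hB' hψ hη)

omit [Fintype G] [Fintype N] in
theorem inertia_le_blockStab (hM : IsPModular p M) {b : Set (IrrCharacter N)} (hb : IsPBlock M b)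
    {θ : IrrCharacter N} (hθ : θ ∈ b) : inertia N (θ : N → ℂ) ≤ blockStab N b := by
  intro g hg
  have : conjIrr N θ g = θ := Subtype.ext hg
  exact conjSet_eq_of_mem hM hb hθ (by rwa [this])

variable [Fintype T] {hNT : N ≤ T} {b : Set (IrrCharacter N)}

theorem isIrr_indFun_of_mem_aboveIn (hM : IsPModular p M) (hb : IsPBlock M b)
    (hT : blockStab N b ≤ T) {ψ : IrrCharacter T} (hψ : ψ ∈ aboveIn hNT b) :
    IsIrrCharacter G (indFun T (ψ : T → ℂ)) := by
  obtain ⟨θ, hθ, h⟩ := hψ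
  exact isIrr_indFun_of_inertia_le hNT ψ.2 θ.2 ((inertia_le_blockStab hM hb hθ).trans hT) h

theorem mem_above_of_eq_indFun (hM : IsPModular p M) (hb : IsPBlock M b)
    (hT : blockStab N b ≤ T) {ψ : IrrCharacter T} (hψ : ψ ∈ aboveIn hNT b) {χ : IrrCharacter G}
    (hχ : (χ : G → ℂ) = indFun T (ψ : T → ℂ)) : χ ∈ above N b := by
  obtain ⟨θ, hθ, h⟩ := hψ
  refine ⟨θ, hθ, ?_⟩
  rw [hχ, classInner_restrict_indFun_of_inertia_le hNT ψ.2 θ.2
    ((inertia_le_blockStab hM hb hθ).trans hT) h]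
  exact h

theorem exists_mem_aboveIn_of_mem_above (hM : IsPModular p M) (hb : IsPBlock M b)
    (hT : blockStab N b ≤ T) {χ : IrrCharacter G} (hχ : χ ∈ above N b) :
    ∃ ψ ∈ aboveIn hNT b, (χ : G → ℂ) = indFun T (ψ : T → ℂ) := by
  obtain ⟨θ, hθ, h⟩ := hχ
  obtain ⟨ψ, hψ, h1, h2⟩ := exists_clifford_corr hNT θ.2
    ((inertia_le_blockStab hM hb hθ).trans hT) χ.2 h
  exact ⟨⟨ψ, hψ⟩, ⟨θ, hθ, h2 ▸ h⟩, h1.symm⟩

/-- The only constituent of `(ψ^G)_T` over `b` is `ψ`. -/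
theorem eq_of_mem_aboveIn_of_inner (hM : IsPModular p M) (hb : IsPBlock M b)
    (hT : blockStab N b ≤ T) {ψ η : IrrCharacter T} (hψ : ψ ∈ aboveIn hNT b)
    (hη : η ∈ aboveIn hNT b)
    (h : classInner (fun t : T => indFun T (ψ : T → ℂ) t) (η : T → ℂ) ≠ 0) : ψ = η := by
  have hi := isIrr_indFun_of_mem_aboveIn hM hb hT hψ
  obtain ⟨θ, hθ, h1⟩ := hψ
  obtain ⟨θ', hθ', h2⟩ := hη
  have hθT := (inertia_le_blockStab hM hb hθ).trans hT
  have hθT' := (inertia_le_blockStab hM hb hθ').trans hT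
  have h3 := clifford_corr_eq hNT η.2 θ'.2 hθT' h2 hi h
  have h4 : classInner (fun n : N => indFun T (ψ : T → ℂ) n) (θ : N → ℂ) ≠ 0 := by
    rwa [classInner_restrict_indFun_of_inertia_le hNT ψ.2 θ.2 hθT h1]
  obtain ⟨g, hg⟩ := exists_conjIrr_eq_of_over hi (h3.2 ▸ h2) h4
  have hgT : g ∈ T := hT (conjSet_eq_of_mem hM hb hθ' (hg ▸ hθ))
  have h5 : classInner (fun n : N => (η : T → ℂ) ⟨n, hNT n.2⟩) (θ : N → ℂ) ≠ 0 := by
    rw [← hg, coe_conjIrr, ← classInner_conjChar _ _ g⁻¹, conjChar_conjChar_inv]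
    have e : conjChar N (fun n : N => (η : T → ℂ) ⟨n, hNT n.2⟩) g⁻¹ =
        fun n : N => (η : T → ℂ) ⟨n, hNT n.2⟩ := ?_
    · rwa [e]
    funext n
    rw [conjChar_apply]
    have := η.2.isClassFunction.conj' ⟨n, hNT n.2⟩ ⟨g, hgT⟩
    refine Eq.trans (congrArg (η : T → ℂ) (Subtype.ext ?_)) this
    simp
  exact Subtype.ext (clifford_corr_unique hNT ψ.2 η.2 θ.2 hθT h1 h5 h)

theorem blockPart_aboveIn_indFun (hM : IsPModular p M) (hb : IsPBlock M b)
    (hT : blockStab N b ≤ T) {ψ : IrrCharacter T} (hψ : ψ ∈ aboveIn hNT b) :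
    blockPart (aboveIn hNT b) (fun t : T => indFun T (ψ : T → ℂ) t) = ψ := by
  classical
  have hi := isIrr_indFun_of_mem_aboveIn hM hb hT hψ
  rw [blockPart_eq_sum, Finset.sum_eq_single ψ]
  · rw [if_pos hψ, ← classInner_indFun_right _ _ hi.isClassFunction, hi.inner_self, one_smul]
  · intro η _ hne
    split_ifs with hη
    · by_contra h
      exact hne (eq_of_mem_aboveIn_of_inner hM hb hT hψ hη fun h0 => h (by rw [h0, zero_smul])).symm
    · exact zero_smul _ _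
  · simp

omit hN [Fintype N] [Fintype T] in
/-- The induced class function of an integral central element is integral and central. -/
theorem ofFun_indFun_mem {a : MonoidAlgebra ℂ T} (ha : a ∈ ZA ℂ T) (hi : a ∈ intAlg M T) :
    ofFun (indFun T fun t => a.coeff t) ∈ ZA ℂ G ∧
      ofFun (indFun T fun t => a.coeff t) ∈ intAlg M G := by
  classical
  refine ⟨ofFun_mem_ZA fun g h => isClassFunction_indFun T _ g h, ofFun_mem_intAlg fun g => ?_⟩
  have := Fintype.ofFinite (G ⧸ T)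
  rw [indFun_eq_sum_quotient T (fun x y => ZA_coeff_conj ha x y)]
  refine val_sum_le_one fun q _ => ?_
  rw [extendByZero_apply]
  split_ifs
  · exact mem_intAlg.1 hi _
  · simp

omit hN [Fintype N] in
theorem ev_ofFun_indFun {χ : G → ℂ} (hχ : IsClassFunction G χ) (a : MonoidAlgebra ℂ T) :
    ev χ (ofFun (indFun T fun t => a.coeff t)) = T.index * ev (fun t : T => χ t) a := by
  rw [ev_ofFun, sum_indFun_mul T _ hχ, ev_apply]

theorem om_indFun_ofFun (hM : IsPModular p M) (hb : IsPBlock M b) (hT : blockStab N b ≤ T)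
    {ψ : IrrCharacter T} (hψ : ψ ∈ aboveIn hNT b) (z : MonoidAlgebra ℂ T) :
    om (indFun T (ψ : T → ℂ)) (ofFun (indFun T fun t => (eSet (aboveIn hNT b) * z).coeff t)) =
      om (ψ : T → ℂ) z := by
  have hc := isClassFunction_indFun T (ψ : T → ℂ)
  have hi : (T.index : ℂ) ≠ 0 := Nat.cast_ne_zero.2 index_ne_zero_of_finite
  rw [om_apply, ev_ofFun_indFun hc, ev_eSet_mul (hc.restrict T), blockPart_aboveIn_indFun hM hb hT hψ,
    indFun_one, om_apply, mul_div_mul_left _ _ hi]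

/-- Fong–Reynolds: induction preserves and reflects blocks. -/
theorem sameBlock_indFun_iff (hM : IsPModular p M) (hb : IsPBlock M b) (hT : blockStab N b ≤ T)
    {ψ η : IrrCharacter T} (hψ : ψ ∈ aboveIn hNT b) (hη : η ∈ aboveIn hNT b) :
    SameBlock M (indFun T (ψ : T → ℂ)) (indFun T (η : T → ℂ)) ↔ SameBlock M (ψ : T → ℂ) η := by
  constructor
  · intro h
    refine sameBlock_of_om hM ψ.2 η.2 fun z hz hi => ?_
    obtain ⟨h1, h2⟩ := ofFun_indFun_mem (M := M) ((ZA ℂ T).mul_mem (eSet_mem_ZA _) hz)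
      ((intAlg M T).mul_mem (eSet_aboveIn_mem_intAlg hM hNT hb) hi)
    rw [← om_indFun_ofFun hM hb hT hψ, ← om_indFun_ofFun hM hb hT hη]
    exact val_om_sub_om_lt hM (isClassFunction_indFun T _) (isClassFunction_indFun T _) h h1 h2
  · intro h
    refine sameBlock_of_om hM (isIrr_indFun_of_mem_aboveIn hM hb hT hψ)
      (isIrr_indFun_of_mem_aboveIn hM hb hT hη) fun z hz hi => ?_
    rw [om_indFun T _ hz, om_indFun T _ hz]
    exact val_om_sub_om_lt hM ψ.2.isClassFunction η.2.isClassFunction h (res_mem_ZA T hz)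
      (res_mem_intAlg T hi)

omit hN [Fintype N] [Fintype T] in
/-- If `ψ^G = χ` is irreducible, the block of `ψ` induces the block of `χ`. -/
theorem isInducedBlock_of_eq_indFun (hM : IsPModular p M) {B' : Set (IrrCharacter T)}
    {B : Set (IrrCharacter G)} (hB' : IsPBlock M B') (hB : IsPBlock M B) {ψ : IrrCharacter T}
    (hψ : ψ ∈ B') {χ : IrrCharacter G} (hχ : χ ∈ B) (h : (χ : G → ℂ) = indFun T (ψ : T → ℂ)) :
    IsInducedBlock M T B' B := by
  refine isInducedBlock_of_om hM hB' hB hψ hχ fun z hz _ => ?_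
  rw [h, om_indFun T _ hz, sub_self, map_zero]
  exact zero_lt_one

/-- Fong–Reynolds: the characters of the induced block. -/
theorem mem_iff_of_isInducedBlock_aboveIn (hM : IsPModular p M) (hb : IsPBlock M b)
    (hT : blockStab N b ≤ T) {B' : Set (IrrCharacter T)} (hB' : B' ⊆ aboveIn hNT b)
    {B : Set (IrrCharacter G)} (hind : IsInducedBlock M T B' B) {χ : IrrCharacter G} :
    χ ∈ B ↔ ∃ ψ ∈ B', (χ : G → ℂ) = indFun T (ψ : T → ℂ) := by
  have key : ∀ ψ ∈ B', ∀ χ : IrrCharacter G, (χ : G → ℂ) = indFun T (ψ : T → ℂ) → χ ∈ B := by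
    intro ψ hψ χ h
    rw [induced_unique hM hind (isInducedBlock_of_eq_indFun hM hind.1 (isPBlock_blockOf χ) hψ
      (self_mem_blockOf hM χ) h)]
    exact self_mem_blockOf hM χ
  refine ⟨fun hχ => ?_, fun ⟨ψ, hψ, h⟩ => key ψ hψ χ h⟩
  obtain ⟨ψ, hψ⟩ := block_nonempty hM hind.1
  have h1 := key ψ hψ ⟨_, isIrr_indFun_of_mem_aboveIn hM hb hT (hB' hψ)⟩ rfl
  have h2 := sameBlock_of_mem hM hind.2.1 h1 hχ
  obtain ⟨η, hη, h3⟩ := exists_mem_aboveIn_of_mem_above (hNT := hNT) hM hb hT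
    (mem_above_of_sameBlock hM hb (mem_above_of_eq_indFun hM hb hT (hB' hψ) rfl) h2)
  refine ⟨η, mem_of_sameBlock hM hind.1 hψ ((sameBlock_indFun_iff hM hb hT (hB' hψ) hη).1 ?_), h3⟩
  rwa [← h3]

theorem exists_isInducedBlock_aboveIn (hM : IsPModular p M) (hb : IsPBlock M b)
    (hT : blockStab N b ≤ T) {B' : Set (IrrCharacter T)} (hB'b : IsPBlock M B')
    (hB' : B' ⊆ aboveIn hNT b) :
    ∃ B : Set (IrrCharacter G), IsInducedBlock M T B' B ∧ Covers N B b := by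
  obtain ⟨ψ, hψ⟩ := block_nonempty hM hB'b
  let χ : IrrCharacter G := ⟨_, isIrr_indFun_of_mem_aboveIn hM hb hT (hB' hψ)⟩
  exact ⟨_, isInducedBlock_of_eq_indFun hM hB'b (isPBlock_blockOf χ) hψ (self_mem_blockOf hM χ) rfl,
    χ, self_mem_blockOf hM χ, mem_above_of_eq_indFun hM hb hT (hB' hψ) rfl⟩

theorem eq_of_isInducedBlock_aboveIn (hM : IsPModular p M) (hb : IsPBlock M b)
    (hT : blockStab N b ≤ T) {B₁ B₂ : Set (IrrCharacter T)} (h₁ : B₁ ⊆ aboveIn hNT b)
    (h₂ : B₂ ⊆ aboveIn hNT b) {B : Set (IrrCharacter G)} (hi₁ : IsInducedBlock M T B₁ B)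
    (hi₂ : IsInducedBlock M T B₂ B) : B₁ = B₂ := by
  obtain ⟨χ, hχ⟩ := block_nonempty hM hi₁.2.1
  obtain ⟨ψ, hψ, e₁⟩ := (mem_iff_of_isInducedBlock_aboveIn hM hb hT h₁ hi₁).1 hχ
  obtain ⟨η, hη, e₂⟩ := (mem_iff_of_isInducedBlock_aboveIn hM hb hT h₂ hi₂).1 hχ
  refine block_eq_of_mem hM hi₁.1 hi₂.1 (mem_of_sameBlock hM hi₁.1 hψ ?_) hη
  rw [← sameBlock_indFun_iff hM hb hT (h₁ hψ) (h₂ hη), ← e₁, ← e₂]
  exact sameBlock_refl hM _

theorem exists_aboveIn_isInducedBlock (hM : IsPModular p M) (hb : IsPBlock M b)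
    (hT : blockStab N b ≤ T) {B : Set (IrrCharacter G)} (hB : IsPBlock M B) (h : Covers N B b) :
    ∃ B' : Set (IrrCharacter T), IsPBlock M B' ∧ B' ⊆ aboveIn hNT b ∧ IsInducedBlock M T B' B := by
  obtain ⟨χ, hχ, h⟩ := h
  obtain ⟨ψ, hψ, e⟩ := exists_mem_aboveIn_of_mem_above (hNT := hNT) hM hb hT h
  exact ⟨_, isPBlock_blockOf ψ, subset_aboveIn hM hb (isPBlock_blockOf ψ)
    ⟨ψ, self_mem_blockOf hM ψ, hψ⟩,
    isInducedBlock_of_eq_indFun hM (isPBlock_blockOf ψ) hB (self_mem_blockOf hM ψ) hχ e⟩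

omit hN [Fintype N] [Fintype T] in
theorem charDegree_of_eq_indFun {ψ : IrrCharacter T} {χ : G → ℂ}
    (h : χ = indFun T (ψ : T → ℂ)) : charDegree χ = T.index * charDegree (ψ : T → ℂ) := by
  apply charDegree_eq_of_eq
  rw [h, indFun_one, Nat.cast_mul, cast_charDegree ψ.2.isCharacter]

omit hN [Fintype N] [Fintype T] in
theorem sInf_degree_of_induced {B' : Set (IrrCharacter T)} {B : Set (IrrCharacter G)}
    (hne : B'.Nonempty) (hi : ∀ ψ ∈ B', IsIrrCharacter G (indFun T (ψ : T → ℂ)))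
    (h : ∀ χ : IrrCharacter G, χ ∈ B ↔ ∃ ψ ∈ B', (χ : G → ℂ) = indFun T (ψ : T → ℂ)) :
    sInf ((fun χ : IrrCharacter G => (charDegree (χ : G → ℂ)).factorization p) '' B) =
      T.index.factorization p +
        sInf ((fun ψ : IrrCharacter T => (charDegree (ψ : T → ℂ)).factorization p) '' B') := by
  have hf : ∀ (ψ : IrrCharacter T) (χ : G → ℂ), χ = indFun T (ψ : T → ℂ) →
      (charDegree χ).factorization p =
        T.index.factorization p + (charDegree (ψ : T → ℂ)).factorization p := by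
    intro ψ χ e
    rw [charDegree_of_eq_indFun e, Nat.factorization_mul index_ne_zero_of_finite
      (charDegree_ne_zero ψ.2), Finsupp.add_apply]
  obtain ⟨θ, hθ, h0⟩ := exists_blockHeight_eq_zero (p := p) hne
  rw [blockHeight_eq_zero_iff hne] at h0
  rw [sInf_degree_eq hθ h0, sInf_degree_eq (θ := ⟨_, hi θ hθ⟩) ((h _).2 ⟨θ, hθ, rfl⟩), hf θ _ rfl]
  intro χ hχ
  obtain ⟨ψ, hψ, e⟩ := (h χ).1 hχ
  rw [hf θ _ rfl, hf ψ _ e]
  exact Nat.add_le_add_left (h0 ψ hψ) _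

theorem blockDefect_of_isInducedBlock_aboveIn (hM : IsPModular p M) (hb : IsPBlock M b)
    (hT : blockStab N b ≤ T) {B' : Set (IrrCharacter T)} (hB' : B' ⊆ aboveIn hNT b)
    {B : Set (IrrCharacter G)} (hind : IsInducedBlock M T B' B) :
    blockDefect p B = blockDefect p B' := by
  rw [blockDefect, blockDefect, sInf_degree_of_induced (block_nonempty hM hind.1)
    (fun ψ hψ => isIrr_indFun_of_mem_aboveIn hM hb hT (hB' hψ))
    (fun χ => mem_iff_of_isInducedBlock_aboveIn hM hb hT hB' hind), ← T.index_mul_card,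
    Nat.factorization_mul index_ne_zero_of_finite Nat.card_pos.ne', Finsupp.add_apply,
    Nat.add_sub_add_left]

theorem blockHeight_of_isInducedBlock_aboveIn (hM : IsPModular p M) (hb : IsPBlock M b)
    (hT : blockStab N b ≤ T) {B' : Set (IrrCharacter T)} (hB' : B' ⊆ aboveIn hNT b)
    {B : Set (IrrCharacter G)} (hind : IsInducedBlock M T B' B) (ψ : IrrCharacter T) :
    blockHeight p B (indFun T (ψ : T → ℂ)) = blockHeight p B' (ψ : T → ℂ) := by
  rw [blockHeight, blockHeight, sInf_degree_of_induced (block_nonempty hM hind.1)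
    (fun ψ hψ => isIrr_indFun_of_mem_aboveIn hM hb hT (hB' hψ))
    (fun χ => mem_iff_of_isInducedBlock_aboveIn hM hb hT hB' hind), charDegree_of_eq_indFun rfl,
    Nat.factorization_mul index_ne_zero_of_finite (charDegree_ne_zero ψ.2), Finsupp.add_apply,
    Nat.add_sub_add_left]

theorem isDefectGroup_map_of_isInducedBlock_aboveIn [Fact p.Prime] (hM : IsPModular p M)
    (hb : IsPBlock M b) (hT : blockStab N b ≤ T) {B' : Set (IrrCharacter T)}
    (hB' : B' ⊆ aboveIn hNT b) {B : Set (IrrCharacter G)} (hind : IsInducedBlock M T B' B)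
    {D : Subgroup T} (hD : IsDefectGroup p M B' D) : IsDefectGroup p M B (D.map T.subtype) := by
  obtain ⟨E, hE, hDE⟩ := exists_defectGroup_ge_of_induced hM hind hD
  rwa [eq_of_le_of_card_ge hDE]
  rw [Alg.card_map_inj T.subtype_injective, card_defectGroup hM hind.1 hD,
    card_defectGroup hM hind.2.1 hE, blockDefect_of_isInducedBlock_aboveIn hM hb hT hB' hind]

end Cfsg.Agent.Block
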