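import Mathlib
import Cfsg.Agent.Block.FongReynolds

/-! More on covering blocks: every character of a covered block lies under the covering block;
blocks of maximal defect over a stable block; invariant characters of height zero. -/

namespace Cfsg.Agent.Block

open Cfsg Cfsg.Agent.Char MonoidAlgebra Subgroup

variable {G : Type*} [Group G] [Fintype G] {M : Ideal AlgInt} {p : ℕ} [hp : Fact p.Prime]
  {N : Subgroup G} [hN : N.Normal] [Fintype N]

omit hp in
/-- If `B` covers `b`, every member of `b` lies under some member of `B`. -/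
theorem Covers.exists_over (hM : IsPModular p M) {B : Set (IrrCharacter G)} (hB : IsPBlock M B)
    {b : Set (IrrCharacter N)} (hb : IsPBlock M b) (h : Covers N B b) {θ : IrrCharacter N}
    (hθ : θ ∈ b) : ∃ χ ∈ B, classInner (fun n : N => (χ : G → ℂ) n) (θ : N → ℂ) ≠ 0 := by
  have hB1 := isPrim_redAlg_eSet hM hB
  have hb1 := isPrim_bar_subtype hM hb
  have hBi := eSet_mem_intAlg hM hB
  have hbi := eSet_mem_intAlg hM hb
  obtain ⟨z, hz, h1⟩ := Alg.exists_trunc_mul_eq le_top (top_le_normalizer_of_normal N) hB1.mem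
    hB1.idem hb1 ((gbar_mul_sbar_ne_zero_iff hM N hB hb).2 h)
  have hw : eSet B * liftAlg M z ∈ intAlg M G := (intAlg M G).mul_mem hBi (liftAlg_mem_intAlg z)
  have hy : res ℂ N (eSet B * liftAlg M z) ∈ ZA ℂ N := by
    have h2 : Alg.Inv N (liftAlg M z) := fun t ht g => by
      rw [coeff_liftAlg, coeff_liftAlg, hz.2 t ht g]
    exact res_mem_ZA' N fun g t ht => ((inv_of_mem_ZA (eSet_mem_ZA B) N).mul h2) t ht g
  have hyi := res_mem_intAlg N hw
  have h3 : redAlg M (eSet b * res ℂ N (eSet B * liftAlg M z)) = redAlg M (eSet b) := by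
    apply Alg.emb_injective N.subtype_injective
    rw [redAlg_mul hbi hyi, map_mul, redAlg_res, emb_res, redAlg_mul hBi (liftAlg_mem_intAlg z),
      redAlg_liftAlg, ← bar_def, ← Alg.trunc_mul_left hb1.mem.1, ← mul_assoc,
      ← Alg.Z_commute hB1.mem.2 (Alg.supp_top _), h1]
  have h4 := val_om_lt_one θ.2 ((ZA ℂ N).sub_mem ((ZA ℂ N).mul_mem (eSet_mem_ZA b) hy)
    (eSet_mem_ZA b)) ((redAlg_eq_iff ((intAlg M N).mul_mem hbi hyi) hbi).1 h3)
  rw [map_sub, om_central_mul θ.2 (eSet_mem_ZA b), om_eSet_of_mem hθ, one_mul] at h4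
  by_contra hc
  push Not at hc
  have h5 : eSet B * incl ℂ N (eSet {θ}) = 0 := by
    by_contra h0
    obtain ⟨χ, hχ, ξ, rfl, h6⟩ := (eSet_mul_mapDomain_ne_zero_iff N.subtype B {θ}).1 h0
    exact h6 (hc χ hχ)
  have h6 : eSet {θ} * res ℂ N (eSet B * liftAlg M z) = 0 := by
    rw [← res_incl_mul, ← mul_assoc, ← ZA_comm (eSet_mem_ZA B), h5, zero_mul, map_zero]
  have h7 := congrArg (om (θ : N → ℂ)) h6
  rw [om_central_mul θ.2 (eSet_mem_ZA _), om_eSet_of_mem (Set.mem_singleton θ), one_mul,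
    map_zero] at h7
  rw [h7, zero_sub, Valuation.map_neg, map_one] at h4
  exact lt_irrefl _ h4

variable {T : Subgroup G}

omit hp hN in
theorem sbar_mul_sbar_ne_zero_iff_aboveIn (hM : IsPModular p M) (hNT : N ≤ T)
    {B : Set (IrrCharacter T)} (hB : IsPBlock M B) {b : Set (IrrCharacter N)}
    (hb : IsPBlock M b) : sbar M T B * sbar M N b ≠ 0 ↔ ∃ ψ ∈ B, ψ ∈ aboveIn hNT b :=
  sbar_mul_sbar_ne_zero_iff hM hNT hB hb

omit hp hN [Fintype N] [Fintype G] in
theorem factorization_card_eq_of_not_dvd [Finite G] {D : Subgroup G} (hNT : N ≤ T) (hDT : D ≤ T)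
    (hDN : D ≤ normalizer (N : Set G)) (h : ¬ p ∣ (N ⊔ D).relIndex T) :
    (Nat.card D).factorization p =
      (Nat.card (D ⊓ N : Subgroup G)).factorization p + (N.relIndex T).factorization p := by
  have c3 := relIndex_mul_relIndex N (N ⊔ D) T le_sup_left (sup_le hNT hDT)
  have c4 : N.relIndex (N ⊔ D) = N.relIndex D := by
    refine Alg.relIndex_eq_of_mul le_sup_right fun b hb => ?_
    obtain ⟨d, hd, n, hn, rfl⟩ :=
      (PLocal.Amb.mem_sup_of_le_normalizer_right hDN).1 (sup_comm N D ▸ hb)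
    exact ⟨d, hd, by simpa using hn⟩
  have c5 : Nat.card (D ⊓ N : Subgroup G) * N.relIndex D = Nat.card D := by
    rw [← inf_relIndex_right N D, inf_comm N D, relIndex,
      ← Nat.card_congr (subgroupOfEquivOfLe (inf_le_left : D ⊓ N ≤ D)).toEquiv, card_mul_index]
  have n1 : N.relIndex D ≠ 0 := index_ne_zero_of_finite
  have n2 : (N ⊔ D).relIndex T ≠ 0 := index_ne_zero_of_finite
  rw [← c5, ← c3, c4, Nat.factorization_mul Nat.card_pos.ne' n1, Nat.factorization_mul n1 n2,
    Finsupp.add_apply, Finsupp.add_apply, Nat.factorization_eq_zero_of_not_dvd h, add_zero]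

/-- Over a `T`-stable block `b` of `N` there is a block of `T` of defect at least
`d(b) + ν_p [T : N]`. -/
theorem exists_block_aboveIn_defect (hM : IsPModular p M) {b : Set (IrrCharacter N)}
    (hb : IsPBlock M b) (hNT : N ≤ T) (hT : T ≤ blockStab N b) :
    ∃ B : Set (IrrCharacter T), IsPBlock M B ∧ B ⊆ aboveIn hNT b ∧
      blockDefect p b + (N.relIndex T).factorization p ≤ blockDefect p B := by
  have := charP_resField hM
  have he : Alg.IsPrim (Alg.Z (resField M) N) (sbar M N b) := isPrim_bar_subtype hM hb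
  have hi := (inv_sbar_iff hM hb).2 hT
  have hTN := le_normalizer_of_normal' N T
  have heZ : sbar M N b ∈ Alg.Z (resField M) T := ⟨he.mem.1.mono hNT, hi⟩
  obtain ⟨D, hD⟩ := Alg.exists_isDef p hNT hTN (he.isPrim_fix hNT hi)
  obtain ⟨h1, h2⟩ := hD.of_stable hNT hTN he hi
  obtain ⟨B, hB, h3, h4⟩ := Alg.exists_isPrim_le_br_ne_zero heZ he.idem hD.ne_zero
  obtain ⟨E, hE⟩ := Alg.exists_isDef p le_rfl le_normalizer hB
  have h5 := hE.card_le hD.le hD.pgroup h4
  obtain ⟨B, hB', rfl⟩ := exists_block_of_isPrim_subtype hM hB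
  refine ⟨B, hB', subset_aboveIn hM hb hB' ((sbar_mul_sbar_ne_zero_iff_aboveIn hM hNT hB' hb).1 ?_),
    ?_⟩
  · rw [Alg.isComm_Z T _ hB.mem _ heZ, h3]
    exact hB.ne_zero
  · have h6 := factorization_card_eq_of_not_dvd hNT hD.le (hD.le.trans hTN) h2
    rw [card_eq_of_isDef_sbar hM hb h1, hp.out.factorization_pow, Finsupp.single_eq_same] at h6
    obtain ⟨j, hj⟩ := IsPGroup.iff_card.1 hD.pgroup
    rw [card_eq_of_isDef_sbar hM hB' hE, hj] at h5
    rw [hj, hp.out.factorization_pow, Finsupp.single_eq_same] at h6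
    rw [← h6]
    exact (Nat.pow_le_pow_iff_right hp.out.one_lt).1 h5

/-- A `T`-stable block of `N` has a character of height zero whose stabilizer has index prime
to `p` in `T`. -/
theorem exists_height_zero_not_dvd_relIndex (hM : IsPModular p M) {b : Set (IrrCharacter N)}
    (hb : IsPBlock M b) (hNT : N ≤ T) (hT : T ≤ blockStab N b) :
    ∃ θ ∈ b, blockHeight p b (θ : N → ℂ) = 0 ∧ ¬ p ∣ (inertia N (θ : N → ℂ)).relIndex T := by
  have := Fintype.ofFinite T
  obtain ⟨B, hB, h1, h2⟩ := exists_block_aboveIn_defect hM hb hNT hT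
  obtain ⟨χ, hχ, h3⟩ := exists_blockHeight_eq_zero (p := p) (block_nonempty hM hB)
  obtain ⟨θ, hθ, h4⟩ := h1 hχ
  obtain ⟨θ₀, hθ₀, h5⟩ := exists_blockHeight_eq_zero (p := p) (block_nonempty hM hb)
  have h6 := clifford_degree_rel hNT χ.2 θ.2 h4
  obtain ⟨m, hm⟩ := (χ.2.isCharacter.comp (inclusion hNT)).exists_nat_inner θ.2.isCharacter
  have hm' : classInner (fun n : N => (χ : T → ℂ) ⟨n, hNT n.2⟩) (θ : N → ℂ) = m := hm
  have hm0 : m ≠ 0 := by
    rintro rfl
    exact h4 (by simpa using hm')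
  rw [hm', ← cast_charDegree χ.2.isCharacter, ← cast_charDegree θ.2.isCharacter] at h6
  have h7 : charDegree (χ : T → ℂ) =
      m * (inertia N (θ : N → ℂ)).relIndex T * charDegree (θ : N → ℂ) := by exact_mod_cast h6
  have n1 : (inertia N (θ : N → ℂ)).relIndex T ≠ 0 := index_ne_zero_of_finite
  have h8 := congrArg (fun n => n.factorization p) h7
  simp only [Nat.factorization_mul (mul_ne_zero hm0 n1) (charDegree_ne_zero θ.2),
    Nat.factorization_mul hm0 n1, Finsupp.add_apply] at h8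
  rw [blockDefect_eq_of_height_zero hχ h3, blockDefect_eq_of_height_zero hθ₀ h5] at h2
  have h9 := factorization_charDegree_le χ.2 p
  have h10 := factorization_charDegree_le θ₀.2 p
  have h11 : (Nat.card T).factorization p =
      (Nat.card N).factorization p + (N.relIndex T).factorization p := by
    rw [← (N.subgroupOf T).card_mul_index, Nat.card_congr (subgroupOfEquivOfLe hNT).toEquiv,
      Nat.factorization_mul Nat.card_pos.ne' index_ne_zero_of_finite, Finsupp.add_apply]
    rfl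
  rw [blockHeight_eq_zero_iff (block_nonempty hM hb)] at h5
  have h12 := h5 θ hθ
  refine ⟨θ, hθ, (blockHeight_eq_zero_iff (block_nonempty hM hb) _).2 fun ψ hψ => ?_, fun hd => ?_⟩
  · have := h5 ψ hψ
    omega
  · have := (hp.out.dvd_iff_one_le_factorization n1).1 hd
    omega

end Cfsg.Agent.Block
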