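import Mathlib
import Cfsg.Agent.Block.AbLoc
import Cfsg.Agent.Block.RankLift
import Cfsg.Agent.Block.IBrQuot
import Cfsg.Agent.Block.NormalDefect

/-! Blocks all of whose irreducible characters have the same degree (Okuyama-Tsushima). -/

set_option autoImplicit false
set_option linter.unusedSectionVars false

namespace Cfsg.Agent.Block.EqDeg

open Cfsg Cfsg.Agent.Char Subgroup MonoidAlgebra
open scoped ComplexConjugate

theorem trace_corner {V : Type*} [AddCommGroup V] [Module ℂ V] [FiniteDimensional ℂ V]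
    {E : Module.End ℂ V} (hE : E * E = E) (h1 : LinearMap.trace ℂ V E = 1) (X Y : Module.End ℂ V) :
    LinearMap.trace ℂ V (E * X * (E * Y)) =
      LinearMap.trace ℂ V (E * X) * LinearMap.trace ℂ V (E * Y) := by
  have hp : LinearMap.IsProj (LinearMap.range E) E :=
    ⟨fun x => LinearMap.mem_range_self _ _, by
      rintro _ ⟨y, rfl⟩
      exact congrArg (fun F : Module.End ℂ V => F y) hE⟩
  have hr : Module.finrank ℂ (LinearMap.range E) = 1 := by
    have := hp.trace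
    rw [h1] at this
    exact_mod_cast this.symm
  obtain ⟨v, hv0, hv⟩ := finrank_eq_one_iff'.1 hr
  obtain ⟨g, hg⟩ := Module.Projective.exists_dual_eq_one ℂ (V := V) (x := (v : V))
    (by simpa using hv0)
  have hEv : ∀ w, E w = g (E w) • (v : V) := by
    intro w
    obtain ⟨c, hc⟩ := hv ⟨E w, LinearMap.mem_range_self _ _⟩
    have hc' : c • (v : V) = E w := congrArg Subtype.val hc
    rw [← hc', map_smul, hg, smul_eq_mul, mul_one]
  have htr : ∀ Z : Module.End ℂ V, LinearMap.trace ℂ V (E * Z) = g (E (Z v)) := by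
    intro Z
    have : E * Z = (g ∘ₗ E ∘ₗ Z).smulRight (v : V) := by
      ext w
      exact hEv _
    rw [this, LinearMap.trace_smulRight]
    rfl
  rw [mul_assoc, htr, htr, htr]
  simp only [Module.End.mul_apply]
  conv_lhs => rw [hEv (Y v), map_smul, map_smul, map_smul, smul_eq_mul, mul_comm]

variable {G : Type*} [Group G] [Finite G] {M : Ideal AlgInt} {p : ℕ}

theorem ev_corner {χ : G → ℂ} (hχ : IsCharacter G χ) {ε : MonoidAlgebra ℂ G} (hε : ε * ε = ε)
    (h1 : ev χ ε = 1) (a b : MonoidAlgebra ℂ G) :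
    ev χ (ε * a * (ε * b)) = ev χ (ε * a) * ev χ (ε * b) := by
  obtain ⟨n, ρ, rfl⟩ := hχ
  simp only [ev_character, map_mul] at h1 ⊢
  exact trace_corner (by rw [← map_mul, hε]) h1 _ _

theorem exists_int_sum {B : Set (IrrCharacter G)} (hB : eSet B ∈ intAlg M G) {i : IBr M G}
    (hi : ibrOf M B = {i}) : ∃ x y : Fin (brDeg i) → MonoidAlgebra ℂ G,
      (∀ s, x s ∈ intAlg M G) ∧ (∀ s, y s ∈ intAlg M G) ∧
      ∑ s, x s * pimIdem i * y s = eSet B := by
  obtain ⟨x, y, hxy⟩ := exists_sum_eq_eSet hB hi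
  have hm : ∀ s, liftAlg M (x s) * pimIdem i * liftAlg M (y s) ∈ intAlg M G := fun s =>
    mul_mem (mul_mem (liftAlg_mem_intAlg _) (pimIdem_mem i)) (liftAlg_mem_intAlg _)
  set w := ∑ s, liftAlg M (x s) * pimIdem i * liftAlg M (y s) with hw
  have hwi : w ∈ intAlg M G := sum_mem fun s _ => hm s
  have hs : IsSmall M (w - eSet B) := by
    rw [← redAlg_eq_iff hwi hB, hw, redAlg_sum fun s _ => hm s, ← hxy]
    refine Finset.sum_congr rfl fun s _ => ?_
    rw [redAlg_mul (mul_mem (liftAlg_mem_intAlg _) (pimIdem_mem i)) (liftAlg_mem_intAlg _),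
      redAlg_mul (liftAlg_mem_intAlg _) (pimIdem_mem i), redAlg_liftAlg, redAlg_liftAlg]
  obtain ⟨u, hu⟩ := intAlg_isUnit_one_add_of_isSmall (x := ⟨w - eSet B, sub_mem hwi hB⟩) hs
  have hc : ∀ a, a * eSet B = eSet B * a := fun a =>
    Subalgebra.mem_center_iff.1 (eSet_mem_ZA B) a
  have hew : eSet B * w = w := by
    rw [hw, Finset.mul_sum]
    refine Finset.sum_congr rfl fun s _ => ?_
    rw [← mul_assoc, ← mul_assoc, ← hc, mul_assoc (liftAlg M (x s)),
      eSet_mul_pimIdem hB (by simp [hi])]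
  have h1 : (1 + (w - eSet B)) * ((u⁻¹ : (intAlg M G)ˣ) : intAlg M G).1 = 1 := by
    have := congrArg Subtype.val u.mul_inv
    rw [hu] at this
    exact this
  refine ⟨fun s => liftAlg M (x s), fun s => liftAlg M (y s) * ((u⁻¹ : (intAlg M G)ˣ) : intAlg M G).1,
    fun s => liftAlg_mem_intAlg _, fun s => mul_mem (liftAlg_mem_intAlg _) (Subtype.prop _), ?_⟩
  simp only [← mul_assoc, ← Finset.sum_mul]
  rw [← hw]
  have h2 := congrArg (eSet B * ·) h1
  simp only [← mul_assoc, mul_add, mul_sub, mul_one, hew, eSet_mul_self] at h2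
  rw [← h2]
  congr 1
  abel

/-- All characters of the block have degree `m`, and agree on `p`-regular elements. -/
theorem exists_ibrOf_eq (hM : IsPModular p M) {B : Set (IrrCharacter G)} (hB : IsPBlock M B)
    {m : ℕ} (hm : ∀ χ ∈ B, charDegree (χ : G → ℂ) = m) :
    ∃ i : IBr M G, ibrOf M B = {i} ∧ ∀ χ ∈ B, dec (χ : G → ℂ) i = 1 := by
  classical
  have := Fintype.ofFinite G
  have : Fact p.Prime := ⟨hM.1⟩
  have hBi := eSet_mem_intAlg hM hB
  have hm1 : ∀ χ ∈ B, (χ : G → ℂ) 1 = m := fun χ hχ => by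
    rw [← cast_charDegree χ.2.isCharacter, hm χ hχ]
  obtain ⟨χ₀, hχ₀⟩ := block_nonempty hM hB
  have hm0 : (m : ℂ) ≠ 0 := by
    rw [← hm1 χ₀ hχ₀]
    exact χ₀.2.one_ne_zero
  -- vanishing of the sum of a set of characters
  have hcoef : ∀ U ⊆ B, ∀ g, blockCoeff U g = (Nat.card G : ℂ)⁻¹ * (m *
      conj ((∑ χ ∈ Finset.univ.filter (· ∈ U), (χ : G → ℂ)) g)) := by
    intro U hU g
    rw [blockCoeff, finsum_mem_irr_filter, Finset.sum_apply, map_sum]
    congr 1
    rw [Finset.mul_sum]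
    exact Finset.sum_congr rfl fun χ hχ => by rw [hm1 χ (hU (Finset.mem_filter.1 hχ).2)]
  have hG : (Nat.card G : ℂ) ≠ 0 := Nat.cast_ne_zero.2 Nat.card_pos.ne'
  have hle : ∀ j ∈ ibrOf M B, m ≤ brDeg j := by
    intro j hj
    obtain ⟨n, hn⟩ := exists_int_classInner_brauer hM (θ := ∑ χ ∈ Finset.univ.filter (· ∈ B),
      (χ : G → ℂ)) (isGen_sum _ _ fun χ _ => χ.2.isGen) (fun g hg => by
        have := regSet_of_mem_intAlg hM hBi g hg
        rw [hcoef B le_rfl] at this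
        simpa only [mul_eq_zero, inv_eq_zero, hG, hm0, false_or, map_eq_zero] using this) j
    have h2 := ev_brauer_eSet hM hBi j
    rw [if_pos hj, eSet_eq_finsum, finsum_mem_irr_filter, map_sum] at h2
    have h3 : (brDeg j : ℂ) = m * n := by
      rw [← h2, ← map_intCast (starRingEnd ℂ) n, ← hn, classInner_conj_symm, classInner_sum_right,
        Finset.mul_sum]
      exact Finset.sum_congr rfl fun χ hχ => by rw [ev_eIrr, hm1 χ (Finset.mem_filter.1 hχ).2]
    have h4 : (brDeg j : ℤ) = m * n := by exact_mod_cast h3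
    exact Nat.le_of_dvd (Nat.pos_of_ne_zero (brDeg_ne_zero j)) (Int.natCast_dvd_natCast.1 ⟨n, h4⟩)
  have hreg : ∀ χ ∈ B, ∀ j : IBr M G, dec (χ : G → ℂ) j ≠ 0 →
      regPart p (χ : G → ℂ) = brauer j := fun χ hχ j hj =>
    regPart_eq_brauer_of_degree hM χ.2.isCharacter hj
      ((hm χ hχ).le.trans (hle j (mem_ibrOf.2 ⟨χ, hχ, hj⟩)))
  have hone : ∀ χ ∈ B, ∀ j : IBr M G, dec (χ : G → ℂ) j ≠ 0 → dec (χ : G → ℂ) j = 1 := by
    intro χ hχ j hj
    have h1 := cast_dec_irr χ j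
    rw [ev_pimIdem_congr hM χ.2.isClassFunction (isClassFunction_brauer j) (fun g hg => by
      rw [← hreg χ hχ j hj, regPart_of_not_dvd _ hg]), ev_brauer_pimIdem hM, if_pos rfl] at h1
    exact_mod_cast h1
  have huniq : ∀ χ ∈ B, ∀ j l : IBr M G, dec (χ : G → ℂ) j ≠ 0 → dec (χ : G → ℂ) l ≠ 0 → j = l :=
    fun χ hχ j l hj hl => (linearIndependent_brauer hM).injective
      ((hreg χ hχ j hj).symm.trans (hreg χ hχ l hl))
  obtain ⟨i, hi⟩ := exists_dec_ne_zero_of_irr (M := M) χ₀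
  have hiB : i ∈ ibrOf M B := mem_ibrOf.2 ⟨χ₀, hχ₀, hi⟩
  have hUB : {χ : IrrCharacter G | dec (χ : G → ℂ) i ≠ 0} ⊆ B := fun χ hχ =>
    mem_of_dec_ne_zero hBi hiB hχ
  have hU : eSet {χ : IrrCharacter G | dec (χ : G → ℂ) i ≠ 0} ∈ intAlg M G := by
    refine RegSet.mem_intAlg_of_dec hM (fun g hg => ?_) fun j hj χ hχ => ?_
    · rw [hcoef _ hUB]
      have := pim_eq_zero hM i hg
      rw [pim_apply, ← Finset.sum_filter_of_ne (p := fun χ : IrrCharacter G => dec (χ : G → ℂ) i ≠ 0)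
        (fun χ _ h h0 => h (by rw [h0]; simp))] at this
      refine mul_eq_zero_of_right _ (mul_eq_zero_of_right _ ((map_eq_zero _).2 ?_))
      rw [Finset.sum_apply, ← this]
      refine Finset.sum_congr (by ext; simp) fun χ hχ => ?_
      have h := (Finset.mem_filter.1 hχ).2
      rw [hone χ (hUB h) i h, Nat.cast_one, one_mul]
    · obtain ⟨ψ, hψ, hψj⟩ := mem_ibrOf.1 hj
      rw [huniq ψ (hUB hψ) j i hψj hψ]
      exact not_not.1 hχ
  have hall : ∀ χ ∈ B, dec (χ : G → ℂ) i ≠ 0 := fun χ hχ =>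
    mem_of_eSet_mem_intAlg hM hU (χ := χ₀) hi (sameBlock_of_mem hM hB hχ₀ hχ)
  refine ⟨i, Finset.eq_singleton_iff_unique_mem.2 ⟨hiB, fun j hj => ?_⟩,
    fun χ hχ => hone χ hχ i (hall χ hχ)⟩
  obtain ⟨ψ, hψ, hψj⟩ := mem_ibrOf.1 hj
  exact huniq ψ hψ j i hψj (hall ψ hψ)

/-- The lattice spanned by the columns of the block is self-dual up to `p ^ d`. -/
theorem val_sum_le (hM : IsPModular p M) {B : Set (IrrCharacter G)} (hB : IsPBlock M B)
    {m : ℕ} (hm : ∀ χ ∈ B, charDegree (χ : G → ℂ) = m) {a b : MonoidAlgebra ℂ G}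
    (ha : a ∈ intAlg M G) (hb : b ∈ intAlg M G) :
    val M (∑ᶠ χ ∈ B, ev (χ : G → ℂ) a * ev (χ : G → ℂ) b) ≤ val M (p : ℂ) ^ blockDefect p B := by
  classical
  obtain ⟨i, hi, hd⟩ := exists_ibrOf_eq hM hB hm
  have hBi := eSet_mem_intAlg hM hB
  obtain ⟨x, y, hx, hy, hxy⟩ := exists_int_sum hBi hi
  have key : ∀ c : MonoidAlgebra ℂ G, ∀ χ ∈ B,
      ev (χ : G → ℂ) c = ev (χ : G → ℂ) (pimIdem i * ∑ s, y s * c * x s) := by
    intro c χ hχ
    rw [← ev_eSet_mul_of_mem hχ c, ← hxy, Finset.sum_mul, map_sum, Finset.mul_sum, map_sum]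
    refine Finset.sum_congr rfl fun s _ => ?_
    rw [mul_assoc, mul_assoc, ev_mul_comm χ.2.isClassFunction]
    simp only [mul_assoc]
  set A := ∑ s, y s * a * x s
  set C := ∑ s, y s * b * x s
  have hw : pimIdem i * A * (pimIdem i * C) ∈ intAlg M G :=
    mul_mem (mul_mem (pimIdem_mem i) (sum_mem fun s _ => mul_mem (mul_mem (hy s) ha) (hx s)))
      (mul_mem (pimIdem_mem i) (sum_mem fun s _ => mul_mem (mul_mem (hy s) hb) (hx s)))
  have hG : (Nat.card G : ℂ) ≠ 0 := Nat.cast_ne_zero.2 Nat.card_pos.ne'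
  have h1 : (m : ℂ) * ∑ᶠ χ ∈ B, ev (χ : G → ℂ) a * ev (χ : G → ℂ) b =
      Nat.card G * (pimIdem i * A * (pimIdem i * C)).coeff 1 := by
    rw [coeff_eq_sum_ev, mul_inv_cancel_left₀ hG, finsum_mem_irr, Finset.mul_sum]
    refine Finset.sum_congr rfl fun χ _ => ?_
    rw [inv_one, ← MonoidAlgebra.one_def, mul_one]
    split_ifs with hχ
    · rw [ev_corner χ.2.isCharacter (isIdempotentElem_pimIdem i)
        (by rw [← cast_dec_irr, hd χ hχ, Nat.cast_one]), ← key a χ hχ, ← key b χ hχ,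
        ← cast_charDegree χ.2.isCharacter, hm χ hχ]
    · rw [← eSet_mul_pimIdem hBi (i := i) (by simp [hi]), mul_assoc, mul_assoc,
        ev_eSet_mul_of_notMem hχ, mul_zero, mul_zero]
  obtain ⟨χ₀, hχ₀⟩ := block_nonempty hM hB
  have h0 : blockHeight p B (χ₀ : G → ℂ) = 0 := by
    rw [blockHeight, show (fun ψ : IrrCharacter G => (charDegree (ψ : G → ℂ)).factorization p) '' B
      = {m.factorization p} from ?_, hm χ₀ hχ₀]
    · simp
    · ext n
      constructor
      · rintro ⟨ψ, hψ, rfl⟩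
        simp [hm ψ hψ]
      · rintro rfl
        exact ⟨χ₀, hχ₀, by simp [hm χ₀ hχ₀]⟩
  have h2 : val M (m : ℂ) = val M (p : ℂ) ^ ((Nat.card G).factorization p - blockDefect p B) := by
    rw [← (val_irr_one_eq_iff hM hχ₀).2 h0, ← cast_charDegree χ₀.2.isCharacter, hm χ₀ hχ₀]
  have h3 := congrArg (val M) h1
  rw [map_mul, map_mul, h2, val_card_eq hM,
    ← Nat.sub_add_cancel (blockDefect_le p B), pow_add, Nat.add_sub_cancel, mul_assoc] at h3
  rw [mul_left_cancel₀ (val_prime_pow_ne_zero hM _) h3]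
  exact mul_le_of_le_one_right' (mem_intAlg.1 hw 1)

theorem exists_ev_gdn {C : Subgroup G} {y : C} (hy : y ∈ center C) (i : IBr M C) :
    ∃ w ∈ intAlg M G, ∀ χ : G → ℂ, IsClassFunction G χ → gdn C y χ (pim i) = ev χ w := by
  have := Fintype.ofFinite C
  have := Fintype.ofFinite G
  refine ⟨incl ℂ C (single y 1 * pimIdem i), incl_mem_intAlg C (mul_mem (single_one_mem_intAlg y)
    (pimIdem_mem i)), fun χ hχ => ?_⟩
  rw [gdn_def, classInner_pim (isClassFunction_sec hy hχ), ev_sec, ev_incl]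

theorem blockRank_eq_one_of_dvd (hM : IsPModular p M) {b : Set (IrrCharacter G)}
    (hb : IsPBlock M b) (h : ∀ i ∈ ibrOf M b, ∀ j ∈ ibrOf M b, p ^ blockDefect p b ∣ cartan i j) :
    blockRank p b = 1 := by
  classical
  rw [blockRank_block_eq_card hM hb, Finset.card_eq_one]
  obtain ⟨i, hi⟩ := ibrOf_nonempty (M := M) (block_nonempty hM hb)
  refine ⟨i, Finset.eq_singleton_iff_unique_mem.2 ⟨hi, fun l hl => by_contra fun hne => ?_⟩⟩
  choose! c hc using h
  have hp0 : (p : ℤ) ^ blockDefect p b ≠ 0 := pow_ne_zero _ (Nat.cast_ne_zero.2 hM.1.ne_zero)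
  have key : ∀ s ∈ ibrOf M b, ∀ t ∈ ibrOf M b,
      ∑ j ∈ ibrOf M b, (c s j : ℤ) * cinv p b j t = if s = t then 1 else 0 := by
    intro s hs t ht
    apply mul_left_cancel₀ hp0
    rw [Finset.mul_sum, mul_ite, mul_one, mul_zero, ← sum_cartan_mul_cinv hM hb hs ht]
    refine Finset.sum_congr rfl fun j hj => ?_
    rw [hc s hs j hj]
    push_cast
    ring
  have h1 : (p : ℤ) ∣ (∑ j ∈ ibrOf M b, (c i j : ℤ) * cinv p b j i) *
      (∑ j ∈ ibrOf M b, (c l j : ℤ) * cinv p b j l) -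
      (∑ j ∈ ibrOf M b, (c i j : ℤ) * cinv p b j l) *
      (∑ j ∈ ibrOf M b, (c l j : ℤ) * cinv p b j i) := by
    rw [Finset.sum_mul_sum, Finset.sum_mul_sum, ← Finset.sum_sub_distrib]
    refine Finset.dvd_sum fun j hj => ?_
    rw [← Finset.sum_sub_distrib]
    refine Finset.dvd_sum fun k hk => ?_
    have := (dvd_cinv_minor hM hb hj hi hk hl).mul_left ((c i j : ℤ) * c l k)
    convert this using 1
    ring
  rw [key i hi i hi, key l hl l hl, key i hi l hl, if_pos rfl, if_pos rfl, if_neg (Ne.symm hne)] at h1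
  simp only [mul_one, zero_mul, sub_zero] at h1
  exact hM.1.one_lt.ne' (Nat.dvd_one.1 (Int.natCast_dvd_natCast.1 h1))

variable [hp : Fact p.Prime] {B : Set (IrrCharacter G)} {P : Subgroup G}
  {e : MonoidAlgebra (resField M) G}

theorem rank_lblk (h : MP p B P e) (hab : P ≤ centralizer (P : Set G)) {m : ℕ}
    (hm : ∀ χ ∈ B, charDegree (χ : G → ℂ) = m) {v : G} (hv : v ∈ P) :
    blockRank p (lblk p P e v) = 1 := by
  have := Fintype.ofFinite (centralizer ({v} : Set G))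
  have hb := eSet_mem_intAlg h.hM (h.block hv)
  refine blockRank_eq_one_of_dvd h.hM (h.block hv) fun i hi j hj => ?_
  have hz : (⟨v, self_mem_of_centralizer_eq rfl⟩ : centralizer ({v} : Set G)) ∈ center _ :=
    mem_center_of_centralizer_eq rfl _
  obtain ⟨a, ha, ha'⟩ := exists_ev_gdn hz j
  obtain ⟨c, hc, hc'⟩ := exists_ev_gdn (inv_mem hz) i
  have h1 := finsum_gdn_mul h.hM (h.order hv) rfl (h.ind hv) (isProj_pim h.hM hb hj)
    (isProj_pim h.hM hb hi)
  rw [classInner_pim_pim, finsum_mem_congr rfl fun (χ : IrrCharacter G) _ => (by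
    rw [← ha' _ χ.2.isClassFunction, ← hc' _ χ.2.isClassFunction]
    congr 1
    exact ((isGen_gdn_zpowers rfl χ.2.isGen (isCharacter_pim i).isGen).map_inv
      ⟨v, mem_zpowers v⟩).symm : _ = ev (χ : G → ℂ) a * ev (χ : G → ℂ) c)] at h1
  have h2 := val_sum_le h.hM h.hB hm ha hc
  rw [h1, val_natCast_le_pow_iff h.hM, ← h.card, ← h.pow_defect_lblk hab hv] at h2
  exact h2

theorem card_eq (hM : IsPModular p M) (hB : IsPBlock M B) {m : ℕ}
    (hm : ∀ χ ∈ B, charDegree (χ : G → ℂ) = m) : Nat.card B = p ^ blockDefect p B := by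
  classical
  have := Fintype.ofFinite G
  have hBi := eSet_mem_intAlg hM hB
  obtain ⟨i, hi, hd⟩ := exists_ibrOf_eq hM hB hm
  obtain ⟨j, hj, hc, -⟩ := exists_proj_of_rank_one hM hB
    (by rw [blockRank_block_eq_card hM hB, hi, Finset.card_singleton])
  obtain rfl : i = j := Finset.singleton_injective (hi.symm.trans hj)
  rw [← hc, cartan, natCard_block_eq, Finset.card_filter]
  refine Finset.sum_congr rfl fun χ _ => ?_
  split_ifs with hχ
  · rw [hd χ hχ]
  · rw [dec_eq_zero_of_mem_ibrOf hBi (by simp [hi]) hχ]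

theorem nst_le (h : MP p B P e) (hab : P ≤ centralizer (P : Set G)) {m : ℕ}
    (hm : ∀ χ ∈ B, charDegree (χ : G → ℂ) = m) : Alg.nst ⊤ P e ≤ centralizer (P : Set G) := by
  classical
  have := Fintype.ofFinite P
  have h1 := h.card_eq_sum_wt (rep := Subtype.val) (fun v : P => v.2) h.sum_pfw
  rw [card_eq h.hM h.hB hm, ← h.card, Finset.sum_congr rfl fun u _ => by
    rw [rank_lblk h hab hm u.2, Nat.cast_one, mul_one]] at h1
  have hpos : ∀ u : P, 1 ≤ Nat.card {v : P // PF p P e u v} := fun u => by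
    have : Nonempty {w : P // PF p P e u w} := ⟨⟨u, h.pf_refl u.2⟩⟩
    exact Nat.card_pos
  have h2 : ∑ u : P, ((Nat.card {v : P // PF p P e u v} : ℝ)⁻¹) = ∑ _u : P, (1 : ℝ) := by
    rw [Finset.sum_const, Finset.card_univ, ← Nat.card_eq_fintype_card, nsmul_eq_mul, mul_one]
    apply Complex.ofReal_injective
    push_cast
    exact h1.symm
  have h3 := (Finset.sum_eq_sum_iff_of_le fun u _ => inv_le_one_of_one_le₀
    (by exact_mod_cast hpos u)).1 h2
  intro g hg
  refine mem_centralizer_iff.2 fun u hu => ?_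
  have h4 : Nat.card {v : P // PF p P e u v} = 1 := by
    have := h3 ⟨u, hu⟩ (Finset.mem_univ _)
    rw [inv_eq_one] at this
    exact_mod_cast this
  have h5 := h.pf_of_mem_nst hu hg
  have h6 := (Nat.card_eq_one_iff_unique.1 h4).1.elim ⟨⟨_, h5.right⟩, h5⟩ ⟨⟨u, hu⟩, h.pf_refl hu⟩
  have h7 : g * u * g⁻¹ = u := congrArg (fun x => x.1.1) h6
  rw [← mul_inv_eq_iff_eq_mul.1 h7]

/-- Okuyama-Tsushima. -/
theorem nilpotent (hM : IsPModular p M) (hB : IsPBlock M B) (hP : IsDefectGroup p M B P)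
    (hab : P ≤ centralizer (P : Set G)) {m : ℕ} (hm : ∀ χ ∈ B, charDegree (χ : G → ℂ) = m) :
    IsNilpotentBlock p M B := by
  have := charP_resField hM
  obtain ⟨e, h⟩ := exists_MP hM hB hP
  rw [← nilB_gbar_iff hM hB, h.hm.nilB_iff_of_comm hab]
  exact nst_le h hab hm

theorem exists_deg_of_nilpotent (hM : IsPModular p M) (hnil : IsNilpotentBlock p M B) :
    ∃ d : ℕ, ∀ χ ∈ B, blockHeight p B (χ : G → ℂ) = 0 → charDegree (χ : G → ℂ) = d := by
  by_cases h : ∃ χ ∈ B, blockHeight p B (χ : G → ℂ) = 0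
  · obtain ⟨χ, hχ, h0⟩ := h
    obtain ⟨P, hP⟩ := exists_isDefectGroup hM hnil.1
    obtain ⟨e, he⟩ := exists_MP hM hnil.1 hP
    obtain ⟨Φ, hΦ⟩ := exists_equiv_of_nilpotent hM hnil hP hχ h0
    refine ⟨charDegree (χ : G → ℂ), fun ψ hψ h1 => ?_⟩
    obtain ⟨l, hl⟩ := Φ.surjective ⟨ψ, hψ⟩
    obtain ⟨-, h2, h3⟩ := hΦ l
    rw [hl] at h2 h3
    have h4 := irrDegree_dvd_card l.2
    rw [he.card, Nat.dvd_prime_pow hp.out] at h4
    obtain ⟨k, -, hk⟩ := h4
    rw [h1, hk, hp.out.factorization_pow, Finsupp.single_eq_same] at h3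
    rw [h2, hk, ← h3, pow_zero, one_mul]
  · exact ⟨0, fun χ hχ h0 => (h ⟨χ, hχ, h0⟩).elim⟩

end Cfsg.Agent.Block.EqDeg
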