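import Mathlib
import Cfsg.Agent.Block.EqDeg
import Cfsg.Agent.Block.Dominate
import Cfsg.Agent.Char.Ito
import Cfsg.Agent.Fus.AutCop

/-! Blocks with a normal defect group whose height zero characters have the same degree. -/

set_option autoImplicit false
set_option linter.unusedSectionVars false

namespace Cfsg.Agent.Block.EqDeg

open Cfsg Cfsg.Agent.Char Subgroup Cfsg.Agent.Block.Alg
open scoped MonoidAlgebra

section alg
variable {k : Type*} [Field k] {G : Type*} [Group G] [Finite G] {p : ℕ} [hp : Fact p.Prime]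
  [CharP k p] {D : Subgroup G} {b e : k[G]}

theorem nilB_of_normal [D.Normal] (hm : MaxBP p ⊤ b D e)
    (h : nst ⊤ D e ≤ D ⊔ (⊤ ⊓ centralizer (D : Set G))) : NilB p ⊤ b := by
  suffices key : ∀ (n : ℕ) (Q : Subgroup G), Nat.card D - Nat.card Q = n → ∀ (f : k[G]),
      PLE p ⊤ Q f D e → ∀ x ∈ nst ⊤ Q f, ∃ u ∈ D, ∀ q ∈ Q, x * q * x⁻¹ = u * q * u⁻¹ by
    refine hm.nilB_of_ple fun Q f hle x hx hx' => ?_
    obtain ⟨u, hu, h1⟩ := key _ Q rfl f hle x hx
    exact mem_centralizer_of_conj_eq hm.of.pair.pgroup hx' hu (mem_nst.1 hx).2.1 h1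
  intro n
  induction n using Nat.strong_induction_on with
  | _ n ih =>
    intro Q hn' f hle x hx
    rcases hle.le.eq_or_lt with rfl | hlt
    · obtain rfl := hle.eq_of_eq
      obtain ⟨u, hu, c, hc, rfl⟩ := (PLocal.Amb.mem_sup_of_le_normalizer_right
        (le_normalizer_of_le_nst hm.of.pair.le_nst)).1 (h hx)
      refine ⟨u, hu, fun q hq => ?_⟩
      rw [mul_assoc u c, ← mem_centralizer_iff.1 hc.2 q hq]
      simp [mul_assoc]
    · have h9 := PLocal.Amb.lt_inf_normalizer hm.of.pair.pgroup hlt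
      set R := D ⊓ normalizer (Q : Set G) with hR
      obtain ⟨g, h5, h6⟩ := hle.exists_nle_between h9.le inf_le_left inf_le_right
      have hRn : normalizer (Q : Set G) ≤ normalizer (R : Set G) := fun y hy => by
        rw [← map_cm_eq_iff, hR, map_cm_inf, map_cm_normalizer, map_cm_eq_iff.2 hy,
          map_cm_eq_iff.2 (by rw [normalizer_eq_top]; trivial)]
      have hL : nst ⊤ Q f ≤ normalizer (R : Set G) := (nst_le_normalizer _ _ _).trans hRn
      have hf := hle.left.isPrim_nst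
      have hbr : br R f = f := br_eq_of_normal h5.right.pgroup h5.le_nst hL hf.mem hf.idem
      have hCQ : ⊤ ⊓ centralizer (R : Set G) ≤ ⊤ ⊓ centralizer (Q : Set G) :=
        inf_le_inf_left _ (centralizer_anti h9.le)
      have hCN : ⊤ ⊓ centralizer (Q : Set G) ≤
          normalizer ((⊤ ⊓ centralizer (R : Set G) : Subgroup G) : Set G) := by
        rw [top_inf_eq, top_inf_eq]
        exact ((centralizer_le_normalizer _).trans hRn).trans
          (normalizer_le_normalizer_centralizer R)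
      have hf' : IsPrim (fix k (⊤ ⊓ centralizer (R : Set G)) (⊤ ⊓ centralizer (Q : Set G))) f :=
        hle.left.prim.mono (fix_mono hCQ le_rfl) ⟨by
          rw [top_inf_eq, ← hbr]; exact supp_br _ _, hle.left.prim.mem.2⟩
      have h7 := h5.cj_of_mem_nst hx
      rw [map_cm_eq_iff.2 (hL hx)] at h7
      obtain ⟨c, hc, h8⟩ := IsPrim.exists_cj_eq hCQ hCN hf' h7.right.prim h5.right.prim
        (by rw [← hbr]; exact h7.mul) (by rw [← hbr]; exact h5.mul)
      obtain ⟨u, hu, h10⟩ := ih _ (by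
        have a1 : Nat.card Q < Nat.card R := lt_of_le_of_ne (card_le_of_le h9.le)
          fun h => h9.ne (eq_of_le_of_card_ge h9.le h.ge)
        have a2 := card_le_of_le h6.le
        omega) _ rfl g h6 (c * x) (mem_nst.2 ⟨trivial, mul_mem (hRn (centralizer_le_normalizer _
          hc.2)) (hL hx), by rw [mem_stab, cj_mul, h8]⟩)
      refine ⟨u, hu, fun q hq => ?_⟩
      rw [← h10 q (h9.le hq)]
      have := mem_centralizer_iff.1 hc.2 (x * q * x⁻¹)
        ((mem_normalizer_iff.1 (mem_nst.1 hx).2.1 q).1 hq)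
      calc x * q * x⁻¹ = c * (x * q * x⁻¹) * c⁻¹ := by rw [← this]; simp
        _ = _ := by simp [mul_assoc]

omit [CharP k p] in
theorem mem_centralizer_of_quot [D.Normal] (hD : IsPGroup p D) {x : G} (hx : ¬ p ∣ orderOf x)
    (h : QuotientGroup.mk' ⁅D, D⁆ x ∈
      centralizer (D.map (QuotientGroup.mk' ⁅D, D⁆) : Set (G ⧸ ⁅D, D⁆))) :
    x ∈ centralizer (D : Set G) := by
  have h1 : MulAut.conjNormal (H := D) x = 1 := by
    refine Fus.AC.eq_one_of_frattini hD (Nat.Coprime.coprime_dvd_left (orderOf_map_dvd _ x)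
      ((hp.out.coprime_iff_not_dvd.2 hx).symm)) fun y => ?_
    refine Grp.PFrattini.commutator_le_frattini hD ?_
    rw [← mem_map_iff_mem D.subtype_injective, Subgroup.map_subtype_commutator,
      ← QuotientGroup.eq_one_iff]
    have := mem_centralizer_iff.1 h _ ⟨y, y.2, rfl⟩
    simp only [QuotientGroup.mk'_apply] at this
    simp only [coe_subtype, coe_mul, InvMemClass.coe_inv, MulAut.conjNormal_apply,
      QuotientGroup.mk_mul, QuotientGroup.mk_inv]
    rw [← this]
    simp
  refine mem_centralizer_iff.2 fun y hy => ?_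
  have := congrArg (fun φ : MulAut D => (φ ⟨y, hy⟩ : G)) h1
  simp only [MulAut.conjNormal_apply, MulAut.one_apply] at this
  rw [← mul_inv_eq_iff_eq_mul.1 this]

omit [CharP k p] hp in
theorem coeff_emb_sum [Fintype G] {Q : Type*} [Group Q] [DecidableEq Q] (π : G →* Q) (a : k[G])
    (q : Q) : (emb π a).coeff q = ∑ g, if π g = q then a.coeff g else 0 := by
  classical
  have ha : a = ∑ g, MonoidAlgebra.single g (a.coeff g) := ext_coeff fun g => by
    rw [Alg.coeff_sum_apply]
    simp [MonoidAlgebra.coeff_single, Finsupp.single_apply]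
  conv_lhs => rw [ha, map_sum, Alg.coeff_sum_apply]
  refine Finset.sum_congr rfl fun g _ => ?_
  rw [emb_single, MonoidAlgebra.coeff_single, Finsupp.single_apply]

open Classical in
/-- Lift of an element of `k[G/D']` supported on regular elements centralizing `D`. -/
noncomputable def lft (p : ℕ) (D : Subgroup G) [D.Normal] (f : k[G ⧸ ⁅D, D⁆]) : k[G] :=
  Alg.mk fun g => if ¬ p ∣ orderOf g ∧ g ∈ centralizer (D : Set G) then f.coeff g else 0

omit [CharP k p] hp in
theorem supp_lft [D.Normal] (f : k[G ⧸ ⁅D, D⁆]) : Supp (centralizer (D : Set G)) (lft p D f) :=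
  fun g hg => by rw [lft, coeff_mk, if_neg fun h => hg h.2]

omit [CharP k p] hp in
theorem cj_lft [D.Normal] (f : k[G ⧸ ⁅D, D⁆]) (x : G) :
    cj x (lft p D f) = lft p D (cj (QuotientGroup.mk' ⁅D, D⁆ x) f) := ext_coeff fun g => by
  rw [coeff_cj, lft, lft, coeff_mk, coeff_mk, coeff_cj]
  have h1 := conj_mem_centralizer_iff (P := D) (g := x⁻¹) (c := g)
    (by rw [normalizer_eq_top]; trivial)
  have h2 := orderOf_conj_eq x⁻¹ g
  rw [inv_inv] at h1 h2
  rw [h2]
  split_ifs with a b b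
  · rfl
  · exact (b ⟨a.1, h1.1 a.2⟩).elim
  · exact (a ⟨b.1, h1.2 b.2⟩).elim
  · rfl

omit [CharP k p] in
theorem emb_lft [D.Normal] (hD : IsPGroup p D) {f : k[G ⧸ ⁅D, D⁆]}
    (h1 : Supp (centralizer (D.map (QuotientGroup.mk' ⁅D, D⁆) : Set (G ⧸ ⁅D, D⁆))) f)
    (h2 : ∀ q, f.coeff q ≠ 0 → ¬ p ∣ orderOf q) :
    emb (QuotientGroup.mk' ⁅D, D⁆) (lft p D f) = f := ext_coeff fun q => by
  classical
  have := Fintype.ofFinite G
  rw [coeff_emb_sum]
  by_cases h0 : f.coeff q = 0
  · rw [h0]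
    refine Finset.sum_eq_zero fun g _ => ?_
    split_ifs with h
    · rw [lft, coeff_mk]
      split_ifs
      · rw [← h0, ← h]; rfl
      · rfl
    · rfl
  · obtain ⟨g, hg, rfl⟩ := exists_pRegular_preimage _ (QuotientGroup.mk'_surjective _) (h2 q h0)
    have hc := mem_centralizer_of_quot hD hg (h1.mem h0)
    rw [Finset.sum_eq_single g, if_pos rfl, lft, coeff_mk, if_pos ⟨hg, hc⟩]
    · rfl
    · intro y _ hy
      split_ifs with h
      · rw [lft, coeff_mk]
        exact if_neg fun h' => hy (injOn_mk_pRegular_centralizer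
          (hD.to_le (commutator_le_left D D)) (commutator_le_left D D) h' ⟨hg, hc⟩ h)
      · rfl
    · simp

theorem cj_eq_of_mul_ne_zero [D.Normal] (he : BP p ⊤ D e) (hreg : RegSupp p k (G ⧸ ⁅D, D⁆))
    {f : k[G ⧸ ⁅D, D⁆]} (hf : BP p ⊤ (D.map (QuotientGroup.mk' ⁅D, D⁆)) f)
    (h0 : f * emb (QuotientGroup.mk' ⁅D, D⁆) e ≠ 0) {x : G} (hx : x ∈ stab e) :
    cj (QuotientGroup.mk' ⁅D, D⁆ x) f = f := by
  set π := QuotientGroup.mk' ⁅D, D⁆ with hπ
  have hn : (D.map π).Normal := Normal.map inferInstance π (QuotientGroup.mk'_surjective _)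
  have key : ∀ g : k[G ⧸ ⁅D, D⁆], BP p ⊤ (D.map π) g → g * emb π e ≠ 0 →
      ∃ u, e = lft p D g * u * e ∧ Commute u (lft p D f) ∧ emb π (lft p D g) = g := by
    have hZ : ∀ g : k[G ⧸ ⁅D, D⁆], BP p ⊤ (D.map π) g →
        lft p D g ∈ Z k (⊤ ⊓ centralizer (D : Set G)) := fun g hg =>
      ⟨by rw [top_inf_eq]; exact supp_lft g, inv_iff_cj.2 fun c hc => by
        rw [cj_lft, hg.prim.mem.2.cj_eq ⟨trivial, map_mem_centralizer_map π hc.2⟩]⟩
    intro g hg hne
    have h1 := emb_lft he.pgroup hg.supp (hreg _ g hg.prim)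
    have hs : Supp (⊤ ⊓ centralizer (D.map π : Set (G ⧸ ⁅D, D⁆))) (emb π e) := by
      classical
      have := Fintype.ofFinite G
      intro q hq
      rw [coeff_emb_sum]
      refine Finset.sum_eq_zero fun y _ => ?_
      split_ifs with h
      · exact he.supp y fun hy => hq (h ▸ ⟨trivial, map_mem_centralizer_map π hy⟩)
      · rfl
    have hc := hs.commute hg.prim.mem.2
    obtain ⟨u, hu, h2⟩ := he.prim.exists_unit (isComm_Z _) (hZ g hg) fun hnil => by
      have h3 := hnil.map (emb π)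
      rw [map_mul, h1] at h3
      refine hne (idem_eq_zero_of_isNilpotent ?_ h3)
      rw [mul_assoc, ← mul_assoc (emb π e), hc, mul_assoc, ← map_mul, he.prim.idem, ← mul_assoc,
        hg.prim.idem]
    exact ⟨u, h2.symm, isComm_Z _ _ hu _ (hZ f hf), h1⟩
  by_contra hne
  have hf' := hf.cj (x := π x) trivial
  rw [map_cm_eq_iff.2 (by rw [normalizer_eq_top]; trivial)] at hf'
  obtain ⟨u, h1, -, h2⟩ := key f hf h0
  obtain ⟨v, h3, h4, h5⟩ := key _ hf' (by
    rw [← mem_stab.1 hx, emb_cj, ← map_mul, Ne, cj_eq_zero_iff]; exact h0)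
  have h6 := hf'.prim.mul_eq_zero (isComm_Z _) hf.prim hne
  apply h0
  have h7 : e = lft p D (cj (π x) f) * lft p D f * (v * u * e) := by
    calc e = lft p D (cj (π x) f) * v * e := h3
      _ = lft p D (cj (π x) f) * v * (lft p D f * u * e) := by rw [← h1]
      _ = _ := by simp only [mul_assoc]; rw [← mul_assoc v, h4.eq, mul_assoc]
  rw [h7, map_mul, map_mul, h5, h2, h6, zero_mul, mul_zero]

end alg

variable {G : Type*} [Group G] [Finite G] {M : Ideal AlgInt} {p : ℕ} [hp : Fact p.Prime]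
  {B : Set (IrrCharacter G)} {D : Subgroup G}

theorem nilpotent_of_normal (hM : IsPModular p M) (hB : IsPBlock M B) (hD : IsDefectGroup p M B D)
    [D.Normal] {m : ℕ}
    (hm : ∀ χ ∈ B, blockHeight p B (χ : G → ℂ) = 0 → charDegree (χ : G → ℂ) = m) :
    IsNilpotentBlock p M B := by
  have := charP_resField hM
  obtain ⟨e, h⟩ := exists_MP hM hB hD
  have hP := h.pgroup
  set π := QuotientGroup.mk' ⁅D, D⁆ with hπ
  have hn : (D.map π).Normal := Normal.map inferInstance π (QuotientGroup.mk'_surjective _)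
  obtain ⟨C, hC, hCB, hCD⟩ := exists_block_domSet_defectGroup hM ⁅D, D⁆
    (hP.to_le (commutator_le_left D D)) hB hD
  have hab : D.map π ≤ centralizer (D.map π : Set (G ⧸ ⁅D, D⁆)) := by
    rintro _ ⟨a, ha, rfl⟩
    refine mem_centralizer_iff.2 ?_
    rintro _ ⟨c, hc, rfl⟩
    rw [← commutatorElement_eq_one_iff_mul_comm, ← map_commutatorElement]
    exact (QuotientGroup.eq_one_iff _).2 (commutator_mem_commutator hc ha)
  have hidx : (D.map π).index = D.index := by
    rw [index_map_eq _ (QuotientGroup.mk'_surjective _)]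
    rw [QuotientGroup.ker_mk']
    exact commutator_le_left D D
  have hnil := nilpotent hM hC hCD hab (m := m) fun ψ hψ => by
    rw [← charDegree_inflateIrr π (QuotientGroup.mk'_surjective _) ψ]
    refine hm _ (hCB hψ) ((blockHeight_eq_zero_iff_index hM hB hD _).2 ?_)
    rw [charDegree_inflateIrr, ← hidx]
    exact (Nat.factorization_le_iff_dvd (charDegree_ne_zero ψ.2) index_ne_zero_of_finite).2
      (ψ.2.deg_dvd_index_of_comm (cast_charDegree ψ.2.isCharacter).symm _
        fun a ha c hc => (mem_centralizer_iff.1 (hab hc) a ha)) p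
  rw [← nilB_gbar_iff hM hC] at hnil
  rw [← nilB_gbar_iff hM hB]
  refine nilB_of_normal h.hm ?_
  rw [sup_comm]
  refine le_of_reg_mem (le_normalizer_of_le_nst le_rfl) (fun x hx hx' => ⟨trivial, ?_⟩) le_sup_left
    h.hm.not_dvd_relIndex
  have hDn : (⊤ : Subgroup G) ≤ normalizer (D : Set G) := by rw [normalizer_eq_top]
  have hb := h.hm.of.block
  have hbr : br D (gbar M B) = gbar M B := br_eq_of_normal hP le_top hDn hb.mem hb.idem
  have hb' := (isPrim_Z_iff_of_normal hP le_top hDn le_rfl le_top).1 hb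
  have h1 : gbar M B = Alg.osum (⊤ : Subgroup G) e := hb'.eq_osum le_top (by
    rw [top_inf_eq]; exact hDn.trans (normalizer_le_normalizer_centralizer D)) h.hm.of.pair.prim
    (by rw [← hbr]; exact h.hm.of.mul)
  have hc := hnil.block
  have h2 : emb π (gbar M B) * gbar M C = gbar M C := by
    have hBi := eSet_mem_intAlg hM hB
    rw [emb, ← redAlg_mapDomain π hBi, mapDomain_eSet π (QuotientGroup.mk'_surjective _),
      ← redAlg_mul (eSet_domSet_mem_intAlg _ _ hBi) (eSet_mem_intAlg hM hC), eSet_mul_eSet,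
      Set.inter_eq_right.2 hCB]
  have h3 : emb π e * gbar M C ≠ 0 := by
    intro h0
    apply hc.ne_zero
    rw [← h2, h1, Alg.osum, map_sum, Finset.sum_mul]
    refine Finset.sum_eq_zero fun y hy => ?_
    obtain ⟨t, -, rfl⟩ := mem_orb.1 hy
    rw [emb_cj, ← hc.mem.2.cj_eq (t := π t) trivial, ← map_mul, h0, map_zero]
  obtain ⟨f, hf, h4⟩ := exists_isPrim_mul_ne_zero
    (isComm_Z (k := resField M) (⊤ ⊓ centralizer (D.map π : Set (G ⧸ ⁅D, D⁆)))) h3
  have hf' : BP p ⊤ (D.map π) f := ⟨le_top, hP.map π, hf⟩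
  have hcomm : ∀ z, z * gbar M C = gbar M C * z := fun z => (supp_top z).commute hc.mem.2
  have hof : Of p ⊤ (gbar M C) (D.map π) f := of_of_mul_ne_zero hc hf' (by
    rw [br_eq_of_normal hf'.pgroup le_top (by rw [normalizer_eq_top]) hc.mem hc.idem]
    intro h0
    apply h4
    rw [hcomm, ← mul_assoc, hcomm, h0, zero_mul])
  refine mem_centralizer_of_quot hP hx' (hnil.nil _ f hof (π x) (mem_nst.2 ⟨trivial,
    by rw [normalizer_eq_top]; trivial, ?_⟩) fun h5 => hx' (h5.trans (orderOf_map_dvd π x)))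
  exact cj_eq_of_mul_ne_zero h.hm.of.pair (regSupp hM) hf'
    (fun h0 => h4 (by rw [← mul_assoc, h0, zero_mul])) (mem_nst.1 hx).2.2

end Cfsg.Agent.Block.EqDeg
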