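import Mathlib
import Cfsg.Agent.Block.EqDegN
import Cfsg.Agent.Block.RankQuot
import Cfsg.Agent.Block.AbFree

/-! Maximal Brauer pairs modulo a central `p`-subgroup. -/

set_option autoImplicit false
set_option linter.unusedSectionVars false

namespace Cfsg.Agent.Block

open Cfsg Cfsg.Agent.Char Subgroup Cfsg.Agent.Block.Alg
open scoped MonoidAlgebra

section alg
variable {k : Type*} [Field k] {G : Type*} [Group G] [Finite G] {p : ℕ} [hp : Fact p.Prime]
  {P Z : Subgroup G} [Z.Normal]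

omit hp in
theorem comap_normalizer_le (hZP : Z ≤ P) :
    (normalizer (P.map (QuotientGroup.mk' Z) : Set (G ⧸ Z))).comap (QuotientGroup.mk' Z) ≤
      normalizer (P : Set G) := fun t ht => by
  have hc : (P.map (QuotientGroup.mk' Z)).comap (QuotientGroup.mk' Z) = P := by
    rw [comap_map_eq, QuotientGroup.ker_mk', sup_eq_left.2 hZP]
  refine mem_normalizer_iff.2 fun x => ?_
  have := mem_normalizer_iff.1 (mem_comap.1 ht) (QuotientGroup.mk' Z x)
  rw [← map_inv, ← map_mul, ← map_mul, ← mem_comap, ← mem_comap, hc] at this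
  exact this

theorem mem_centralizer_of_central_quot (hP : IsPGroup p P) (hZ : Z ≤ center G) (hZP : Z ≤ P)
    {x : G} (hx : ¬ p ∣ orderOf x) (h : QuotientGroup.mk' Z x ∈
      centralizer (P.map (QuotientGroup.mk' Z) : Set (G ⧸ Z))) :
    x ∈ centralizer (P : Set G) := by
  refine mem_centralizer_of_comm hP hx
    (comap_normalizer_le hZP (centralizer_le_normalizer _ h)) fun q hq => ?_
  refine mem_center_iff.1 (hZ ?_) x
  rw [← QuotientGroup.eq_one_iff]
  have := mem_centralizer_iff.1 h _ ⟨q, hq, rfl⟩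
  simp only [QuotientGroup.mk'_apply] at this
  simp only [QuotientGroup.mk_mul, QuotientGroup.mk_inv]
  rw [← this]
  simp

omit hp in
theorem Alg.Supp.emb_map {Q : Type*} [Group Q] (π : G →* Q) {N : Subgroup G} {a : k[G]}
    (h : Supp N a) : Supp (N.map π) (emb π a) := by
  classical
  have := Fintype.ofFinite G
  intro q hq
  rw [EqDeg.coeff_emb_sum]
  refine Finset.sum_eq_zero fun y _ => ?_
  split_ifs with h1
  · exact h y fun hy => hq ⟨y, hy, h1⟩
  · rfl

theorem br_emb_quot (hP : IsPGroup p P) (hZ : Z ≤ center G) (hZP : Z ≤ P) {b : k[G]}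
    (hb : ∀ g, b.coeff g ≠ 0 → ¬ p ∣ orderOf g) :
    br (P.map (QuotientGroup.mk' Z)) (emb (QuotientGroup.mk' Z) b) =
      emb (QuotientGroup.mk' Z) (br P b) := ext_coeff fun q => by
  classical
  have := Fintype.ofFinite G
  rw [coeff_br, EqDeg.coeff_emb_sum, EqDeg.coeff_emb_sum]
  split_ifs with h
  · refine Finset.sum_congr rfl fun g _ => ?_
    split_ifs with h1
    · rw [coeff_br]
      split_ifs with h2
      · rfl
      · by_contra h3
        exact h2 (mem_centralizer_of_central_quot hP hZ hZP (hb g h3) (h1 ▸ h))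
    · rfl
  · refine (Finset.sum_eq_zero fun g _ => ?_).symm
    split_ifs with h1
    · exact supp_br P b g fun h2 => h (h1 ▸ map_mem_centralizer_map _ h2)
    · rfl

end alg

variable {G : Type*} [Group G] [Finite G] {M : Ideal AlgInt} {p : ℕ} [hp : Fact p.Prime]
  {B : Set (IrrCharacter G)} {P : Subgroup G} {e : MonoidAlgebra (resField M) G}

theorem MP.exists_quot (h : MP p B P e) {Z : Subgroup G} [Z.Normal] (hZ : Z ≤ center G)
    (hZP : Z ≤ P) : ∃ f : MonoidAlgebra (resField M) (G ⧸ Z),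
      MP p (domSet (QuotientGroup.mk' Z) (QuotientGroup.mk'_surjective Z) B)
        (P.map (QuotientGroup.mk' Z)) f ∧
      ∀ s ∈ nst ⊤ (P.map (QuotientGroup.mk' Z)) f, ∃ t ∈ nst ⊤ P e,
        ∀ x ∈ P, s * QuotientGroup.mk' Z x * s⁻¹ = QuotientGroup.mk' Z (t * x * t⁻¹) := by
  have hM := h.hM
  have := charP_resField hM
  have hP := h.pgroup
  set π := QuotientGroup.mk' Z with hπ
  have hc : ∀ u ∈ Z, ∀ y : G, ¬ p ∣ orderOf y → Commute u y := fun u hu y _ =>
    (mem_center_iff.1 (hZ hu) y).symm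
  have hB' := isPBlock_domSet_of_commute hM (hP.to_le hZP) hc h.hB
  have hD' := isDefectGroup_domSet_of_commute hM (hP.to_le hZP) hc h.hB h.isDefectGroup
  have hg : gbar M (domSet π (QuotientGroup.mk'_surjective Z) B) = emb π (gbar M B) := by
    rw [emb, ← redAlg_mapDomain π (eSet_mem_intAlg hM h.hB),
      mapDomain_eSet π (QuotientGroup.mk'_surjective _)]
  have hb := h.hm.of.block
  have hbr : br (P.map π) (emb π (gbar M B)) = emb π (br P (gbar M B)) :=
    br_emb_quot hP hZ hZP (regSupp hM _ _ hb)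
  have hdef := (isDef_top_iff hM hB').2 hD'
  set C := (centralizer (P.map π : Set (G ⧸ Z))).comap π with hC
  have hCN : C ≤ normalizer (P : Set G) :=
    (comap_mono (centralizer_le_normalizer _)).trans (comap_normalizer_le hZP)
  have h1 : ⊤ ⊓ centralizer (P : Set G) ≤ C := fun x hx => map_mem_centralizer_map π hx.2
  have hNN : normalizer (P : Set G) ≤
      normalizer ((⊤ ⊓ centralizer (P : Set G) : Subgroup G) : Set G) := by
    rw [top_inf_eq]; exact normalizer_le_normalizer_centralizer P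
  have he := h.hm.of.pair.prim
  have hf0 := he.isPrim_osum h1 (hCN.trans hNN)
  have hf0e := he.osum_mul_self (hCN.trans hNN)
  have hmem : ∀ y ∈ fix (resField M) (⊤ ⊓ centralizer (P : Set G)) C,
      emb π y ∈ Alg.Z (resField M) (⊤ ⊓ centralizer (P.map π : Set (G ⧸ Z))) := fun y hy => by
    refine ⟨(hy.1.emb_map π).mono ?_, inv_iff_cj.2 fun s hs => ?_⟩
    · rintro _ ⟨x, hx, rfl⟩
      exact ⟨trivial, h1 hx⟩
    · obtain ⟨c, rfl⟩ := QuotientGroup.mk'_surjective Z s
      rw [← emb_cj, hy.2.cj_eq hs.2]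
  have h2 : br P (gbar M B) = Alg.osum (⊤ ⊓ normalizer (P : Set G)) e :=
    (h.hm.isDef.isPrim_br le_rfl (by rw [normalizer_eq_top]) hb).eq_osum
      (inf_le_inf_left _ (centralizer_le_normalizer _)) (inf_le_right.trans hNN) he h.hm.of.mul
  have h3 : emb π e ≠ 0 := by
    intro h0
    apply hdef.ne_zero
    rw [← gbar, hg, hbr, h2, Alg.osum, map_sum]
    refine Finset.sum_eq_zero fun y hy => ?_
    obtain ⟨t, -, rfl⟩ := mem_orb.1 hy
    rw [emb_cj, h0, map_zero]
  obtain ⟨f, hf, h4⟩ := exists_isPrim_le (isComm_Z _) (hmem _ hf0.mem)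
    (by rw [← map_mul, hf0.idem]) (fun h0 => h3 (by rw [← hf0e, map_mul, h0, zero_mul]))
  have hf' : BP p ⊤ (P.map π) f := ⟨le_top, hP.map π, hf⟩
  have h5 : br P (gbar M B) * Alg.osum C e = Alg.osum C e := by
    have := ((hb.mem.2.mono le_top).br hCN).mul_osum (e := e) (c := 1)
      (by rw [one_smul]; exact h.hm.of.mul)
    rwa [one_smul] at this
  have hof : Of p ⊤ (gbar M (domSet π (QuotientGroup.mk'_surjective Z) B)) (P.map π) f :=
    ⟨isPrim_redAlg_eSet hM hB', hf', by rw [hg, hbr, ← h4, ← mul_assoc, ← map_mul, h5]⟩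
  refine ⟨f, ⟨hM, hB', hof.maxBP_of_isDef hdef⟩, fun s hs => ?_⟩
  obtain ⟨t, rfl⟩ := QuotientGroup.mk'_surjective Z s
  have ht : t ∈ normalizer (P : Set G) := comap_normalizer_le hZP (mem_nst.1 hs).2.1
  have htC : t ∈ normalizer (C : Set G) := mem_normalizer_iff.2 fun x => by
    have := mem_normalizer_iff.1 (normalizer_le_normalizer_centralizer _ (mem_nst.1 hs).2.1) (π x)
    rw [hC, mem_comap, mem_comap, map_mul, map_mul, map_inv]
    exact this
  have hf1 := hf0.cj_of_mem (hNN ht) htC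
  have h6 : emb π (cj t (Alg.osum C e)) * f = f := by
    have := congrArg (cj (π t)) h4
    rwa [map_mul, ← emb_cj, mem_stab.1 (mem_nst.1 hs).2.2] at this
  have h7 : cj t (Alg.osum C e) = Alg.osum C e := hf1.eq_of_mul_ne_zero (isComm_fix h1) hf0 fun h0 => by
    apply hf.ne_zero
    rw [← h6, ← h4, ← mul_assoc, ← map_mul, h0, map_zero, zero_mul]
  obtain ⟨c, hc1, hc2⟩ := IsPrim.exists_cj_eq h1 (hCN.trans hNN) hf0
    (he.cj_of_mem (hNN ht) (hNN ht)) he (by rw [← h7, ← map_mul, hf0e]) hf0e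
  refine ⟨c * t, mem_nst.2 ⟨trivial, mul_mem (hCN hc1) ht, by rw [mem_stab, cj_mul, hc2]⟩,
    fun x hx => ?_⟩
  have h8 := mem_centralizer_iff.1 (mem_comap.1 hc1) (π (t * x * t⁻¹))
    ⟨_, (mem_normalizer_iff.1 ht x).1 hx, rfl⟩
  rw [← map_inv, ← map_mul, ← map_mul, show c * t * x * (c * t)⁻¹ = c * (t * x * t⁻¹) * c⁻¹ by
    group, map_mul π (c * _), map_mul π c, ← h8, map_inv, mul_inv_cancel_right]

/-- The inertial index of a Brauer pair. -/
noncomputable def inI {k : Type*} [Field k] (P : Subgroup G) (e : MonoidAlgebra k G) : ℕ :=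
  (centralizer (P : Set G)).relIndex (nst ⊤ P e)

theorem MP.exists_quot_dvd (h : MP p B P e) {Z : Subgroup G} [Z.Normal] (hZ : Z ≤ center G)
    (hZP : Z ≤ P) : ∃ f : MonoidAlgebra (resField M) (G ⧸ Z),
      MP p (domSet (QuotientGroup.mk' Z) (QuotientGroup.mk'_surjective Z) B)
        (P.map (QuotientGroup.mk' Z)) f ∧ inI (P.map (QuotientGroup.mk' Z)) f ∣ inI P e := by
  obtain ⟨f, h1, h2⟩ := h.exists_quot hZ hZP
  refine ⟨f, h1, ?_⟩
  set π := QuotientGroup.mk' Z
  have h3 : (nst ⊤ P e).map π ≤ normalizer (centralizer (P.map π : Set (G ⧸ Z)) : Set (G ⧸ Z)) :=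
    ((map_mono (nst_le_normalizer _ _ _)).trans (le_normalizer_map π)).trans
      (normalizer_le_normalizer_centralizer _)
  have h4 : nst ⊤ (P.map π) f ≤ (nst ⊤ P e).map π ⊔ centralizer (P.map π : Set (G ⧸ Z)) :=
    fun s hs => by
      obtain ⟨t, ht, h5⟩ := h2 s hs
      rw [← mul_inv_cancel_left (π t) s]
      refine mul_mem (mem_sup_left ⟨t, ht, rfl⟩) (mem_sup_right (mem_centralizer_iff.2 ?_))
      rintro _ ⟨x, hx, rfl⟩
      have h6 := h5 x hx
      rw [map_mul, map_mul, map_inv] at h6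
      calc π x * ((π t)⁻¹ * s) = (π t)⁻¹ * (π t * π x * (π t)⁻¹) * s := by group
        _ = _ := by rw [← h6]; group
  refine (Dvd.intro _ (relIndex_mul_relIndex _ _ _ h1.hm.of.pair.centralizer_le_nst_top h4)).trans
    ?_
  rw [relIndex_eq_of_mul le_sup_left fun b hb => ?_, ← relIndex_comap]
  · exact relIndex_dvd_of_le_left _ fun x hx => map_mem_centralizer_map π hx
  · obtain ⟨a, ha, c, hc, rfl⟩ := (PLocal.Amb.mem_sup_of_le_normalizer_right h3).1 hb
    exact ⟨a, ha, by rwa [inv_mul_cancel_left]⟩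

omit hp in
theorem inI_sub {k : Type*} [Field k] {K : Subgroup G} (hPK : P ≤ K) (e' : MonoidAlgebra k K) :
    inI (P.subgroupOf K) e' =
      (centralizer (P : Set G)).relIndex (nst ⊤ P (emb K.subtype e') ⊓ K) := by
  have h1 : nst ⊤ (P.subgroupOf K) e' = (nst ⊤ P (emb K.subtype e') ⊓ K).subgroupOf K := by
    ext x
    rw [← mem_nst_emb K.subtype_injective, subgroupOf_map_subtype, inf_of_le_left hPK, mem_nst,
      mem_subgroupOf, mem_inf, mem_nst]
    exact ⟨fun h => ⟨⟨trivial, h.2⟩, x.2⟩, fun h => ⟨⟨x, trivial, rfl⟩, h.1.2⟩⟩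
  have h2 : centralizer (P.subgroupOf K : Set K) = (centralizer (P : Set G)).subgroupOf K := by
    ext x
    rw [mem_subgroupOf, mem_centralizer_iff, mem_centralizer_iff]
    exact ⟨fun h y hy => congrArg Subtype.val (h ⟨y, hPK hy⟩ hy),
      fun h y hy => Subtype.ext (h y hy)⟩
  rw [inI, h1, h2, relIndex_subgroupOf inf_le_right]

theorem MP.cases_prime (h : MP p B P e) {q : ℕ} (hq : q.Prime) (hd : inI P e ∣ q) :
    nst ⊤ P e ≤ centralizer (P : Set G) ∨ inI P e = q ∧
      ((∀ g ∈ nst ⊤ P e, ∀ x ∈ P, x ≠ 1 → g * x * g⁻¹ = x → g ∈ centralizer (P : Set G)) ∨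
        ∃ z ∈ P, z ≠ 1 ∧ nst ⊤ P e ≤ centralizer {z}) := by
  rcases (Nat.dvd_prime hq).1 hd with h1 | h1
  · exact Or.inl (relIndex_eq_one.1 h1)
  refine Or.inr ⟨h1, or_iff_not_imp_left.2 fun h2 => ?_⟩
  push Not at h2
  obtain ⟨g, hg, x, hx, h3, h4, h5⟩ := h2
  refine ⟨x, hx, h3, ?_⟩
  have h6 := relIndex_mul_relIndex (centralizer (P : Set G)) (nst ⊤ P e ⊓ centralizer {x})
    (nst ⊤ P e) (le_inf h.hm.of.pair.centralizer_le_nst_top
      (centralizer_le (Set.singleton_subset_iff.2 hx))) inf_le_left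
  rw [← inI, h1] at h6
  rcases (Nat.dvd_prime hq).1 (Dvd.intro _ h6) with h7 | h7
  · exact absurd (relIndex_eq_one.1 h7 ⟨hg, mem_centralizer_singleton_iff.2
      (mul_inv_eq_iff_eq_mul.1 h4)⟩) h5
  · rw [h7, mul_eq_left₀ hq.ne_zero] at h6
    exact (relIndex_eq_one.1 h6).trans inf_le_right

theorem MP.rank_eq_one (h : MP p B P e) (hab : P ≤ centralizer (P : Set G))
    (hT : nst ⊤ P e ≤ centralizer (P : Set G)) : blockRank p B = 1 :=
  blockRank_eq_one_of_nilpotent h.hM ((nilB_gbar_iff h.hM h.hB).1 (h.nilB hab hT))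

theorem MP.rank_lblk_eq (h : MP p B P e) (hab : P ≤ centralizer (P : Set G)) {z : G} (hz : z ∈ P)
    (hT : nst ⊤ P e ≤ centralizer {z}) : blockRank p (lblk p P e z) = blockRank p B := by
  have h1 := blockRank_pblk_centralizer h.hM hab hz ⊤ h.hm hT
  rw [pblk_top h.hM h.hB h.hm.of, blockRank_trSet, top_inf_eq] at h1
  rw [h.lblk_eq hab hz, h1]

/-- The element `z` as an element of its centralizer. -/
abbrev cself (z : G) : centralizer ({z} : Set G) := ⟨z, mem_centralizer_singleton_iff.2 rfl⟩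

omit [Finite G] in
theorem zpowers_cself_le (z : G) : zpowers (cself z) ≤ center (centralizer ({z} : Set G)) :=
  zpowers_le.2 (mem_center_iff.2 fun g => Subtype.ext (mem_centralizer_singleton_iff.1 g.2))

instance (z : G) : (zpowers (cself z)).Normal := ⟨fun n hn g => by
  rw [mem_center_iff.1 (zpowers_cself_le z hn) g, mul_inv_cancel_right]; exact hn⟩

theorem card_map_cself {z : G} {D : Subgroup (centralizer ({z} : Set G))} (hz : cself z ∈ D) :
    orderOf z * Nat.card (D.map (QuotientGroup.mk' (zpowers (cself z)))) = Nat.card D := by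
  have h1 := card_mul_index ((QuotientGroup.mk' (zpowers (cself z))).comp D.subtype).ker
  rw [index_ker, MonoidHom.range_comp, range_subtype, ← MonoidHom.comap_ker, QuotientGroup.ker_mk',
    ← subgroupOf, Nat.card_congr (subgroupOfEquivOfLe (zpowers_le.2 hz)).toEquiv,
    Nat.card_zpowers, ← orderOf_coe] at h1
  exact h1

/-- The block dominated by the block of a subsection, abelian defect group. -/
theorem MP.exists_subquot (h : MP p B P e) (hab : P ≤ centralizer (P : Set G)) {z : G}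
    (hz : z ∈ P) : ∃ (Q : Subgroup (centralizer ({z} : Set G) ⧸ zpowers (cself z)))
      (f : MonoidAlgebra (resField M) _), MP p (domSet (QuotientGroup.mk' (zpowers (cself z)))
        (QuotientGroup.mk'_surjective _) (lblk p P e z)) Q f ∧ Q ≤ centralizer (Q : Set _) ∧
        orderOf z * Nat.card Q = Nat.card P ∧
        inI Q f ∣ (centralizer (P : Set G)).relIndex (nst ⊤ P e ⊓ centralizer {z}) := by
  have hP : P ≤ centralizer {z} := hab.trans (centralizer_le (Set.singleton_subset_iff.2 hz))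
  obtain ⟨e', h', rfl⟩ := h.exists_sub hz hP
  obtain ⟨f, h1, h2⟩ := h'.exists_quot_dvd (zpowers_cself_le z) (zpowers_le.2 hz)
  refine ⟨_, f, h1, ?_, ?_, inI_sub hP e' ▸ h2⟩
  · rintro _ ⟨x, hx, rfl⟩
    exact map_mem_centralizer_map _ (MP.sub_comm hab hx)
  · rw [card_map_cself hz, Nat.card_congr (subgroupOfEquivOfLe hP).toEquiv]

theorem rank_domSet_cself (hM : IsPModular p M) {z : G} (hz : ∃ k, orderOf z = p ^ k)
    {b : Set (IrrCharacter (centralizer ({z} : Set G)))} (hb : IsPBlock M b) :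
    blockRank p (domSet (QuotientGroup.mk' (zpowers (cself z))) (QuotientGroup.mk'_surjective _)
      b) = blockRank p b :=
  blockRank_domSet_mk hM (orderOf_eq_pow_iff_isPGroup.1 (by rwa [← orderOf_coe]))
    (fun u hu y _ => (mem_center_iff.1 (zpowers_cself_le z hu) y).symm) (eSet_mem_intAlg hM hb)

universe u in
/-- Abelian defect group and inertial index dividing a prime `q`: at most `q` Brauer characters. -/
theorem rank_le_of_inI_dvd {q : ℕ} (hq : q.Prime) (n : ℕ) : ∀ {G : Type u} [Group G] [Finite G]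
    {B : Set (IrrCharacter G)} {P : Subgroup G} {e : MonoidAlgebra (resField M) G},
    MP p B P e → P ≤ centralizer (P : Set G) → Nat.card P = n → inI P e ∣ q →
      blockRank p B ≤ q := by
  induction n using Nat.strong_induction_on with
  | _ n ih =>
    intro G _ _ B P e h hab hn hd
    rcases h.cases_prime hq hd with h1 | ⟨h1, h2 | ⟨z, hz, h2, h3⟩⟩
    · rw [h.rank_eq_one hab h1]
      exact hq.one_le
    · refine (h.frobenius_count hab h2 ?_ h1).2.1
      rintro rfl
      refine hq.ne_one (h1.symm.trans (relIndex_eq_one.2 fun x _ => ?_))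
      simp [mem_centralizer_iff]
    · obtain ⟨Q, f, h4, h5, h6, h7⟩ := h.exists_subquot hab hz
      rw [← h.rank_lblk_eq hab hz h3, ← rank_domSet_cself h.hM (h.order hz) (h.block hz)]
      rw [inf_of_le_left h3] at h7
      refine ih _ ?_ h4 h5 rfl (h7.trans hd)
      have h8 : 1 < orderOf z := by
        have := orderOf_pos z
        have := mt orderOf_eq_one_iff.1 h2
        omega
      have := Nat.card_pos (α := Q)
      nlinarith

end Cfsg.Agent.Block
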