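import Mathlib
import Cfsg.Agent.Block.PairMore
import Cfsg.Agent.Block.PairQuot
import Cfsg.Agent.Block.Tame

/-! Conjugation maps in the fusion system of a maximal Brauer pair: extension lemmas, nilpotency
criteria, passage to centralizers and to central quotients. -/

set_option autoImplicit false
set_option linter.unusedSectionVars false

namespace Cfsg.Agent.Block

open Cfsg Cfsg.Agent.Char Subgroup Cfsg.Agent.Block.Alg
open scoped MonoidAlgebra

variable {G : Type*} [Group G] [Finite G] {M : Ideal AlgInt} {p : ℕ} [hp : Fact p.Prime]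
  {B : Set (IrrCharacter G)} {P Q R : Subgroup G} {e : MonoidAlgebra (resField M) G}
  {g x u v : G}

/-- Conjugation by `g` is a map of the fusion system of `(P, e)` on `Q`. -/
def FM (p : ℕ) (P : Subgroup G) (e : MonoidAlgebra (resField M) G) (g : G) (Q : Subgroup G) :
    Prop :=
  ∃ f, PLE p ⊤ Q f P e ∧ PLE p ⊤ (Q.map (cm g)) (cj g f) P e

omit hp in
theorem FM.le (h : FM p P e g Q) : Q ≤ P := let ⟨_, h, _⟩ := h; h.le

omit hp in
theorem FM.mem (h : FM p P e g Q) {q : G} (hq : q ∈ Q) : g * q * g⁻¹ ∈ P :=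
  let ⟨_, _, h⟩ := h; h.le ⟨q, hq, rfl⟩

omit hp in
theorem FM.inv (h : FM p P e g Q) : FM p P e g⁻¹ (Q.map (cm g)) := by
  obtain ⟨f, h1, h2⟩ := h
  exact ⟨_, h2, by rwa [map_cm_inv_map, cj_inv_cj]⟩

omit hp in
theorem PF.fm (h : PF p P e u v) : ∃ g, g * u * g⁻¹ = v ∧ FM p P e g (zpowers u) := by
  obtain ⟨g, f, rfl, h1, h2⟩ := h
  exact ⟨g, rfl, f, h1, by rwa [zpowers_map_cm]⟩

omit hp in
theorem fm_of_nst {f : MonoidAlgebra (resField M) G} (h : PLE p ⊤ Q f P e)
    (hx : x ∈ nst ⊤ Q f) : FM p P e x Q :=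
  ⟨f, h, by rwa [map_cm_eq_iff.2 (mem_nst.1 hx).2.1, mem_stab.1 (mem_nst.1 hx).2.2]⟩

namespace MP

variable (h : MP p B P e)
include h

theorem fm_mono (h1 : FM p P e g Q) (hR : R ≤ Q) : FM p P e g R := by
  have := charP_resField h.hM
  obtain ⟨f, h1, h2⟩ := h1
  obtain ⟨r, h3⟩ := exists_ple h1.left hR
  exact ⟨r, h3.trans h1, (h3.cj trivial).trans h2⟩

theorem fm_comp (h1 : FM p P e g Q) (h2 : FM p P e x (Q.map (cm g))) : FM p P e (x * g) Q := by
  have := charP_resField h.hM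
  obtain ⟨f, a1, a2⟩ := h1
  obtain ⟨f', b1, b2⟩ := h2
  exact ⟨f, a1, by rwa [map_cm_mul, cj_mul, a2.unique b1]⟩

theorem fm_pf (h1 : FM p P e g Q) (hu : u ∈ Q) : PF p P e u (g * u * g⁻¹) := by
  obtain ⟨f, h2, h3⟩ := h.fm_mono h1 (zpowers_le.2 hu)
  exact ⟨g, f, rfl, h2, by rwa [← zpowers_map_cm]⟩

theorem mem_nst_of_fm {f : MonoidAlgebra (resField M) G} (h1 : PLE p ⊤ Q f P e)
    (h2 : FM p P e g Q) (hN : g ∈ normalizer (Q : Set G)) : g ∈ nst ⊤ Q f := by
  have := charP_resField h.hM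
  obtain ⟨f', a1, a2⟩ := h2
  rw [map_cm_eq_iff.2 hN] at a2
  exact mem_nst.2 ⟨trivial, hN, by rw [mem_stab, h1.unique a1, a2.unique a1]⟩

/-- The extension lemma. -/
theorem fm_ext {f : MonoidAlgebra (resField M) G} (h1 : PLE p ⊤ Q f P e)
    (h2 : PLE p ⊤ (Q.map (cm g)) (cj g f) P e) {L A : Subgroup G}
    (hC : ⊤ ⊓ centralizer (Q.map (cm g) : Set G) ≤ L) (hL : L ≤ nst ⊤ (Q.map (cm g)) (cj g f))
    (hD : IsDef p L (cj g f) (P ⊓ L)) (hQA : Q ≤ A) (hA : A ≤ P ⊓ normalizer (Q : Set G))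
    (hAL : A.map (cm g) ≤ L) : ∃ n ∈ L, FM p P e (n * g) A := by
  have := charP_resField h.hM
  obtain ⟨a, a1, a2⟩ := h1.exists_nle_between hQA (hA.trans inf_le_left) (hA.trans inf_le_right)
  have hQL : Q.map (cm g) ≤ L := (map_mono hQA).trans hAL
  obtain ⟨b, b1, b2⟩ := h2.exists_nle_between (le_inf h2.le hQL) inf_le_left
    (inf_le_right.trans (hL.trans (nst_le_normalizer _ _ _)))
  have c1 := ((of_loc_iff h2.left hC hL (le_inf h2.le hQL) inf_le_right).2 b1).maxBP_of_isDef hD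
  obtain ⟨n, hn, c2⟩ := c1.exists_conj_ple
    ((of_loc_iff h2.left hC hL (map_mono hQA) hAL).2 (a1.cj trivial))
  refine ⟨n, hn, a, a2, ?_⟩
  rw [map_cm_mul, cj_mul]
  refine (c2.up le_top hC ?_).trans b2
  rw [← map_cm_eq_iff.2 (nst_le_normalizer _ _ _ (hL hn))]
  exact map_mono (map_mono hQA)

/-- The normalizer of a subgroup fused into the centre centralizes it. -/
theorem fm_center (h1 : FM p P e g Q) (hZ : ∀ q ∈ Q, ∀ y ∈ P, y * (g * q * g⁻¹) = g * q * g⁻¹ * y)
    {a : G} (ha : a ∈ P) (hN : ∀ q ∈ Q, a * q * a⁻¹ ∈ Q) {q : G} (hq : q ∈ Q) :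
    a * q = q * a := by
  have := charP_resField h.hM
  obtain ⟨f, h1, h2⟩ := h1
  have hP : P ≤ centralizer (Q.map (cm g) : Set G) := fun y hy => by
    rintro _ ⟨q, hq, rfl⟩
    exact (hZ q hq y hy).symm
  have hP' : P ≤ nst ⊤ (Q.map (cm g)) (cj g f) :=
    (le_inf le_top hP).trans h2.left.centralizer_le_nst
  obtain ⟨n, hn, h3⟩ := h.fm_ext h1 h2 h2.left.centralizer_le_nst le_rfl
    (by rw [inf_eq_left.2 hP']; exact h.hm.isDef_of_le h2 h2.left.centralizer_le_nst le_rfl hP')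
    (le_inf h1.le le_normalizer) le_rfl (map_cm_le_nst h1.inf_normalizer_le_nst trivial)
  have h4 : n * g * q * (n * g)⁻¹ ∈ Q.map (cm g) := by
    have := (mem_normalizer_iff.1 (nst_le_normalizer _ _ _ hn) _).1 (⟨q, hq, rfl⟩ :
      cm g q ∈ Q.map (cm g))
    simpa [mul_assoc] using this
  have h5 := hP (h3.mem ⟨ha, mem_normalizer_fintype hN⟩) _ h4
  have h6 : n * g * (q * a) * (n * g)⁻¹ = n * g * (a * q) * (n * g)⁻¹ := by
    simpa only [mul_assoc, mul_inv_rev, inv_mul_cancel_left] using h5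
  simpa using h6.symm

/-- Extension to the centralizer. -/
theorem fm_ext_cent (h1 : PF p P e u v) (hfc : ∀ w, PF p P e v w →
      Nat.card (P ⊓ centralizer ({w} : Set G) : Subgroup G) ≤
        Nat.card (P ⊓ centralizer ({v} : Set G) : Subgroup G)) :
    ∃ g, g * u * g⁻¹ = v ∧ FM p P e g (P ⊓ centralizer {u}) := by
  have := charP_resField h.hM
  have hv := h1.right
  obtain ⟨g, rfl, f, a1, a2⟩ := h1.fm
  have e1 : ⊤ ⊓ centralizer ((zpowers u).map (cm g) : Set G) = centralizer {g * u * g⁻¹} := by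
    rw [zpowers_map_cm, inf_centralizer_zpowers rfl]
  obtain ⟨n, hn, h3⟩ := h.fm_ext a1 a2 e1.le (e1.ge.trans a2.left.centralizer_le_nst)
    (by rw [zpowers_map_cm] at a2; exact h.eq_sbar a2 ▸ h.isDef_local hv hfc)
    (A := P ⊓ centralizer {u})
    (zpowers_le.2 ⟨a1.le (mem_zpowers u), mem_centralizer_singleton_iff.2 rfl⟩)
    (inf_le_inf_left _ (by rw [← centralizer_zpowers_eq]; exact centralizer_le_normalizer _))
    (by rw [← map_cm_centralizer_singleton]; exact map_mono inf_le_right)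
  refine ⟨n * g, ?_, h3⟩
  have := mem_centralizer_singleton_iff.1 hn
  calc n * g * u * (n * g)⁻¹ = n * (g * u * g⁻¹) * n⁻¹ := by group
    _ = _ := by rw [this, mul_inv_cancel_right]

theorem fm_ext_center (h1 : PF p P e u v) (hv : P ≤ centralizer {v}) :
    ∃ g, g * u * g⁻¹ = v ∧ FM p P e g (P ⊓ centralizer {u}) :=
  h.fm_ext_cent h1 fun _ _ => by
    rw [inf_eq_left.2 hv]; exact card_le_of_le inf_le_left

/-- The Sylow property. -/
theorem exists_of_isDef {f : MonoidAlgebra (resField M) G} (h1 : BP p ⊤ Q f) {D Z : Subgroup G}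
    (hD : IsDef p (nst ⊤ Q f) f D) (hZ : Z ≤ Q) (hN : nst ⊤ Q f ≤ normalizer (Z : Set G))
    (ho : ∀ x ∈ nst ⊤ Q f, ¬ p ∣ orderOf x → x ∈ centralizer (Z : Set G))
    (hg : g ∈ nst ⊤ Q f) : ∃ b ∈ D, ∀ z ∈ Z, g * z * g⁻¹ = b * z * b⁻¹ := by
  have := charP_resField h.hM
  have h2 := h1.not_dvd_relIndex h1.centralizer_le_nst le_rfl hD
  have h3 := hN.trans (normalizer_le_normalizer_centralizer Z)
  have h4 := le_of_reg_mem (K := centralizer (Z : Set G) ⊔ D) h3 ho le_sup_left (fun h4 => h2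
    (h4.trans (relIndex_dvd_of_le_left _ (sup_le_sup_right
      (inf_le_right.trans (centralizer_le hZ)) _)))) hg
  rw [sup_comm, Grp.mem_sup_of_le_normalizer (hD.le.trans h3)] at h4
  obtain ⟨a, ha, c, hc, rfl⟩ := h4
  exact ⟨a, ha, fun z hz => by rw [mul_assoc a c, ← hc z hz]; group⟩

theorem exists_of_normal (h1 : FM p P e g Q) (hg : g ∈ normalizer (Q : Set G))
    (hP : P ≤ normalizer (Q : Set G)) {Z : Subgroup G} (hZ : Z ≤ Q)
    (hN : normalizer (Q : Set G) ≤ normalizer (Z : Set G))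
    (ho : ∀ x ∈ normalizer (Q : Set G), ¬ p ∣ orderOf x → x ∈ centralizer (Z : Set G)) :
    ∃ b ∈ P, ∀ z ∈ Z, g * z * g⁻¹ = b * z * b⁻¹ := by
  have := charP_resField h.hM
  obtain ⟨f, a1⟩ := exists_ple h.hm.of.pair h1.le
  exact h.exists_of_isDef a1.left (h.hm.isDef_of_le a1 a1.left.centralizer_le_nst le_rfl
    (a1.nle_of_normal hP).le_nst) hZ ((nst_le_normalizer _ _ _).trans hN)
    (fun x hx => ho x (nst_le_normalizer _ _ _ hx)) (h.mem_nst_of_fm a1 h1 hg)

theorem rank_eq_one_of_fm (hn : ∀ Q x, FM p P e x Q → x ∈ normalizer (Q : Set G) →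
    ¬ p ∣ orderOf x → x ∈ centralizer (Q : Set G)) : blockRank p B = 1 := by
  have := charP_resField h.hM
  exact blockRank_eq_one_of_nilpotent h.hM ((nilB_gbar_iff h.hM h.hB).1 (h.hm.nilB_of_ple
    fun Q f h1 x hx => hn Q x (fm_of_nst h1 hx) (nst_le_normalizer _ _ _ hx)))

theorem nilpotent_of_fm {c : G} (hc : c ∈ P) (hP : P ≤ centralizer ({c} : Set G))
    (hn : ∀ Q x, c ∈ Q → x ∈ centralizer ({c} : Set G) → FM p P e x Q →
      x ∈ normalizer (Q : Set G) → ¬ p ∣ orderOf x → x ∈ centralizer (Q : Set G)) :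
    IsNilpotentBlock p M (lblk p P e c) := by
  have := charP_resField h.hM
  have h1 := inf_centralizer_zpowers (x := c) rfl
  have h2 : Of p (centralizer {c}) (sbar M _ (lblk p P e c)) P e :=
    (of_loc_iff (h.ple hc).left h1.le (h1.ge.trans (h.ple hc).left.centralizer_le_nst)
      (zpowers_le.2 hc) hP).2 ((h.ple hc).nle_of_normal (hP.trans (by
        rw [← centralizer_zpowers_eq]; exact centralizer_le_normalizer _)))
  have h3 := h.hm.down le_top (inf_le_right.trans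
    (centralizer_le (Set.singleton_subset_iff.2 hc))) h2
  refine (nilB_sbar_iff h.hM (h.block hc)).1 (h3.nilB_of_ple fun Q f h4 x hx ho => ?_)
  obtain ⟨hx1, hx2, hx3⟩ := mem_nst.1 hx
  have hN : ∀ y ∈ centralizer ({c} : Set G), y ∈ normalizer (Q : Set G) →
      y ∈ normalizer ((Q ⊔ zpowers c : Subgroup G) : Set G) := fun y hy hy' => by
    rw [← map_cm_eq_iff, Subgroup.map_sup, map_cm_eq_iff.2 hy', zpowers_map_cm,
      mem_centralizer_singleton_iff.1 hy, mul_inv_cancel_right]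
  obtain ⟨f', a1, a2⟩ := h4.exists_nle_between (R := Q ⊔ zpowers c) le_sup_left
    (sup_le h4.le (zpowers_le.2 hc)) (sup_le le_normalizer (zpowers_le.2
      (centralizer_le_normalizer _ fun q hq =>
        mem_centralizer_singleton_iff.1 (hP (h4.le hq)))))
  have e1 : centralizer ({c} : Set G) ⊓ centralizer ((Q ⊔ zpowers c : Subgroup G) : Set G) =
      centralizer {c} ⊓ centralizer (Q : Set G) := by
    refine le_antisymm (inf_le_inf_left _ (centralizer_le (SetLike.coe_subset_coe.2 le_sup_left))) fun y hy => ⟨hy.1, ?_⟩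
    have : Q ⊔ zpowers c ≤ centralizer {y} := sup_le
      (fun q hq => mem_centralizer_singleton_iff.2 (hy.2 q hq))
      (zpowers_le.2 (mem_centralizer_singleton_iff.2 (mem_centralizer_singleton_iff.1 hy.1).symm))
    exact fun q hq => mem_centralizer_singleton_iff.1 (this hq)
  have e2 : f = f' := a1.left.prim.eq_of_mul_ne_zero (isComm_Z _) (e1 ▸ a1.right.prim) (by
    have a3 := a1.mul
    have a4 : Supp (centralizer ((Q ⊔ zpowers c : Subgroup G) : Set G)) f :=
      a1.left.prim.mem.1.mono (e1.ge.trans inf_le_right)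
    rw [a4.br_eq] at a3
    rw [a3]
    exact a1.right.prim.ne_zero)
  subst e2
  exact centralizer_le (SetLike.coe_subset_coe.2 le_sup_left) (hn _ x (mem_sup_right (mem_zpowers c)) hx1
    (fm_of_nst (a2.up le_top h1.le le_sup_right) (mem_nst.2 ⟨trivial, hN x hx1 hx2, hx3⟩))
    (hN x hx1 hx2) ho)

/-- Fusion maps inside a subgroup containing the centralizers. -/
theorem fm_sub {H : Subgroup G} {b : Set (IrrCharacter H)} {e' : MonoidAlgebra (resField M) H}
    (he : emb H.subtype e' = e) (h' : MP p b (P.subgroupOf H) e') (hPH : P ≤ H) {g : H}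
    (h1 : FM p P e g Q) (hC : centralizer (Q : Set G) ≤ H) :
    FM p (P.subgroupOf H) e' g (Q.subgroupOf H) := by
  have := charP_resField h.hM
  subst he
  have key : ∀ {R : Subgroup H} {f}, centralizer (R.map H.subtype : Set G) ≤ H →
      PLE p ⊤ R f (P.subgroupOf H) e' →
        PLE p ⊤ (R.map H.subtype) (emb H.subtype f) P (emb H.subtype e') := fun hR a => by
    have a1 := a.emb H.subtype_injective
    rw [map_subtype_top, map_subgroupOf_eq_of_le hPH] at a1
    exact a1.up le_top (inf_le_right.trans hR) le_rfl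
  obtain ⟨f, a1, a2⟩ := h1
  have hQ := map_subgroupOf_eq_of_le (a1.le.trans hPH)
  have e1 : ((Q.subgroupOf H).map (cm g)).map H.subtype = Q.map (cm (g : G)) := by
    conv_rhs => rw [← hQ]
    rw [map_map, map_map]
    rfl
  obtain ⟨f1, b1⟩ := exists_ple h'.hm.of.pair (Q := Q.subgroupOf H) (comap_mono a1.le)
  obtain ⟨f2, b2⟩ := exists_ple h'.hm.of.pair (Q := (Q.subgroupOf H).map (cm g)) (by
    rw [← map_le_map_iff_of_injective H.subtype_injective, e1, map_subgroupOf_eq_of_le hPH]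
    exact a2.le)
  have c1 := key (by rwa [hQ]) b1
  have c2 := key (by
    rw [e1, ← map_cm_centralizer]
    exact map_cm_le_of_mem hC g.2) b2
  rw [hQ] at c1
  rw [e1] at c2
  refine ⟨f1, b1, ?_⟩
  rwa [emb_injective H.subtype_injective (show emb H.subtype (cj g f1) = emb H.subtype f2 by
    rw [emb_cj, c1.unique a1, c2.unique a2]; rfl)]

end MP

theorem MP.exists_inverted (h : MP 2 B P e) (h1 : PF 2 P e u u⁻¹) :
    ∃ w, PF 2 P e u w ∧ ∃ b ∈ P, b * w * b⁻¹ = w⁻¹ := by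
  have := charP_resField h.hM
  obtain ⟨g, hg, h2⟩ := h1.fm
  obtain ⟨f, a1, -⟩ := id h2
  obtain ⟨y, -, b1, b2⟩ := h.hm.exists_conj_isDef_inf (h.hm.of.down a1) a1.left.centralizer_le_nst
    le_rfl
  have hgn := h.mem_nst_of_fm a1 h2 (by rw [← map_cm_eq_iff, zpowers_map_cm, hg, zpowers_inv])
  rw [map_cm_nst _ _ (mem_top y)] at b2
  have h3 : y * g * y⁻¹ ∈ nst ⊤ ((zpowers u).map (cm y)) (cj y f) :=
    map_cm_nst (zpowers u) f (mem_top y) ▸ ⟨g, hgn, rfl⟩
  rw [zpowers_map_cm] at b1 b2 h3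
  obtain ⟨n, hn⟩ := h.order (b1.le (mem_zpowers _))
  obtain ⟨b, hb, h4⟩ := h.exists_of_isDef b1.left b2 le_rfl (nst_le_normalizer _ _ _)
    (fun x hx ho => mem_centralizer_of_le_zpowers hn le_rfl (nst_le_normalizer _ _ _ hx) ho) h3
  refine ⟨_, ⟨y, f, rfl, a1, b1⟩, b, hb.1, ?_⟩
  rw [← h4 _ (mem_zpowers _)]
  calc _ = y * (g * u * g⁻¹) * y⁻¹ := by group
    _ = _ := by rw [hg]; group

end Cfsg.Agent.Block
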