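import Mathlib
import Cfsg.Agent.Block.FusMap

/-! Fusion maps descend to quotients by central `p`-subgroups. -/

set_option autoImplicit false
set_option linter.unusedSectionVars false

namespace Cfsg.Agent.Block

open Cfsg Cfsg.Agent.Char Subgroup Cfsg.Agent.Block.Alg
open scoped MonoidAlgebra

section alg
variable {k : Type*} [Field k] {G : Type*} [Group G] [Finite G] {p : ℕ} [hp : Fact p.Prime]
  {P Q Z : Subgroup G} [Z.Normal]

open Classical in
/-- Lift of an element of `k[G/Z]` supported on regular elements. -/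
noncomputable def zlft (p : ℕ) (Z : Subgroup G) [Z.Normal] (f : k[G ⧸ Z]) : k[G] :=
  Alg.mk fun g => if ¬ p ∣ orderOf g then f.coeff g else 0

omit hp in
theorem cj_zlft (f : k[G ⧸ Z]) (x : G) :
    cj x (zlft p Z f) = zlft p Z (cj (QuotientGroup.mk' Z x) f) := ext_coeff fun g => by
  rw [coeff_cj, zlft, zlft, coeff_mk, coeff_mk, coeff_cj]
  have h2 := orderOf_conj_eq x⁻¹ g
  rw [inv_inv] at h2
  rw [h2]
  rfl

theorem eq_of_mk_eq (hZp : IsPGroup p Z) (hZ : Z ≤ center G) {x y : G} (hx : ¬ p ∣ orderOf x)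
    (hy : ¬ p ∣ orderOf y) (h : QuotientGroup.mk' Z x = QuotientGroup.mk' Z y) : x = y :=
  injOn_mk_pRegular_centralizer hZp le_rfl
    ⟨hx, fun z hz => (mem_center_iff.1 (hZ hz) x).symm⟩
    ⟨hy, fun z hz => (mem_center_iff.1 (hZ hz) y).symm⟩ h

theorem coeff_emb_mk (hZp : IsPGroup p Z) (hZ : Z ≤ center G) {a : k[G]}
    (ha : ∀ g, a.coeff g ≠ 0 → ¬ p ∣ orderOf g) {g : G} (hg : ¬ p ∣ orderOf g) :
    (emb (QuotientGroup.mk' Z) a).coeff (QuotientGroup.mk' Z g) = a.coeff g := by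
  classical
  have := Fintype.ofFinite G
  rw [EqDeg.coeff_emb_sum, Finset.sum_eq_single g, if_pos rfl]
  · intro y _ hy
    split_ifs with h
    · exact by_contra fun h0 => hy (eq_of_mk_eq hZp hZ (ha y h0) hg h)
    · rfl
  · simp

theorem emb_zlft (hZp : IsPGroup p Z) (hZ : Z ≤ center G) {f : k[G ⧸ Z]}
    (h2 : ∀ q, f.coeff q ≠ 0 → ¬ p ∣ orderOf q) :
    emb (QuotientGroup.mk' Z) (zlft p Z f) = f := ext_coeff fun q => by
  classical
  have := Fintype.ofFinite G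
  by_cases h0 : p ∣ orderOf q
  · rw [of_not_not fun h => h2 q h h0, EqDeg.coeff_emb_sum]
    refine Finset.sum_eq_zero fun g _ => ?_
    split_ifs with h
    · rw [zlft, coeff_mk, if_neg (not_not.2 (h0.trans (h ▸ orderOf_map_dvd _ g)))]
    · rfl
  · obtain ⟨g, hg, rfl⟩ := exists_pRegular_preimage _ (QuotientGroup.mk'_surjective _) h0
    rw [coeff_emb_mk hZp hZ (fun y hy => ?_) hg, zlft, coeff_mk, if_pos hg]
    · rfl
    · rw [zlft, coeff_mk] at hy
      exact fun h => hy (if_neg (not_not.2 h))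

variable [CharP k p]

theorem Alg.BP.supp_emb_mk {e : k[G]} (he : BP p ⊤ Q e) :
    Supp (⊤ ⊓ centralizer (Q.map (QuotientGroup.mk' Z) : Set (G ⧸ Z)))
      (emb (QuotientGroup.mk' Z) e) := (he.supp.emb_map _).mono (by
  rintro _ ⟨x, hx, rfl⟩
  exact ⟨trivial, map_mem_centralizer_map _ hx⟩)

theorem eq_of_mul_emb_ne_zero (hZ : Z ≤ center G) (hZQ : Z ≤ Q) {e : k[G]} (he : BP p ⊤ Q e)
    (hreg : RegSupp p k (G ⧸ Z)) {f f' : k[G ⧸ Z]} (hf : BP p ⊤ (Q.map (QuotientGroup.mk' Z)) f)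
    (hf' : BP p ⊤ (Q.map (QuotientGroup.mk' Z)) f') (h : f * emb (QuotientGroup.mk' Z) e ≠ 0)
    (h' : f' * emb (QuotientGroup.mk' Z) e ≠ 0) : f = f' := by
  set π := QuotientGroup.mk' Z with hπ
  have hZp := he.pgroup.to_le hZQ
  have hm : ∀ g : k[G ⧸ Z], BP p ⊤ (Q.map π) g →
      zlft p Z g ∈ Alg.Z k (⊤ ⊓ centralizer (Q : Set G)) := fun g hg =>
    ⟨fun y hy => by
      rw [zlft, coeff_mk]
      split_ifs with h1
      · rfl
      · exact hg.supp _ fun h2 => hy ⟨trivial, mem_centralizer_of_central_quot he.pgroup hZ hZQ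
          h1 h2⟩, inv_iff_cj.2 fun c hc => by
      rw [cj_zlft, hg.prim.mem.2.cj_eq ⟨trivial, map_mem_centralizer_map π hc.2⟩]⟩
  have key : ∀ g : k[G ⧸ Z], BP p ⊤ (Q.map π) g → g * emb π e ≠ 0 →
      ∃ u, e = zlft p Z g * u * e ∧ Commute u (zlft p Z f) ∧ emb π (zlft p Z g) = g := by
    intro g hg hne
    have h1 := emb_zlft hZp hZ (hreg _ g hg.prim)
    have hc := he.supp_emb_mk.commute hg.prim.mem.2
    obtain ⟨u, hu, h2⟩ := he.prim.exists_unit (isComm_Z _) (hm g hg) fun hnil => by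
      have h3 := hnil.map (emb π)
      rw [map_mul, h1] at h3
      refine hne (idem_eq_zero_of_isNilpotent ?_ h3)
      rw [mul_assoc, ← mul_assoc (emb π e), hc, mul_assoc, ← map_mul, he.prim.idem, ← mul_assoc,
        hg.prim.idem]
    exact ⟨u, h2.symm, isComm_Z _ _ hu _ (hm f hf), h1⟩
  by_contra hne
  obtain ⟨u, h1, -, h2⟩ := key f hf h
  obtain ⟨v, h3, h4, h5⟩ := key _ hf' h'
  have h6 := hf'.prim.mul_eq_zero (isComm_Z _) hf.prim (Ne.symm hne)
  apply h
  have h7 : e = zlft p Z f' * zlft p Z f * (v * u * e) := by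
    calc e = zlft p Z f' * v * e := h3
      _ = zlft p Z f' * v * (zlft p Z f * u * e) := by rw [← h1]
      _ = _ := by simp only [mul_assoc]; rw [← mul_assoc v, h4.eq, mul_assoc]
  rw [h7, map_mul, map_mul, h5, h2, h6, zero_mul, mul_zero]

theorem ple_exists_quot (hZ : Z ≤ center G) (hZQ : Z ≤ Q) (hreg : RegSupp p k G)
    {d e : k[G]} (h : PLE p ⊤ Q d P e) : ∀ f : k[G ⧸ Z], BP p ⊤ (P.map (QuotientGroup.mk' Z)) f →
      f * emb (QuotientGroup.mk' Z) e ≠ 0 → ∃ f', PLE p ⊤ (Q.map (QuotientGroup.mk' Z)) f'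
        (P.map (QuotientGroup.mk' Z)) f ∧ f' * emb (QuotientGroup.mk' Z) d ≠ 0 := by
  induction h with
  | refl _ => exact fun f hf h => ⟨f, PLE.refl hf, h⟩
  | @tail R P g e h1 h2 ih =>
    intro f hf h
    obtain ⟨r, hr⟩ := exists_nle hf (map_mono h2.le)
      ((map_mono h2.norm).trans (le_normalizer_map _))
    obtain ⟨f', a1, a2⟩ := ih r hr.left fun h0 => h (by
      have hi : Inv (P.map (QuotientGroup.mk' Z)) (emb (QuotientGroup.mk' Z) g) :=
        inv_iff_cj.2 (by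
          rintro _ ⟨t, ht, rfl⟩
          rw [← emb_cj, h2.inv.cj_eq ht])
      have hs : Supp (⊤ ⊓ centralizer (P.map (QuotientGroup.mk' Z) : Set (G ⧸ Z)))
          (br (P.map (QuotientGroup.mk' Z)) (emb (QuotientGroup.mk' Z) g)) := by
        rw [top_inf_eq]; exact supp_br _ _
      rw [← h2.mul, map_mul, ← br_emb_quot h2.right.pgroup hZ (hZQ.trans (h1.le.trans h2.le))
        (hreg _ _ h2.left.prim), ← mul_assoc, ← hs.commute hf.prim.mem.2, ← hr.mul,
        ← mul_assoc, (hs.commute (hr.br_mem.2)), ← br_mul hf.pgroup hr.inv hi, h0, map_zero,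
        zero_mul, zero_mul])
    exact ⟨f', a1.tail hr, a2⟩

end alg

variable {G : Type*} [Group G] [Finite G] {M : Ideal AlgInt} {p : ℕ} [hp : Fact p.Prime]
  {B : Set (IrrCharacter G)} {P : Subgroup G} {e : MonoidAlgebra (resField M) G}

theorem MP.exists_quot_fm (h : MP p B P e) {Z : Subgroup G} [Z.Normal] (hZ : Z ≤ center G)
    (hZP : Z ≤ P) : ∃ f : MonoidAlgebra (resField M) (G ⧸ Z),
      MP p (domSet (QuotientGroup.mk' Z) (QuotientGroup.mk'_surjective Z) B)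
        (P.map (QuotientGroup.mk' Z)) f ∧ ∀ g Q, Z ≤ Q → FM p P e g Q →
          FM p (P.map (QuotientGroup.mk' Z)) f (QuotientGroup.mk' Z g)
            (Q.map (QuotientGroup.mk' Z)) := by
  have hM := h.hM
  have := charP_resField hM
  have hP := h.pgroup
  set π := QuotientGroup.mk' Z with hπ
  have hc : ∀ u ∈ Z, ∀ y : G, ¬ p ∣ orderOf y → Commute u y := fun u hu y _ =>
    (mem_center_iff.1 (hZ hu) y).symm
  have hB' := isPBlock_domSet_of_commute hM (hP.to_le hZP) hc h.hB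
  have hD' := isDefectGroup_domSet_of_commute hM (hP.to_le hZP) hc h.hB h.isDefectGroup
  have hg : gbar M (domSet π (QuotientGroup.mk'_surjective Z) B) = emb π (gbar M B) := by
    rw [emb, ← redAlg_mapDomain π (eSet_mem_intAlg hM h.hB),
      mapDomain_eSet π (QuotientGroup.mk'_surjective _)]
  have hbr := br_emb_quot hP hZ hZP (regSupp hM _ _ h.hm.of.block)
  have he := h.hm.of.pair
  have h3 : emb π e ≠ 0 := fun h0 => he.prim.ne_zero (ext_coeff fun g => by_contra fun h1 =>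
    h1 (by rw [← coeff_emb_mk (hP.to_le hZP) hZ (regSupp hM _ _ he.prim)
      (regSupp hM _ _ he.prim g h1), h0]; rfl))
  obtain ⟨f, hf, h4⟩ := exists_isPrim_mul_ne_zero
    (isComm_Z (k := resField M) (⊤ ⊓ centralizer (P.map π : Set (G ⧸ Z)))) h3
  have hf' : BP p ⊤ (P.map π) f := ⟨le_top, hP.map π, hf⟩
  have hof := of_of_mul_ne_zero (isPrim_redAlg_eSet hM hB') hf' fun h0 => h4 (by
    have hs : Supp (⊤ ⊓ centralizer (P.map π : Set (G ⧸ Z))) (br (P.map π) (emb π (gbar M B))) := by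
      rw [top_inf_eq]; exact supp_br _ _
    rw [← gbar, hg] at h0
    rw [← h.hm.of.mul, map_mul, ← hbr, ← mul_assoc, ← hs.commute hf.mem.2, h0, zero_mul])
  refine ⟨f, ⟨hM, hB', hof.maxBP_of_isDef ((isDef_top_iff hM hB').2 hD')⟩, ?_⟩
  rintro g Q hZQ ⟨d, a1, a2⟩
  have hZQ' : Z ≤ Q.map (cm g) := fun z hz => mem_map_cm.2 (hZQ (by
    rwa [mul_assoc, ← mem_center_iff.1 (hZ hz) g, inv_mul_cancel_left]))
  obtain ⟨f1, b1, b2⟩ := ple_exists_quot hZ hZQ (regSupp hM) a1 f hf' h4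
  obtain ⟨f2, c1, c2⟩ := ple_exists_quot hZ hZQ' (regSupp hM) a2 f hf' h4
  have e1 : (Q.map (cm g)).map π = (Q.map π).map (cm (π g)) := map_map_conj π Q g
  refine ⟨f1, b1, ?_⟩
  rw [← e1, eq_of_mul_emb_ne_zero hZ hZQ' a2.left (regSupp hM) (f := cj (π g) f1)
    (e1 ▸ b1.left.cj trivial) c1.left (by rwa [emb_cj, ← map_mul, Ne, cj_eq_zero_iff]) c2]
  exact c1

end Cfsg.Agent.Block
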