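import Mathlib
import Cfsg.Agent.Block.AbFree
import Cfsg.Agent.Block.PairMore
import Cfsg.Agent.Block.PLift
import Cfsg.Agent.Block.PairQuot
import Cfsg.Agent.S4541

/-! Blocks with free inertial action of order five on a group of order sixteen. -/

set_option autoImplicit false
set_option linter.unusedSectionVars false

namespace Cfsg.Agent.Block

open Cfsg Cfsg.Agent.Char Subgroup
open scoped ComplexConjugate

theorem exists_cross (x y z : Fin 3 → ℤ) {w : ℤ} (h00 : x 0 * x 0 + y 0 * y 0 + z 0 * z 0 + w = 5 + 1)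
    (h11 : x 1 * x 1 + y 1 * y 1 + z 1 * z 1 + w = 5 + 1)
    (h22 : x 2 * x 2 + y 2 * y 2 + z 2 * z 2 + w = 5 + 1)
    (h01 : x 0 * x 1 + y 0 * y 1 + z 0 * z 1 + w = 5 + 0)
    (h02 : x 0 * x 2 + y 0 * y 2 + z 0 * z 2 + w = 5 + 0)
    (h12 : x 1 * x 2 + y 1 * y 2 + z 1 * z 2 + w = 5 + 0) :
    ∃ a b c d : ℤ, a * a + b * b + c * c = 3 ∧ (∀ i, a * x i + b * y i + c * z i = d) ∧
      d * d ≤ 3 * (6 - w) := by
  have key : ∀ a b c : ℤ, a * a + b * b + c * c = 3 → (a * x 0 + b * y 0 + c * z 0) *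
      (a * x 0 + b * y 0 + c * z 0) ≤ 3 * (6 - w) := fun a b c e1 => by
    have : (a * a + b * b + c * c) * (x 0 * x 0 + y 0 * y 0 + z 0 * z 0) -
        (a * x 0 + b * y 0 + c * z 0) * (a * x 0 + b * y 0 + c * z 0) =
        (a * y 0 - b * x 0) ^ 2 + (a * z 0 - c * x 0) ^ 2 + (b * z 0 - c * y 0) ^ 2 := by ring
    rw [e1, show x 0 * x 0 + y 0 * y 0 + z 0 * z 0 = 6 - w by linarith] at this
    linarith [sq_nonneg (a * y 0 - b * x 0), sq_nonneg (a * z 0 - c * x 0),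
      sq_nonneg (b * z 0 - c * y 0)]
  have e1 : ∀ x1 x2 x3 y1 y2 y3 : ℤ, x1 ^ 2 + x2 ^ 2 + x3 ^ 2 = 2 → y1 ^ 2 + y2 ^ 2 + y3 ^ 2 = 2 →
      x1 * y1 + x2 * y2 + x3 * y3 = 1 → (x2 * y3 - x3 * y2) * (x2 * y3 - x3 * y2) +
        (x3 * y1 - x1 * y3) * (x3 * y1 - x1 * y3) + (x1 * y2 - x2 * y1) * (x1 * y2 - x2 * y1) = 3 :=
    fun x1 x2 x3 y1 y2 y3 a1 a2 a3 => by
      linear_combination (y1 ^ 2 + y2 ^ 2 + y3 ^ 2) * a1 + 2 * a2 -
        (x1 * y1 + x2 * y2 + x3 * y3 + 1) * a3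
  have e2 := e1 (x 0 - x 1) (y 0 - y 1) (z 0 - z 1) (x 0 - x 2) (y 0 - y 2) (z 0 - z 2)
    (by linear_combination h00 + h11 - 2 * h01) (by linear_combination h00 + h22 - 2 * h02)
    (by linear_combination h00 - h01 - h02 + h12)
  refine ⟨_, _, _, _, e2, fun i => ?_, key _ _ _ e2⟩
  fin_cases i
  · rfl
  · change _ * x 1 + _ * y 1 + _ * z 1 = _
    ring
  · change _ * x 2 + _ * y 2 + _ * z 2 = _
    ring

theorem gram_five {κ : Type*} [Fintype κ] (N : κ → Fin 3 → ℤ)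
    (hG : ∀ a b, ∑ χ, N χ a * N χ b = 5 + if a = b then 1 else 0) (hne : ∀ χ, ∃ a, N χ a ≠ 0)
    (hk : 7 ≤ Fintype.card κ) : ∃ (T : Finset κ) (n : κ → κ → ℤ), T.card + 3 = Fintype.card κ ∧
      (∀ i ∈ T, ∀ a, ∑ χ, n i χ * N χ a = 0) ∧ ∑ i ∈ T, ∑ χ, n i χ * n i χ ≤ 16 ∧
      ∀ c : κ → ℂ, (∀ χ, ∑ i ∈ T, c i * n i χ = 0) → ∀ i ∈ T, c i = 0 := by
  classical
  have h00 := hG 0 0
  have h11 := hG 1 1
  have h22 := hG 2 2
  have h01 := hG 0 1
  have h02 := hG 0 2
  have h12 := hG 1 2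
  simp only [if_true, show ((0 : Fin 3) = 1) = False by simp, show ((0 : Fin 3) = 2) = False by simp,
    show ((1 : Fin 3) = 2) = False by simp, if_false] at h00 h11 h22 h01 h02 h12
  have h1 : (Finset.univ.filter fun χ => ¬ (N χ 1 = N χ 0 ∧ N χ 2 = N χ 0)).card ≤ 3 := by
    have h2 := Finset.card_nsmul_le_sum (Finset.univ.filter fun χ =>
      ¬ (N χ 1 = N χ 0 ∧ N χ 2 = N χ 0)) (fun χ => (N χ 0 - N χ 1) ^ 2 + (N χ 0 - N χ 2) ^ 2 +
        (N χ 1 - N χ 2) ^ 2) 2 fun χ hχ => by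
          have h3 := (Finset.mem_filter.1 hχ).2
          have h4 : ∀ x : ℤ, x ≠ 0 → 1 ≤ x ^ 2 := fun x hx => by
            have := sq_pos_of_ne_zero hx; omega
          have h5 := sq_nonneg (N χ 0 - N χ 1)
          have h6 := sq_nonneg (N χ 0 - N χ 2)
          have h7 := sq_nonneg (N χ 1 - N χ 2)
          by_cases a : N χ 0 - N χ 1 = 0
          · linarith [h4 (N χ 0 - N χ 2) (by omega), h4 (N χ 1 - N χ 2) (by omega)]
          by_cases b : N χ 0 - N χ 2 = 0
          · linarith [h4 _ a, h4 (N χ 1 - N χ 2) (by omega)]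
          · linarith [h4 _ a, h4 _ b]
    have h3 := h2.trans (Finset.sum_le_sum_of_subset_of_nonneg (Finset.subset_univ _)
      fun χ _ _ => by positivity)
    have h4 : ∑ χ, ((N χ 0 - N χ 1) ^ 2 + (N χ 0 - N χ 2) ^ 2 + (N χ 1 - N χ 2) ^ 2) =
        2 * (∑ χ, N χ 0 * N χ 0 + ∑ χ, N χ 1 * N χ 1 + ∑ χ, N χ 2 * N χ 2 - ∑ χ, N χ 0 * N χ 1 -
          ∑ χ, N χ 0 * N χ 2 - ∑ χ, N χ 1 * N χ 2) := by
      simp only [← Finset.sum_add_distrib, ← Finset.sum_sub_distrib, Finset.mul_sum]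
      exact Finset.sum_congr rfl fun χ _ => by ring
    rw [h4, h00, h11, h22, h01, h02, h12, nsmul_eq_mul] at h3
    omega
  obtain ⟨S, hS, -, hS3⟩ := Finset.exists_subsuperset_card_eq (Finset.subset_univ _) h1
    (by rw [Finset.card_univ]; omega)
  obtain ⟨x, y, z, hxy, hxz, hyz, rfl⟩ := Finset.card_eq_three.1 hS3
  set T := ({x, y, z} : Finset κ)ᶜ with hT
  have hTc : T.card + 3 = Fintype.card κ := by rw [hT, Finset.card_compl, hS3]; omega
  have hc : ∀ χ ∈ T, ∀ a, N χ a = N χ 0 := fun χ hχ a => by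
    have : N χ 1 = N χ 0 ∧ N χ 2 = N χ 0 := by
      by_contra h
      exact Finset.mem_compl.1 hχ (hS (Finset.mem_filter.2 ⟨Finset.mem_univ _, h⟩))
    fin_cases a
    exacts [rfl, this.1, this.2]
  have hsum : ∀ f : κ → ℤ, ∑ χ, f χ = f x + f y + f z + ∑ χ ∈ T, f χ := fun f => by
    rw [← Finset.sum_add_sum_compl {x, y, z}, Finset.sum_insert (by simp [hxy, hxz]),
      Finset.sum_pair hyz, ← add_assoc]
  have hW : ∀ a b, ∑ χ ∈ T, N χ a * N χ b = ∑ χ ∈ T, N χ 0 * N χ 0 := fun a b =>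
    Finset.sum_congr rfl fun χ hχ => by rw [hc χ hχ a, hc χ hχ b]
  have hw : ∀ χ ∈ T, 1 ≤ N χ 0 * N χ 0 := fun χ hχ => by
    obtain ⟨a, ha⟩ := hne χ
    have := mul_self_pos.2 (hc χ hχ a ▸ ha)
    omega
  rw [hsum] at h00 h11 h22 h01 h02 h12
  rw [hW] at h11 h22 h01 h02 h12
  have hw1 : ∀ χ ∈ T, N χ 0 * N χ 0 = 1 := fun χ hχ => by
    have h2 := Finset.card_nsmul_le_sum (T.erase χ) (fun χ => N χ 0 * N χ 0) 1
      fun ψ hψ => hw ψ (Finset.mem_of_mem_erase hψ)
    rw [← Finset.add_sum_erase T _ hχ] at h00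
    rw [Finset.card_erase_of_mem hχ, nsmul_eq_mul] at h2
    have h3 : N χ 0 * N χ 0 ≤ 3 := by
      have := mul_self_nonneg (N x 0)
      have := mul_self_nonneg (N y 0)
      have := mul_self_nonneg (N z 0)
      omega
    have h4 := hw χ hχ
    have h5 : N χ 0 ≤ 1 := by nlinarith
    have h6 : -1 ≤ N χ 0 := by nlinarith
    generalize N χ 0 = t at *
    interval_cases t <;> simp_all
  rw [Finset.sum_congr rfl hw1, Finset.sum_const, nsmul_eq_mul, mul_one] at h00 h11 h22 h01 h02 h12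
  obtain ⟨t, ht⟩ : T.Nonempty := Finset.card_pos.1 (by omega)
  have hn : ∀ i ∈ T, i ≠ x ∧ i ≠ y ∧ i ≠ z := fun i hi => by simpa [hT] using hi
  obtain ⟨σx, σy, σz, d, e1, e2, e3⟩ := exists_cross (N x) (N y) (N z) h00 h11 h22 h01 h02 h12
  let E : κ → κ → ℤ := fun a χ => if a = χ then 1 else 0
  have hE : ∀ a (f : κ → ℤ), ∑ χ, E a χ * f χ = f a := fun a f => by simp [E]
  let n : κ → κ → ℤ := fun i χ => if i = t then σx * E x χ + σy * E y χ + σz * E z χ -
    d * N t 0 * E t χ else N i 0 * E t χ - N t 0 * E i χ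
  have hn' : ∀ i (f : κ → ℤ), ∑ χ, n i χ * f χ = if i = t then σx * f x + σy * f y + σz * f z -
      d * N t 0 * f t else N i 0 * f t - N t 0 * f i := fun i f => by
    simp only [n]
    split_ifs <;>
    simp only [add_mul, sub_mul, mul_assoc, Finset.sum_add_distrib, Finset.sum_sub_distrib,
      ← Finset.mul_sum, hE]
  obtain ⟨t1, t2, t3⟩ := hn t ht
  refine ⟨T, n, hTc, fun i hi a => ?_, ?_, fun c h0 => ?_⟩
  · rw [hn']
    split_ifs
    · rw [e2, hc t ht a, mul_assoc, hw1 t ht]; ring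
    · rw [hc t ht a, hc i hi a]; ring
  · rw [← Finset.add_sum_erase T _ ht, Finset.sum_congr (s₁ := T.erase t) rfl (g := fun _ => 2)
      fun i hi => ?_]
    · rw [hn', if_pos rfl, Finset.sum_const, Finset.card_erase_of_mem ht, nsmul_eq_mul]
      simp only [n, E, if_true, hxy, hxz, hyz, hxy.symm, hxz.symm, hyz.symm, t1, t2, t3, t1.symm,
        t2.symm, t3.symm, if_false]
      have := hw1 t ht
      have h5 : ((T.card - 1 : ℕ) : ℤ) = T.card - 1 := by omega
      have h6 : (4 : ℤ) ≤ T.card := by omega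
      rw [h5]
      have h7 : d * d * (N t 0 * N t 0) = d * d := by rw [this, mul_one]
      linarith
    · have h5 := Finset.ne_of_mem_erase hi
      rw [hn', if_neg h5]
      simp only [n, E, h5, h5.symm, if_true, if_false]
      linear_combination hw1 t ht + hw1 i (Finset.mem_of_mem_erase hi)
  · have h5 : ∀ χ, χ ∉ T → c t * n t χ = 0 := fun χ hχ => by
      rw [← h0 χ, ← Finset.add_sum_erase T _ ht, Finset.sum_eq_zero, add_zero]
      intro i hi
      have h6 : i ≠ χ := fun h => hχ (h ▸ Finset.mem_of_mem_erase hi)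
      have h7 : t ≠ χ := fun h => hχ (h ▸ ht)
      simp [n, E, Finset.ne_of_mem_erase hi, h6, h7]
    have a1 := h5 x (by simp [hT])
    have a2 := h5 y (by simp [hT])
    have a3 := h5 z (by simp [hT])
    simp only [n, E, if_true, hxy, hxz, hyz, hxy.symm, hxz.symm, hyz.symm, t1, t2, t3,
      if_false] at a1 a2 a3
    have h6 : c t = 0 := by
      have e1' : (σx : ℂ) * σx + σy * σy + σz * σz = 3 := by exact_mod_cast e1
      push_cast at a1 a2 a3
      linear_combination (σx * a1 + σy * a2 + σz * a3 - c t * e1') / 3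
    intro i hi
    by_cases h7 : i = t
    · rwa [h7]
    have h8 := h0 i
    rw [Finset.sum_eq_single_of_mem i hi fun j _ hj => by
      by_cases h9 : j = t
      · rw [h9, h6, zero_mul]
      · simp [n, E, h9, hj, Ne.symm h7]] at h8
    have h9 : (N t 0 : ℂ) * N t 0 = 1 := by exact_mod_cast hw1 t ht
    simp only [n, E, h7, Ne.symm h7, if_true, if_false] at h8
    push_cast at h8
    linear_combination -(N t 0) * h8 - c i * h9

open Classical in
theorem exists_gram_orth {A : Type*} [Group A] [Fintype A] {Γ : Type*} [Group Γ] [Finite Γ]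
    {ρ : Γ →* MulAut A}
    (hfr : ∀ n y, y ≠ 1 → ρ n y = y → n ∈ ρ.ker) (hc : ∀ a b : A, a * b = b * a) {κ : Type*}
    [Fintype κ] (D : κ → A → ℂ) (h1 : ∀ χ, D χ 1 = 0) (hinv : ∀ χ n w, D χ (ρ n w) = D χ w)
    (hint : ∀ χ (l : A →* ℂˣ), ∃ m : ℤ, classInner (D χ) (fun w => (l w : ℂ)) =
      classInner (D χ) (fun w => ((1 : A →* ℂˣ) w : ℂ)) + m)
    (horth : ∀ u ≠ 1, ∀ w ≠ 1, ∑ χ, D χ u * conj (D χ w) =
      if ∃ n, ρ n u = w then (Nat.card A : ℂ) else 0) :
    ∃ N : κ → {O // ∃ ψ, ψ ≠ 1 ∧ dorb ρ ψ = O} → ℤ,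
      (∀ a b, ∑ χ, N χ a * N χ b = ρ.ker.index + if a = b then 1 else 0) ∧
      ∀ n : κ → ℤ, (∀ a, ∑ χ, n χ * N χ a = 0) → ∀ u ≠ 1, ∑ χ, n χ * D χ u = 0 := by
  have := Fintype.ofFinite Γ
  choose m hm using hint
  choose r hr hr' using fun O : {O // ∃ ψ, ψ ≠ 1 ∧ dorb ρ ψ = O} => O.2
  let η : (A →* ℂˣ) → A → ℂ := fun l => (fun w => (l w : ℂ)) - fun w => ((1 : A →* ℂˣ) w : ℂ)
  have h2 : ∀ χ l, classInner (D χ) (η l) = m χ l := fun χ l => by
    rw [classInner_sub_right, hm, add_sub_cancel_left]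
  have h3 : ∀ l, η l 1 = 0 := fun l => by simp [η]
  refine ⟨fun χ a => m χ (r a), fun a b => Int.cast_injective (α := ℂ) ?_, fun n h4 u hu => ?_⟩
  · have h4 : ∑ χ, classInner (D χ) (η (r a)) * conj (classInner (D χ) (η (r b))) =
        conj (classInner (η (r a)) (tsum' ρ (η (r b)))) := by
      simp only [classInner_def, map_mul, map_sum, map_inv₀, map_natCast, Complex.conj_conj]
      simp only [mul_mul_mul_comm _ _ (Nat.card A : ℂ)⁻¹, Finset.sum_mul_sum]
      rw [← Finset.mul_sum, Finset.sum_comm, mul_assoc, Finset.mul_sum]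
      refine congrArg _ (Finset.sum_congr rfl fun u _ => ?_)
      by_cases hu : u = 1
      · simp [hu, h3]
      rw [tsum'_eq_sum hfr _ hu, Finset.sum_comm, Finset.mul_sum, Finset.mul_sum]
      refine Finset.sum_congr rfl fun w _ => ?_
      simp only [mul_mul_mul_comm (D _ u), ← Finset.sum_mul]
      by_cases hw : w = 1
      · simp [hw, h3]
      rw [horth u hu w hw]
      split_ifs
      · rw [inv_mul_cancel_left₀ (card_ne_zero A)]
      · simp
    simp only [h2, map_intCast] at h4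
    rw [show tsum' ρ (η (r b)) = osum ρ (r b) - (ρ.ker.index : ℂ) • fun w => ((1 : A →* ℂˣ) w : ℂ)
      from funext fun y => by rw [tsum'_sub, tsum'_hom hfr hc (hr b), tsum'_one]; simp] at h4
    simp only [η, classInner_sub_left, classInner_sub_right, classInner_smul_right,
      classInner_hom_osum, classInner_hom_hom, if_neg (hr a),
      if_neg (one_notMem_dorb (hr b))] at h4
    rw [if_congr (mem_dorb_iff.trans (by rw [hr', hr', Subtype.val_inj])) rfl rfl] at h4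
    push_cast
    rw [h4]
    by_cases hab : a = b <;> simp [hab, add_comm]
  · have h5 : ∀ φ : A →* ℂˣ, classInner (∑ χ, (n χ : ℂ) • D χ) (fun w => (φ w : ℂ)) =
        classInner (∑ χ, (n χ : ℂ) • D χ) fun w => ((1 : A →* ℂˣ) w : ℂ) := fun φ => by
      by_cases hφ : φ = 1
      · rw [hφ]
      have h6 : ∑ χ, (n χ : ℂ) * m χ (r ⟨_, φ, hφ, rfl⟩) = 0 := by exact_mod_cast h4 ⟨_, φ, hφ, rfl⟩
      rw [classInner_hom_eq_of_mem_dorb (mem_dorb_iff.2 (hr' ⟨_, φ, hφ, rfl⟩).symm)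
        (fun t w => by simp only [Finset.sum_apply, Pi.smul_apply, hinv])]
      rw [classInner_sum_left, classInner_sum_left, ← add_zero (∑ χ, classInner (_ • D χ)
        fun w => ((1 : A →* ℂˣ) w : ℂ)), ← h6, ← Finset.sum_add_distrib]
      exact Finset.sum_congr rfl fun χ _ => by
        rw [classInner_smul_left, classInner_smul_left, hm, mul_add]
    simpa using (apply_eq_of_classInner_const hc (fun φ _ => h5 φ) hu).trans (sub_self _)

variable {G : Type*} [Group G] [Finite G] {M : Ideal AlgInt} {p : ℕ} [hp : Fact p.Prime]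
  {B : Set (IrrCharacter G)} {P : Subgroup G} {e : MonoidAlgebra (resField M) G}

open Classical in
theorem MP.exists_gram_proj (h : MP p B P e) (hab : P ≤ centralizer (P : Set G))
    (hf : ∀ g ∈ Alg.nst ⊤ P e, ∀ x ∈ P, x ≠ 1 → g * x * g⁻¹ = x → g ∈ centralizer (P : Set G))
    [Fintype B] (h0 : P ≠ ⊥) : ∃ N : B → {O // ∃ ψ, ψ ≠ 1 ∧ dorb (nrho P e) ψ = O} → ℤ,
      (∀ a b, ∑ χ, N χ a * N χ b = (nrho P e).ker.index + if a = b then 1 else 0) ∧
        (∀ χ, ∃ a, N χ a ≠ 0) ∧ ∀ n : B → ℤ, (∀ a, ∑ χ, n χ * N χ a = 0) → IsProj p B (icomb n) := by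
  have := Fintype.ofFinite P
  obtain ⟨s, h1, h2, h3⟩ := h.exists_signs hab hf h0
  have h4 : ∀ u : P, u ≠ 1 → blockRank p (lblk p P e u) = 1 := fun u hu =>
    h.rank_free hab hf u.2 fun e => hu (Subtype.ext e)
  have h5 : ∀ u, (s u : ℂ) * s u = 1 := fun u => by rcases h1 u with h | h <;> simp [h]
  obtain ⟨N, h6, h7⟩ := exists_gram_orth (MP.free_nrho hf) (comm_of_le_centralizer hab)
    (fun (χ : B) u => if u = 1 then 0 else pd p P e u (χ.1 : G → ℂ) * s u) (fun χ => if_pos rfl)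
    (fun χ t w => by
      by_cases hw : w = 1
      · simp [hw]
      rw [if_neg hw, if_neg (by simpa using hw), h2, h.pd_eq ((h.pf_iff' hab).2 ⟨t, rfl⟩) (h4 w hw)
        χ.1.2.isClassFunction])
    (fun χ => h3 _ χ.1.2.isGen (blockPart_irr_of_mem χ.2) _ fun u hu => if_neg hu)
    fun u hu w hw => by
      simp only [if_neg hu, if_neg hw, map_mul, map_intCast, mul_mul_mul_comm _ (s u : ℂ),
        ← Finset.sum_mul, h.sum_pd_mul hab hf hu]
      split_ifs with h6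
      · obtain ⟨t, rfl⟩ := h6
        rw [h2, h5, mul_one]
      · rw [zero_mul]
  have h8 : ∀ n : B → ℤ, (∀ a, ∑ χ, n χ * N χ a = 0) → ∀ u : P, u ≠ 1 →
      ∑ χ, n χ * pd p P e u (χ.1 : G → ℂ) = 0 := fun n hn u hu => by
    have h9 := h7 n hn u hu
    simp only [if_neg hu, ← mul_assoc, ← Finset.sum_mul] at h9
    exact (mul_eq_zero.1 h9).resolve_right (left_ne_zero_of_mul_eq_one (h5 u))
  refine ⟨N, h6, fun χ => by_contra fun h9 => ?_, fun n hn => h.isProj_icomb fun v hv h9 =>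
    ⟨v, h.pf_refl hv, h.rank_free hab hf hv h9, h8 n hn ⟨v, hv⟩ fun e => h9 (congrArg Subtype.val e)⟩⟩
  push Not at h9
  obtain ⟨u, hu⟩ := ne_bot_iff_exists_ne_one.1 h0
  have h10 := h8 (fun ψ => if χ = ψ then 1 else 0) (fun a => by simp [h9]) u hu
  exact h.pd_ne_zero hab u.2 (h4 u hu) χ.2 (by simpa using h10)

theorem MP.free_of_five (h : MP 2 B P e) (hc : Nat.card P ≤ 16) (h5 : inI P e = 5) {z : G}
    (hz : z ∈ P) (h1 : z ≠ 1) : ¬ Alg.nst ⊤ P e ≤ centralizer {z} := fun h2 => by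
  have : Fact (Nat.Prime 5) := ⟨by norm_num⟩
  have h3 : Nat.card (nrho P e).range = 5 := by rw [← index_ker, index_ker_nrho, ← inI, h5]
  have h4 := (IsPGroup.of_card (n := 1) (h3.trans (pow_one 5).symm)).card_modEq_card_fixedPoints P
  let F : Subgroup P := FixedPoints.subgroup (nrho P e).range P
  change _ ≡ Nat.card F [MOD 5] at h4
  have h6 : F ≠ ⊥ := ne_bot_iff_exists_ne_one.2 ⟨⟨⟨z, hz⟩, by
    rintro ⟨_, t, rfl⟩
    exact Subtype.ext (mul_inv_eq_iff_eq_mul.2 (mem_centralizer_singleton_iff.1 (h2 t.2)))⟩,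
    fun e => h1 (congrArg (fun x : F => ((x : P) : G)) e)⟩
  have h7 : F ≠ ⊤ := fun h8 => by
    have h9 : (nrho P e).range = ⊥ := eq_bot_iff.2 fun φ hφ => MulEquiv.ext fun x =>
      (h8.ge (mem_top x) : x ∈ F) ⟨φ, hφ⟩
    rw [h9, card_bot] at h3
    omega
  obtain ⟨a, ha⟩ := IsPGroup.iff_card.1 h.pgroup
  obtain ⟨b, hb⟩ := IsPGroup.iff_card.1 (h.pgroup.to_subgroup F)
  have h8 := (one_lt_card_iff_ne_bot F).2 h6
  have h9 : Nat.card F < Nat.card P := lt_of_le_of_ne (card_le_card_group F)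
    fun h => h7 (eq_top_of_card_eq F h)
  rw [ha] at hc h4 h9
  rw [hb] at h4 h8 h9
  have h10 : a ≤ 4 := (Nat.pow_le_pow_iff_right one_lt_two).1 hc
  have h11 := (Nat.pow_lt_pow_iff_right one_lt_two).1 h9
  interval_cases a <;> interval_cases b <;> simp [Nat.ModEq] at h4 h8

theorem MP.exists_five (h : MP 2 B P e) (hab : P ≤ centralizer (P : Set G)) [Fintype B]
    (hc : Nat.card P ≤ 16) (hd : inI P e ∣ 5) (hl : 4 ≤ blockRank 2 B) :
    Nat.card P = 16 ∧ ∃ (T : Finset B) (n : B → B → ℤ), T.card = blockRank 2 B ∧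
      (∀ i ∈ T, IsProj 2 B (icomb (n i))) ∧ ∑ i ∈ T, ∑ χ, n i χ * n i χ ≤ 16 ∧
      ∀ c : B → ℂ, (∀ χ, ∑ i ∈ T, c i * n i χ = 0) → ∀ i ∈ T, c i = 0 := by
  classical
  rcases h.cases_prime (by norm_num) hd with h1 | ⟨h1, h2 | ⟨z, hz, h2, h3⟩⟩
  · have := h.rank_eq_one hab h1
    omega
  swap
  · exact absurd h3 (h.free_of_five hc h1 hz h2)
  have h0 : P ≠ ⊥ := by
    rintro rfl
    have : inI ⊥ e = 1 := relIndex_eq_one.2 fun x _ => by simp [mem_centralizer_iff]
    omega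
  have := Fintype.ofFinite P
  obtain ⟨N, h3, h4, h5⟩ := h.exists_gram_proj hab h2 h0
  have h6 := card_dorbs_mul (MP.free_nrho h2) (comm_of_le_centralizer hab)
  have h7 := h.card_eq_add hab h2
  rw [index_ker_nrho, ← inI, h1] at h3 h6
  have h8 : Nat.card P = 16 := by
    obtain ⟨a, ha⟩ := IsPGroup.iff_card.1 h.pgroup
    have h9 := (one_lt_card_iff_ne_bot P).2 h0
    rw [ha] at hc h6 h9 ⊢
    have h10 : a ≤ 4 := (Nat.pow_le_pow_iff_right one_lt_two).1 hc
    interval_cases a <;> omega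
  have h9 : Nat.card {O // ∃ ψ, ψ ≠ 1 ∧ dorb (nrho P e) ψ = O} = 3 := by omega
  have := Nat.finite_of_card_ne_zero (h9.trans_ne three_ne_zero)
  let ε := (Finite.equivFinOfCardEq h9).symm
  obtain ⟨T, n, a1, a2, a3, a4⟩ := gram_five (fun χ a => N χ (ε a))
    (fun a b => by simpa using h3 (ε a) (ε b))
    (fun χ => (h4 χ).imp' ε.symm fun a ha => by simpa using ha)
    (by rw [← Nat.card_eq_fintype_card]; omega)
  refine ⟨h8, T, n, by rw [← Nat.card_eq_fintype_card] at a1; omega,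
    fun i hi => h5 _ fun a => by simpa using a2 i hi (ε.symm a), a3, a4⟩

theorem exists_gdn_ne_of_indep {C : Subgroup G} [Fintype C] (hM : IsPModular p M)
    {b : Set (IrrCharacter C)} (hb : IsPBlock M b) {ι : Type*} [Fintype ι] {Φ : ι → C → ℂ}
    (hΦ : ∀ i, IsProj p b (Φ i)) (h1 : LinearIndependent ℂ Φ)
    (hr : blockRank p b ≤ Fintype.card ι) {y : G} {χ : G → ℂ} (h : bcmp p C y b χ ≠ 0) :
    ∃ i, gdn C y χ (Φ i) ≠ 0 := by
  by_contra! h0
  have h2 : Submodule.span ℂ (Set.range Φ) =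
      Submodule.span ℂ ((fun χ : IrrCharacter C => pRegularPart p (χ : C → ℂ)) '' b) := by
    refine Submodule.eq_of_le_of_finrank_le (Submodule.span_le.2 ?_) ?_
    · rintro _ ⟨i, rfl⟩
      exact mem_span_of_regPart (hΦ i).reg (hΦ i).blk
    · rwa [finrank_span_eq_card h1]
  obtain ⟨c, hc⟩ := (Submodule.mem_span_range_iff_exists_fun ℂ).1
    (h2 ▸ mem_span_of_regPart (regPart_bcmp hM y (eSet_mem_intAlg hM hb) χ)
      (blockPart_blockPart_self _ _))
  refine h (classInner_self_eq_zero.1 ?_)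
  conv_lhs => enter [2]; rw [← hc]
  rw [classInner_sum_right]
  refine Finset.sum_eq_zero fun i _ => ?_
  rw [classInner_smul_right, ← gdn_eq_bcmp y χ (hΦ i), h0, mul_zero]

/-- The number of height zero characters. -/
noncomputable abbrev kz (p : ℕ) (B : Set (IrrCharacter G)) : ℕ :=
  Nat.card {χ : IrrCharacter G // χ ∈ B ∧ blockHeight p B (χ : G → ℂ) = 0}

theorem MP.kz_le_of_rank (h : MP 2 B P e) {u : G} (hu : u ∈ P)
    (hl : blockRank 2 (lblk 2 P e u) ≤ 3) : kz 2 B ≤ 2 ^ blockDefect 2 (lblk 2 P e u) :=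
  (S4541.result M h.hM B h.hB u (h.order hu) _ (h.ind hu)).2.2 hl

theorem MP.kz_le_of_three (h : MP 2 B P e) (hab : P ≤ centralizer (P : Set G)) {u : G}
    (hu : u ∈ P) (hd : (centralizer (P : Set G)).relIndex
      (Alg.nst ⊤ P e ⊓ centralizer {u}) ∣ 3) : kz 2 B ≤ Nat.card P := by
  obtain ⟨Q, f, h1, h2, -, h3⟩ := h.exists_subquot hab hu
  rw [← h.pow_defect_lblk hab hu]
  refine h.kz_le_of_rank hu ?_
  rw [← rank_domSet_cself h.hM (h.order hu) (h.block hu)]
  exact rank_le_of_inI_dvd Nat.prime_three _ h1 h2 rfl (h3.trans hd)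

theorem MP.kz_le_of_five (h : MP 2 B P e) (hab : P ≤ centralizer (P : Set G))
    (hc : Nat.card P ≤ 32) {u : G} (hu : u ∈ P) (hu1 : u ≠ 1)
    (hd : (centralizer (P : Set G)).relIndex (Alg.nst ⊤ P e ⊓ centralizer {u}) ∣ 5) :
    kz 2 B ≤ Nat.card P := by
  classical
  by_cases hl : blockRank 2 (lblk 2 P e u) ≤ 3
  · rw [← h.pow_defect_lblk hab hu]
    exact h.kz_le_of_rank hu hl
  obtain ⟨Q, f, h1, h2, h3, h4⟩ := h.exists_subquot hab hu
  have hr := rank_domSet_cself h.hM (h.order hu) (h.block hu)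
  have h5 : 2 ≤ orderOf u := by
    have := orderOf_pos u
    have := mt orderOf_eq_one_iff.1 hu1
    omega
  set Z := zpowers (cself u)
  set c := domSet (QuotientGroup.mk' Z) (QuotientGroup.mk'_surjective _) (lblk 2 P e u)
  have := Fintype.ofFinite c
  have := Fintype.ofFinite (centralizer ({u} : Set G))
  have := Fintype.ofFinite (centralizer ({u} : Set G) ⧸ Z)
  obtain ⟨h6, T, n, a1, a2, a3, a4⟩ := h1.exists_five h2 (by nlinarith) (h4.trans hd) (by omega)
  have hZ : IsPGroup 2 Z := orderOf_eq_pow_iff_isPGroup.1 (by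
    rw [← orderOf_coe]; exact h.order hu)
  have hcm : ∀ v ∈ Z, ∀ y : centralizer ({u} : Set G), ¬ 2 ∣ orderOf y → Commute v y :=
    fun v hv y _ => (mem_center_iff.1 (zpowers_cself_le u hv) y).symm
  have hΦ : ∀ i : T, IsProj 2 (lblk 2 P e u) (plift 2 Z (icomb (n i))) := fun i =>
    (a2 i i.2).plift h.hM hZ hcm (eSet_mem_intAlg h.hM (h.block hu))
  have hind : LinearIndependent ℂ fun i : T => plift 2 Z (icomb (n i)) := by
    rw [Fintype.linearIndependent_iff]
    intro g hg i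
    have h7 := a4 (fun j => if hj : j ∈ T then g ⟨j, hj⟩ else 0) (fun χ => by
      have h8 := congrArg (fun θ => classInner θ fun x : centralizer ({u} : Set G) =>
        (χ.1 : _ → ℂ) (x : _ ⧸ Z)) hg
      simp only [classInner_sum_left, classInner_smul_left, classInner_zero_left] at h8
      rw [← h8, ← Finset.sum_coe_sort T]
      refine Finset.sum_congr rfl fun j _ => ?_
      rw [dif_pos j.2, classInner_plift hZ hcm (a2 j j.2).reg (Ψ := χ.1) fun _ _ => rfl]
      simp only [icomb, classInner_sum_left, classInner_smul_left, irr_inner, Subtype.val_inj,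
        mul_ite, mul_one, mul_zero]
      rw [Finset.sum_eq_single χ (fun _ _ h => if_neg h) (by simp), if_pos rfl]) i i.2
    rwa [dif_pos i.2] at h7
  have h7 := mul_card_le_of_gdn h.hM (h.order hu) rfl (h.ind hu) Finset.univ (fun i _ => hΦ i)
    (n := fun i => Nat.card Z * ∑ χ, n i χ * n i χ) (fun i _ => by
      rw [classInner_plift_plift hZ hcm (a2 i i.2).reg, classInner_icomb]; push_cast; rfl)
    (Finset.univ.filter fun χ => χ ∈ B ∧ blockHeight 2 B (χ : G → ℂ) = 0) (m := 1) fun χ hχ => by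
      obtain ⟨i, hi⟩ := exists_gdn_ne_of_indep h.hM (h.block hu) hΦ hind (by simp [a1, hr])
        (bcmp_ne_zero_of_induced h.hM (h.order hu) rfl (h.ind hu) (Finset.mem_filter.1 hχ).2.1
          (Finset.mem_filter.1 hχ).2.2)
      exact ⟨{i}, Finset.subset_univ _, by simp, by simpa using hi⟩
  rw [← Finset.mul_sum, Finset.sum_coe_sort T fun i => ∑ χ, n i χ * n i χ, Nat.card_zpowers,
    show orderOf (cself u) = orderOf u from (orderOf_coe _).symm] at h7
  rw [kz, Nat.card_eq_fintype_card, Fintype.card_subtype, ← h3, h6]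
  have h8 : (0 : ℤ) ≤ orderOf u := by positivity
  have h9 := h7.trans (mul_le_mul_of_nonneg_left a3 h8)
  rw [Nat.cast_one, one_mul] at h9
  exact_mod_cast h9

end Cfsg.Agent.Block
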