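import Mathlib
import Cfsg.Agent.XG.Basic
import Cfsg.Agent.Grp.Fitting
import Cfsg.Agent.Solv.Wielandt
import Cfsg.Agent.S0205

/-! Point stabilizers of odd order groups acting on abelian groups of order at most `32`. -/

set_option autoImplicit false
set_option linter.unusedSectionVars false

namespace Cfsg.Agent.Block.Ols

open Cfsg Subgroup MulAction

theorem index_fix_modEq {X Y : Type*} [Group X] [Group Y] [Finite Y] [MulDistribMulAction X Y]
    {q : ℕ} [hq : Fact q.Prime] (hX : IsPGroup q X) (hY : ¬ q ∣ Nat.card Y) :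
    (FixedPoints.subgroup X Y).index ≡ 1 [MOD q] := by
  have h1 := hX.card_modEq_card_fixedPoints Y
  change _ ≡ Nat.card (FixedPoints.subgroup X Y) [MOD q] at h1
  rw [← card_mul_index (FixedPoints.subgroup X Y)] at h1 hY
  refine Nat.ModEq.cancel_left_of_coprime (c := Nat.card (FixedPoints.subgroup X Y)) ?_
    (by rwa [mul_one])
  exact (hq.out.coprime_iff_not_dvd).2 fun h => hY (h.mul_right _)

variable {E W : Type*} [Group E] [Finite E] [CommGroup W] [Finite W] [MulDistribMulAction E W]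

variable (W) in
/-- The fixed points of a subgroup. -/
abbrev Fix (H : Subgroup E) : Subgroup W := FixedPoints.subgroup H W

theorem mem_Fix {H : Subgroup E} {x : W} : x ∈ Fix W H ↔ ∀ h ∈ H, h • x = x :=
  ⟨fun h a ha => h ⟨a, ha⟩, fun h a => h a a.2⟩

theorem Fix_anti {H K : Subgroup E} (h : H ≤ K) : Fix W K ≤ Fix W H := fun _ hx =>
  mem_Fix.2 fun a ha => mem_Fix.1 hx a (h ha)

theorem eq_one_of_smul (g : E) {x : W} (h : g • x = 1) : x = 1 := by
  rw [← inv_smul_smul g x, h, smul_one]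

variable (hE : Odd (Nat.card E)) (hW : IsPGroup 2 W)
  (hf : ∀ a : E, (∀ x : W, a • x = x) → a = 1)
include hE hW hf

omit hE hW in
theorem eq_bot_of_Fix {H : Subgroup E} (h : Fix W H = ⊤) : H = ⊥ :=
  eq_bot_iff.2 fun a ha => hf a fun x => mem_Fix.1 (h.ge (mem_top x)) a ha

omit hf in
theorem exists_step {H : Subgroup E} (h : Fix W H ≠ ⊤) : ∃ K ≤ H,
    K.relIndex H < (Fix W H).index ∧ 2 * (Fix W K).index ≤ (Fix W H).index := by
  obtain ⟨x, hx⟩ : ∃ x, x ∉ Fix W H := by
    by_contra! h1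
    exact h (eq_top_iff.2 fun x _ => h1 x)
  refine ⟨H ⊓ stabilizer E x, inf_le_left, ?_, ?_⟩
  · have h1 : (H ⊓ stabilizer E x).relIndex H = Nat.card (orbit H x) := by
      rw [inf_relIndex_left, Nat.card_coe_set_eq, ← index_stabilizer]
      rfl
    have := Fintype.ofFinite (orbit H x)
    have := Fintype.ofFinite (W ⧸ Fix W H)
    rw [h1, index, Nat.card_eq_fintype_card, Nat.card_eq_fintype_card]
    refine Fintype.card_lt_of_injective_of_notMem (fun y => ((y : W) : W ⧸ Fix W H)) ?_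
      (b := 1) ?_
    · rintro ⟨_, a, rfl⟩ ⟨_, b, rfl⟩ h2
      have h3 : (b * a⁻¹) • a • x = b • x := by rw [smul_smul, inv_mul_cancel_right]
      have h4 : (a • x)⁻¹ * (b * a⁻¹) • a • x ∈ Fix W H := by
        rw [h3]; exact QuotientGroup.eq.1 h2
      exact Subtype.ext ((XG.fix_of_fix_diff hW (a := ((b * a⁻¹ : H) : E))
        (hE.of_dvd_nat (orderOf_dvd_natCard _)) (g := a • x) (h4 (b * a⁻¹))).symm.trans h3)
    · rintro ⟨⟨_, a, rfl⟩, h2⟩
      have h3 := (QuotientGroup.eq_one_iff _).1 h2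
      have h4 : a⁻¹ • a • x = a • x := h3 a⁻¹
      rw [inv_smul_smul] at h4
      exact hx (h4 ▸ h3)
  · have h1 := Fix_anti (W := W) (inf_le_left : H ⊓ stabilizer E x ≤ H)
    rw [← relIndex_mul_index h1]
    refine Nat.mul_le_mul_right _ ?_
    have h2 : (Fix W H).relIndex (Fix W (H ⊓ stabilizer E x)) ≠ 1 := fun h2 =>
      hx (relIndex_eq_one.1 h2 (mem_Fix.2 fun a ha => ha.2))
    have h3 : (Fix W H).relIndex (Fix W (H ⊓ stabilizer E x)) ≠ 0 := index_ne_zero_of_finite
    omega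

theorem eq_bot_of_index {H : Subgroup E} (h : (Fix W H).index ≤ 2) : H = ⊥ := by
  refine eq_bot_of_Fix hf (by_contra fun h1 => ?_)
  obtain ⟨K, -, h2, h3⟩ := exists_step hE hW h1
  have h4 : K.relIndex H ≠ 0 := index_ne_zero_of_finite
  have h5 := Nat.le_of_dvd (Nat.pos_of_ne_zero index_ne_zero_of_finite)
    (index_dvd_of_le (Fix_anti (W := W) (relIndex_eq_one.1 (show K.relIndex H = 1 by omega))))
  omega

theorem card_dvd_three {H : Subgroup E} (h : (Fix W H).index ≤ 4) : Nat.card H ∣ 3 := by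
  by_cases h1 : Fix W H = ⊤
  · simp [eq_bot_of_Fix hf h1]
  obtain ⟨K, -, h2, h3⟩ := exists_step hE hW h1
  rw [eq_bot_of_index hE hW hf (H := K) (by omega), relIndex_bot_left] at h2
  obtain ⟨k, hk⟩ := hE.of_dvd_nat (card_subgroup_dvd_card H)
  have : k = 0 ∨ k = 1 := by omega
  rcases this with rfl | rfl <;> simp [hk]

omit hE hf in
theorem index_eq_pow (U : Subgroup W) : ∃ j, U.index = 2 ^ j := hW.index U

omit hE hf in
theorem modEq_of_pgroup {q : ℕ} [hq : Fact q.Prime] (h2 : q ≠ 2) {H : Subgroup E}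
    (hH : IsPGroup q H) : (Fix W H).index ≡ 1 [MOD q] := index_fix_modEq hH fun h => by
  obtain ⟨n, hn⟩ := IsPGroup.iff_card.1 hW
  exact h2 ((Nat.prime_dvd_prime_iff_eq hq.out Nat.prime_two).1 (hq.out.dvd_of_dvd_pow (hn ▸ h)))

omit hE in
theorem exists_of_dvd {q : ℕ} [hq : Fact q.Prime] (h2 : q ≠ 2) {H : Subgroup E}
    (h : q ∣ Nat.card H) : ∃ g ∈ H, orderOf g = q ∧ ∃ j, j ≠ 0 ∧ 2 ^ j ≡ 1 [MOD q] ∧
      (Fix W (zpowers g)).index = 2 ^ j ∧ 2 ^ j ≤ (Fix W H).index := by
  obtain ⟨g, hg⟩ := exists_prime_orderOf_dvd_card' q h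
  rw [← orderOf_coe] at hg
  obtain ⟨j, hj⟩ := index_eq_pow hW (Fix W (zpowers (g : E)))
  refine ⟨g, g.2, hg, j, ?_, hj ▸ modEq_of_pgroup hW h2
    (IsPGroup.of_card (n := 1) (by rw [Nat.card_zpowers, hg, pow_one])), hj, hj ▸
      Nat.le_of_dvd (Nat.pos_of_ne_zero index_ne_zero_of_finite)
        (index_dvd_of_le (Fix_anti (zpowers_le.2 g.2)))⟩
  rintro rfl
  have := zpowers_eq_bot.1 (eq_bot_of_Fix hf (index_eq_one.1 hj))
  rw [this, orderOf_one] at hg
  exact hq.out.ne_one hg.symm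

theorem card_dvd_or {H : Subgroup E} (h : (Fix W H).index ≤ 8) :
    Nat.card H ∣ 3 ∨ 7 ∣ Nat.card H := by
  by_cases h1 : (Fix W H).index ≤ 4
  · exact Or.inl (card_dvd_three hE hW hf h1)
  obtain ⟨K, hK, h2, h3⟩ := exists_step hE hW (H := H) fun h => h1 (by simp [h])
  have h4 := card_dvd_three hE hW hf (H := K) (by omega)
  have h5 : Nat.card K * K.relIndex H = Nat.card H := by
    rw [← relIndex_bot_left, ← relIndex_bot_left, relIndex_mul_relIndex _ _ _ bot_le hK]
  have h6 : ¬ 5 ∣ Nat.card H := fun h6 => by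
    have : Fact (Nat.Prime 5) := ⟨by norm_num⟩
    obtain ⟨-, -, -, j, a1, a2, -, a3⟩ := exists_of_dvd hW hf (by norm_num) h6
    have : j ≤ 3 := (Nat.pow_le_pow_iff_right one_lt_two).1 (a3.trans h)
    interval_cases j <;> simp [Nat.ModEq] at a1 a2
  have h7 : Nat.card H ≠ 9 := fun h7 => by
    have : Fact (Nat.Prime 3) := ⟨by norm_num⟩
    have a2 := modEq_of_pgroup hW (q := 3) (by norm_num) (IsPGroup.of_card (n := 2) h7)
    obtain ⟨j, hj⟩ := index_eq_pow hW (Fix W H)
    rw [hj] at h h1 a2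
    have : j ≤ 3 := (Nat.pow_le_pow_iff_right one_lt_two).1 h
    interval_cases j <;> simp [Nat.ModEq] at h1 a2
  have h8 := Nat.odd_iff.1 (hE.of_dvd_nat (card_subgroup_dvd_card H))
  have h9 : K.relIndex H < 8 := by omega
  rw [← h5] at h6 h7 h8 ⊢
  generalize K.relIndex H = r at *
  rcases (Nat.dvd_prime Nat.prime_three).1 h4 with h4 | h4 <;> rw [h4] at h6 h7 h8 ⊢ <;>
    interval_cases r <;> simp at h6 h7 h8 ⊢

omit hf in
theorem fix_of_card_le {A : Subgroup W} (hA : ∀ g : E, ∀ x ∈ A, g • x ∈ A) (hc : Nat.card A ≤ 4)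
    {a : W} (ha : a ∈ A) (h1 : a = 1 → A = ⊥) : A ≤ Fix W (stabilizer E a) := by
  by_cases h2 : a = 1
  · simp [h1 h2]
  have h3 : Nat.card (zpowers a) * (zpowers a).relIndex A = Nat.card A := by
    rw [← relIndex_bot_left, ← relIndex_bot_left,
      relIndex_mul_relIndex _ _ _ bot_le (zpowers_le.2 ha)]
  have h4 := (one_lt_card_iff_ne_bot (zpowers a)).2 (mt zpowers_eq_bot.1 h2)
  have h5 : (zpowers a).relIndex A ≠ 0 := index_ne_zero_of_finite
  have h6 : (zpowers a).relIndex A ≤ 2 := by nlinarith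
  intro x hx
  refine mem_Fix.2 fun g hg => ?_
  have h7 : zpowers a ≤ XG.Fx W g := zpowers_le.2 hg
  by_cases h8 : (zpowers a).relIndex A = 1
  · exact h7 (relIndex_eq_one.1 h8 hx)
  · exact XG.fix_of_relIndex_two hW hA (by omega) (hE.of_dvd_nat (orderOf_dvd_natCard _)) h7 hx

omit hE hW hf in
theorem smul_mem_Fix (N : Subgroup E) [hN : N.Normal] (g : E) {x : W} (hx : x ∈ Fix W N) :
    g • x ∈ Fix W N := mem_Fix.2 fun n hn => by
  have := mem_Fix.1 hx _ (hN.conj_mem' n hn g)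
  rwa [mul_smul, mul_smul, inv_smul_eq_iff] at this

omit hf in
theorem exists_compl (N : Subgroup E) [hN : N.Normal] : ∃ K : Subgroup W,
    (∀ g : E, ∀ x ∈ K, g • x ∈ K) ∧ Disjoint (Fix W N) K ∧ (Fix W N).index = Nat.card K := by
  have := Fintype.ofFinite N
  let ν : W →* W := ∏ n : N, MulDistribMulAction.toMonoidHom W n
  have hν : ∀ x, ν x = ∏ n : N, n • x := fun x => by simp [ν]
  have h1 : ∀ x ∈ Fix W N, ν x = x ^ Nat.card N := fun x hx => by
    rw [hν, Finset.prod_congr rfl fun n _ => hx n, Finset.prod_const, Finset.card_univ,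
      Nat.card_eq_fintype_card]
  have h2 : (Nat.card W).Coprime (Nat.card N) := by
    obtain ⟨n, hn⟩ := IsPGroup.iff_card.1 hW
    rw [hn]
    exact (Nat.coprime_two_left.2 (hE.of_dvd_nat (card_subgroup_dvd_card N))).pow_left _
  have h3 : ν.range = Fix W N := by
    refine le_antisymm ?_ fun x hx => ?_
    · rintro _ ⟨x, rfl⟩ m
      rw [hν, Finset.smul_prod']
      exact Fintype.prod_equiv (Equiv.mulLeft m) _ _ fun n => (mul_smul _ _ _).symm
    · obtain ⟨y, hy⟩ := (powCoprime (h2.coprime_dvd_left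
        (card_subgroup_dvd_card (Fix W N)))).surjective ⟨x, hx⟩
      exact ⟨y, (h1 y y.2).trans (congrArg Subtype.val hy)⟩
  refine ⟨ν.ker, fun g x hx => ?_, disjoint_def.2 fun {x} hx hx' => ?_, ?_⟩
  · rw [MonoidHom.mem_ker, hν] at hx ⊢
    rw [← smul_one g, ← hx, Finset.smul_prod']
    refine (Fintype.prod_equiv (MulAut.conjNormal g).toEquiv _ _ fun n => ?_).symm
    change g • (n : E) • x = (g * n * g⁻¹) • g • x
    rw [smul_smul, smul_smul, inv_mul_cancel_right]
  · rw [MonoidHom.mem_ker, h1 x hx] at hx'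
    exact orderOf_eq_one_iff.1 (Nat.eq_one_of_dvd_coprimes h2 (orderOf_dvd_natCard x)
      (orderOf_dvd_of_pow_eq_one hx'))
  · have h4 := card_mul_index ν.ker
    rw [index_ker, h3, ← card_mul_index (Fix W N), mul_comm] at h4
    exact (mul_left_cancel₀ Nat.card_pos.ne' h4).symm

omit hE hW hf in
theorem index_le_of_disjoint {A B U : Subgroup W} (h : Disjoint A B) (hA : A ≤ U) (hB : B ≤ U) :
    Nat.card A * Nat.card B * U.index ≤ Nat.card W := by
  rw [← card_mul_index U, ← Nat.card_prod]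
  refine Nat.mul_le_mul_right _ (Nat.card_le_card_of_injective
    (fun x : A × B => (⟨x.1 * x.2, mul_mem (hA x.1.2) (hB x.2.2)⟩ : U)) fun x y hxy => ?_)
  exact (mul_injective_of_disjoint h) (congrArg Subtype.val hxy)

omit hE hW hf in
theorem stabilizer_mul {A B : Subgroup W} (h : Disjoint A B) (hA : ∀ g : E, ∀ x ∈ A, g • x ∈ A)
    (hB : ∀ g : E, ∀ x ∈ B, g • x ∈ B) {a b : W} (ha : a ∈ A) (hb : b ∈ B) :
    stabilizer E (a * b) ≤ stabilizer E a ⊓ stabilizer E b := fun g hg => by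
  have := mul_injective_of_disjoint h (a₁ := (⟨g • a, hA g a ha⟩, ⟨g • b, hB g b hb⟩))
    (a₂ := (⟨a, ha⟩, ⟨b, hb⟩)) ((smul_mul' g a b).symm.trans hg)
  exact ⟨congrArg (fun x : A × B => (x.1 : W)) this, congrArg (fun x : A × B => (x.2 : W)) this⟩

omit hE hW hf in
theorem exists_elt (A : Subgroup W) : ∃ a ∈ A, a = 1 → A = ⊥ := by
  by_cases h : A = ⊥
  · exact ⟨1, one_mem _, fun _ => h⟩
  · obtain ⟨a, ha⟩ := ne_bot_iff_exists_ne_one.1 h
    exact ⟨a, a.2, fun e => absurd (Subtype.ext e) ha⟩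

theorem exists_of_four_eight {A B : Subgroup W} (h : Disjoint A B)
    (hA : ∀ g : E, ∀ x ∈ A, g • x ∈ A) (hB : ∀ g : E, ∀ x ∈ B, g • x ∈ B)
    (hc : Nat.card W = Nat.card A * Nat.card B) (h4 : Nat.card A ≤ 4) (h8 : Nat.card B ≤ 8) :
    ∃ u : W, Nat.card (stabilizer E u) ∣ 3 := by
  obtain ⟨a, ha, h1⟩ := exists_elt A
  obtain ⟨b, hb, h2⟩ := exists_elt B
  have h3 := stabilizer_mul h hA hB ha hb
  have h5 : zpowers b ≤ Fix W (stabilizer E (a * b)) :=
    zpowers_le.2 (mem_Fix.2 fun g hg => (h3 hg).2)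
  have h6 := index_le_of_disjoint (h.mono_right (zpowers_le.2 hb))
    ((fix_of_card_le hE hW hA h4 ha h1).trans (Fix_anti (h3.trans inf_le_left))) h5
  refine ⟨a * b, card_dvd_three hE hW hf ?_⟩
  rw [hc, mul_assoc] at h6
  have h7 := Nat.le_of_mul_le_mul_left h6 Nat.card_pos
  by_cases h9 : b = 1
  · rw [h2 h9, card_bot] at h7
    have := Nat.card_pos (α := zpowers b)
    nlinarith
  · have := (one_lt_card_iff_ne_bot (zpowers b)).2 (mt zpowers_eq_bot.1 h9)
    nlinarith

omit hE hW hf in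
theorem relIndex_stabilizer_lt {K : Subgroup W} (hK : ∀ g : E, ∀ x ∈ K, g • x ∈ K) {u : W}
    (hu : u ∈ K) (h1 : u ≠ 1) (N : Subgroup E) :
    (stabilizer E u).relIndex N < Nat.card K := by
  have h2 : (stabilizer E u).relIndex N = Nat.card (orbit N u) := by
    rw [Nat.card_coe_set_eq, ← index_stabilizer]
    rfl
  have := Fintype.ofFinite (orbit N u)
  have := Fintype.ofFinite K
  rw [h2, Nat.card_eq_fintype_card, Nat.card_eq_fintype_card]
  refine Fintype.card_lt_of_injective_of_notMem (fun y => (⟨y, by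
    obtain ⟨_, n, rfl⟩ := y
    exact hK n u hu⟩ : K)) (fun x y h => Subtype.ext (congrArg (fun z : K => (z : W)) h))
    (b := 1) ?_
  rintro ⟨⟨_, n, rfl⟩, h3⟩
  exact h1 (eq_one_of_smul (n : E) (congrArg Subtype.val h3))

theorem exists_of_sixteen {r : ℕ} (hr : r = 3 ∨ r = 5) {N : Subgroup E} [N.Normal]
    (hN : IsPGroup r N) {K : Subgroup W} (hK : ∀ g : E, ∀ x ∈ K, g • x ∈ K)
    (h : Disjoint (Fix W N) K) (hc : (Fix W N).index = 16) (hK' : Nat.card K = 16)
    (hF : Nat.card (Fix W N) ≤ 2) : ∃ u : W, Nat.card (stabilizer E u) ∣ 3 := by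
  have h77 : Fact (Nat.Prime 7) := ⟨by norm_num⟩
  have hrp : Fact r.Prime := ⟨by rcases hr with rfl | rfl <;> norm_num⟩
  obtain ⟨u, hu, h1⟩ := exists_elt K
  have hu1 : u ≠ 1 := fun e => by simp [h1 e] at hK'
  have h2 : Fix W N ≤ Fix W (⊤ : Subgroup E) := fun x hx => mem_Fix.2 fun g _ => by
    by_cases h3 : x = 1
    · rw [h3, smul_one]
    have h4 : g • x ≠ 1 := mt (eq_one_of_smul g) h3
    have h5 : Nat.card (Fix W N) = 2 := le_antisymm hF ((one_lt_card_iff_ne_bot _).2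
      (ne_bot_iff_exists_ne_one.2 ⟨⟨x, hx⟩, fun e => h3 (congrArg Subtype.val e)⟩))
    obtain ⟨y, -, hy⟩ := (Nat.card_eq_two_iff' (1 : Fix W N)).1 h5
    exact congrArg Subtype.val ((hy ⟨_, smul_mem_Fix N g hx⟩
      fun e => h4 (congrArg Subtype.val e)).trans
        (hy ⟨x, hx⟩ fun e => h3 (congrArg Subtype.val e)).symm)
  have h3 := (one_lt_card_iff_ne_bot (zpowers u)).2 (mt zpowers_eq_bot.1 hu1)
  have h4 : ∀ (H : Subgroup E) (L : Subgroup W), L ≤ K → L ≤ Fix W H →
      Nat.card L * (Fix W H).index ≤ 16 := fun H L a b => by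
    have h5 := index_le_of_disjoint (h.mono_right a) (h2.trans (Fix_anti le_top)) b
    rw [← card_mul_index (Fix W N), hc, mul_assoc] at h5
    exact Nat.le_of_mul_le_mul_left h5 Nat.card_pos
  have h5 : ∀ H ≤ stabilizer E u, (Fix W H).index ≤ 8 := fun H hH => by
    have := h4 H _ (zpowers_le.2 hu) (zpowers_le.2 (mem_Fix.2 hH))
    nlinarith
  refine ⟨u, (card_dvd_or hE hW hf (h5 _ le_rfl)).resolve_right fun h6 => ?_⟩
  obtain ⟨x, hx, h7, j, a1, a2, a3, a4⟩ := exists_of_dvd hW hf (by norm_num) h6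
  have a5 : j ≤ 3 := (Nat.pow_le_pow_iff_right one_lt_two).1 (a4.trans (h5 _ le_rfl))
  have a6 : (Fix W (zpowers x)).index = 8 := by
    rw [a3]
    interval_cases j <;> simp [Nat.ModEq] at a1 a2 ⊢
  obtain ⟨m, hm⟩ := IsPGroup.iff_card.1 hN
  have h8 : Nat.card N ≤ 45 := by
    have b1 : Nat.card (N ⊓ stabilizer E u : Subgroup E) * (stabilizer E u).relIndex N =
        Nat.card N := by
      rw [← inf_relIndex_left N, ← relIndex_bot_left, ← relIndex_bot_left,
        relIndex_mul_relIndex _ _ _ bot_le inf_le_left]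
    have b2 := relIndex_stabilizer_lt hK hu hu1 N
    have b3 := (card_dvd_or hE hW hf (h5 (N ⊓ stabilizer E u) inf_le_right)).resolve_right
      fun b3 => by
        have b4 := (Nat.prime_dvd_prime_iff_eq h77.out hrp.out).1
          (h77.out.dvd_of_dvd_pow (hm ▸ b3.trans (card_dvd_of_le inf_le_left)))
        omega
    have := Nat.le_of_dvd three_pos b3
    nlinarith
  have h9 : ∀ n ∈ N, x * n = n * x := by
    let := MulDistribMulAction.compHom N
      ((MulAut.conjNormal (H := N)).comp (zpowers x).subtype)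
    have b1 := index_fix_modEq (X := zpowers x) (Y := N) (q := 7)
      (IsPGroup.of_card (n := 1) (by rw [Nat.card_zpowers, h7, pow_one])) fun b1 => by
        have b4 := (Nat.prime_dvd_prime_iff_eq h77.out hrp.out).1
          (h77.out.dvd_of_dvd_pow (hm ▸ b1))
        omega
    obtain ⟨i, hi⟩ := hN.index (FixedPoints.subgroup (zpowers x) N)
    have b2 := (Nat.le_of_dvd Nat.card_pos
      (FixedPoints.subgroup (zpowers x) N).index_dvd_card).trans h8
    rw [hi] at b1 b2
    have b3 : i < 4 := by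
      by_contra b3
      have := Nat.pow_le_pow_right (show 0 < r by omega) (not_lt.1 b3)
      rcases hr with rfl | rfl <;> omega
    have b4 : i = 0 := by
      rcases hr with rfl | rfl <;> interval_cases i <;> simp [Nat.ModEq] at b1 ⊢
    rw [b4, pow_zero, index_eq_one] at hi
    intro n hn
    exact mul_inv_eq_iff_eq_mul.1 (congrArg Subtype.val
      ((hi.ge (mem_top _) : (⟨n, hn⟩ : N) ∈ FixedPoints.subgroup (zpowers x) N) ⟨x, mem_zpowers x⟩))
  have h10 := h4 (zpowers x) (K ⊓ Fix W (zpowers x)) inf_le_left inf_le_right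
  have h11 : zpowers u = K ⊓ Fix W (zpowers x) := eq_of_le_of_card_ge
    (zpowers_le.2 ⟨hu, mem_Fix.2 (zpowers_le.2 hx)⟩) (by rw [a6] at h10; omega)
  refine hu1 (disjoint_def.1 h (mem_Fix.2 fun n hn => ?_) hu)
  have h12 : Nat.card (zpowers u) = 2 := by rw [a6, ← h11] at h10; omega
  obtain ⟨y, -, hy⟩ := (Nat.card_eq_two_iff' (1 : zpowers u)).1 h12
  have h13 : n • u ∈ zpowers u := h11 ▸ ⟨hK n u hu, mem_Fix.2 (show zpowers x ≤ stabilizer E _ from
    zpowers_le.2 (by rw [mem_stabilizer_iff, smul_smul, h9 n hn, mul_smul, hx]))⟩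
  exact congrArg Subtype.val ((hy ⟨_, h13⟩ fun e => hu1 (eq_one_of_smul n
    (congrArg Subtype.val e))).trans
      (hy ⟨u, mem_zpowers u⟩ fun e => hu1 (congrArg Subtype.val e)).symm)

theorem exists_of_thirtyOne {N : Subgroup E} [N.Normal] (hN : IsPGroup 31 N)
    (hc : Nat.card W = 32) (h : Fix W N = ⊥) :
    ∃ u : W, u ≠ 1 ∧ Nat.card (stabilizer E u) ∣ 5 := by
  have h31 : Fact (Nat.Prime 31) := ⟨by norm_num⟩
  obtain ⟨u, hu⟩ := exists_prime_orderOf_dvd_card' (G := W) 2 (by rw [hc]; norm_num)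
  have hu1 : u ≠ 1 := fun e => by simp [e] at hu
  have h1 : N ⊓ stabilizer E u = ⊥ := by
    have a1 := modEq_of_pgroup hW (by norm_num) (hN.to_inf_left (K := stabilizer E u))
    have a2 := index_dvd_of_le (show zpowers u ≤ Fix W (N ⊓ stabilizer E u) from
      zpowers_le.2 (mem_Fix.2 fun g hg => hg.2))
    have a3 := card_mul_index (zpowers u)
    rw [Nat.card_zpowers, hu, hc] at a3
    have a4 := Nat.le_of_dvd (by omega) a2
    exact eq_bot_of_Fix hf (index_eq_one.1 (a1.eq_of_lt_of_lt (by omega) (by norm_num)))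
  have h2 : Nat.card N = 31 := by
    have a1 := relIndex_stabilizer_lt (K := ⊤) (fun _ _ _ => trivial) (mem_top u) hu1 N
    rw [← inf_relIndex_left N, h1, relIndex_bot_left, card_top, hc] at a1
    obtain ⟨m, hm⟩ := IsPGroup.iff_card.1 hN
    rcases m with _ | _ | m
    · rw [card_eq_one.1 hm] at h
      exact absurd (mem_bot.1 (h.le (mem_Fix.2 fun g hg => by rw [mem_bot.1 hg, one_smul]))) hu1
    · exact hm
    · have := Nat.pow_le_pow_right (show 0 < 31 by norm_num) (show 2 ≤ m + 1 + 1 by omega)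
      omega
  have h3 : ∀ v : W, v ≠ 1 → ∃ n ∈ N, n • u = v := fun v hv => by
    classical
    have := Fintype.ofFinite W
    have a1 : Function.Bijective fun n : N => (⟨(n : E) • u, mt (eq_one_of_smul _) hu1⟩ :
        {w : W // w ≠ 1}) := (Nat.bijective_iff_injective_and_card _).2 ⟨fun a b hab => by
      have a2 : ((a⁻¹ * b : N) : E) ∈ N ⊓ stabilizer E u := ⟨(a⁻¹ * b).2, by
        change ((a : E)⁻¹ * b) • u = u
        rw [mul_smul, inv_smul_eq_iff]
        exact (congrArg Subtype.val hab).symm⟩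
      rw [h1] at a2
      exact inv_mul_eq_one.1 (Subtype.ext a2), by
      rw [h2, Nat.card_eq_fintype_card, Fintype.card_subtype_compl, Fintype.card_subtype_eq,
        ← Nat.card_eq_fintype_card, hc]⟩
    obtain ⟨n, hn⟩ := a1.2 ⟨v, hv⟩
    exact ⟨n, n.2, congrArg Subtype.val hn⟩
  have h4 : ∀ g ∈ stabilizer E u, (∀ n ∈ N, g * n = n * g) → g = 1 := fun g hg a => hf g fun v => by
    by_cases hv : v = 1
    · rw [hv, smul_one]
    obtain ⟨n, hn, rfl⟩ := h3 v hv
    rw [smul_smul, a n hn, mul_smul, hg]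
  have h5 : Nat.card (stabilizer E u) ∣ 6 * 5 := by
    have a1 := card_dvd_of_injective ((MulAut.conjNormal (H := N)).comp (stabilizer E u).subtype)
      ((injective_iff_map_eq_one _).2 fun g hg => Subtype.ext (h4 g g.2 fun n hn =>
        mul_inv_eq_iff_eq_mul.1 (congrArg (fun φ : MulAut N => (φ ⟨n, hn⟩ : E)) hg)))
    have := isCyclic_of_prime_card h2
    rwa [IsCyclic.card_mulAut, h2, Nat.totient_prime h31.out] at a1
  refine ⟨u, hu1, Nat.Coprime.dvd_of_dvd_mul_left (Nat.Coprime.mul_right (m := 2) (n := 3)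
    (Nat.coprime_two_right.2 (hE.of_dvd_nat (card_subgroup_dvd_card _)))
    ((Nat.prime_three.coprime_iff_not_dvd.2 fun h6 => ?_).symm)) h5⟩
  have : Fact (Nat.Prime 3) := ⟨by norm_num⟩
  obtain ⟨g, hg⟩ := exists_prime_orderOf_dvd_card' 3 h6
  have := isCyclic_of_prime_card h2
  have h7 := Solv.Wielandt.formula_card 2 (A := E) (Q := W) (fun v => by
      by_cases hv : v = 1
      · rw [hv, one_pow]
      obtain ⟨n, -, rfl⟩ := h3 v hv
      rw [← smul_pow', ← hu, pow_orderOf_eq_one, smul_one])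
    (fun a => MulDistribMulAction.toMonoidHom W a) (fun v => one_smul E v)
    (fun a b v => mul_smul a b v) hE.not_two_dvd_nat N (zpowers (g : E))
    (isSolvable_of_comm fun a b => IsCyclic.commGroup.mul_comm a b) fun a ha a1 n hn a2 => by
      by_contra a3
      refine a1 (h4 a (zpowers_le.2 g.2 ha) fun m hm => ?_)
      have a4 : zpowers n = N := eq_of_le_of_card_ge (zpowers_le.2 hn) (by
        rcases (Nat.dvd_prime h31.out).1 (h2 ▸ card_dvd_of_le (zpowers_le.2 hn)) with b | b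
        · exact absurd (zpowers_eq_bot.1 (card_eq_one.1 b)) a3
        · omega)
      obtain ⟨k, rfl⟩ := a4.ge hm
      exact (Commute.zpow_right a2 k).eq
  have h8 : ∀ H : Subgroup E, N ≤ H →
      Nat.card {q : W | ∀ a ∈ H, MulDistribMulAction.toMonoidHom W a q = q} = 1 := fun H hH => by
    rw [← card_bot (G := W), ← le_bot_iff.1 (h ▸ Fix_anti (W := W) hH)]
    exact Nat.card_congr (Equiv.subtypeEquivRight fun x => mem_Fix.symm)
  rw [h8 _ le_sup_left, h8 _ le_rfl, Nat.card_zpowers, orderOf_coe, hg, hc] at h7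
  generalize Nat.card {q : W | ∀ a ∈ zpowers (g : E),
    MulDistribMulAction.toMonoidHom W a q = q} = m at h7
  have h9 : m ≤ 3 := by
    by_contra h9
    have : 4 ^ 3 ≤ m ^ 3 := Nat.pow_le_pow_left (not_le.1 h9) 3
    omega
  interval_cases m <;> simp at h7

theorem exists_small_stabilizer (hc : Nat.card W ≤ 32) :
    ∃ u : W, Nat.card (stabilizer E u) ∣ 3 ∨ u ≠ 1 ∧ Nat.card (stabilizer E u) ∣ 5 := by
  by_cases hE1 : Nontrivial E
  swap
  · have := not_nontrivial_iff_subsingleton.1 hE1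
    exact ⟨1, Or.inl (by simp)⟩
  have := S0205.result hE
  obtain ⟨r, hr, h1⟩ := Grp.exists_pCore_ne_bot E
  have := Fact.mk hr
  have hN : IsPGroup r (pCore r E) := Grp.pCore_isPGroup r E
  have h2 : r ≠ 2 := by
    rintro rfl
    obtain ⟨m, hm⟩ := IsPGroup.iff_card.1 hN
    have h3 := hE.of_dvd_nat (card_subgroup_dvd_card (pCore 2 E))
    rw [hm] at h3
    rcases m with _ | m
    · exact h1 (card_eq_one.1 hm)
    · exact absurd h3 (by simp [pow_succ])
  obtain ⟨K, h3, h4, h5⟩ := exists_compl hE hW (pCore r E)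
  have h6 := modEq_of_pgroup hW h2 hN
  have h7 := card_mul_index (Fix W (pCore r E))
  obtain ⟨j, hj⟩ := index_eq_pow hW (Fix W (pCore r E))
  have h8 := Nat.card_pos (α := Fix W (pCore r E))
  have h9 : j ≤ 5 := (Nat.pow_le_pow_iff_right one_lt_two).1 (by nlinarith)
  have h10 : r ∣ 2 ^ j - 1 := (Nat.modEq_iff_dvd' Nat.one_le_two_pow).1 (hj ▸ h6).symm
  have hF := fun (g : E) (x : W) => smul_mem_Fix (W := W) (pCore r E) g (x := x)
  rw [hj] at h7
  rw [hj] at h5
  interval_cases j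
  · exact absurd (eq_bot_of_Fix hf (index_eq_one.1 hj)) h1
  · exact absurd (Nat.dvd_one.1 h10) hr.ne_one
  · exact (exists_of_four_eight hE hW hf h4.symm h3 hF (by rw [← h5, ← h7, mul_comm]) h5.ge
      (by omega)).imp fun _ => Or.inl
  · exact (exists_of_four_eight hE hW hf h4 hF h3 (by rw [← h5, h7]) (by omega) h5.ge).imp
      fun _ => Or.inl
  · refine (exists_of_sixteen hE hW hf ?_ hN h3 h4 hj h5.symm (by omega)).imp fun _ => Or.inl
    rcases (Nat.Prime.dvd_mul hr (m := 3) (n := 5)).1 h10 with h | h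
    · exact Or.inl ((Nat.prime_dvd_prime_iff_eq hr (by norm_num)).1 h)
    · exact Or.inr ((Nat.prime_dvd_prime_iff_eq hr (by norm_num)).1 h)
  · obtain rfl := (Nat.prime_dvd_prime_iff_eq hr (by norm_num : Nat.Prime 31)).1 h10
    exact (exists_of_thirtyOne hE hW hf hN (by omega) (card_eq_one.1 (by omega))).imp
      fun _ => Or.inr

end Cfsg.Agent.Block.Ols
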