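import Mathlib
import Cfsg.Agent.Block.OlsFive
import Cfsg.Agent.Block.OlsOrb

/-! Height zero characters of 2-blocks with abelian defect groups of order at most `32`. -/

set_option autoImplicit false
set_option linter.unusedSectionVars false
set_option linter.style.haveILetI false

namespace Cfsg.Agent.Block

open Cfsg Cfsg.Agent.Char Subgroup

variable {G : Type*} [Group G] [Finite G] {M : Ideal AlgInt}
  {B : Set (IrrCharacter G)} {P : Subgroup G} {e : MonoidAlgebra (resField M) G}

theorem card_stabilizer_nrho (u : P) : Nat.card (MulAction.stabilizer (nrho P e).range u) =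
    (centralizer (P : Set G)).relIndex (Alg.nst ⊤ P e ⊓ centralizer {(u : G)}) := by
  have h1 : MulAction.stabilizer (nrho P e).range u = ((Alg.nst ⊤ P e ⊓
      centralizer {(u : G)}).subgroupOf (Alg.nst ⊤ P e)).map (nrho P e).rangeRestrict := by
    ext a
    obtain ⟨t, rfl⟩ := (nrho P e).rangeRestrict_surjective a
    constructor
    · exact fun h => ⟨t, ⟨t.2, mem_centralizer_singleton_iff.2
        (mul_inv_eq_iff_eq_mul.1 (congrArg Subtype.val h))⟩, rfl⟩
    · rintro ⟨s, hs, h⟩
      rw [← h]
      exact Subtype.ext (mul_inv_eq_iff_eq_mul.2 (mem_centralizer_singleton_iff.1 hs.2))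
  rw [h1, ← relIndex_bot_left, ← relIndex_comap, ← relIndex_subgroupOf inf_le_left]
  congr 1
  ext t
  rw [MonoidHom.comap_bot, MonoidHom.ker_rangeRestrict, mem_ker_nrho, mem_subgroupOf]

theorem MP.kz_le_of_comm (h : MP 2 B P e) (hab : P ≤ centralizer (P : Set G))
    (hc : Nat.card P ≤ 32) : kz 2 B ≤ Nat.card P := by
  have := charP_resField h.hM
  have h1 : Odd (Nat.card (nrho P e).range) := by
    have h2 := h.hm.not_dvd_relIndex
    rw [top_inf_eq, sup_eq_left.2 hab] at h2
    rwa [← index_ker, index_ker_nrho, ← Nat.not_even_iff_odd, even_iff_two_dvd]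
  letI : CommGroup P := { (inferInstance : Group P) with mul_comm := comm_of_le_centralizer hab }
  obtain ⟨u, h2 | ⟨h2, h3⟩⟩ := Ols.exists_small_stabilizer (W := P) h1 h.pgroup
    (fun a ha => Subtype.ext (MulEquiv.ext ha)) hc
  · exact h.kz_le_of_three hab u.2 (card_stabilizer_nrho u ▸ h2)
  · exact h.kz_le_of_five hab hc u.2 (fun e => h2 (Subtype.ext e)) (card_stabilizer_nrho u ▸ h3)

end Cfsg.Agent.Block
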