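import Mathlib
import Cfsg.Agent.Block.OlsAb
import Cfsg.Agent.Block.QSD

/-! Bounds for the number of height zero characters of a 2-block from a single subsection. -/

set_option autoImplicit false
set_option linter.unusedSectionVars false
set_option linter.style.haveILetI false

namespace Cfsg.Agent.Block

open Cfsg Cfsg.Agent.Char Subgroup Cfsg.Agent.Block.Tame
open Cfsg.Agent.Block.DihBlock (E cf E_eq_one_iff)
open scoped ComplexConjugate

variable {G : Type*} [Group G] [Finite G] {M : Ideal AlgInt}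
  {B : Set (IrrCharacter G)} {P : Subgroup G} {e : MonoidAlgebra (resField M) G}

theorem MP.rank_le_three (h : MP 2 B P e) (hc : Nat.card P ≤ 4) : blockRank 2 B ≤ 3 := by
  have := charP_resField h.hM
  have hab : P ≤ centralizer (P : Set G) := by
    obtain ⟨n, hn⟩ := IsPGroup.iff_card.1 h.pgroup
    have h1 : n ≤ 2 := (Nat.pow_le_pow_iff_right one_lt_two).1 (hn ▸ hc)
    have h2 : ∀ x y : P, x * y = y * x := by
      interval_cases n
      · have := (Nat.card_eq_one_iff_unique.1 hn).1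
        exact fun _ _ => Subsingleton.elim _ _
      · exact (isCyclic_of_prime_card (p := 2) hn).commutative.1.1
      · exact (IsPGroup.commGroupOfCardEqPrimeSq (p := 2) hn).mul_comm
    exact fun x hx y hy => congrArg Subtype.val (h2 ⟨y, hy⟩ ⟨x, hx⟩)
  have h1 : Odd (Nat.card (nrho P e).range) := by
    have h2 := h.hm.not_dvd_relIndex
    rw [top_inf_eq, sup_eq_left.2 hab] at h2
    rwa [← index_ker, index_ker_nrho, ← Nat.not_even_iff_odd, even_iff_two_dvd]
  letI : CommGroup P := { (inferInstance : Group P) with mul_comm := comm_of_le_centralizer hab }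
  have h2 := Ols.card_dvd_three (W := P) h1 h.pgroup (fun a ha => Subtype.ext (MulEquiv.ext ha))
    (H := ⊤) ((Nat.le_of_dvd Nat.card_pos (index_dvd_card _)).trans hc)
  rw [card_top, ← index_ker, index_ker_nrho] at h2
  exact rank_le_of_inI_dvd Nat.prime_three _ h hab rfl h2

theorem MP.kz_le_of_fc (h : MP 2 B P e) {u : G} (hu : u ∈ P) {n : ℕ} (hn : n ≤ 4 * orderOf u)
    (hC : ∀ w, PF 2 P e u w → Nat.card (P ⊓ centralizer ({w} : Set G) : Subgroup G) ≤ n) :
    kz 2 B ≤ n := by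
  obtain ⟨v, hv, hm⟩ := Set.Finite.exists_maximalFor
    (fun w => Nat.card (P ⊓ centralizer ({w} : Set G) : Subgroup G)) {w | PF 2 P e u w}
    (Set.toFinite _) ⟨u, h.pf_refl hu⟩
  have hfc : ∀ w, PF 2 P e v w → Nat.card (P ⊓ centralizer ({w} : Set G) : Subgroup G) ≤
      Nat.card (P ⊓ centralizer ({v} : Set G) : Subgroup G) := fun w hw =>
    (le_total _ _).elim id (hm (h.pf_trans hv hw))
  have hvP := PF.right hv
  refine (h.kz_le_of_rank hvP ?_).trans (h.pow_defect_local hvP hfc ▸ hC v hv)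
  have h1 := ((isDef_bar_subtype_iff' h.hM (h.block hvP)).1 (h.isDef_local hvP hfc)).2
  have h2 : IsPGroup 2 (zpowers (cself v)) :=
    orderOf_eq_pow_iff_isPGroup.1 (by simpa only [← orderOf_coe] using h.order hvP)
  have h3 : ∀ x ∈ zpowers (cself v), ∀ y, ¬ 2 ∣ orderOf y → Commute x y := fun x hx y _ =>
    (mem_center_iff.1 (zpowers_cself_le v hx) y).symm
  obtain ⟨f, hf⟩ := exists_MP h.hM (isPBlock_domSet_of_commute h.hM h2 h3 (h.block hvP))
    (isDefectGroup_domSet_of_commute h.hM h2 h3 (h.block hvP) h1)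
  rw [← rank_domSet_cself h.hM (h.order hvP) (h.block hvP)]
  refine hf.rank_le_three ?_
  have h4 := card_map_cself (z := v) (D := (P ⊓ centralizer {v}).subgroupOf (centralizer {v}))
    ⟨hvP, (cself v).2⟩
  rw [Nat.card_congr (subgroupOfEquivOfLe inf_le_right).toEquiv] at h4
  have h5 := (h4.le.trans (hC v hv)).trans hn
  rw [hv.orderOf_eq, mul_comm 4] at h5
  exact Nat.le_of_mul_le_mul_left h5 (orderOf_pos v)

theorem MP.kz_le_eight (h : MP 2 B P e) {u t : G} (hu : u ∈ P) (ht : t ∈ P) (ho : orderOf u = 8)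
    (hc : Nat.card (P ⊓ centralizer ({u} : Set G) : Subgroup G) = 16)
    (hfc : ∀ w ∈ P, orderOf w = 8 → Nat.card (P ⊓ centralizer ({w} : Set G) : Subgroup G) ≤ 16)
    {r : ℕ} (hr : r = 3 ∨ r = 7) (hρ : t * u * t⁻¹ = u ^ r)
    (hN : ∀ g ∈ P, g * u * g⁻¹ = u ∨ g * u * g⁻¹ = u ^ r) : kz 2 B ≤ 8 := by
  classical
  have := Fintype.ofFinite B
  have hfc' : ∀ w, PF 2 P e u w → Nat.card (P ⊓ centralizer ({w} : Set G) : Subgroup G) ≤
      Nat.card (P ⊓ centralizer ({u} : Set G) : Subgroup G) := fun w hw =>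
    hc ▸ hfc w hw.right (hw.orderOf_eq ▸ ho)
  have hle : zpowers u ≤ P ⊓ centralizer {u} :=
    zpowers_le.2 ⟨hu, mem_centralizer_singleton_iff.2 rfl⟩
  have hi : (zpowers u).relIndex (P ⊓ centralizer {u}) = 2 := by
    have h1 := card_mul_index ((zpowers u).subgroupOf (P ⊓ centralizer {u}))
    rw [Nat.card_congr (subgroupOfEquivOfLe hle).toEquiv, Nat.card_zpowers, ho, hc] at h1
    change 8 * (zpowers u).relIndex _ = 16 at h1
    omega
  have hl : blockRank 2 (lblk 2 P e u) = 1 := by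
    refine blockRank_eq_one_of_nilpotent h.hM (h.nilpotent_local hu hfc' fun Q hQ x hx hxQ hxo =>
      Alg.mem_centralizer_of_comm (h.pgroup.to_le (hQ.trans inf_le_left)) hxo hxQ fun q hq => ?_)
    have h1 : ∀ y ∈ zpowers u, Commute x y := by
      rintro _ ⟨m, rfl⟩
      exact Commute.zpow_right (mem_centralizer_singleton_iff.1 hx) m
    refine h1 _ ?_
    by_cases h2 : q ∈ zpowers u
    · rw [(h1 q h2).eq]
      simp
    · have h3 : x * q * x⁻¹ ∈ Q := (mem_normalizer_iff.1 hxQ q).1 hq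
      refine (mul_mem_iff_of_index_two hi (a := ⟨_, hQ h3⟩) (b := ⟨_, hQ (Q.inv_mem hq)⟩)).2 ?_
      refine iff_of_false (fun h4 => h2 ?_) fun h4 => h2 (inv_mem_iff.1 h4)
      have h5 := (h1 _ h4).eq
      have h6 : x * q * x⁻¹ = q := by simpa [mul_assoc] using h5
      exact h6 ▸ h4
  have hu8 : u ^ 8 = 1 := ho ▸ pow_orderOf_eq_one u
  have hz : ∀ m : ℕ, Odd m → zpowers (u ^ m) = zpowers u := fun m hm =>
    le_antisymm (zpowers_le.2 (pow_mem (mem_zpowers u) m)) (zpowers_le.2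
      (mem_zpowers_pow_iff.2 (by
        rw [ho]
        exact Nat.Coprime.pow_right 3 (Nat.coprime_two_right.2 hm))))
  have hC : ∀ m : ℕ, Odd m → centralizer ({u ^ m} : Set G) = centralizer {u} := fun m hm => by
    rw [← centralizer_zpowers_eq, hz m hm, centralizer_zpowers_eq]
  have hro : Odd r := by rcases hr with rfl | rfl <;> decide
  have hpf : PF 2 P e u (u ^ r) := hρ ▸ h.pf_conj hu ht
  have hnp : ¬ PF 2 P e u (u ^ 5) := fun h1 => by
    obtain ⟨g, hg, h2⟩ := h.exists_of_pf h1 (hz 5 (by decide)) (fun g hg => by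
      refine mem_normalizer_fintype ?_
      rintro _ ⟨m, rfl⟩
      rw [← conj_zpow]
      refine zpow_mem ?_ m
      rcases hN g hg with h2 | h2 <;> rw [h2]
      exacts [mem_zpowers u, pow_mem (mem_zpowers u) r]) fun x hx hxo => by
        rw [← centralizer_zpowers_eq]
        exact mem_centralizer_of_le_zpowers (n := 3) ho le_rfl hx hxo
    have h3 : ∀ m, u ^ 5 = u ^ m → 5 ≡ m [MOD 8] := fun m hm => ho ▸ pow_eq_pow_iff_modEq.1 hm
    rcases hN g hg with h4 | h4
    · exact absurd (h3 1 (by rw [← h2, h4, pow_one])) (by decide)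
    · rcases hr with rfl | rfl <;> exact absurd (h3 _ (h2.symm.trans h4)) (by decide)
  have hζ := Complex.isPrimitiveRoot_exp (2 ^ (2 + 1)) (by positivity)
  let F : B → ZMod (2 ^ (2 + 1)) → ℂ := fun χ i =>
    gdn _ (u ^ i.val) (χ.1 : G → ℂ) (rpim M (lblk 2 P e u))
  have hint : ∀ χ j, ∃ n : ℤ, cf hζ (F χ) j = n := fun χ =>
    Dih.exists_int_cf_gen hζ (isGen_gdn_zpowers rfl χ.1.2.isGen (h.proj hu).gen)
      (r := fun i => ⟨u ^ i.val, pow_mem (mem_zpowers u) _⟩) (σ := ⟨u, mem_zpowers _⟩)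
      (by rw [orderOf_mk, ho]; rfl) fun i => Subtype.ext (by simp)
  choose N hN' using hint
  have hF : ∀ χ i, F χ ((r : ZMod (2 ^ (2 + 1))) * i) = F χ i := fun χ i => by
    have h1 := h.gdn_pow_eq hpf (hC r hro) hl χ.1.2.isClassFunction i.val
    rw [← pow_mul] at h1
    simp only [F]
    rw [← h1]
    congr 1
    rw [pow_eq_pow_iff_modEq, ho, ZMod.val_mul, ZMod.val_natCast]
    exact (Nat.mod_modEq _ _).trans ((Nat.mod_modEq _ _).mul_right _)
  have hE : ∀ i : ZMod (2 ^ (2 + 1)), E hζ (i * 2 ^ 2) = if i * 2 ^ 2 = 0 then 1 else -1 :=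
    fun i => by
      obtain ⟨s, hs, hs'⟩ := Dih.exists_E_h hζ i
      split_ifs with h1
      · rw [h1, AddChar.map_zero_eq_one]
      · rcases hs with rfl | rfl
        · rw [Int.cast_one, E_eq_one_iff] at hs'
          exact absurd hs' h1
        · simpa using hs'
  have h1 : ∀ χ : B, F χ 1 = pd 2 P e u (χ.1 : G → ℂ) := fun χ => by
    simp only [F, show (1 : ZMod (2 ^ (2 + 1))).val = 1 from rfl, pow_one]
    rfl
  have h5 : ∀ χ : B, F χ 5 = pd 2 P e (u ^ 5) (χ.1 : G → ℂ) := fun χ =>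
    (h.pd_eq_of_centralizer_eq hu (P.pow_mem hu 5) (hC 5 (by decide)) hl _).symm
  have ha : ∀ χ : B, (N χ (2 ^ 2) : ℂ) =
      (pd 2 P e u (χ.1 : G → ℂ) + pd 2 P e (u ^ 5) (χ.1 : G → ℂ)) / 2 := fun χ => by
    have h2 : F χ 3 + F χ 7 = F χ 1 + F χ 5 := by
      rcases hr with rfl | rfl
      · rw [← hF χ 1, ← hF χ 5]
        rfl
      · rw [← hF χ 1, ← hF χ 5, add_comm]
        rfl
    rw [← hN', cf, ← h1, ← h5]
    simp only [hE]
    change _ * ∑ i : Fin 8, _ = _
    rw [Fin.sum_univ_eight]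
    iterate 4 rw [if_pos (by decide), if_neg (by decide)]
    change _ * (F χ 0 * _ + F χ 1 * _ + F χ 2 * _ + F χ 3 * _ + F χ 4 * _ + F χ 5 * _ + F χ 6 * _ +
      F χ 7 * _) = _
    push_cast
    linear_combination h2 / 4
  have hs : ∑ χ : B, N χ (2 ^ 2) * N χ (2 ^ 2) = 8 := by
    have hl5 := (h.rank_eq_of_centralizer_eq hu (P.pow_mem hu 5) (hC 5 (by decide))).trans hl
    have a1 := h.finsum_pd_of_pf (h.pf_refl hu) hl
    have a2 := h.finsum_pd_of_pf (h.pf_refl (P.pow_mem hu 5)) hl5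
    have a3 := h.finsum_pd_of_not_pf hu (P.pow_mem hu 5) hnp
    have a4 := h.finsum_pd_of_not_pf (P.pow_mem hu 5) hu fun h2 => hnp h2.symm
    rw [h.defect_eq_of_centralizer_eq hu (P.pow_mem hu 5) (hC 5 (by decide))] at a2
    rw [finsum_mem_eq_sum_coe] at a1 a2 a3 a4
    rw [← Nat.cast_pow, h.pow_defect_local hu hfc', hc] at a1 a2
    have a5 : ∑ χ : B, (N χ (2 ^ 2) : ℂ) * conj (N χ (2 ^ 2) : ℂ) = 8 := by
      simp only [ha, map_div₀, map_add, map_ofNat, div_mul_div_comm, add_mul, mul_add,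
        ← Finset.sum_div, Finset.sum_add_distrib, a1, a2, a3, a4]
      norm_num
    simp only [map_intCast] at a5
    exact_mod_cast a5
  have hodd : ∀ χ : B, blockHeight 2 B (χ.1 : G → ℂ) = 0 → N χ (2 ^ 2) ≠ 0 := fun χ h0 h2 => by
    have h3 := QSD.val_sub_cf_lt h.hM hζ (ρ := r) (by rcases hr with rfl | rfl <;> decide)
      (by rcases hr with rfl | rfl <;> decide) (hF χ) (hN' χ)
    rw [h2, h1, Int.cast_zero, sub_zero, h.val_pd_eq_one hu hl χ.2 h0] at h3
    exact lt_irrefl _ h3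
  rw [kz, ← Nat.card_congr (Equiv.subtypeSubtypeEquivSubtypeInter (· ∈ B) _),
    Nat.card_eq_fintype_card, Fintype.card_subtype]
  rw [← Nat.cast_le (α := ℤ), Nat.cast_ofNat, ← hs, Finset.card_filter, Nat.cast_sum]
  refine Finset.sum_le_sum fun χ _ => ?_
  split_ifs with h0
  exacts [mul_self_pos.2 (hodd χ h0), mul_self_nonneg _]

end Cfsg.Agent.Block
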