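import Mathlib
import Cfsg.Agent.Block.FusQuot
import Cfsg.Agent.Block.OlsLoc

/-! Tools for bounding the number of Brauer characters of a `2`-block: automorphisms of odd order,
abelian defect groups of rank two, and a lower bound for `k(B)` from subsections. -/

set_option autoImplicit false
set_option linter.unusedSectionVars false
set_option linter.style.haveILetI false

namespace Cfsg.Agent.Block

open Cfsg Cfsg.Agent.Char Subgroup Cfsg.Agent.Block.Alg

section aut
variable {K : Type*} [Group K]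

theorem aut_fix_of_mul {φ : MulAut K} {m : ℕ} (hm : Odd m) (hφ : φ ^ m = 1) {q t : K}
    (h1 : φ q = t * q) (h2 : φ t = t) {j : ℕ} (h3 : t ^ 2 ^ j = 1) : φ q = q := by
  have h4 : ∀ n : ℕ, (φ ^ n) q = t ^ n * q := fun n => by
    induction n with
    | zero => simp
    | succ n ih => rw [pow_succ', MulAut.mul_apply, ih, map_mul, map_pow, h1, h2, pow_succ,
        mul_assoc]
  have h5 := h4 m
  rw [hφ, MulAut.one_apply, eq_comm, mul_eq_right] at h5
  have h6 := Nat.dvd_gcd (orderOf_dvd_of_pow_eq_one h5) (orderOf_dvd_of_pow_eq_one h3)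
  rw [(Nat.Coprime.pow_right j (Nat.coprime_two_right.2 hm)).gcd_eq_one, Nat.dvd_one,
    orderOf_eq_one_iff] at h6
  rw [h1, h6, one_mul]

theorem aut_fix_of_comm {φ : MulAut K} {m : ℕ} (hm : Odd m) (hφ : φ ^ m = 1) {S : Subgroup K}
    (hS : ∀ a ∈ S, ∀ b ∈ S, a * b = b * a) (h1 : ∀ a ∈ S, φ a ∈ S)
    (h2 : ∀ a ∈ S, a * a = 1 → φ a = a) (j : ℕ) : ∀ a ∈ S, a ^ 2 ^ j = 1 → φ a = a := by
  induction j with
  | zero => exact fun a _ ha => by rw [pow_zero, pow_one] at ha; rw [ha, map_one]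
  | succ j ih =>
    intro a ha h3
    have h4 := ih (a * a) (mul_mem ha ha) (by rwa [← sq, ← pow_mul, ← pow_succ'])
    have h5 : φ a * a⁻¹ * (φ a * a⁻¹) = 1 := by
      rw [mul_assoc, ← mul_assoc a⁻¹, hS _ (inv_mem ha) _ (h1 a ha), ← mul_assoc, ← mul_assoc,
        ← map_mul, h4]
      simp
    exact aut_fix_of_mul hm hφ (t := φ a * a⁻¹) (by simp)
      (h2 _ (mul_mem (h1 a ha) (inv_mem ha)) h5) (j := 1) (by rwa [pow_one, sq])

theorem conj_pow_orderOf (x : K) : MulAut.conj x ^ orderOf x = 1 := by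
  rw [← map_pow, pow_orderOf_eq_one, map_one]

theorem odd_of_not_dvd {n : ℕ} (h : ¬ 2 ∣ n) : Odd n := by
  rwa [← Nat.not_even_iff_odd, even_iff_two_dvd]

theorem conj_eq_of_odd {x q t : K} (hx : ¬ 2 ∣ orderOf x) (h1 : x * q * x⁻¹ = t * q)
    (h2 : x * t = t * x) {j : ℕ} (h3 : t ^ 2 ^ j = 1) : x * q * x⁻¹ = q :=
  aut_fix_of_mul (odd_of_not_dvd hx) (conj_pow_orderOf x) h1 (mul_inv_eq_iff_eq_mul.2 h2) h3

/-- An element of odd order normalizing a `2`-group with an invariant abelian subgroup of index at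
most two whose involutions it fixes. -/
theorem mem_centralizer_of_index_two [Finite K] {P A Q : Subgroup K} (hP : IsPGroup 2 P)
    (hA : ∀ a ∈ A, ∀ b ∈ A, a * b = b * a)
    (h2 : ∀ g ∈ P, ∀ g' ∈ P, g ∉ A → g' ∉ A → g * g' ∈ A) (hQ : Q ≤ P) {x : K}
    (hx : ¬ 2 ∣ orderOf x) (hN : x ∈ normalizer (Q : Set K))
    (hi : ∀ q ∈ Q, q ∈ A → x * q * x⁻¹ ∈ A)
    (hf : ∀ q ∈ Q, q ∈ A → q * q = 1 → x * q * x⁻¹ = q) : x ∈ centralizer (Q : Set K) := by
  have hc := fun q => (mem_normalizer_iff.1 hN q).1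
  have h3 : ∀ q ∈ Q, q ∈ A → x * q * x⁻¹ = q := fun q hq hqA => by
    obtain ⟨j, hj⟩ := hP ⟨q, hQ hq⟩
    exact aut_fix_of_comm (odd_of_not_dvd hx) (conj_pow_orderOf x) (S := Q ⊓ A)
      (fun a ha b hb => hA a ha.2 b hb.2) (fun a ha => ⟨hc a ha.1, hi a ha.1 ha.2⟩)
      (fun a ha => hf a ha.1 ha.2) j q ⟨hq, hqA⟩ (congrArg Subtype.val hj)
  refine mem_centralizer_of_comm (hP.to_le hQ) hx hN fun q hq => mul_inv_eq_iff_eq_mul.1
    (h3 _ (mul_mem (hc q hq) (inv_mem hq)) ?_)
  by_cases h4 : q ∈ A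
  · exact mul_mem (hi q hq h4) (inv_mem h4)
  · refine h2 _ (hQ (hc q hq)) _ (hQ (inv_mem hq)) (fun h5 => h4 ?_) (mt inv_mem_iff.1 h4)
    have h6 := h3 _ (hc q hq) h5
    have h7 : x * q * x⁻¹ = q := mul_left_cancel (mul_right_cancel h6)
    exact h7 ▸ h5

end aut

variable {G : Type*} [Group G] [Finite G] {M : Ideal AlgInt}
  {B : Set (IrrCharacter G)} {P : Subgroup G} {e : MonoidAlgebra (resField M) G}

/-- Abelian defect groups with at most three involutions. -/
theorem MP.rank_le_three_of_comm (h : MP 2 B P e) (hab : ∀ a ∈ P, ∀ b ∈ P, a * b = b * a)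
    {u v : G} (hc : ∀ a ∈ P, a * a = 1 → a = 1 ∨ a = v ∨ a = u ∨ a = u * v) :
    blockRank 2 B ≤ 3 := by
  classical
  have := charP_resField h.hM
  have hab' : P ≤ centralizer (P : Set G) := fun x hx y hy => hab y hy x hx
  have h1 : Odd (Nat.card (nrho P e).range) := by
    have h2 := h.hm.not_dvd_relIndex
    rw [top_inf_eq, sup_eq_left.2 hab'] at h2
    rwa [← index_ker, index_ker_nrho, ← Nat.not_even_iff_odd, even_iff_two_dvd]
  letI : CommGroup P := { (inferInstance : Group P) with mul_comm := comm_of_le_centralizer hab' }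
  let W : Subgroup P := (powMonoidHom 2).ker
  have hW : ∀ a : P, a ∈ W ↔ a * a = 1 := fun a => by simp [W, sq]
  have : W.Characteristic := characteristic_iff_le_comap.2 fun φ a ha => by
    rw [mem_comap, hW, ← map_mul, (hW a).1 ha, map_one]
  letI : MulDistribMulAction (nrho P e).range W := MulDistribMulAction.compHom _
    ((MulAut.characteristic W).comp (nrho P e).range.subtype)
  have h3 : Nat.card W ≤ 4 := by
    refine (Nat.card_le_card_of_injective (β := ({1, v, u, u * v} : Finset G))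
      (fun a => ⟨a.1.1, by simpa using hc _ a.1.2 (congrArg Subtype.val ((hW _).1 a.2))⟩)
      fun a b hab => Subtype.ext (Subtype.ext (Subtype.mk.inj hab))).trans ?_
    rw [Nat.card_eq_fintype_card, Fintype.card_coe]
    exact Finset.card_le_four
  have h2 := Ols.card_dvd_three (W := W) h1 (h.pgroup.to_subgroup W) (fun a ha => by
    refine Subtype.ext (MulEquiv.ext fun q => ?_)
    obtain ⟨j, hj⟩ := h.pgroup q
    exact aut_fix_of_comm h1 (congrArg Subtype.val (pow_card_eq_one' (x := a))) (S := ⊤)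
      (fun a _ b _ => mul_comm a b) (fun _ _ => trivial)
      (fun b _ hb => congrArg Subtype.val (ha ⟨b, (hW b).2 hb⟩)) j q trivial hj)
    (H := ⊤) ((Nat.le_of_dvd Nat.card_pos (index_dvd_card _)).trans h3)
  rw [card_top, ← index_ker, index_ker_nrho] at h2
  exact rank_le_of_inI_dvd Nat.prime_three _ h hab' rfl h2

/-- A lower bound for the number of characters from subsections. -/
theorem MP.sum_rank_le {p : ℕ} [Fact p.Prime] (h : MP p B P e) {R S : Finset G}
    (hR : ∀ r ∈ R, r ∈ P) (hS : ∀ s ∈ S, s ∈ P) (h1 : ∀ r ∈ R, ∀ r' ∈ R, PF p P e r r' → r = r')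
    (h2 : ∀ r ∈ R, ∀ s ∈ S, ¬ PF p P e s r)
    (h3 : ∀ s ∈ S, ∃ s', ∀ t ∈ S, PF p P e s t → t = s ∨ t = s') :
    2 * ∑ r ∈ R, blockRank p (lblk p P e r) + S.card ≤ 2 * Nat.card B := by
  classical
  let σ : Setoid P := ⟨fun a b => PF p P e a b, fun a => h.pf_refl a.2, PF.symm, h.pf_trans⟩
  have := Fintype.ofFinite (Quotient σ)
  let cl : G → Quotient σ := fun g => if hg : g ∈ P then ⟦⟨g, hg⟩⟧ else ⟦1⟧
  have hcl : ∀ g ∈ P, ∀ i : Quotient σ, cl g = i ↔ PF p P e i.out g := fun g hg i => by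
    simp only [cl, dif_pos hg]
    rw [eq_comm, Quotient.eq_mk_iff_out]
    rfl
  have hpf : ∀ a ∈ P, ∀ b ∈ P, cl a = cl b → PF p P e a b := fun a ha b hb hab =>
    h.pf_trans ((hcl a ha _).1 hab).symm ((hcl b hb _).1 rfl)
  have h4 := h.card_eq_sum_wt (rep := fun i : Quotient σ => (i.out : G)) (w := fun _ => 1)
    (fun i => i.out.2) fun v hv => by
      simp only [← hcl v hv]
      simp
  have h5 : Nat.card B = ∑ i : Quotient σ, blockRank p (lblk p P e i.out) := by
    simp only [one_mul] at h4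
    exact_mod_cast h4
  have h6 : S.card ≤ 2 * (S.image cl).card := Finset.card_le_mul_card_image _ _ fun i hi => by
    obtain ⟨s, hs, rfl⟩ := Finset.mem_image.1 hi
    obtain ⟨s', h7⟩ := h3 s hs
    refine (Finset.card_le_card (t := {s, s'}) fun t ht => ?_).trans Finset.card_le_two
    obtain ⟨a1, a2⟩ := Finset.mem_filter.1 ht
    simpa using h7 t a1 (hpf _ (hS s hs) _ (hS t a1) a2.symm)
  have h7 : Disjoint (R.image cl) (S.image cl) := Finset.disjoint_left.2 fun i hi hi' => by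
    obtain ⟨r, hr, rfl⟩ := Finset.mem_image.1 hi
    obtain ⟨s, hs, h8⟩ := Finset.mem_image.1 hi'
    exact h2 r hr s hs (hpf _ (hS s hs) _ (hR r hr) h8)
  have h8 := Finset.sum_le_sum_of_subset (f := fun i : Quotient σ =>
    blockRank p (lblk p P e i.out)) (Finset.subset_univ (R.image cl ∪ S.image cl))
  rw [Finset.sum_union h7, Finset.sum_image fun a ha b hb hab =>
    h1 a ha b hb (hpf _ (hR a ha) _ (hR b hb) hab), ← h5, Finset.sum_congr rfl fun r hr =>
      (h.rank_eq ((hcl r (hR r hr) _).1 rfl)).symm] at h8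
  have h9 := Finset.card_nsmul_le_sum (S.image cl) (fun i : Quotient σ =>
    blockRank p (lblk p P e i.out)) 1 fun i _ => blockRank_pos h.hM (h.block i.out.2)
  rw [smul_eq_mul] at h9
  omega

/-- A central involution whose subsection has one Brauer character. -/
theorem MP.four_mul_card_le (h : MP 2 B P e) {c : G} (hc : c ∈ P) (ho : orderOf c = 2)
    (hP : P ≤ centralizer ({c} : Set G)) (hl : blockRank 2 (lblk 2 P e c) = 1) :
    4 * Nat.card B ≤ Nat.card P + 3 * kz 2 B := by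
  classical
  have := Fintype.ofFinite B
  choose y hy using fun χ : B => h.exists_int_pd hc ho χ.1.2.isGen
  have h1 := h.finsum_pd_of_pf (h.pf_refl hc) hl
  rw [finsum_mem_eq_sum_coe, blockDefect_eq_of_major h.hM h.hB h.hm rfl hP (h.block hc) (h.ple hc),
    ← Nat.cast_pow, ← h.card] at h1
  simp only [hy, map_intCast] at h1
  have h2 : ∑ χ, y χ * y χ = Nat.card P := by exact_mod_cast h1
  have h3 : kz 2 B = ∑ χ : B, if blockHeight 2 B (χ.1 : G → ℂ) = 0 then 1 else 0 := by
    rw [kz, ← Nat.card_congr (Equiv.subtypeSubtypeEquivSubtypeInter (· ∈ B) _),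
      Nat.card_eq_fintype_card, Fintype.card_subtype, Finset.card_filter]
  rw [h3, Nat.card_eq_fintype_card, Fintype.card_eq_sum_ones, ← Nat.cast_le (α := ℤ)]
  push_cast
  rw [← h2, Finset.mul_sum, Finset.mul_sum, ← Finset.sum_add_distrib]
  refine Finset.sum_le_sum fun χ _ => ?_
  have h3 := h.val_pd_of_central hc hP hl χ.2
  rw [hy] at h3
  have h4 : y χ ≠ 0 := fun h0 => val_prime_pow_ne_zero h.hM _ (by rw [← h3, h0]; simp)
  split_ifs with h0
  · have := mul_self_pos.2 h4
    omega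
  · have h5 := h.val_pd_lt_one hc hl h0
    rw [hy, val_intCast_lt_one_iff h.hM] at h5
    obtain ⟨m, hm⟩ := h5
    have h6 : m ≠ 0 := fun h7 => h4 (by rw [hm, h7, mul_zero])
    have := mul_self_pos.2 h6
    rw [hm]
    push_cast
    nlinarith

end Cfsg.Agent.Block
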