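import Mathlib
import Cfsg.Agent.Block.RankTools
import Cfsg.Agent.Block.UDGrp
import Cfsg.Agent.S0646
import Cfsg.Agent.S4528
import Cfsg.Agent.S4529
import Cfsg.Agent.S4530

/-! `2`-blocks whose defect group has a cyclic subgroup of index at most two have at most three
Brauer characters. -/

set_option autoImplicit false
set_option linter.unusedSectionVars false

namespace Cfsg.Agent.Block

open Cfsg Cfsg.Agent.Char Subgroup Cfsg.Agent.Block.Alg

variable {G : Type*} [Group G] [Finite G] {M : Ideal AlgInt} {B : Set (IrrCharacter G)}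
  {P : Subgroup G} {e : MonoidAlgebra (resField M) G}

theorem MP.rank_modular (h : MP 2 B P e) {a b : G} {m : ℕ} (ha : a ∈ P) (hb : b ∈ P)
    (ho : orderOf a = 2 ^ (m + 3)) (hb2 : b * b = 1) (hba : b * a * b⁻¹ = a ^ 2 ^ (m + 2) * a)
    (hbn : b ∉ zpowers a) (hc : Nat.card P ≤ 2 * orderOf a) : blockRank 2 B = 1 := by
  have two := two_of_card (zpowers_le.2 ha) (by rwa [Nat.card_zpowers])
  have hw := half_mul_half ho
  have hw1 := half_ne_one ho
  have hbi : ∀ i, b * a ^ i * b⁻¹ = (a ^ 2 ^ (m + 2)) ^ i * a ^ i := fun i => by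
    rw [← conj_pow, hba, ((Commute.refl a).pow_left _).mul_pow]
  have hcases : ∀ q ∈ P, ∃ i : ℕ, q = a ^ i ∨ q = a ^ i * b := fun q hq => by
    by_cases h1 : q ∈ zpowers a
    · exact (exists_pow_of_mem h1).imp fun i => Or.inl
    · exact (exists_pow_of_mem (two q hq b hb h1 hbn)).imp fun i hi => Or.inr (by
        rw [← hi, mul_assoc, hb2, mul_one])
  have hz : ∀ q ∈ P, ∀ j, Commute q (a ^ (2 * j)) := fun q hq j => by
    have h1 : Commute b (a ^ (2 * j)) := mul_inv_eq_iff_eq_mul.1 (by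
      rw [hbi, pow_mul _ 2, sq, hw, one_pow, one_mul])
    obtain ⟨i, rfl | rfl⟩ := hcases q hq
    exacts [(Commute.refl a).pow_pow _ _, ((Commute.refl a).pow_pow _ _).mul_left h1]
  have hwz : ∀ q ∈ P, Commute q (a ^ 2 ^ (m + 2)) := fun q hq => pow_succ' 2 _ ▸ hz q hq _
  have key : ∀ q ∈ P, ∃ i : ℕ, (q = a ^ i ∨ q = a ^ i * b) ∧
      b * q * b⁻¹ = (a ^ 2 ^ (m + 2)) ^ i * q ∧ q ^ 2 ^ (m + 2) = (a ^ 2 ^ (m + 2)) ^ i :=
    fun q hq => by
      obtain ⟨i, rfl | rfl⟩ := hcases q hq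
      · exact ⟨i, Or.inl rfl, hbi i, by rw [← pow_mul, ← pow_mul, mul_comm]⟩
      · refine ⟨i, Or.inr rfl, by rw [← mul_assoc (_ ^ i) (a ^ i) b, ← hbi]; group, ?_⟩
        have h1 : (a ^ i * b) ^ 2 = a ^ (i * 2 + 2 ^ (m + 2) * i) := by
          calc _ = a ^ i * (b * a ^ i * b⁻¹) * (b * b) := by rw [sq]; group
            _ = _ := by rw [hbi, hb2]; group
        rw [pow_succ' 2 (m + 1), pow_mul, h1, ← pow_mul, ← pow_mul, ← pow_succ', add_mul, pow_add,
          show 2 ^ (m + 2) * i * 2 ^ (m + 1) = 2 ^ (m + 3) * (i * 2 ^ m) by ring, ← ho, pow_mul _ (orderOf a),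
          pow_orderOf_eq_one, one_pow, mul_one]
        congr 1
        ring
  have hA : ∀ q, q ∈ P ⊓ centralizer {b} ↔ q ∈ P ∧ q ^ 2 ^ (m + 2) = 1 := fun q =>
    and_congr_right fun hq => by
      obtain ⟨i, -, h1, h2⟩ := key q hq
      rw [h2, ← mul_left_inj q, ← h1, one_mul, mul_inv_eq_iff_eq_mul, eq_comm]
      exact mem_centralizer_singleton_iff
  have hcomm : ∀ q ∈ P ⊓ centralizer {b}, ∀ q' ∈ P ⊓ centralizer {b}, q * q' = q' * q :=
    fun q hq q' hq' => by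
      obtain ⟨i, h0, -, h2⟩ := key q hq.1
      obtain ⟨j, rfl⟩ := Nat.dvd_of_mod_eq_zero ((pow_of_sq_eq_one hw i).resolve_right fun h3 =>
        hw1 (by rw [← h3.2, ← h2, ((hA q).1 hq).2])).1
      rcases h0 with rfl | rfl
      exacts [(hz q' hq'.1 j).symm, ((hz q' hq'.1 j).mul_right
        (mem_centralizer_singleton_iff.1 hq'.2)).symm]
  have hpf : ∀ q, PF 2 P e q (a ^ 2 ^ (m + 2)) → q = a ^ 2 ^ (m + 2) := fun q h1 => by
    obtain ⟨g, hg, h2⟩ := h.fm_ext_center h1 fun y hy =>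
      mem_centralizer_singleton_iff.2 (hwz y hy)
    have h3 := h2.mem (q := a ^ 2 ^ (m + 1)) ⟨pow_mem ha _, mem_centralizer_singleton_iff.2
      (pow_succ' 2 m ▸ (hz q h1.left _).symm)⟩
    have h4 : g * a ^ 2 ^ (m + 2) * g⁻¹ ∈ zpowers a := by
      rw [← UD.tsq, ← conj_mul]
      by_cases h4 : g * a ^ 2 ^ (m + 1) * g⁻¹ ∈ zpowers a
      exacts [mul_mem h4 h4, two _ h3 _ h3 h4 h4]
    have h5 := (eq_half ho h4 (by rw [conj_mul, hw]; simp)).resolve_left (by simpa using hw1)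
    exact mul_left_cancel (mul_right_cancel (hg.trans h5.symm))
  refine h.rank_eq_one_of_fm fun Q y h1 hN hy => ?_
  have hi : ∀ q ∈ Q, q ∈ P ⊓ centralizer {b} → y * q * y⁻¹ ∈ P ⊓ centralizer {b} :=
    fun q hq h2 => (hA _).2 ⟨h1.mem hq, by rw [conj_pow, ((hA q).1 h2).2]; simp⟩
  refine mem_centralizer_of_index_two h.pgroup hcomm (fun g hg g' hg' h2 h3 => ?_) h1.le hy hN hi
    fun q hq h2 h3 => ?_
  · have h4 : ∀ g ∈ P, g ∉ P ⊓ centralizer {b} → b * g * b⁻¹ = a ^ 2 ^ (m + 2) * g :=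
      fun g hg h2 => by
        obtain ⟨i, -, h4, h5⟩ := key g hg
        rw [h4, ((pow_of_sq_eq_one hw i).resolve_left fun h6 =>
          h2 ((hA g).2 ⟨hg, h5.trans h6.2⟩)).2]
    refine ⟨mul_mem hg hg', mem_centralizer_singleton_iff.2 (mul_inv_eq_iff_eq_mul.1 ?_).symm⟩
    rw [← conj_mul, h4 g hg h2, h4 g' hg' h3, mul_assoc, ← mul_assoc g, (hwz g hg).eq,
      ← mul_assoc, ← mul_assoc, hw, one_mul]
  have h4 := hi q hq h2
  have h5 := h.fm_pf h1 hq
  have h6 : y * q * y⁻¹ * (y * q * y⁻¹) = 1 := by rw [conj_mul, h3]; simp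
  have h7 : y * q * y⁻¹ * q ∈ zpowers a := by
    by_cases h7 : q ∈ zpowers a
    · rcases eq_half ho h7 h3 with rfl | rfl
      · simp
      · rw [hpf _ h5.symm]; exact mul_mem h7 h7
    · refine two _ h4.1 _ h2.1 (fun h8 => h7 ?_) h7
      rcases eq_half ho h8 h6 with h9 | h9
      · rw [h5.eq_one_iff.2 h9]; exact one_mem _
      · rw [hpf q (h9 ▸ h5)]; exact pow_mem (mem_zpowers a) _
  have h8 : y * q * y⁻¹ = y * q * y⁻¹ * q * q := by rw [mul_assoc _ q q, h3, mul_one]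
  rcases eq_half ho h7 (by
    rw [mul_assoc, ← mul_assoc q, hcomm q h2 _ h4, ← mul_assoc, ← mul_assoc, h6, one_mul, h3])
    with h9 | h9
  · rw [h8, h9, one_mul]
  · exact conj_eq_of_odd hy (h8.trans (by rw [h9])) (mul_inv_eq_iff_eq_mul.1 (hpf _ (h.fm_pf h1
      (h9 ▸ mul_mem ((mem_normalizer_iff.1 hN q).1 hq) hq)).symm)) (j := 1)
      (by rwa [pow_one, sq])

theorem MP.rank_le_three_of_cyclic (h : MP 2 B P e) {x : G} (hx : x ∈ P)
    (hc : Nat.card P ≤ 2 * orderOf x) : blockRank 2 B ≤ 3 := by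
  by_cases h4 : Nat.card P ≤ 4
  · exact h.rank_le_three h4
  have two := two_of_card (zpowers_le.2 hx) (by rwa [Nat.card_zpowers])
  by_cases hab : ∀ a ∈ P, ∀ b ∈ P, a * b = b * a
  · obtain ⟨_ | m, hm⟩ := h.order hx
    · omega
    by_cases hu : ∃ u ∈ P, u * u = 1 ∧ u ∉ zpowers x
    · obtain ⟨u, hu, h1, h2⟩ := hu
      refine h.rank_le_three_of_comm hab (u := u) (v := x ^ 2 ^ m) fun a ha ha' => ?_
      by_cases h3 : a ∈ zpowers x
      · rcases eq_half hm h3 ha' with h5 | h5 <;> simp [h5]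
      have h5 : a = u * (u * a) := by rw [← mul_assoc, h1, one_mul]
      rcases eq_half hm (two u hu a ha h2 h3) (by
        rw [mul_assoc, ← mul_assoc a, hab a ha u hu, ← mul_assoc, ← mul_assoc, h1, one_mul, ha'])
        with h6 | h6 <;> rw [h6] at h5 <;> simp [h5]
    · refine h.rank_le_three_of_comm hab (u := 1) (v := x ^ 2 ^ m) fun a ha ha' => ?_
      rcases eq_half hm (of_not_not fun h3 => hu ⟨a, ha, ha', h3⟩) ha' with h5 | h5 <;> simp [h5]
  obtain ⟨n, hn⟩ := IsPGroup.iff_card.1 h.pgroup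
  obtain ⟨k, rfl⟩ : ∃ k, n = k + 3 := ⟨n - 3, by
    have := (Nat.pow_lt_pow_iff_right one_lt_two).1 (show 2 ^ 2 < 2 ^ n by omega)
    omega⟩
  have hi : (zpowers (⟨x, hx⟩ : P)).index = 2 := by
    have h1 := card_mul_index (zpowers (⟨x, hx⟩ : P))
    rw [Nat.card_zpowers, ← orderOf_coe] at h1
    have h2 : (zpowers (⟨x, hx⟩ : P)).index ≠ 1 := fun h2 => hab fun a ha b hb => by
      obtain ⟨i, hi⟩ := exists_pow_of_mem ((index_eq_one.1 h2).ge (mem_top ⟨a, ha⟩))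
      obtain ⟨j, hj⟩ := exists_pow_of_mem ((index_eq_one.1 h2).ge (mem_top ⟨b, hb⟩))
      rw [show a = x ^ i from congrArg Subtype.val hi, show b = x ^ j from congrArg Subtype.val hj]
      exact (Commute.refl x).pow_pow i j
    have h3 : (zpowers (⟨x, hx⟩ : P)).index ≠ 0 := index_ne_zero_of_finite
    have h5 : (zpowers (⟨x, hx⟩ : P)).index ≤ 2 :=
      Nat.le_of_mul_le_mul_left (by rw [h1, mul_comm]; exact hc) (orderOf_pos x)
    omega
  obtain ⟨a, b, h1, h2, h3⟩ := S0646.result (k + 3) (by omega) hn _ inferInstance hi (by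
    push Not at hab
    obtain ⟨a, ha, b, hb, h1⟩ := hab
    exact ⟨⟨a, ha⟩, ⟨b, hb⟩, fun h2 => h1 (congrArg Subtype.val h2)⟩)
  have key : ∀ {H : Type} [Group H], Nonempty (closure {a, b} ≃* H) → Nat.card H = 2 ^ (k + 3) →
      Nonempty (P ≃* H) := fun ⟨f⟩ h5 => ⟨topEquiv.symm.trans ((MulEquiv.subgroupCongr
        (eq_top_of_card_eq _ (by rw [Nat.card_congr f.toEquiv, h5, hn])).symm).trans f)⟩
  rcases h3 with ⟨h3, h5⟩ | ⟨h3, h5⟩ | ⟨h6, h3, h5⟩ | ⟨h6, h3, h5⟩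
  · exact (S4528.result M h.hM B h.hB P h.isDefectGroup (k + 3) (by omega) (key
      (Inv.nonempty_dihedral_of_gens h1 h5 (by rwa [← sq]) h2)
      (by rw [DihedralGroup.nat_card, ← pow_succ']; rfl))).2.2.1
  · exact (S4530.result M h.hM B h.hB P h.isDefectGroup (k + 3) (by omega) (key
      (Inv.nonempty_quaternion_of_gens (h1.trans (pow_succ' 2 (k + 1))) h5 (by rwa [← sq]) h2)
      (by rw [Nat.card_eq_fintype_card, QuaternionGroup.card]; simp [pow_succ]; ring))).2.1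
  · obtain ⟨m, rfl⟩ : ∃ m, k = m + 1 := ⟨k - 1, by omega⟩
    have h7 := (orderOf_coe a).trans h1
    refine (h.rank_modular (m := m) a.2 b.2 h7 (congrArg Subtype.val (sq b ▸ h3))
      (congrArg Subtype.val (h5.trans (by rw [add_comm 1, pow_succ]))) (fun h8 => ?_)
      (by rw [hn, h7, ← pow_succ']; rfl)).trans_le (by norm_num)
    obtain ⟨i, hi⟩ := exists_pow_of_mem h8
    exact h2 ((Subtype.ext hi : b = a ^ i) ▸ pow_mem (mem_zpowers a) i)
  · exact (S4529.result M h.hM B h.hB P h.isDefectGroup (k + 3) h6 hn ⟨k + 2, by omega, hn, a, b,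
      h1, orderOf_eq_prime h3 fun h7 => h2 (h7 ▸ one_mem _), h5⟩).2.2.1

end Cfsg.Agent.Block
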