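import Mathlib

/-!
# Perturbation of exact pairs of commuting operators by nilpotent elements; operators with
`x ^ p = 0`
-/

set_option autoImplicit false
set_option linter.unusedSectionVars false
set_option linter.style.haveILetI false

namespace Cfsg.Agent.Block

open Polynomial

section Perturb

variable {Λ M : Type*} [CommRing Λ] [AddCommGroup M] [Module Λ M]

/-- On the kernel of `pr`, the elements killed by `u` are multiples of `v`. -/
def Ex (pr : M →+ M) (u v : Λ) : Prop := ∀ m, pr m = 0 → u • m = 0 → ∃ z, m = v • z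

theorem X_smul_coeff_succ (y : PolynomialModule Λ M) (n : ℕ) :
    ((X : Λ[X]) • y).coeff (n + 1) = y.coeff n := by
  rw [← monomial_one_one_eq_X, PolynomialModule.monomial_smul_apply]; simp

theorem smul_coeff_zero (u : Λ[X]) (y : PolynomialModule Λ M) :
    (u • y).coeff 0 = u.coeff 0 • y.coeff 0 := by
  rw [PolynomialModule.smul_apply]; simp

theorem exists_X_smul {y : PolynomialModule Λ M} (h : y.coeff 0 = 0) :
    ∃ y', y = (X : Λ[X]) • y' := by
  refine ⟨.ofCoeff Λ (y.coeff.comapDomain Nat.succ Nat.succ_injective.injOn),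
    PolynomialModule.coeff_injective (Finsupp.ext fun n => ?_)⟩
  cases n with
  | zero => rw [smul_coeff_zero, coeff_X_zero, zero_smul, h]
  | succ n => rw [X_smul_coeff_succ]; rfl

theorem eq_zero_of_X_pow_smul {y : PolynomialModule Λ M} {n : ℕ} (h : (X : Λ[X]) ^ n • y = 0) :
    y = 0 := by
  induction n with
  | zero => simpa using h
  | succ n ih =>
    refine ih (PolynomialModule.coeff_injective (Finsupp.ext fun k => ?_))
    rw [← X_smul_coeff_succ, ← mul_smul, ← pow_succ', h]; rfl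

variable {I : Ideal Λ} {pr : M →+ M} (h1 : ∀ a ∈ I, ∀ m, a • pr m = 0)
  (h2 : ∀ a ∈ I, ∀ m, pr (a • m) = 0) (h3 : ∀ m, pr (pr m) = pr m)

include h2 in
theorem pr_coeff_smul {u : Λ[X]} (hu : ∀ i, u.coeff i ∈ I) (y : PolynomialModule Λ M) (i : ℕ) :
    pr ((u • y).coeff i) = 0 := by
  rw [PolynomialModule.smul_apply, map_sum]
  exact Finset.sum_eq_zero fun x _ => h2 _ (hu _) _

include h2 in
theorem Ex.approx {u v : Λ[X]} (huv : u * v = 0) (hv : ∀ i, v.coeff i ∈ I)
    (h : Ex pr (u.coeff 0) (v.coeff 0)) (n : ℕ) : ∀ y w : PolynomialModule Λ M,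
      (∀ i, pr (y.coeff i) = 0) → u • y = (X : Λ[X]) ^ n • w →
        ∃ z w' : PolynomialModule Λ M, y = v • z + (X : Λ[X]) ^ n • w' := by
  induction n with
  | zero => exact fun y _ _ _ => ⟨0, y, by simp⟩
  | succ n ih =>
    intro y w hy e
    obtain ⟨z, hz⟩ := h _ (hy 0) (by rw [← smul_coeff_zero, e, smul_coeff_zero]; simp)
    obtain ⟨y', hy'⟩ := exists_X_smul (y := y - v • PolynomialModule.single Λ 0 z) (by
      rw [← PolynomialModule.coeffAddEquiv_apply, map_sub]
      simp [smul_coeff_zero, hz])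
    obtain ⟨z', w', e'⟩ := ih y' w (fun i => by
      rw [← X_smul_coeff_succ, ← hy', ← PolynomialModule.coeffAddEquiv_apply, map_sub]
      simp [hy, h2 _ (hv _)]) (sub_eq_zero.1 (eq_zero_of_X_pow_smul (n := 1) (by
        rw [pow_one, smul_sub, smul_comm, ← hy', smul_sub, ← mul_smul, huv, e, ← mul_smul,
          ← pow_succ', zero_smul, sub_zero, sub_self])))
    refine ⟨PolynomialModule.single Λ 0 z + (X : Λ[X]) • z', w', ?_⟩
    rw [sub_eq_iff_eq_add.1 hy', e']
    module

include h1 h2 h3 in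
theorem Ex.eval {u v : Λ[X]} (huv : u * v = 0) (hu : ∀ i, u.coeff i ∈ I) (hv : ∀ i, v.coeff i ∈ I)
    (h : Ex pr (u.coeff 0) (v.coeff 0)) (h' : Ex pr (v.coeff 0) (u.coeff 0)) {β : Λ}
    (hβ : IsNilpotent β) (h4 : ∀ i m, pr (β ^ (i + 1) • pr m) = 0) :
    Ex pr (u.eval β) (v.eval β) := by
  obtain ⟨n, hn⟩ := hβ
  intro m hm e
  have key : ∀ y w : PolynomialModule Λ M, (∀ i, pr (y.coeff i) = 0) →
      u • y = (X : Λ[X]) ^ n • w → PolynomialModule.eval β y ∈ LinearMap.range
        (LinearMap.lsmul Λ M (v.eval β)) := fun y w hy e => by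
    obtain ⟨z, w', rfl⟩ := h.approx h2 huv hv n y w hy e
    exact ⟨PolynomialModule.eval β z, by simp [hn]⟩
  have hvI : v.eval β ∈ I := by
    rw [eval_eq_sum_range]; exact I.sum_mem fun i _ => I.mul_mem_right _ (hv i)
  have huI : u.eval β ∈ I := by
    rw [eval_eq_sum_range]; exact I.sum_mem fun i _ => I.mul_mem_right _ (hu i)
  obtain ⟨g, hg⟩ : X - C β ∣ u - C (u.eval β) := X_sub_C_dvd_sub_C_eval
  have hgI : ∀ i, g.coeff i ∈ I := by
    have : (X - C (Ideal.Quotient.mk I β)) * g.map (Ideal.Quotient.mk I) = 0 := by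
      rw [← map_X (Ideal.Quotient.mk I), ← map_C, ← Polynomial.map_sub, ← Polynomial.map_mul, ← hg]
      ext i
      rw [coeff_map, coeff_zero, Ideal.Quotient.eq_zero_iff_mem, coeff_sub, coeff_C]
      exact I.sub_mem (hu i) (by split_ifs; exacts [huI, I.zero_mem])
    intro i
    rw [← Ideal.Quotient.eq_zero_iff_mem, ← coeff_map, (monic_X_sub_C _).mul_right_eq_zero_iff.1 this,
      coeff_zero]
  set m' := PolynomialModule.single Λ 0 m with hm'
  have e1 : u • m' = (X - C β) • g • m' := by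
    rw [← mul_smul, ← hg, sub_smul, ← monomial_zero_left, hm',
      PolynomialModule.monomial_smul_single, e]
    simp
  obtain ⟨q, hq⟩ : X - C β ∣ (X : Λ[X]) ^ n := by
    simpa [← C_pow, hn] using sub_dvd_pow_sub_pow (X : Λ[X]) (C β) n
  obtain ⟨z, w, e2⟩ := h'.approx h2 (by rw [mul_comm, huv]) hu n (g • m') 0
    (pr_coeff_smul h2 hgI _) (by
      rw [smul_zero]
      refine eq_zero_of_X_pow_smul (n := n) ?_
      rw [hq, mul_comm, mul_smul, smul_comm _ v, ← e1, ← mul_smul v, mul_comm v, huv]; simp)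
  set y := m' - (X - C β) • z with hy
  let y₁ : PolynomialModule Λ M := .ofCoeff Λ (y.coeff.mapRange pr pr.map_zero)
  have k1 := key (y - y₁) ((X - C β) • w) (fun i => by
    rw [← PolynomialModule.coeffAddEquiv_apply, map_sub]; simp [y₁, h3]) (by
      have : u • y₁ = 0 := PolynomialModule.coeff_injective (Finsupp.ext fun i => by
        rw [PolynomialModule.smul_apply]
        exact Finset.sum_eq_zero fun x _ => h1 _ (hu _) _)
      rw [smul_sub, this, sub_zero, hy, smul_sub, e1, e2, smul_add, smul_comm u,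
        smul_comm (X - C β) (X ^ n)]
      abel)
  have k2 : PolynomialModule.eval β y₁ - pr (y.coeff 0) ∈ LinearMap.range
      (LinearMap.lsmul Λ M (v.eval β)) := by
    suffices H : ∀ y : PolynomialModule Λ M, PolynomialModule.eval β (PolynomialModule.ofCoeff Λ
      (y.coeff.mapRange pr pr.map_zero)) - pr (y.coeff 0) ∈ _ from H y
    intro y
    induction y using PolynomialModule.induction_linear with
    | zero => simp
    | add a b ha hb =>
      convert add_mem ha hb using 1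
      simp only [PolynomialModule.coeff_add, Finsupp.mapRange_add pr.map_add,
        PolynomialModule.ofCoeff_add, map_add, Finsupp.add_apply]
      abel
    | single i a =>
      cases i with
      | zero => simp
      | succ i =>
        have := key (PolynomialModule.single Λ 0 (β ^ (i + 1) • pr a)) 0 (fun j => by
          rw [PolynomialModule.coeff_single, Finsupp.single_apply]
          split_ifs; exacts [h4 i a, pr.map_zero]) (by
            rw [smul_zero]
            refine PolynomialModule.coeff_injective (Finsupp.ext fun j => ?_)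
            rw [PolynomialModule.smul_single_apply]
            simp [smul_comm _ (β ^ (i + 1)), h1 _ (hu _)])
        simpa using this
  obtain ⟨z', hz'⟩ := add_mem k1 k2
  have e3 : (v.eval β) • z' = m - pr (y.coeff 0) := by simpa [hy, hm'] using hz'
  have e4 := h2 _ hvI z'
  rw [e3, map_sub, hm, h3, zero_sub, neg_eq_zero] at e4
  exact ⟨z', by rw [e3, e4, sub_zero]⟩

variable {p : ℕ} [hp : Fact p.Prime] [CharP Λ p]

include h1 h2 h3 in
theorem Ex.sum {ι : Type*} (s : Finset ι) {γ β : ι → Λ} (hγ : ∀ i, γ i ∈ I)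
    (hγp : ∀ i, γ i ^ p = 0) (hβ : ∀ i, IsNilpotent (β i))
    (h4 : ∀ j i m, pr (β j ^ (i + 1) • pr m) = 0) {x : Λ} (hx : x ∈ I) (hxp : x ^ p = 0)
    (h : Ex pr x (x ^ (p - 1)) ∧ Ex pr (x ^ (p - 1)) x) :
    Ex pr (x + ∑ i ∈ s, γ i * β i) ((x + ∑ i ∈ s, γ i * β i) ^ (p - 1)) ∧
      Ex pr ((x + ∑ i ∈ s, γ i * β i) ^ (p - 1)) (x + ∑ i ∈ s, γ i * β i) := by
  classical
  induction s using Finset.induction_on with
  | empty => simpa using h
  | insert j s hj ih =>
    set y := x + ∑ i ∈ s, γ i * β i with hy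
    have hyI : y ∈ I := I.add_mem hx (I.sum_mem fun i _ => I.mul_mem_right _ (hγ i))
    have hyp : y ^ p = 0 := by simp [hy, add_pow_char, sum_pow_char, mul_pow, hxp, hγp]
    have hu : C y + C (γ j) * X ∈ I.map (C : Λ →+* Λ[X]) :=
      add_mem (Ideal.mem_map_of_mem _ hyI) (Ideal.mul_mem_right _ _ (Ideal.mem_map_of_mem _ (hγ j)))
    have hv := Ideal.pow_mem_of_mem _ hu (p - 1) (Nat.sub_pos_of_lt hp.out.one_lt)
    have huv : (C y + C (γ j) * X) * (C y + C (γ j) * X) ^ (p - 1) = 0 := by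
      rw [mul_pow_sub_one hp.out.ne_zero, add_pow_char, mul_pow, ← C_pow, ← C_pow, hyp, hγp]; simp
    rw [Ideal.mem_map_C_iff] at hu hv
    have e0 : (C y + C (γ j) * X).coeff 0 = y := by simp
    have e1 : ((C y + C (γ j) * X) ^ (p - 1)).coeff 0 = y ^ (p - 1) := by
      simp [coeff_zero_eq_eval_zero]
    have a := Ex.eval h1 h2 h3 huv hu hv (by rw [e0, e1]; exact ih.1) (by rw [e0, e1]; exact ih.2)
      (hβ j) (h4 j)
    have b := Ex.eval h1 h2 h3 (by rw [mul_comm, huv]) hv hu (by rw [e0, e1]; exact ih.2)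
      (by rw [e0, e1]; exact ih.1) (hβ j) (h4 j)
    rw [Finset.sum_insert hj, add_left_comm, add_comm, ← hy]
    simpa using And.intro a b

include h1 h2 h3 in
theorem ex_of_weyl {x : Λ} (hx : x ∈ I) (d : M →+ M)
    (hd : ∀ m, ∃ s, d (x • m) - x • d m = m - pr s) :
    Ex pr x (x ^ (p - 1)) ∧ Ex pr (x ^ (p - 1)) x := by
  have hpr : ∀ j m, pr m = 0 → pr (x ^ j • m) = 0 := fun j m hm => by
    cases j with
    | zero => simpa using hm
    | succ j => exact h2 _ (I.pow_mem_of_mem hx _ j.succ_pos) m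
  have k0 : ∀ m, pr m = 0 → d (x • m) - pr (d (x • m)) = m + x • d m := fun m hm => by
    obtain ⟨s, hs⟩ := hd m
    rw [sub_eq_iff_eq_add.1 hs, map_add, map_sub, hm, h3, h2 _ hx]; abel
  have k1 : ∀ j m, pr m = 0 → d (x ^ (j + 1) • m) - pr (d (x ^ (j + 1) • m)) =
      x ^ j • (((j + 1 : ℕ) : Λ) • m + x • d m) := fun j m hm => by
    induction j with
    | zero => simpa using k0 m hm
    | succ j ih =>
      rw [pow_succ', mul_smul, k0 _ (hpr _ m hm), sub_eq_iff_eq_add.1 ih, smul_add x, h1 _ hx]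
      push_cast
      module
  have k2 : ∀ j < p, ∀ m, pr m = 0 → x ^ j • m = 0 → ∃ z, pr z = 0 ∧ m = x • z := fun j => by
    induction j with
    | zero => exact fun _ m _ h => ⟨0, pr.map_zero, by simpa using h⟩
    | succ j ih =>
      intro hj m hm h
      obtain ⟨c, hc⟩ := ((CharP.isUnit_natCast_iff (R := Λ) hp.out).2
        (Nat.not_dvd_of_pos_of_lt j.succ_pos hj)).exists_left_inv
      obtain ⟨z, -, hz⟩ := ih (by omega) (((j + 1 : ℕ) : Λ) • m + x • d m)
        (by rw [map_add, h2 _ hx, Nat.cast_smul_eq_nsmul, map_nsmul, hm]; simp)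
        (by rw [← k1 j m hm, h]; simp)
      refine ⟨c • (z - d m) - pr (c • (z - d m)), by rw [map_sub, h3, sub_self], ?_⟩
      rw [smul_sub, h1 _ hx, sub_zero, smul_comm, smul_sub, ← hz, add_sub_cancel_right, ← mul_smul,
        hc, one_smul]
  refine ⟨fun m hm h => ?_, fun m hm h => (k2 _ (Nat.sub_one_lt hp.out.ne_zero) m hm h).imp
    fun _ => And.right⟩
  suffices H : ∀ j < p, ∃ z, pr z = 0 ∧ m = x ^ j • z from
    (H _ (Nat.sub_one_lt hp.out.ne_zero)).imp fun _ => And.right
  intro j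
  induction j with
  | zero => exact fun _ => ⟨m, hm, by simp⟩
  | succ j ih =>
    intro hj
    obtain ⟨z, hz, e⟩ := ih (by omega)
    obtain ⟨z', hz', e'⟩ := k2 _ hj z hz (by rw [pow_succ', mul_smul, ← e, h])
    exact ⟨z', hz', by rw [e, e', pow_succ, mul_smul]⟩

end Perturb

section Line

open Module LinearMap

variable {F V : Type*} [Field F] [AddCommGroup V] [Module F V] [FiniteDimensional F V]

theorem range_pow_anti (θ : End F V) {i j : ℕ} (h : i ≤ j) : range (θ ^ j) ≤ range (θ ^ i) := by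
  obtain ⟨k, rfl⟩ := Nat.exists_eq_add_of_le h
  rw [pow_add]; exact range_comp_le_range _ _

theorem dvd_finrank_of_ker_le {p : ℕ} {θ : End F V} (hθ : θ ^ p = 0)
    (h : ker θ ≤ range (θ ^ (p - 1))) : p ∣ finrank F V := by
  suffices H : ∀ j ≤ p, finrank F V = finrank F (range (θ ^ j)) + j * finrank F (ker θ) from
    ⟨_, by have := H p le_rfl; rwa [hθ, range_zero, finrank_bot, zero_add] at this⟩
  intro j
  induction j with
  | zero => rw [pow_zero, End.one_eq_id, range_id, finrank_top]; simp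
  | succ j ih =>
    intro hj
    have h1 := finrank_range_add_finrank_ker (θ.domRestrict (range (θ ^ j)))
    rw [range_domRestrict, ← range_comp, ← End.mul_eq_comp, ← pow_succ', ker_domRestrict,
      (Submodule.comapSubtypeEquivOfLe (h.trans (range_pow_anti θ (by omega)))).finrank_eq] at h1
    rw [ih (by omega), ← h1]; ring

theorem exists_line {p : ℕ} {θ : End F V} (hθ : θ ^ p = 0) (hd : ¬ p ∣ finrank F V)
    (h : ∀ y : End F V, θ * y = y * θ → ∃ c : F, ∀ v, θ v = 0 → y v - c • v ∈ range (θ ^ (p - 1))) :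
    ∃ w, θ w = 0 ∧ w ∉ range (θ ^ (p - 1)) ∧
      ∀ v, θ v = 0 → ∃ c : F, v - c • w ∈ range (θ ^ (p - 1)) := by
  classical
  have h0 : ¬ ker θ ≤ range (θ ^ (p - 1)) := fun h' => hd (dvd_finrank_of_ker_le hθ h')
  have hex : ∃ n, ¬ ker θ ≤ range (θ ^ n) := ⟨_, h0⟩
  obtain ⟨j, hj⟩ : ∃ j, Nat.find hex = j + 1 := Nat.exists_eq_succ_of_ne_zero fun e => by
    simpa [e, End.one_eq_id] using Nat.find_spec hex
  have h1 : range (θ ^ (p - 1)) ≤ range (θ ^ (j + 1)) := range_pow_anti θ (hj ▸ Nat.find_min' hex h0)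
  obtain ⟨w, hw, hw'⟩ := SetLike.not_le_iff_exists.1 (hj ▸ Nat.find_spec hex)
  obtain ⟨u, rfl⟩ := not_not.1 (Nat.find_min hex (m := j) (by omega)) hw
  obtain ⟨f, hf, hf'⟩ := Submodule.exists_le_ker_of_notMem hw'
  let g : ℕ → End F V := fun i => θ ^ i * f.smulRight u * θ ^ (j + 1 - i)
  obtain ⟨c, hc⟩ := h (∑ i ∈ Finset.range (j + 1), θ ^ i * f.smulRight u * θ ^ (j - i)) (by
    have e1 := Finset.sum_range_succ' g (j + 1)
    have e2 : g 0 = 0 := LinearMap.ext fun v => by simp [g, show f _ = 0 from hf' ⟨v, rfl⟩]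
    have e3 : g (j + 1) = 0 := LinearMap.ext fun v => by
      simp [g, pow_succ', show θ ((θ ^ j) u) = 0 from hw]
    rw [Finset.sum_range_succ, e2, e3, add_zero, add_zero] at e1
    rw [Finset.mul_sum, Finset.sum_mul]
    convert e1.symm using 2 with i hi i hi
    · simp only [g, pow_succ', mul_assoc, Nat.add_sub_add_right]
    · simp only [g, mul_assoc, ← pow_succ, Nat.sub_add_comm (Finset.mem_range_succ_iff.1 hi)])
  have h2 : ∀ v, θ v = 0 → f v • (θ ^ j) u - c • v ∈ range (θ ^ (p - 1)) := fun v hv => by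
    convert hc v hv using 2
    rw [Finset.sum_range_succ, LinearMap.add_apply, LinearMap.sum_apply, Finset.sum_eq_zero]
    · simp
    · intro i hi
      rw [show j - i = j - i - 1 + 1 by have := Finset.mem_range.1 hi; omega]
      simp [pow_succ, hv]
  have h3 : c = f ((θ ^ j) u) := by
    by_contra hne
    have := h1 (h2 _ hw)
    rw [← sub_smul] at this
    exact hw' ((Submodule.smul_mem_iff _ (sub_ne_zero.2 (Ne.symm hne))).1 this)
  refine ⟨_, hw, fun h' => hw' (h1 h'), fun v hv => ⟨c⁻¹ * f v, ?_⟩⟩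
  have := Submodule.smul_mem _ (-c⁻¹) (h2 v hv)
  rwa [smul_sub, smul_smul, smul_smul, neg_mul, neg_mul, inv_mul_cancel₀ (h3 ▸ hf), neg_smul,
    neg_smul, one_smul, neg_sub_neg] at this

end Line

theorem exists_unit_cocycle {S F G : Type*} [CommRing S] [IsDomain S] [IsGCDMonoid S]
    [Field F] [Algebra S F] [IsFractionRing S F] [Group G] [Finite G] (σ : G → S →+* S)
    (τ : G → F →+* F) (hστ : ∀ g s, τ g (algebraMap S F s) = algebraMap S F (σ g s))
    (hτ : ∀ g h x, τ (g * h) x = τ g (τ h x)) (hτ1 : ∀ x, τ 1 x = x) (c : G → F) (h1 : c 1 = 1)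
    (hc : ∀ g h, c (g * h) = c g * τ g (c h)) :
    ∃ b : G → S, b 1 = 1 ∧ (∀ g h, b (g * h) = b g * σ g (b h)) ∧
      ∀ g, (∀ x, τ g x = x) → algebraMap S F (b g) * c g = 1 := by
  classical
  letI := Fintype.ofFinite G
  letI : NormalizedGCDMonoid S := Classical.arbitrary _
  have inj := IsFractionRing.injective S F
  have c0 : ∀ g, c g ≠ 0 := fun g h => by simpa [h, h1] using hc g g⁻¹
  obtain ⟨⟨d, hd⟩, ha⟩ := IsLocalization.exist_integer_multiples_of_finite (nonZeroDivisors S) c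
  choose a ha using ha
  have d0 : algebraMap S F d ≠ 0 := IsFractionRing.to_map_ne_zero_of_mem_nonZeroDivisors hd
  simp only [Algebra.smul_def] at ha
  set γ := Finset.univ.gcd a
  set g₀ := algebraMap S F γ / algebraMap S F d with hg₀
  have k1 : ∀ g, ∃ s, c g = g₀ * algebraMap S F s := fun g => by
    obtain ⟨s, hs⟩ : γ ∣ a g := Finset.gcd_dvd (Finset.mem_univ g)
    exact ⟨s, by rw [hg₀, div_mul_eq_mul_div, ← map_mul, ← hs, ha, mul_div_cancel_left₀ _ d0]⟩
  have g0 : g₀ ≠ 0 := fun h => by obtain ⟨s, hs⟩ := k1 1; simp [h, h1] at hs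
  have k2 : ∀ y : F, (∀ g, ∃ s, c g = y * algebraMap S F s) → ∃ s, g₀ = y * algebraMap S F s :=
    fun y hy => by
      obtain ⟨b₁, b₂, hb, e⟩ := IsFractionRing.div_surjective (A := S) (y * algebraMap S F d)
      have b0 : algebraMap S F b₂ ≠ 0 := IsFractionRing.to_map_ne_zero_of_mem_nonZeroDivisors hb
      obtain ⟨s, hs⟩ : b₁ ∣ γ * b₂ := by
        refine Dvd.dvd.trans (Finset.dvd_gcd (s := Finset.univ) (f := fun g => a g * b₂)
          fun g _ => ?_) (Finset.gcd_mul_right' _ _ _).dvd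
        obtain ⟨s, hs⟩ := hy g
        refine ⟨s, inj ?_⟩
        rw [map_mul, map_mul, ha, hs, (div_eq_iff b0).1 e]; ring
      refine ⟨s, ?_⟩
      rw [hg₀, div_eq_iff d0, mul_right_comm, ← e, div_mul_eq_mul_div, ← map_mul, ← hs, map_mul,
        mul_div_cancel_right₀ _ b0]
  choose b hb using fun x => k2 (c x * τ x g₀) fun g => by
    obtain ⟨s, hs⟩ := k1 (x⁻¹ * g)
    exact ⟨σ x s, by rw [← hστ, mul_assoc, ← map_mul, ← hs, ← hc, mul_inv_cancel_left]⟩
  refine ⟨b, inj (mul_left_cancel₀ g0 ?_), fun g h => inj (mul_left_cancel₀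
    (mul_ne_zero (c0 (g * h)) ((map_ne_zero (τ (g * h))).2 g0)) ?_), fun g hg => ?_⟩
  · simpa [h1, hτ1] using (hb 1).symm
  · rw [← hb, map_mul, ← hστ, hc, hτ]
    conv_lhs => rw [hb g, hb h]
    simp only [map_mul]; ring
  · refine mul_left_cancel₀ g0 ?_
    conv_rhs => rw [mul_one, hb g, hg]
    ring

end Cfsg.Agent.Block
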