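import Mathlib
import Cfsg.Agent.Block.GenJordan

/-!
# Dade's splitting theorem for endo-permutation modules, through the generic point
-/

set_option autoImplicit false
set_option linter.unusedSectionVars false
set_option linter.style.haveILetI false

namespace Cfsg.Agent.Block

open Matrix

section Generic

variable {F n A X : Type*} [Field F] [Fintype n] [DecidableEq n] [Group A] [Fintype A] [Fintype X]
  [MulAction A X] {p : ℕ} [hp : Fact p.Prime] [CharP F p]

theorem exists_height (t : A → F) (hφ : ∀ x : X, (∃ a : A, a • x ≠ x) → ∃ φ : A → F,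
    (∀ a b, φ (a * b) = φ a + φ b) ∧ (∀ a, a • x = x → φ a = 0) ∧ ∑ a, t a * φ a ≠ 0) :
    ∃ (φ : X → A → F) (h : X → F), (∀ (a : A) x, φ (a • x) = φ x) ∧
      (∀ (a : A) x, h (a • x) = φ x a + h x) ∧
        ∀ x, ∑ a, t a * φ x a = 0 → ∀ a : A, a • x = x := by
  have h0 : ∀ x : X, ∃ φ : A → F, (∀ a b, φ (a * b) = φ a + φ b) ∧ (∀ a, a • x = x → φ a = 0) ∧
      (∑ a, t a * φ a = 0 → ∀ a : A, a • x = x) := fun x => by
    by_cases h : ∃ a : A, a • x ≠ x
    · exact (hφ x h).imp fun φ h => ⟨h.1, h.2.1, fun e => (h.2.2 e).elim⟩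
    · exact ⟨0, by simp, by simp, fun _ => by simpa using h⟩
  choose φ h1 h2 h3 using h0
  let rep : X → X := fun x => (Quotient.mk (MulAction.orbitRel A X) x).out
  have hr : ∀ (a : A) x, rep (a • x) = rep x := fun a x =>
    congrArg Quotient.out (Quotient.sound ⟨a, rfl⟩)
  choose g hg using fun x => show ∃ a : A, a • rep x = x from
    (MulAction.orbitRel A X).symm (Quotient.mk_out (s := MulAction.orbitRel A X) x)
  refine ⟨fun x => φ (rep x), fun x => φ (rep x) (g x), fun a x => by simp only [hr],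
    fun a x => ?_, fun x h a => ?_⟩
  · have := h2 (rep x) ((a * g x)⁻¹ * g (a • x)) (by
      rw [mul_smul, ← hr a, hg, hr, inv_smul_eq_iff, mul_smul, hg])
    simp only [hr]
    rw [← h1, ← mul_inv_cancel_left (a * g x) (g (a • x)), h1 _ (a * g x), this, add_zero]
  · rw [← hg x, h3 _ h, h3 _ h]

theorem commute_generic_aux {Λ : Type*} [CommRing Λ] [Algebra F Λ] [Module Λ (Matrix n n F)]
    [IsScalarTower F Λ (Matrix n n F)] [FaithfulSMul Λ (Matrix n n F)]
    (hn : (Fintype.card n : F) ≠ 0) (r : A →* Matrix n n F) (hr : ∀ a, r a ^ p = 1)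
    (L R : A → Λ) (hL : ∀ a m, L a • m = r a * m) (hR : ∀ a m, R a • m = m * r a)
    (P Q : X → Matrix n n F) (hPQ : ∀ y, ∑ x, trace (Q x * y) • P x = y)
    (hP : ∀ a x, r a * P x = P (a • x) * r a) (hQ : ∀ a x, r a * Q x = Q (a • x) * r a)
    (hfix : ∀ x, (∀ a : A, a • x = x) → ∃ c : F, P x = c • 1) (t : A → F)
    (hφ : ∀ x : X, (∃ a : A, a • x ≠ x) → ∃ φ : A → F,
      (∀ a b, φ (a * b) = φ a + φ b) ∧ (∀ a, a • x = x → φ a = 0) ∧ ∑ a, t a * φ a ≠ 0)
    (y : Matrix n n F) (hy : (∑ a, t a • (L a - R a)) • y = 0) :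
    ∃ (c : F) (z : Matrix n n F), y = c • 1 + (∑ a, t a • (L a - R a)) ^ (p - 1) • z := by
  obtain ⟨φ, h, h1, h2, h3⟩ := exists_height t hφ
  haveI : Nonempty n := Fintype.card_pos_iff.1 (Nat.pos_of_ne_zero fun e => hn (by simp [e]))
  have ext : ∀ {a b : Λ}, (∀ m : Matrix n n F, a • m = b • m) → a = b := eq_of_smul_eq_smul
  haveI : CharP Λ p := charP_of_injective_algebraMap (R := F) (fun a b e => by
    simpa using smul_left_injective F (one_ne_zero (α := Matrix n n F))
      (show a • (1 : Matrix n n F) = b • 1 by rw [← algebraMap_smul Λ, e, algebraMap_smul])) p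
  have hLp : ∀ a, L a ^ p = 1 := fun a => ext fun m => by
    have : ∀ j, L a ^ j • m = r a ^ j * m := fun j => by
      induction j with
      | zero => simp
      | succ j ih => rw [pow_succ', mul_smul, ih, hL, pow_succ', mul_assoc]
    rw [this, hr, one_mul, one_smul]
  have hRj : ∀ a (c : F) j (m : Matrix n n F),
      (c • (R a - 1)) ^ j • m = c ^ j • (m * (r a - 1) ^ j) := fun a c j m => by
    induction j with
    | zero => simp
    | succ j ih => rw [pow_succ', mul_smul, ih, smul_assoc, smul_comm, smul_smul, ← pow_succ',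
        smul_comm, sub_smul, hR, one_smul, pow_succ (r a - 1), ← mul_assoc, mul_sub, mul_one]
  have hr1 : ∀ a, (r a - 1) ^ p = 0 := fun a => by
    rw [sub_pow_char_of_commute _ (Commute.one_right _), hr, one_pow, sub_self]
  have hRp : ∀ a, R a ^ p = 1 := fun a => by
    have : (R a - 1) ^ p = 0 := ext fun m => by simpa [hr1] using hRj a 1 p m
    rwa [sub_pow_char, one_pow, sub_eq_zero] at this
  let pr : Matrix n n F →+ Matrix n n F := AddMonoidHom.mk'
    (fun m => (trace m / Fintype.card n) • 1) fun a b => by rw [trace_add, add_div, add_smul]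
  have hpr : ∀ c : F, pr (c • 1) = c • 1 := fun c => by simp [pr, hn]
  let I : Ideal Λ :=
    { carrier := {a | (∀ m, a • pr m = 0) ∧ ∀ m, pr (a • m) = 0}
      zero_mem' := by simp
      add_mem' := fun ha hb => by simp [add_smul, ha.1, ha.2, hb.1, hb.2]
      smul_mem' := fun c a ha => ⟨fun m => by rw [smul_eq_mul, mul_smul, ha.1, smul_zero],
        fun m => by rw [smul_eq_mul, mul_comm, mul_smul, ha.2]⟩ }
  let C : A → Λ := fun a => L a * R a⁻¹
  have hC : ∀ a m, C a • m = r a * m * r a⁻¹ := fun a m => by rw [mul_smul, hL, hR, mul_assoc]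
  have hCp : ∀ a, C a ^ p = 1 := fun a => by rw [mul_pow, hLp, hRp, one_mul]
  have hI : ∀ a, C a - 1 ∈ I := fun a => ⟨fun m => by simp [sub_smul, hC, pr, ← map_mul],
    fun m => by simp [sub_smul, hC, pr, trace_mul_cycle (r a), ← map_mul]⟩
  have hIp : ∀ a, (C a - 1) ^ p = 0 := fun a => by rw [sub_pow_char, hCp, one_pow, sub_self]
  have hx : ∑ a, t a • (C a - 1) ∈ I :=
    I.sum_mem fun a _ => by rw [Algebra.smul_def]; exact I.mul_mem_left _ (hI a)
  let δ : X → Λ := fun x => ∑ a, (t a * φ x a) • C a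
  let e : X → F := fun x => (∑ a, t a * φ x a) ^ p
  have hδ : ∀ x, δ x ^ p = algebraMap F Λ (e x) := fun x => by
    simp only [δ, e, sum_pow_char, smul_pow, hCp, map_sum, Algebra.algebraMap_eq_smul_one]
  let d : Matrix n n F →+ Matrix n n F := AddMonoidHom.mk' (fun m =>
    ∑ x, (h x * trace (Q x * m) * (e x)⁻¹) • δ x ^ (p - 1) • P x) fun a b => by
      simp only [mul_add, trace_add, add_mul, add_smul, Finset.sum_add_distrib]
  have hd : ∀ a m, d (C a • m) - C a • d m =
      ∑ x, (φ x a * trace (Q x * m) * (e x)⁻¹) • δ x ^ (p - 1) • C a • P x := fun a m => by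
    simp only [d, AddMonoidHom.mk'_apply, Finset.smul_sum]
    rw [← Equiv.sum_comp (MulAction.toPerm a), ← Finset.sum_sub_distrib]
    refine Finset.sum_congr rfl fun x _ => ?_
    have e1 : P (a • x) = C a • P x := by rw [hC, hP, mul_assoc, ← map_mul]; simp
    have e2 : trace (Q (a • x) * C a • m) = trace (Q x * m) := by
      rw [hC, ← mul_assoc, ← mul_assoc, ← hQ, trace_mul_comm, ← mul_assoc, ← mul_assoc, ← map_mul]
      simp
    simp only [MulAction.toPerm_apply, e1, e2, h2, δ, e, h1]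
    rw [smul_comm (C a), smul_comm (C a), ← sub_smul]
    congr 1; ring
  have key := Ex.sum (I := I) (fun a ha => ha.1) (fun a ha => ha.2) (fun m => hpr _) Finset.univ
    (β := fun a => t a • (R a - 1)) hI hIp (fun a => ⟨p, ext fun m => by simp [hRj, hr1]⟩)
    (fun a i m => by
      have : trace ((r a - 1) ^ (i + 1)) = 0 := (isNilpotent_trace_of_isNilpotent
        (IsNilpotent.pow_succ i ⟨p, hr1 a⟩)).eq_zero
      simp [hRj, pr, this]) hx (by simp [sum_pow_char, smul_pow, hIp])
    (ex_of_weyl (I := I) (fun a ha => ha.1) (fun a ha => ha.2) (fun m => hpr _) hx d fun m => by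
      have k1 : d ((∑ a, t a • (C a - 1)) • m) - (∑ a, t a • (C a - 1)) • d m =
          ∑ x, (trace (Q x * m) * ((e x)⁻¹ * e x)) • P x := by
        have hdc : ∀ (c : F) m, d (c • m) = c • d m := fun c m => by
          simp only [d, AddMonoidHom.mk'_apply, Finset.smul_sum, Matrix.mul_smul, trace_smul,
            smul_smul c, smul_eq_mul, mul_assoc, mul_left_comm c]
        simp only [Finset.sum_smul, map_sum, smul_assoc, hdc, sub_smul, one_smul, map_sub,
          ← Finset.sum_sub_distrib, ← smul_sub, sub_sub_sub_cancel_right, hd, Finset.smul_sum]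
        rw [Finset.sum_comm]
        refine Finset.sum_congr rfl fun x _ => ?_
        rw [← mul_assoc, mul_smul _ (e x), ← algebraMap_smul Λ (e x), ← hδ,
          ← pow_sub_one_mul hp.out.ne_zero (δ x), mul_smul (δ x ^ (p - 1))]
        generalize δ x ^ (p - 1) = w
        simp only [δ, Finset.sum_smul, Finset.smul_sum, smul_assoc]
        refine Finset.sum_congr rfl fun a _ => ?_
        rw [smul_comm w (t a * φ x a), smul_smul (t a), smul_smul _ (t a * φ x a)]
        congr 1; ring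
      have k2 : ∀ x, ∃ c : F, trace (Q x * m) • P x -
          (trace (Q x * m) * ((e x)⁻¹ * e x)) • P x = c • 1 := fun x => by
        by_cases hx : e x = 0
        · obtain ⟨c, hc⟩ := hfix x (h3 x (pow_eq_zero_iff hp.out.ne_zero |>.1 hx))
          exact ⟨_, by rw [hx, hc, mul_zero, mul_zero, zero_smul, sub_zero, smul_smul]⟩
        · exact ⟨0, by rw [inv_mul_cancel₀ hx, mul_one, sub_self, zero_smul]⟩
      choose c hc using k2
      refine ⟨(∑ x, c x) • 1, ?_⟩
      rw [k1, hpr, Finset.sum_smul, eq_sub_iff_add_eq, ← Finset.sum_add_distrib]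
      simp only [← hc, add_sub_cancel, hPQ])
  have e3 : ∑ a, t a • (C a - 1) + ∑ a, (C a - 1) * t a • (R a - 1) = ∑ a, t a • (L a - R a) := by
    rw [← Finset.sum_add_distrib]
    refine Finset.sum_congr rfl fun a _ => ?_
    have : C a * R a = L a := ext fun m => by
      rw [mul_smul, hR, hC, hL, ← mul_assoc, mul_assoc _ (r a), ← map_mul]; simp
    rw [mul_smul_comm, ← smul_add, ← this]
    congr 1; ring
  rw [e3] at key
  have hx' : ∑ a, t a • (L a - R a) ∈ I :=
    e3 ▸ I.add_mem hx (I.sum_mem fun a _ => I.mul_mem_right _ (hI a))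
  obtain ⟨z, hz⟩ := key.1 (y - pr y) (by rw [map_sub, sub_eq_zero]; exact (hpr _).symm)
    (by rw [smul_sub, hy, hx'.1, sub_zero])
  exact ⟨_, z, (sub_eq_iff_eq_add'.1 hz)⟩

open scoped IsMulCommutative in
theorem commute_generic (hn : (Fintype.card n : F) ≠ 0) (r : A →* Matrix n n F)
    (hr : ∀ a, r a ^ p = 1) (hrc : ∀ a b, r a * r b = r b * r a)
    (P Q : X → Matrix n n F) (hPQ : ∀ y, ∑ x, trace (Q x * y) • P x = y)
    (hP : ∀ a x, r a * P x = P (a • x) * r a) (hQ : ∀ a x, r a * Q x = Q (a • x) * r a)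
    (hfix : ∀ x, (∀ a : A, a • x = x) → ∃ c : F, P x = c • 1) (t : A → F)
    (hφ : ∀ x : X, (∃ a : A, a • x ≠ x) → ∃ φ : A → F,
      (∀ a b, φ (a * b) = φ a + φ b) ∧ (∀ a, a • x = x → φ a = 0) ∧ ∑ a, t a * φ a ≠ 0)
    {θ : Matrix n n F} (hθ : θ = ∑ a, t a • (r a - 1)) (y : Matrix n n F) (hy : θ * y = y * θ) :
    ∃ c : F, ∀ v, θ *ᵥ v = 0 → ∃ z, θ ^ (p - 1) *ᵥ z = y *ᵥ v - c • v := by
  let s : Set (Module.End F (Matrix n n F)) := Set.range (fun a => LinearMap.mulLeft F (r a)) ∪
    Set.range fun a => LinearMap.mulRight F (r a)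
  haveI := Algebra.isMulCommutative_adjoin F (s := s) (by
    rintro _ (⟨a, rfl⟩ | ⟨a, rfl⟩) _ (⟨b, rfl⟩ | ⟨b, rfl⟩) <;> refine LinearMap.ext fun m => ?_
    · simp [← mul_assoc, hrc a b]
    · simp [mul_assoc]
    · simp [mul_assoc]
    · simp [mul_assoc, hrc a b])
  let L : A → Algebra.adjoin F s := fun a => ⟨_, Algebra.subset_adjoin (Or.inl ⟨a, rfl⟩)⟩
  let R : A → Algebra.adjoin F s := fun a => ⟨_, Algebra.subset_adjoin (Or.inr ⟨a, rfl⟩)⟩
  have hL : ∀ a m, L a • m = r a * m := fun _ _ => rfl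
  have hR : ∀ a m, R a • m = m * r a := fun _ _ => rfl
  have h1 : ∀ m : Matrix n n F, (∑ a, t a • (L a - R a)) • m = θ * m - m * θ := fun m => by
    simp only [hθ, Finset.sum_smul, smul_assoc, Finset.sum_mul, Finset.mul_sum,
      Matrix.smul_mul, Matrix.mul_smul, ← Finset.sum_sub_distrib, ← smul_sub, sub_mul, mul_sub,
      one_mul, mul_one, sub_sub_sub_cancel_right]
    rfl
  obtain ⟨c, z, e⟩ := commute_generic_aux hn r hr L R hL hR P Q hPQ hP hQ hfix t hφ y
    (by rw [h1, hy, sub_self])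
  refine ⟨c, fun v hv => ⟨z *ᵥ v, ?_⟩⟩
  have h2 : ∀ j, ((∑ a, t a • (L a - R a)) ^ j • z) *ᵥ v = θ ^ j *ᵥ z *ᵥ v := fun j => by
    induction j with
    | zero => simp
    | succ j ih => rw [pow_succ', mul_smul, h1, sub_mulVec, ← mulVec_mulVec, ← mulVec_mulVec, hv, ih,
        mulVec_zero, sub_zero, pow_succ', ← mulVec_mulVec]
  rw [e, add_mulVec, h2, smul_mulVec, one_mulVec, add_sub_cancel_left]

end Generic

theorem sum_pow_char_eq_zero {R ι : Type*} [Semiring R] {p : ℕ} [hp : Fact p.Prime] [CharP R p]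
    (s : Finset ι) (f : ι → R) (hc : ∀ a b, Commute (f a) (f b)) (h : ∀ a, f a ^ p = 0) :
    (∑ i ∈ s, f i) ^ p = 0 := by
  classical
  induction s using Finset.induction_on with
  | empty => simp [hp.out.ne_zero]
  | insert a s ha ih => rw [Finset.sum_insert ha, add_pow_char_of_commute _
      (Commute.sum_right _ _ _ fun b _ => hc a b), h, ih, add_zero]

open MvPolynomial in
theorem dade_core {k n A X H : Type*} [Field k] [Fintype n] [DecidableEq n] [Group A] [Fintype A]
    [Fintype X] [MulAction A X] {p : ℕ} [hp : Fact p.Prime] [CharP k p] [Group H] [Finite H]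
    (hn : (Fintype.card n : k) ≠ 0) (r : A →* Matrix n n k)
    (hr : ∀ a, r a ^ p = 1) (hrc : ∀ a b, r a * r b = r b * r a)
    (P Q : X → Matrix n n k) (hPQ : ∀ y, ∑ x, trace (Q x * y) • P x = y)
    (hP : ∀ a x, r a * P x = P (a • x) * r a) (hQ : ∀ a x, r a * Q x = Q (a • x) * r a)
    (hfix : ∀ x, (∀ a : A, a • x = x) → ∃ c : k, P x = c • 1)
    (hφ : ∀ (x : X) (a : A), a • x ≠ x → ∃ l : A →* Multiplicative (ZMod p),
      (∀ b, b • x = x → l b = 1) ∧ l a ≠ 1)
    (u : H →* Matrix n n k) (σ : H →* Equiv.Perm A) (hu : ∀ h a, u h * r a = r (σ h a) * u h) :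
    ∃ c : H →* kˣ, ∀ h (μ : k), σ h = 1 → u h = μ • 1 → (c h : k) = μ := by
  classical
  obtain ⟨F, _, _, _⟩ : ∃ (F : Type _) (_ : Field F) (_ : Algebra (MvPolynomial A k) F),
    IsFractionRing (MvPolynomial A k) F := ⟨FractionRing (MvPolynomial A k), _, _, inferInstance⟩
  let ι := algebraMap (MvPolynomial A k) F
  let f : k →+* F := ι.comp C
  have inj := IsFractionRing.injective (MvPolynomial A k) F
  haveI : CharP F p := charP_of_injective_ringHom f.injective p
  let t : A → F := fun a => ι (MvPolynomial.X a)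
  let m : Matrix n n k →+* Matrix n n F := f.mapMatrix
  have hm : ∀ (c : k) y, m (c • y) = f c • m y := fun c y => by ext i j; simp [m]
  let θ : Matrix n n F := ∑ a, t a • (m (r a) - 1)
  have hnF : (Fintype.card n : F) ≠ 0 := by rw [← map_natCast f]; exact (map_ne_zero f).2 hn
  haveI : Nonempty n := Fintype.card_pos_iff.1 (Nat.pos_of_ne_zero fun e => hn (by simp [e]))
  have h1 := commute_generic hnF (m.toMonoidHom.comp r)
    (fun a => by simpa using congrArg m (hr a)) (fun a b => by simpa using congrArg m (hrc a b))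
    (fun x => m (P x)) (fun x => m (Q x)) (fun y => by
      induction y using Matrix.induction_on' with
      | h_zero => simp
      | h_add a b ha hb => simp only [mul_add, trace_add, add_smul, Finset.sum_add_distrib, ha, hb]
      | h_std_basis i j c =>
        have e1 : single i j c = c • m (single i j 1) := by
          simp [m, Matrix.map_single _ _ _ f]
        rw [e1]
        conv_rhs => rw [← hPQ (single i j 1)]
        simp only [map_sum, hm, Matrix.mul_smul, trace_smul, Finset.smul_sum, smul_assoc, ← map_mul]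
        simp only [m, RingHom.mapMatrix_apply, ← AddMonoidHom.map_trace])
    (fun a x => by simpa using congrArg m (hP a x)) (fun a x => by simpa using congrArg m (hQ a x))
    (fun x hx => by obtain ⟨c, hc⟩ := hfix x hx; exact ⟨f c, by simp only [hc, hm, map_one]⟩) t
    (fun x ⟨a, ha⟩ => by
      obtain ⟨l, hl, hl'⟩ := hφ x a ha
      let ψ : A → k := fun b => ZMod.castHom dvd_rfl k (l b).toAdd
      refine ⟨fun b => f (ψ b), fun a b => by simp only [ψ, map_mul, toAdd_mul, map_add],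
        fun b hb => by simp [ψ, hl b hb], fun h => hl' (toAdd_eq_zero.1 ?_)⟩
      have := congrArg (eval (Pi.single a 1)) (inj (a₁ := ∑ b, MvPolynomial.X b * C (ψ b))
        (a₂ := 0) (by simpa [map_sum, t, f, ι] using h))
      refine (map_eq_zero (ZMod.castHom dvd_rfl k)).1 (show ψ a = 0 from ?_)
      simpa [Pi.single_apply] using this) (θ := θ) rfl
  have hθp : θ ^ p = 0 := sum_pow_char_eq_zero _ _ (fun a b =>
    ((((show Commute (r a) (r b) from hrc a b).map m).sub_right (Commute.one_right _)).sub_left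
        (Commute.one_left _)).smul_left _ |>.smul_right _) fun a => by
      rw [smul_pow, sub_pow_char_of_commute _ (Commute.one_right _), ← map_pow m, hr]; simp
  obtain ⟨w, hw, hw', hw''⟩ := exists_line (p := p) (θ := toLinAlgEquiv' θ)
    (by rw [← map_pow, hθp, map_zero])
    (by rwa [Module.finrank_fintype_fun_eq_card, ← CharP.cast_eq_zero_iff F p]) fun y hy => by
      obtain ⟨y, rfl⟩ := toLinAlgEquiv'.surjective y
      obtain ⟨c, hc⟩ := h1 y (toLinAlgEquiv'.injective (by rwa [map_mul, map_mul]))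
      exact ⟨c, fun v hv => by rw [← map_pow]; exact hc v hv⟩
  let e : H →* MvPolynomial A k ≃+* MvPolynomial A k := MonoidHom.mk'
    (fun h => (renameEquiv k (σ h)).toRingEquiv) fun g h => RingEquiv.ext fun x => by simp
  let τ : H →* F ≃+* F := (IsFractionRing.ringEquivOfRingEquivHom _ F).comp e
  have hτ : ∀ h s, τ h (ι s) = ι (rename (σ h) s) := fun h s =>
    IsFractionRing.ringEquivOfRingEquiv_algebraMap _ s
  have hτm : ∀ h y, (m y).map (τ h) = m y := fun h y => by ext i j; simp [m, f, hτ]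
  let T : ∀ h : H, (n → F) →ₛₗ[(τ h : F →+* F)] n → F := fun h =>
    { toFun := fun v => m (u h) *ᵥ (τ h ∘ v)
      map_add' := fun a b => by rw [← mulVec_add]; congr 1; ext i; simp
      map_smul' := fun a b => by
        rw [← mulVec_smul]; congr 1; ext i; simp }
  have hT : ∀ h (y : Matrix n n F) v, T h (y *ᵥ v) = (m (u h) * y.map (τ h)) *ᵥ (τ h ∘ v) :=
    fun h y v => by
      rw [← mulVec_mulVec]
      exact congrArg (m (u h) *ᵥ ·) (funext fun i => RingHom.map_mulVec (τ h : F →+* F) y v i)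
  have hTθ : ∀ h v, T h (θ *ᵥ v) = θ *ᵥ T h v := fun h v => by
    have : θ.map (τ h) = ∑ a, t (σ h a) • (m (r a) - 1) := by
      ext i j
      by_cases hij : i = j <;> simp [θ, Matrix.sum_apply, t, hτ, m, f, one_apply, hij]
    rw [hT, this]
    simp only [T, LinearMap.coe_mk, AddHom.coe_mk, mulVec_mulVec, θ, Finset.mul_sum, Finset.sum_mul]
    rw [← Equiv.sum_comp (σ h) fun a => t a • (m (r a) - 1) * m (u h)]
    simp only [Matrix.mul_smul, Matrix.smul_mul, mul_sub, sub_mul, ← map_mul, hu, mul_one, one_mul]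
  have hTr : ∀ h v, v ∈ LinearMap.range (toLinAlgEquiv' θ ^ (p - 1)) →
      T h v ∈ LinearMap.range (toLinAlgEquiv' θ ^ (p - 1)) := by
    rintro h _ ⟨v, rfl⟩
    refine ⟨T h v, ?_⟩
    induction p - 1 with
    | zero => rfl
    | succ j ih => rw [pow_succ', Module.End.mul_apply, ih]; exact (hTθ h _).symm
  choose c hc using fun h => hw'' (T h w) (by
    rw [toLinAlgEquiv'_apply, ← hTθ, show θ *ᵥ w = 0 from hw, map_zero])
  have huniq : ∀ h d, T h w - d • w ∈ LinearMap.range (toLinAlgEquiv' θ ^ (p - 1)) → c h = d :=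
    fun h d hd => by
      by_contra hne
      have := sub_mem hd (hc h)
      rw [sub_sub_sub_cancel_left, ← sub_smul] at this
      exact hw' ((Submodule.smul_mem_iff _ (sub_ne_zero.2 hne)).1 this)
  have hs : ∀ h (μ : k), σ h = 1 → u h = μ • 1 → (∀ x, τ h x = x) ∧ c h = f μ := fun h μ h1 h2 => by
    have : e h = 1 := RingEquiv.ext fun x => by simp [e, h1]
    have h3 : ∀ x, τ h x = x := fun x => by simp only [τ, MonoidHom.comp_apply, this, map_one]; rfl
    refine ⟨h3, huniq h _ ?_⟩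
    simp [T, h2, hm, smul_mulVec, Function.comp_def, h3]
  obtain ⟨b, hb1, hb, hb'⟩ := exists_unit_cocycle (fun h => (rename (R := k) (σ h)).toRingHom)
    (fun h => (τ h : F →+* F)) hτ (fun g h x => by simp) (fun x => by simp) c
    (by simpa using (hs 1 1 (map_one σ) (by simp)).2) fun g h => huniq _ _ (by
      have e1 : T (g * h) w = T g (T h w) := by
        rw [show T h w = m (u h) *ᵥ (τ h ∘ w) from rfl, hT, hτm, ← map_mul, ← map_mul]
        simp only [T, LinearMap.coe_mk, AddHom.coe_mk, map_mul τ]; rfl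
      have := add_mem (hTr g _ (hc h)) (Submodule.smul_mem _ ((τ g : F →+* F) (c h)) (hc g))
      rwa [map_sub, map_smulₛₗ, smul_sub, smul_smul, ← e1, mul_comm, sub_add_sub_cancel] at this)
  choose β hβ hβ' using fun h => isUnit_iff_eq_C_of_isReduced.1
    (IsUnit.of_mul_eq_one _ (by rw [← hb h h⁻¹, mul_inv_cancel, hb1]))
  refine ⟨(MonoidHom.mk' (fun h => (hβ h).unit) fun g h => Units.ext (C_injective A k ?_))⁻¹,
    fun h μ h1 h2 => ?_⟩
  · simpa [hβ'] using hb g h
  · have := hb' h (hs h μ h1 h2).1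
    rw [(hs h μ h1 h2).2, hβ'] at this
    simpa using (eq_inv_of_mul_eq_one_right (f.injective (by rw [map_mul, map_one]; exact this))).symm

theorem exists_rank_factor {k n : Type*} [Field k] [Fintype n] [DecidableEq n] {E : Matrix n n k}
    (hE : E * E = E) : ∃ (m : ℕ) (P : Matrix n (Fin m) k) (Q : Matrix (Fin m) n k),
      Q * P = 1 ∧ P * Q = E := by
  let U := LinearMap.range (toLin' E)
  let b := (Module.finBasis k U).equivFun
  refine ⟨_, LinearMap.toMatrix' (U.subtype ∘ₗ b.symm.toLinearMap),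
    LinearMap.toMatrix' (b.toLinearMap ∘ₗ (toLin' E).rangeRestrict), ?_, ?_⟩
  · rw [← LinearMap.toMatrix'_comp, ← LinearMap.toMatrix'_id]
    refine congrArg _ (LinearMap.ext fun v => b.symm.injective (Subtype.ext ?_))
    obtain ⟨x, hx⟩ := (b.symm v).2
    simp only [LinearMap.comp_apply, LinearEquiv.coe_coe, LinearEquiv.symm_apply_apply,
      LinearMap.id_apply, Submodule.subtype_apply, ← hx]
    simp [hE]
  · rw [← LinearMap.toMatrix'_comp]
    exact (congrArg _ (LinearMap.ext fun v => by simp)).trans (LinearMap.toMatrix'_toLin' E)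

theorem dade_mid {k n w G K C A H : Type*} [Field k] [Fintype n] [DecidableEq n] [Fintype w]
    [DecidableEq w] [Nonempty w] [Group G] [Group K] [Fintype K] [Group C] [Fintype C] [Group A]
    [Fintype A] [MulDistribMulAction A K] {p : ℕ} [hp : Fact p.Prime] [CharP k p] [Group H]
    [Finite H] (ρ : G →* Matrix n n k) (σ : H →* Matrix w w k) (i : K →* G) (j : C →* K)
    (π : H →* G) (s : C →* H) (α : A →* G) (hα : Function.Injective α)
    (hs : ∀ c, π (s c) = i (j c)) (hAK : ∀ a x, α a * i x = i (a • x) * α a)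
    (hfix : ∀ x : K, (∀ a : A, a • x = x) ↔ ∃ c, j c = x)
    (hφ : ∀ (x : K) (a : A), a • x ≠ x → ∃ l : A →* Multiplicative (ZMod p),
      (∀ b, b • x = x → l b = 1) ∧ l a ≠ 1)
    (hr : ∀ a, ρ (α (a ^ p)) = 1) (hrc : ∀ a b, ρ (α a) * ρ (α b) = ρ (α b) * ρ (α a))
    (e : H → C ≃* C) (he : ∀ γ c, γ * s c = s (e γ c) * γ)
    (τ : H →* Equiv.Perm A) (hτ : ∀ γ a, π γ * α a = α (τ γ a) * π γ) {c₁ c₂ κ : k}
    (h₁ : ∀ y, ∑ x : K, (c₁ * trace (ρ (i x⁻¹) * y)) • ρ (i x) = y)
    (h₂ : ∀ y, ∑ x : C, (c₂ * trace (σ (s x⁻¹) * y)) • σ (s x) = y) (hκ : κ ≠ 0)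
    (htr : ∀ c, trace (ρ (i (j c))) = κ * trace (σ (s c))) :
    ∃ l : H →* kˣ, (∀ c, l (s c) = 1) ∧ ∀ z (μ : k), π z = 1 → σ z = μ • 1 → l z * μ = 1 := by
  let J : Matrix w w k → Matrix n n k := fun y =>
    ∑ x : C, (c₂ * trace (σ (s x⁻¹) * y)) • ρ (π (s x))
  have hJs : ∀ (c : k) y, J (c • y) = c • J y := fun c y => by
    simp only [J, Finset.smul_sum, smul_smul, Matrix.mul_smul, trace_smul, smul_eq_mul,
      mul_left_comm c]
  have hJl : ∀ c y, ρ (π (s c)) * J y = J (σ (s c) * y) := fun c y => by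
    simp only [J, Finset.mul_sum, Matrix.mul_smul, ← map_mul, ← mul_assoc]
    rw [← Equiv.sum_comp (Equiv.mulLeft c) fun x => _ • ρ (π (s x))]
    simp
  have hJm : ∀ y z, J y * J z = J (y * z) := fun y z => by
    conv_rhs => rw [← h₂ y]
    conv_lhs => enter [1]; simp only [J]
    simp only [Finset.sum_mul, Matrix.smul_mul, hJl, ← hJs]
    simp only [J, Finset.mul_sum, trace_sum, Finset.sum_smul]
    exact Finset.sum_comm
  have hJc : ∀ γ y, ρ (π γ) * J y = J (σ γ * y * σ γ⁻¹) * ρ (π γ) := fun γ y => by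
    simp only [J, Finset.mul_sum, Finset.sum_mul, Matrix.mul_smul, Matrix.smul_mul, ← map_mul, he]
    refine Fintype.sum_equiv (e γ).toEquiv _ _ fun x => ?_
    rw [← mul_assoc, ← mul_assoc, trace_mul_cycle, ← map_mul, ← map_mul, MulEquiv.toEquiv_eq_coe,
      EquivLike.coe_coe, ← map_inv (e γ), ← he γ x⁻¹, inv_mul_cancel_left]
  have hAC : ∀ a c, α a * π (s c) = π (s c) * α a := fun a c => by
    rw [hs, hAK, (hfix _).2 ⟨c, rfl⟩]
  have hJa : ∀ a y, ρ (α a) * J y = J y * ρ (α a) := fun a y => by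
    simp only [J, Finset.mul_sum, Finset.sum_mul, Matrix.mul_smul, Matrix.smul_mul, ← map_mul, hAC]
  have hJt : ∀ y, trace (J y) = κ * trace y := fun y => by
    conv_rhs => rw [← h₂ y]
    simp only [J, trace_sum, trace_smul, hs, htr, Finset.mul_sum, smul_eq_mul, mul_left_comm κ]
  obtain ⟨o⟩ := ‹Nonempty w›
  obtain ⟨m, P, Q, hQP, hPQ⟩ := exists_rank_factor (E := J (single o o 1)) (by rw [hJm]; simp)
  have hQ : Q * J (single o o 1) = Q := by rw [← hPQ, ← Matrix.mul_assoc, hQP, Matrix.one_mul]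
  have hm : ∀ y z : Matrix n n k, y * J (single o o 1) = J (single o o 1) * y →
      Q * y * P * (Q * z * P) = Q * (y * z) * P := fun y z h => by
    rw [show Q * y * P * (Q * z * P) = Q * (y * (P * Q)) * z * P by simp only [Matrix.mul_assoc],
      hPQ, h, ← Matrix.mul_assoc, hQ, Matrix.mul_assoc Q]
  have hm' : ∀ y z : Matrix n n k, z * J (single o o 1) = J (single o o 1) * z →
      Q * y * P * (Q * z * P) = Q * (y * z) * P := fun y z h => by
    rw [show Q * y * P * (Q * z * P) = Q * y * ((P * Q) * z) * P by simp only [Matrix.mul_assoc],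
      hPQ, ← h, ← hPQ]
    simp only [Matrix.mul_assoc, hQP, Matrix.mul_one]
  have hJ1 : ∀ y, Q * J y * P = (single o o (1 : k) * y * single o o (1 : k)) o o • 1 := fun y => by
    rw [← hQP, ← Matrix.mul_one (Q * J y * P), ← hQP, ← hQ, ← Matrix.mul_assoc (_ * P),
      Matrix.mul_assoc _ P, ← Matrix.mul_assoc P, hPQ, hJm, Matrix.mul_assoc Q, Matrix.mul_assoc Q,
      hJm, hJm, ← Matrix.smul_mul, ← Matrix.mul_smul, ← hJs]
    congr 3
    ext a b
    by_cases ha : o = a <;> by_cases hb : o = b <;> simp [ha, hb, mul_apply, single_apply, ite_and]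
  have hu : ∀ γ y, J (σ γ⁻¹) * ρ (π γ) * J y = J y * (J (σ γ⁻¹) * ρ (π γ)) := fun γ y => by
    rw [mul_assoc, hJc, ← mul_assoc, ← mul_assoc, hJm, hJm, ← mul_assoc, ← mul_assoc, ← map_mul]
    simp
  let r : A →* Matrix (Fin m) (Fin m) k :=
    { toFun := fun a => Q * ρ (α a) * P
      map_one' := by simp [hQP]
      map_mul' := fun a b => by rw [hm _ _ (hJa a _), map_mul, map_mul] }
  let u : H →* Matrix (Fin m) (Fin m) k :=
    { toFun := fun γ => Q * (J (σ γ⁻¹) * ρ (π γ)) * P
      map_one' := by simp [hJ1]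
      map_mul' := fun a b => by
        rw [hm _ _ (hu a _), ← mul_assoc (_ * _), hu, ← mul_assoc, mul_assoc _ (ρ (π a)), hJm]
        simp only [← map_mul, _root_.mul_inv_rev] }
  obtain ⟨l, hl⟩ := dade_core (p := p) (X := K) (by
      have := hJt (single o o 1)
      rw [← hPQ, trace_mul_comm, hQP, trace_one] at this
      rw [this]; simpa using hκ) r (fun a => by
      rw [← map_pow]; simp only [r, MonoidHom.coe_mk, OneHom.coe_mk, hr, Matrix.mul_one, hQP])
    (fun a b => by simp only [r, MonoidHom.coe_mk, OneHom.coe_mk, hm _ _ (hJa _ _), hrc a b])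
    (fun x => Q * ρ (i x) * P) (fun x => c₁ • (Q * ρ (i x⁻¹) * P)) (fun y => by
      have := congrArg (fun z => Q * z * P) (h₁ (P * y * Q))
      simp only [Matrix.mul_sum, Matrix.sum_mul, Matrix.mul_smul, Matrix.smul_mul,
        ← Matrix.mul_assoc, hQP, Matrix.one_mul, trace_mul_comm _ Q] at this
      simpa [Matrix.mul_assoc, hQP] using this)
    (fun a x => by simp only [r, MonoidHom.coe_mk, OneHom.coe_mk, hm _ _ (hJa _ _),
      hm' _ _ (hJa _ _), ← map_mul, hAK])
    (fun a x => by simp only [r, MonoidHom.coe_mk, OneHom.coe_mk, hm _ _ (hJa _ _), Matrix.mul_smul,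
      Matrix.smul_mul, hm' _ _ (hJa _ _), ← map_mul, hAK, smul_inv'])
    (fun x hx => by
      obtain ⟨c, rfl⟩ := (hfix x).1 hx
      refine ⟨_, Eq.trans ?_ (hJ1 (σ (s c) * single o o 1))⟩
      rw [← hJl, ← hPQ, hs]
      simp only [Matrix.mul_assoc, hQP, Matrix.mul_one]) hφ u τ fun γ a => by
      simp only [r, u, MonoidHom.coe_mk, OneHom.coe_mk, hm _ _ (hJa _ _), hm' _ _ (hJa _ _)]
      rw [mul_assoc, ← map_mul, hτ, map_mul, ← mul_assoc, ← hJa, mul_assoc]
  refine ⟨l, fun c => Units.ext (hl _ 1 (Equiv.ext fun a => hα ?_) ?_), fun z μ hz hσ => ?_⟩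
  · exact mul_right_cancel ((hτ _ a).symm.trans (hAC a c).symm)
  · have := hJc (s c) (σ (s c)⁻¹)
    simp only [← map_mul, mul_inv_cancel, one_mul, hJl] at this
    simp [u, ← this, hJ1]
  · have h1 : σ z⁻¹ = μ⁻¹ • 1 ∧ μ ≠ 0 := by
      have := (map_mul σ z z⁻¹).symm
      rw [hσ, mul_inv_cancel, map_one, Matrix.smul_mul, one_mul] at this
      have h0 : μ ≠ 0 := by rintro rfl; simpa using congrFun (congrFun this o) o
      exact ⟨by rw [← this, smul_smul, inv_mul_cancel₀ h0, one_smul], h0⟩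
    rw [hl z μ⁻¹ (Equiv.ext fun a => hα (by simpa [hz] using (hτ z a).symm))
      (by simp [u, h1.1, hz, hJ1]), inv_mul_cancel₀ h1.2]

end Cfsg.Agent.Block
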