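import Mathlib
import Cfsg.Agent.Block.Red
import Cfsg.Agent.Block.Wed
import Cfsg.Agent.Char.Irr
import Cfsg.Agent.Char.Degrees

/-!
# Reduction modulo `M` of a representation which is irreducible on a `p'`-group
-/

set_option autoImplicit false
set_option linter.unusedSectionVars false
set_option linter.style.haveILetI false

namespace Cfsg.Agent.Block

open Cfsg Cfsg.Agent.Char Matrix

variable {M : Ideal AlgInt} {p : ℕ} {N Γ : Type*} [Group N] [Fintype N] [Group Γ] [Finite Γ]

theorem exists_basis_val_le (M : Ideal AlgInt) {n : ℕ} (τ : Representation ℂ Γ (Fin n → ℂ)) :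
    ∃ (ι : Type) (_ : Fintype ι) (_ : DecidableEq ι) (b : Module.Basis ι ℂ (Fin n → ℂ)),
      ∀ g i j, val M (LinearMap.toMatrix b b (τ g) i j) ≤ 1 := by
  classical
  let L := Submodule.span (valRing M) (Set.range fun x : Γ × Fin n => τ x.1 (Pi.single x.2 1))
  haveI : Submodule.IsLattice ℂ L := ⟨Submodule.fg_span (Set.finite_range _), by
    rw [eq_top_iff, ← (Pi.basisFun ℂ (Fin n)).span_eq]
    refine Submodule.span_mono ?_
    rintro _ ⟨i, rfl⟩
    exact Submodule.subset_span ⟨(1, i), by simp⟩⟩
  haveI : Module.Flat (valRing M) L := Module.Flat.flat_iff_torsion_eq_bot_of_isBezout.2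
    (Submodule.isTorsionFree_iff_torsion_eq_bot.1 inferInstance)
  haveI : Module.Free (valRing M) L := Module.free_of_flat_of_isLocalRing
  let b := Module.Free.chooseBasis (valRing M) L
  refine ⟨_, inferInstance, inferInstance, b.extendOfIsLattice ℂ, fun g i j => ?_⟩
  have h1 : ∀ v ∈ L, τ g v ∈ L := fun v hv => by
    induction hv using Submodule.span_induction with
    | mem v hv => obtain ⟨x, rfl⟩ := hv; exact Submodule.subset_span ⟨(g * x.1, x.2), by simp⟩
    | zero => simp
    | add a c _ _ ha hc => rw [map_add]; exact add_mem ha hc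
    | smul a c _ hc => rw [LinearMap.map_smul_of_tower]; exact L.smul_mem _ hc
  have h2 := congrArg Subtype.val (b.sum_repr ⟨_, h1 _ (b j).2⟩)
  simp only [AddSubmonoidClass.coe_finset_sum, SetLike.val_smul] at h2
  rw [LinearMap.toMatrix_apply, Module.Basis.extendOfIsLattice_apply, ← h2]
  simp only [← Module.Basis.extendOfIsLattice_apply ℂ b, ← algebraMap_smul ℂ (b.repr _ _),
    Module.Basis.repr_sum_self]
  exact (mem_valRing_iff _).1 (Subtype.property _)

/-- `ρ` is a reduction modulo `M` of a representation with character `χ`, which is absolutely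
irreducible on the image of `s`. -/
structure RedRep (M : Ideal AlgInt) (s : N →* Γ) (χ : Γ → ℂ) {n : Type} [Fintype n]
    [DecidableEq n] (ρ : Γ →* Matrix n n (resField M)) : Prop where
  tr : ∀ γ, trace (ρ γ) = red M (χ γ)
  card : (Fintype.card n : resField M) ≠ 0
  inv : ∃ c : resField M, ∀ y, ∑ x : N, (c * trace (ρ (s x⁻¹) * y)) • ρ (s x) = y

theorem exists_redRep (hM : IsPModular p M) (hN : ¬ p ∣ Nat.card N) (s : N →* Γ) {χ : Γ → ℂ}
    (hχ : IsCharacter Γ χ) (hθ : IsIrrCharacter N fun x => χ (s x)) :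
    ∃ (n : Type) (_ : Fintype n) (_ : DecidableEq n) (ρ : Γ →* Matrix n n (resField M)),
      RedRep M s χ ρ := by
  obtain ⟨n, τ, rfl⟩ := hχ
  obtain ⟨ι, _, _, b, hb⟩ := exists_basis_val_le M τ
  let φ := LinearMap.toMatrixAlgEquiv b
  replace hb : ∀ g i j, val M (φ (τ g) i j) ≤ 1 := hb
  let ρ : Γ →* Matrix ι ι (resField M) :=
    { toFun := fun g => (φ (τ g)).map (red M)
      map_one' := by rw [map_one, map_one, Matrix.map_one _ red_zero red_one]
      map_mul' := fun g h => by
        ext i j
        rw [map_mul, map_mul, map_apply, mul_apply, red_sum fun k _ => val_mul_le_one (hb ..) (hb ..)]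
        exact Finset.sum_congr rfl fun k _ => red_mul (hb ..) (hb ..) }
  have htr : ∀ g, τ.character g = trace (φ (τ g)) := fun g => LinearMap.trace_eq_matrix_trace ℂ b _
  have hd : τ.character (s 1) = Fintype.card ι := by simp [htr]
  have hc : ¬ p ∣ Fintype.card ι := fun h => hN (h.trans (hθ.deg_dvd_card hd))
  have hc' : (Fintype.card ι : ℂ) ≠ 0 := Nat.cast_ne_zero.2 fun h => hc (h ▸ dvd_zero p)
  haveI := charP_resField hM
  haveI := isIrreducible_of_isIrrCharacter (τ.comp s) hθ
  have key : ∀ i j k l, ∑ x : N, φ (τ (s x)) i j * φ (τ (s x⁻¹)) k l =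
      if j = k ∧ i = l then (Nat.card N : ℂ) / Fintype.card ι else 0 := fun i j k l => by
    obtain ⟨c, hc⟩ := exists_scalar_of_commute (τ.comp s)
      (∑ x : N, τ (s x) * φ.symm (single j k 1) * τ (s x⁻¹)) fun g => by
        simp only [← Module.End.mul_eq_comp, Finset.sum_mul, Finset.mul_sum, MonoidHom.comp_apply]
        rw [← Equiv.sum_comp (Equiv.mulLeft g)]
        refine Finset.sum_congr rfl fun x _ => ?_
        simp only [Equiv.coe_mulLeft, mul_assoc, ← map_mul, _root_.mul_inv_rev, inv_mul_cancel, mul_one]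
        simp only [map_mul, mul_assoc]
    replace hc := congrArg φ hc
    simp only [map_sum, map_mul, AlgEquiv.apply_symm_apply, map_smul, ← Module.End.one_eq_id,
      map_one] at hc
    have h1 := congrArg trace hc
    simp only [trace_sum, trace_mul_cycle (φ (τ (s _))), ← map_mul, inv_mul_cancel, map_one,
      one_mul, trace_smul, trace_one, Finset.sum_const, Finset.card_univ, smul_eq_mul] at h1
    have h2 := congrFun (congrFun hc i) l
    simp only [Matrix.sum_apply, mul_apply, single_apply, mul_ite, mul_one, mul_zero, ite_and,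
      Finset.sum_ite_eq, Finset.mem_univ, if_true, ite_mul, zero_mul, Finset.sum_ite_irrel,
      Finset.sum_const_zero] at h2
    rw [h2, ← (div_eq_iff hc').2 h1, Nat.card_eq_fintype_card]
    by_cases hjk : j = k <;> by_cases hil : i = l <;> simp [hjk, hil]
  have hv : val M ((Nat.card N : ℂ) / Fintype.card ι) = 1 := by
    rw [map_div₀, (val_natCast_eq_one_iff hM _).2 hN, (val_natCast_eq_one_iff hM _).2 hc, div_one]
  refine ⟨ι, _, _, ρ, fun g => ?_, (CharP.cast_eq_zero_iff _ p _).not.2 hc,
    (red M ((Nat.card N : ℂ) / Fintype.card ι))⁻¹, fun y => ?_⟩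
  · rw [htr, trace, trace, red_sum fun k _ => by exact hb g k k]; rfl
  · have key' : ∀ i j k l, ∑ x : N, ρ (s x) i j * ρ (s x⁻¹) k l =
        if j = k ∧ i = l then red M ((Nat.card N : ℂ) / Fintype.card ι) else 0 := fun i j k l => by
      rw [← red_zero, ← apply_ite (red M), ← key, red_sum fun k _ => val_mul_le_one (hb ..) (hb ..)]
      exact Finset.sum_congr rfl fun k _ => (red_mul (hb ..) (hb ..)).symm
    ext i j
    simp only [Matrix.sum_apply, Matrix.smul_apply, trace, diag_apply, mul_apply, smul_eq_mul, mul_assoc,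
      ← Finset.mul_sum, Finset.sum_mul]
    rw [inv_mul_eq_iff_eq_mul₀ ((red_ne_zero_iff hv.le).2 hv), Finset.sum_comm]
    simp only [Finset.sum_comm (γ := N), mul_left_comm _ (y _ _), mul_comm (ρ (s _⁻¹) _ _),
      ← Finset.mul_sum, key']
    simp [ite_and, mul_comm]

theorem RedRep.exists_eq_smul {s : N →* Γ} {χ : Γ → ℂ} {n : Type} [Fintype n] [DecidableEq n]
    {ρ : Γ →* Matrix n n (resField M)} (h : RedRep M s χ ρ) {y : Matrix n n (resField M)}
    (hy : ∀ x, y * ρ (s x) = ρ (s x) * y) : ∃ c : resField M, y = c • 1 := by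
  obtain ⟨c, hc⟩ := h.inv
  refine matrix_eq_smul_one_of_central fun z => ?_
  rw [← hc z]
  simp only [Finset.mul_sum, Finset.sum_mul, Matrix.mul_smul, Matrix.smul_mul, hy]

end Cfsg.Agent.Block
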