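import Mathlib
import Cfsg.Agent.Block.Red

/-! Teichmüller lifting of multiplicative functions modulo the maximal ideal; a valuation
version of Nakayama's lemma for finite linear systems. -/

namespace Cfsg.Agent.Block

open Cfsg

variable {M : Ideal AlgInt} {p : ℕ}

/-- An element whose `m`-th power is congruent to `1` is congruent to an `m`-th root of unity. -/
theorem exists_root_of_val_pow_sub_one_lt {s : ℂ} {m : ℕ} (hm : m ≠ 0)
    (h : val M (s ^ m - 1) < 1) : ∃ ζ : ℂ, ζ ^ m = 1 ∧ val M (ζ - s) < 1 := by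
  have hω := Complex.isPrimitiveRoot_exp m hm
  have h1 := hω.pow_sub_pow_eq_prod_sub_mul s 1 (Nat.pos_of_ne_zero hm)
  rw [one_pow] at h1
  rw [h1, map_prod] at h
  by_contra hc
  push Not at hc
  refine absurd h (not_lt.2 (Finset.one_le_prod' fun ζ hζ => ?_))
  rw [mul_one, val_sub_comm]
  exact hc ζ ((Polynomial.mem_nthRootsFinset (Nat.pos_of_ne_zero hm) 1).1 hζ)

theorem val_sub_one_lt_of_val_pow (hM : IsPModular p M) {s : ℂ} (hs : val M s ≤ 1) {a : ℕ}
    (h : val M (s ^ p ^ a - 1) < 1) : val M (s - 1) < 1 := by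
  have := Fact.mk hM.1
  have := charP_resField hM
  rw [← red_eq_iff (val_pow_le_one hs _) (by simp), red_pow hs, red_one] at h
  rw [← red_eq_iff hs (by simp), red_one]
  have h1 : (red M s - 1) ^ p ^ a = 0 := by rw [sub_pow_char_pow, h, one_pow, sub_self]
  exact sub_eq_zero.1 (pow_eq_zero_iff (pow_ne_zero _ hM.1.ne_zero) |>.1 h1)

theorem eq_of_pow_eq_one_of_val_sub_lt (hM : IsPModular p M) {x y : ℂ} {m : ℕ} (hm : ¬ p ∣ m)
    (hx : x ^ m = 1) (hy : y ^ m = 1) (h : val M (x - y) < 1) : x = y := by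
  have hm0 : m ≠ 0 := fun h0 => hm (h0 ▸ dvd_zero p)
  have hv := val_eq_one_of_pow_eq_one (M := M) hm0 hy
  have hy0 := ne_zero_of_val_eq_one hv
  have h1 : x / y = 1 := by
    refine eq_one_of_pow_eq_one_of_val_sub_lt hM hm (by rw [div_pow, hx, hy, div_one]) ?_
    rw [div_sub_one hy0, map_div₀, hv, div_one]
    exact h
  exact (div_eq_one_iff_eq hy0).1 h1

/-- A function which is multiplicative modulo the maximal ideal is congruent to a linear character
of order prime to `p`. -/
theorem exists_hom_congr {G : Type*} [Group G] [Finite G] (hM : IsPModular p M) (s : G → ℂ)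
    (hs : ∀ g, val M (s g) ≤ 1) (h1 : val M (s 1 - 1) < 1)
    (hmul : ∀ a b, val M (s (a * b) - s a * s b) < 1) :
    ∃ lam : G →* ℂˣ, (∀ g, val M (lam g - s g) < 1) ∧ ∀ g, val M (s g - 1) < 1 → lam g = 1 := by
  obtain ⟨a, m, hm, hn⟩ := Nat.exists_eq_pow_mul_and_not_dvd (Nat.card_pos (α := G)).ne' p
    hM.1.ne_one
  have hm0 : m ≠ 0 := fun h0 => hm (h0 ▸ dvd_zero p)
  have hpow : ∀ g (n : ℕ), val M (s g ^ n - s (g ^ n)) < 1 := by
    intro g n
    induction n with
    | zero => rwa [pow_zero, pow_zero, val_sub_comm]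
    | succ n ih =>
      refine val_sub_trans (b := s (g ^ n) * s g) ?_ ?_
      · rw [pow_succ, ← sub_mul]
        exact val_mul_lt_one_left ih (hs g)
      · rw [val_sub_comm, pow_succ]
        exact hmul _ _
  have hex : ∀ g, ∃ ζ : ℂ, ζ ^ m = 1 ∧ val M (ζ - s g) < 1 := fun g => by
    refine exists_root_of_val_pow_sub_one_lt hm0
      (val_sub_one_lt_of_val_pow hM (val_pow_le_one (hs g) m) (a := a) ?_)
    rw [← pow_mul, mul_comm, ← hn]
    have := hpow g (Nat.card G)
    rw [pow_card_eq_one'] at this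
    exact val_sub_trans this h1
  choose ζ hζ hζs using hex
  have hv : ∀ g, val M (ζ g) = 1 := fun g => val_eq_one_of_pow_eq_one hm0 (hζ g)
  have hζmul : ∀ a b, ζ (a * b) = ζ a * ζ b := fun a b => by
    refine eq_of_pow_eq_one_of_val_sub_lt hM hm (hζ _) (by rw [mul_pow, hζ, hζ, mul_one]) ?_
    refine val_sub_trans (hζs _) (val_sub_trans (hmul a b) ?_)
    rw [show s a * s b - ζ a * ζ b = -((ζ a - s a) * s b + ζ a * (ζ b - s b)) by ring,
      Valuation.map_neg]
    exact val_add_lt_one (val_mul_lt_one_left (hζs a) (hs b))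
      (val_mul_lt_one_right (hv a).le (hζs b))
  have hone : ∀ g, val M (s g - 1) < 1 → ζ g = 1 := fun g hg =>
    eq_one_of_pow_eq_one_of_val_sub_lt hM hm (hζ g) (val_sub_trans (hζs g) hg)
  refine ⟨MonoidHom.toHomUnits ⟨⟨ζ, hone 1 h1⟩, hζmul⟩, hζs, fun g hg => Units.ext (hone g hg)⟩

/-- Nakayama's lemma for a finite linear system with small coefficients. -/
theorem eq_zero_of_eq_sum_small {ι : Type*} [Fintype ι] (v : ι → ℂ) (m : ι → ι → ℂ)
    (hm : ∀ i j, val M (m i j) < 1) (h : ∀ i, v i = ∑ j, m i j * v j) (i : ι) : v i = 0 := by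
  obtain ⟨j, -, hj⟩ := Finset.exists_max_image Finset.univ (fun i => val M (v i))
    ⟨i, Finset.mem_univ i⟩
  by_contra h0
  have h1 : val M (v j) ≠ 0 := by
    intro h2
    have := hj i (Finset.mem_univ i)
    rw [h2, le_zero_iff, Valuation.zero_iff] at this
    exact h0 this
  refine lt_irrefl (val M (v j)) ?_
  conv_lhs => rw [h j]
  refine (val M).map_sum_lt h1 fun l _ => ?_
  rw [map_mul]
  calc val M (m j l) * val M (v l) ≤ val M (m j l) * val M (v j) :=
        mul_le_mul_right (hj l (Finset.mem_univ l)) _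
    _ < val M (v j) := mul_lt_of_lt_one_left (zero_lt_iff.2 h1) (hm j l)

end Cfsg.Agent.Block
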