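import Mathlib
import Cfsg.Agent.Block.DadeCore
import Cfsg.Agent.Block.ModRep
import Cfsg.Agent.Block.Teich
import Cfsg.Agent.Block.CorExt
import Cfsg.Agent.Block.IntAlg
import Cfsg.Agent.Char.AmbExt
import Cfsg.Agent.Char.TripleIso
import Cfsg.Agent.Grp.PFrattini
import Cfsg.Agent.PLocal.CharPBase

/-!
# Extendibility passes to the Glauberman correspondent (Dade)
-/

set_option autoImplicit false
set_option linter.unusedSectionVars false
set_option linter.style.haveILetI false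

namespace Cfsg.Agent.Block

open Cfsg Cfsg.Agent.Char Subgroup Cfsg.Agent.PLocal.Amb Matrix
open scoped commutatorElement

universe u

variable {M : Ideal AlgInt} {p : ℕ} [hp : Fact p.Prime] {Γ : Type u} [Group Γ] [Finite Γ]

/-- modulo `M`, the restriction of `θ` is a nonzero multiple of `ξ` -/
def GRel (M : Ideal AlgInt) {K C : Subgroup Γ} (θ : K → ℂ) (ξ : C → ℂ) : Prop :=
  ∃ κ : resField M, κ ≠ 0 ∧ ∀ (c : C) (h : (c : Γ) ∈ K), red M (θ ⟨c, h⟩) = κ * red M (ξ c)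

theorem GRel.trans {K B C : Subgroup Γ} (h : C ≤ B) {θ : K → ℂ} {η : B → ℂ} {ξ : C → ℂ}
    (h1 : GRel M θ η) (h2 : GRel M η ξ) : GRel M θ ξ := by
  obtain ⟨a, ha, h1⟩ := h1
  obtain ⟨b, hb, h2⟩ := h2
  exact ⟨a * b, mul_ne_zero ha hb, fun c hc => by rw [h1 ⟨c, h c.2⟩ hc, h2 c, mul_assoc]⟩

theorem exists_grel (hM : IsPModular p M) {K C A H : Subgroup Γ} (hK : ¬ p ∣ Nat.card K)
    (hA : IsPGroup p A) (hAH : A ≤ H) (hHA : H ≤ 𝐍[A]) (hHK : H ≤ 𝐍[K]) (hC : C = K ⊓ 𝐂[A])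
    (θ : IrrCharacter K) (hθ : InvBy H θ.1) :
    ∃ ξ : IrrCharacter C, GRel M θ.1 ξ.1 ∧ InvBy H ξ.1 := by
  classical
  haveI := charP_resField hM
  have hCK : C ≤ K := hC ▸ inf_le_left
  have hHC : H ≤ 𝐍[C] := hC ▸ le_normalizer_inf hHK (le_normalizer_centralizer hHA)
  have hi : ∀ ξ : C → ℂ, InvBy A ξ := fun ξ =>
    invBy_of_centralizer ξ (hC ▸ inf_le_right)
  have h := gcorr_centralizer hA (hAH.trans hHK) hK hC hCK
  obtain ⟨ξ, -, hξ⟩ := h.ex θ (hθ.mono hAH)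
  refine ⟨ξ, ⟨(nmult hCK θ.1 ξ.1 : resField M), fun h0 => hξ ((CharP.cast_eq_zero_iff _ p _).1 h0),
    fun c hc => ?_⟩, (h.invBy_iff hHK hHC (fun χ hχ y => hχ.smul (hAH.trans hHK) _ (hHA y.2))
      (fun _ _ _ => hi _) (hθ.mono hAH) (hi _) hξ).1 hθ⟩
  rw [restrict_eq_sum_nmult hCK θ.2.isCharacter c,
    red_sum fun η _ => val_mul_le_one (val_natCast_le_one _) (val_irr_le_one η c),
    Finset.sum_eq_single ξ, red_mul (val_natCast_le_one _) (val_irr_le_one ξ c), red_natCast]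
  · intro η _ hη
    rw [red_mul (val_natCast_le_one _) (val_irr_le_one η c), red_natCast,
      (CharP.cast_eq_zero_iff _ p _).2, zero_mul]
    by_contra h0
    exact hη (h.uniq θ (hθ.mono hAH) _ _ (hi _) (hi _) h0 hξ)
  · exact fun h => absurd (Finset.mem_univ _) h

theorem exists_hom_red (hM : IsPModular p M) (l : Γ →* (resField M)ˣ) :
    ∃ lam : Γ →* ℂˣ, (∀ g, red M (lam g) = l g) ∧ ∀ g, l g = 1 → lam g = 1 := by
  choose s hs hs' using fun g => exists_red_eq (M := M) (l g : resField M)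
  have h1 : ∀ g, l g = 1 → val M (s g - 1) < 1 := fun g hg =>
    (red_eq_iff (hs g) (map_one _).le).1 (by rw [hs', red_one, hg, Units.val_one])
  obtain ⟨lam, h2, h3⟩ := exists_hom_congr hM s hs (h1 1 (map_one l)) fun a b =>
    (red_eq_iff (hs _) (val_mul_le_one (hs a) (hs b))).1 (by
      rw [red_mul (hs a) (hs b), hs', hs', hs', map_mul, Units.val_mul])
  refine ⟨lam, fun g => ?_, fun g hg => h3 g (h1 g hg)⟩
  rw [← hs']
  refine (red_eq_iff ?_ (hs g)).2 (h2 g)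
  have := val_add_le_one (h2 g).le (hs g)
  rwa [sub_add_cancel] at this

theorem dgn_step (hM : IsPModular p M) {K C A H : Subgroup Γ} (hK : ¬ p ∣ Nat.card K)
    (hA : IsPGroup p A) (hAH : A ≤ H) (hHA : H ≤ 𝐍[A]) (hHK : H ≤ 𝐍[K]) (hC : C = K ⊓ 𝐂[A])
    (hΦ : K ≤ 𝐂[(frattini A).map A.subtype]) (θ : IrrCharacter K) (hθ : HasExt θ.1 (K ⊔ H)) :
    ∃ ξ : IrrCharacter C, GRel M θ.1 ξ.1 ∧ HasExt ξ.1 (C ⊔ H) := by
  classical
  haveI := charP_resField hM
  letI := Fintype.ofFinite K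
  letI := Fintype.ofFinite A
  obtain ⟨χ, hχ⟩ := hθ
  have hCK : C ≤ K := hC ▸ inf_le_left
  have hHC : H ≤ 𝐍[C] := hC ▸ le_normalizer_inf hHK (le_normalizer_centralizer hHA)
  have hUA : C ⊔ H ≤ 𝐍[A] :=
    sup_le ((hC ▸ inf_le_right : C ≤ 𝐂[A]).trans (centralizer_le_normalizer' A)) hHA
  have hUL : C ⊔ H ≤ K ⊔ H := sup_le_sup_right hCK H
  obtain ⟨ξ, hξ, hξi⟩ := exists_grel hM hK hA hAH hHA hHK hC θ
    ((hχ.invBy le_sup_left (invBy_self χ.2.isCharacter.isClassFunction)).mono le_sup_right)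
  refine ⟨ξ, hξ, ?_⟩
  obtain ⟨κ, hκ, hξ⟩ := hξ
  haveI hn : (C.subgroupOf (C ⊔ H)).Normal := normal_subgroupOf' (sup_le le_normalizer hHC)
  letI := Fintype.ofFinite (C.subgroupOf (C ⊔ H))
  have hξ' := isIrr_subgroupOf (le_sup_left : C ≤ C ⊔ H) ξ.2
  obtain ⟨Γ', _, _, π, s, η, h, hker⟩ := exists_isTripleLift' (C.subgroupOf (C ⊔ H)) hξ'
    (fun g n => (invBy_self ξ.2.isCharacter.isClassFunction).sup le_normalizer hHC hξi g g.2 _ _ rfl)
  have hC' : ¬ p ∣ Nat.card (C.subgroupOf (C ⊔ H)) := fun h0 => hK (h0.trans (by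
    rw [Nat.card_congr (subgroupOfEquivOfLe le_sup_left).toEquiv]
    exact card_dvd_of_le hCK))
  replace hker : ¬ p ∣ Nat.card π.ker := fun h0 => by
    rcases (Nat.Prime.dvd_mul hp.out).1 (h0.trans hker) with h1 | h1
    · exact hC' (h1.trans (hξ'.deg_dvd_card (coe_charDegree_of_isCharacter hξ'.isCharacter).symm))
    · exact hC' (h1.trans (detOrder_dvd_card _))
  obtain ⟨n, _, _, ρ, hρ⟩ := exists_redRep hM hK (inclusion (le_sup_left : K ≤ K ⊔ H))
    χ.2.isCharacter (by have := θ.2; rwa [← hχ.eq le_sup_left] at this)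
  obtain ⟨w, _, _, σ, hσ⟩ := exists_redRep hM hC' s h.irr.isCharacter (h.comp_eq.symm ▸ hξ')
  obtain ⟨c₁, h₁⟩ := hρ.inv
  obtain ⟨c₂, h₂⟩ := hσ.inv
  haveI : Nonempty w := Fintype.card_pos_iff.1 (Nat.pos_of_ne_zero fun h0 => hσ.card (by simp [h0]))
  letI : MulDistribMulAction A K :=
    MulDistribMulAction.compHom K (K.normalizerMonoidHom.comp (inclusion (hAH.trans hHK)))
  have hsm : ∀ (a : A) (x : K), ((a • x : K) : Γ) = a * x * (a : Γ)⁻¹ := fun _ _ => rfl
  have hc : ∀ a ∈ frattini A, ∀ x : K, (a : Γ) * x = x * a := fun a ha x => hΦ x.2 _ ⟨a, ha, rfl⟩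
  let α : A →* (K ⊔ H : Subgroup Γ) := inclusion (hAH.trans le_sup_right)
  have hr : ∀ a ∈ frattini A, ρ (α a) = 1 := fun a ha => by
    obtain ⟨c, hc⟩ := hρ.exists_eq_smul (y := ρ (α a)) fun x => by
      rw [← map_mul, ← map_mul]; exact congrArg ρ (Subtype.ext (hc a ha x))
    obtain ⟨m, hm⟩ := hA a
    have h1 := congrArg (fun y => trace (y ^ p ^ m)) hc
    simp only [← map_pow, hm, map_one, _root_.smul_pow, one_pow, trace_smul, trace_one,
      smul_eq_mul] at h1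
    have h2 : (c - 1) ^ p ^ m = 0 := by
      rw [sub_pow_char_pow, one_pow, (mul_eq_right₀ hρ.card).1 h1.symm, sub_self]
    rw [hc, sub_eq_zero.1 (pow_eq_zero_iff (pow_pos hp.out.pos m).ne' |>.1 h2), one_smul]
  obtain ⟨l, hl, hl'⟩ := dade_mid (p := p) ρ σ (inclusion le_sup_left)
    ((inclusion hCK).comp (subgroupOfEquivOfLe (le_sup_left : C ≤ C ⊔ H)).toMonoidHom)
    ((inclusion hUL).comp π) s α (inclusion_injective _)
    (fun c => congrArg (inclusion hUL) (h.sec c))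
    (fun a x => Subtype.ext (by simp [α, hsm]))
    (fun x => ⟨fun hx => by
      have : (x : Γ) ∈ C := hC ▸ ⟨x.2, fun a ha =>
        mul_inv_eq_iff_eq_mul.1 (congrArg Subtype.val (hx ⟨a, ha⟩))⟩
      exact ⟨⟨⟨x, mem_sup_left this⟩, this⟩, rfl⟩, by
      rintro ⟨c, rfl⟩ a
      exact Subtype.ext (mul_inv_eq_iff_eq_mul.2 ((hC.le c.2).2 a a.2))⟩)
    (fun x a ha => by
      obtain ⟨l, h1, h2⟩ := exists_hom_zmod' hA (N := MulAction.stabilizer A x)
        (fun b hb => Subtype.ext (by rw [hsm, hc b hb, mul_inv_cancel_right])) ha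
      exact ⟨l, fun b hb => h1 hb, h2⟩)
    (fun a => hr _ (Grp.PFrattini.pow_mem_frattini hA a))
    (fun a b => by
      rw [← map_mul, ← map_mul, ← map_mul, ← map_mul, show a * b = ⁅a, b⁆ * (b * a) by
        simp [commutatorElement_def], map_mul, map_mul, hr _ (Grp.PFrattini.commutator_le_frattini hA (commutator_mem_commutator (mem_top a)
          (mem_top b))), one_mul])
    (fun γ => MulAut.conjNormal (π γ)) (fun γ c => by
      rw [← mul_inv_eq_iff_eq_mul, h.conj_sec]; rfl)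
    ((MulAut.toPerm A).comp (A.normalizerMonoidHom.comp ((inclusion hUA).comp π)))
    (fun γ a => Subtype.ext (inv_mul_cancel_right _ _).symm) h₁ h₂ hκ (fun c => by
      rw [hρ.tr, hσ.tr, h.apply_sec]
      exact (congrArg (red M) (hχ ⟨_, hCK c.2⟩ _)).trans (hξ ⟨_, c.2⟩ _))
  obtain ⟨lam, h1, h2⟩ := exists_hom_red hM l
  obtain ⟨ν, hν⟩ := exists_central_hom h.irr π.ker h.ker_le
  obtain ⟨ψ, -, h3, h4⟩ := exists_deflation_of_surjective π h.surj
    (h.irr.mul_linear lam).isCharacter fun z hz => by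
      obtain ⟨μ, hμ⟩ := hσ.exists_eq_smul (y := σ z) fun x => by
        rw [← map_mul, ← map_mul, mem_center_iff.1 (h.ker_le hz)]
      have h5 := hl' z μ (by rw [MonoidHom.comp_apply, MonoidHom.mem_ker.1 hz, map_one]) hμ
      have h6 := hν ⟨z, hz⟩ 1
      have hv : ∀ (a : ℂˣ), a ^ Nat.card π.ker = 1 → (a : ℂ) ^ Nat.card π.ker = 1 := fun a ha => by
        rw [← Units.val_pow_eq_pow_val, ha, Units.val_one]
      have h7 := hv (ν ⟨z, hz⟩) (by rw [← map_pow, pow_card_eq_one', map_one])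
      have h8 := hv (lam z) (by
        rw [← map_pow, show z ^ Nat.card π.ker = 1 from
          congrArg Subtype.val (pow_card_eq_one' (x := (⟨z, hz⟩ : π.ker))), map_one])
      have h9 := (val_eq_one_of_pow_eq_one (M := M) Nat.card_pos.ne' h7).le
      have h10 := (val_eq_one_of_pow_eq_one (M := M) Nat.card_pos.ne' h8).le
      rw [mul_one] at h6
      have h11 := hσ.tr z
      rw [h6, red_mul h9 (val_char_le_one h.irr.isCharacter 1), ← hσ.tr, map_one, hμ, trace_smul,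
        trace_one, smul_eq_mul, mul_left_inj' hσ.card] at h11
      have h12 : (lam z : ℂ) * ν ⟨z, hz⟩ = 1 :=
        eq_of_pow_eq_one_of_val_sub_lt hM hker (by rw [mul_pow, h7, h8, one_mul]) (one_pow _)
          ((red_eq_iff (val_mul_le_one h10 h9) (map_one _).le).1 (by
            rw [red_mul h10 h9, h1, ← h11, h5, red_one]))
      change η z * lam z = η 1 * lam 1
      rw [h6, map_one, Units.val_one, mul_one, mul_assoc, mul_comm (η 1), ← mul_assoc,
        mul_comm _ (lam z : ℂ), h12, one_mul]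
  refine ⟨⟨ψ, h4 (h.irr.mul_linear lam)⟩, fun c hc => ?_⟩
  have := h3 (s ⟨⟨c, hc⟩, c.2⟩)
  rw [h.sec, h.apply_sec, h2 _ (hl _), Units.val_one, mul_one] at this
  exact this

/-- Dade: if `θ` extends to `K H`, its Glauberman correspondent extends to `C_K(P) H`. -/
theorem dgn (hM : IsPModular p M) {K H : Subgroup Γ} (hK : ¬ p ∣ Nat.card K) (hHK : H ≤ 𝐍[K])
    (θ : IrrCharacter K) (hθ : HasExt θ.1 (K ⊔ H)) {P : Subgroup Γ} (hP : IsPGroup p P)
    (hPH : P ≤ H) (hHP : H ≤ 𝐍[P]) {C : Subgroup Γ} (hC : C = K ⊓ 𝐂[P]) :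
    ∃ ξ : IrrCharacter C, GRel M θ.1 ξ.1 ∧ HasExt ξ.1 (C ⊔ H) := by
  induction h : Nat.card P using Nat.strong_induction_on generalizing P C with
  | _ n ih =>
  by_cases h0 : P = ⊥
  · obtain rfl : C = K := by rw [hC, h0, inf_eq_left]; exact fun x _ y hy => by simp_all
    exact ⟨θ, ⟨1, one_ne_zero, fun c _ => (one_mul _).symm⟩, hθ⟩
  have hle : (frattini P).map P.subtype ≤ P := map_subtype_le _
  have hlt : Nat.card ((frattini P).map P.subtype) < n := by
    haveI := (nontrivial_iff_ne_bot P).2 h0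
    rw [card_map_of_injective P.subtype_injective, ← h]
    exact Grp.card_lt_of_ne_top fun h1 => bot_ne_top
      (frattini_nongenerating (K := (⊥ : Subgroup P)) (by rw [h1, sup_top_eq]))
  have hH := hHP.trans (PLocal.CP.normalizer_le_normalizer_map_subtype P (frattini P))
  obtain ⟨η, h1, h2⟩ := ih _ hlt (hP.to_le hle) (hle.trans hPH) hH rfl rfl
  have hC' : C = (K ⊓ 𝐂[(frattini P).map P.subtype]) ⊓ 𝐂[P] := by
    rw [hC, inf_assoc, inf_eq_right.2 (centralizer_anti hle)]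
  obtain ⟨ξ, h3, h4⟩ := dgn_step hM (fun h => hK (h.trans (card_dvd_of_le inf_le_left))) hP hPH hHP
    (le_normalizer_inf hHK (le_normalizer_centralizer hH)) hC' inf_le_right η h2
  exact ⟨ξ, h1.trans (hC'.le.trans inf_le_left) h3, h4⟩

end Cfsg.Agent.Block
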