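import Mathlib
import Cfsg.Agent.Block.Perf
import Cfsg.Agent.Block.RankQuot
import Cfsg.Agent.Block.Transport
import Cfsg.Agent.Char.FS
import Cfsg.Agent.Block.Count

/-!
# Perfect isometries with positive signs: symmetry, transport, induction
-/

set_option autoImplicit false
set_option linter.unusedSectionVars false
set_option linter.style.haveILetI false

namespace Cfsg.Agent.Block

open Cfsg Cfsg.Agent.Char Subgroup
open scoped ComplexConjugate

variable {G H : Type*} [Group G] [Finite G] [Group H] [Finite H] {M : Ideal AlgInt} {p : ℕ}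

/-- the conditions on a value of a perfect function -/
structure Good (p : ℕ) (M : Ideal AlgInt) (x : G) (y : H) (z : ℂ) : Prop where
  left : val M (z / Nat.card (centralizer ({x} : Set G))) ≤ 1
  right : val M (z / Nat.card (centralizer ({y} : Set H))) ≤ 1
  sep : z ≠ 0 → (p ∣ orderOf x ↔ p ∣ orderOf y)

/-- there is a perfect isometry with positive signs -/
def PIso (p : ℕ) (M : Ideal AlgInt) (c : Set (IrrCharacter H)) (b : Set (IrrCharacter G)) : Prop :=
  ∃ e : c ≃ b, ∀ x y, Good p M x y (∑ᶠ η : c, (e η).1.1 x * η.1.1 y)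

variable {c : Set (IrrCharacter H)} {b : Set (IrrCharacter G)}

theorem PIso.of_index {ι : Type*} (u : ι ≃ c) (v : ι ≃ b)
    (h : ∀ x y, Good p M x y (∑ᶠ i, (v i).1.1 x * (u i).1.1 y)) : PIso p M c b :=
  ⟨u.symm.trans v, fun x y => by
    rw [← finsum_comp_equiv u]
    simpa using h x y⟩

theorem PIso.symm (h : PIso p M c b) : PIso p M b c := by
  obtain ⟨e, h⟩ := h
  refine .of_index e (Equiv.refl _) fun y x => ?_
  simp only [Equiv.refl_apply, mul_comm (_ : ℂ) ((e _).1.1 x)]
  exact ⟨(h x y).right, (h x y).left, fun h0 => ((h x y).sep h0).symm⟩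

theorem PIso.perfect (hM : IsPModular p M) (h : PIso p M c b) :
    ∃ I ε, IsPerfectIsometry p M c b I ε := by
  classical
  obtain ⟨e, h⟩ := h
  letI := Fintype.ofFinite c
  refine ⟨fun η => if hη : η ∈ c then e ⟨η, hη⟩ else irrOne G, fun _ => 1,
    ⟨fun η hη => ?_, fun η hη ξ hξ h1 => ?_, fun χ hχ => ?_⟩, fun _ _ => Or.inl rfl, fun x y => ?_⟩
  · simp only [dif_pos hη]; exact Subtype.property _
  · simp only [dif_pos hη, dif_pos hξ] at h1
    exact congrArg Subtype.val (e.injective (Subtype.ext h1))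
  · exact ⟨e.symm ⟨χ, hχ⟩, Subtype.property _, by simp⟩
  · have h1 : signedBijectionKernel c (fun η => if hη : η ∈ c then e ⟨η, hη⟩ else irrOne G)
        (fun _ => 1) x y = ∑ᶠ η : c, (e η).1.1 x * η.1.1 y := by
      rw [signedBijectionKernel, ← finsum_set_coe_eq_finsum_mem]
      exact finsum_congr fun η => by simp
    have halg : IsAlgebraic ℤ (∑ᶠ η : c, (e η).1.1 x * η.1.1 y) := isAlgebraic_finsum fun η =>
      (((e η).1.2.isCharacter.isIntegral x).mul (η.1.2.isCharacter.isIntegral y)).isAlgebraic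
    rw [h1]
    refine ⟨memLocalRing_of_val hM (isAlgebraic_div halg (isAlgebraic_natCast _)) (h x y).left,
      memLocalRing_of_val hM (isAlgebraic_div halg (isAlgebraic_natCast _)) (h x y).right, ?_⟩
    by_cases h0 : ∑ᶠ η : c, (e η).1.1 x * η.1.1 y = 0
    · exact Or.inr h0
    · exact Or.inl (not_congr ((h x y).sep h0))

theorem card_mul_blockRank_equiv [Fact p.Prime] [Fintype G] [Fintype H] (hM : IsPModular p M)
    (hb : eSet b ∈ intAlg M G) (e : c ≃ b) :
    (Nat.card H : ℂ) * (Nat.card G * blockRank p b) = ∑ x : G, ∑ y : H, if p ∣ orderOf x then 0 else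
      (∑ᶠ η : c, (e η).1.1 x * η.1.1 y) * conj (∑ᶠ η : c, (e η).1.1 x * η.1.1 y) := by
  classical
  letI := Fintype.ofFinite c
  rw [card_mul_blockRank hM hb, Finset.mul_sum]
  refine Finset.sum_congr rfl fun x _ => ?_
  split_ifs with hx
  · simp [regPart_of_dvd _ hx]
  rw [regPart_of_not_dvd _ hx, ← finsum_set_coe_eq_finsum_mem, ← finsum_comp_equiv e]
  simp only [finsum_eq_sum_of_fintype, map_sum, map_mul, Finset.sum_mul_sum]
  rw [Finset.sum_comm, Finset.mul_sum]
  refine Finset.sum_congr rfl fun η _ => ?_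
  rw [Finset.sum_comm]
  simp only [mul_mul_mul_comm ((e η).1.1 x) (η.1.1 _), ← Finset.mul_sum, sum_mul_conj_eq, irr_inner,
    Subtype.coe_inj]
  simp [mul_comm]

theorem PIso.blockRank_eq [Fact p.Prime] (hM : IsPModular p M) (hc : eSet c ∈ intAlg M H)
    (hb : eSet b ∈ intAlg M G) (h : PIso p M c b) : blockRank p c = blockRank p b := by
  obtain ⟨e, h⟩ := h
  letI := Fintype.ofFinite G
  letI := Fintype.ofFinite H
  have h1 := card_mul_blockRank_equiv hM hc e.symm
  rw [Finset.sum_comm, mul_left_comm] at h1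
  have h2 : (Nat.card H : ℂ) * (Nat.card G * blockRank p c) =
      Nat.card H * (Nat.card G * blockRank p b) := by
    rw [h1, card_mul_blockRank_equiv hM hb e]
    refine Finset.sum_congr rfl fun x _ => Finset.sum_congr rfl fun y _ => ?_
    rw [← finsum_comp_equiv e]
    simp only [Equiv.symm_apply_apply, mul_comm (_ : ℂ) ((e _).1.1 x)]
    by_cases h0 : ∑ᶠ η : c, (e η).1.1 x * η.1.1 y = 0
    · simp [h0]
    · simp only [(h x y).sep h0]
  exact_mod_cast mul_left_cancel₀ (card_ne_zero G) (mul_left_cancel₀ (card_ne_zero H) h2)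

theorem PIso.trSet {K : Type*} [Group K] [Finite K] (h : PIso p M c b) (f : K ≃* G) :
    PIso p M c (trSet f b) := by
  obtain ⟨e, h⟩ := h
  refine .of_index (Equiv.refl _) (e.trans ((irrCongr f).subtypeEquiv fun χ => ?_)) fun x y => ?_
  · rw [mem_trSet, Equiv.symm_apply_apply]
  · refine ⟨?_, (h (f x) y).right, fun h0 => ?_⟩
    · rw [← card_centralizer_equiv f]; exact (h (f x) y).left
    · rw [← f.orderOf_eq]; exact (h (f x) y).sep h0

theorem val_indFun_div [Fintype G] (T : Subgroup G) {θ : T → ℂ} (hθ : IsClassFunction T θ)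
    (h : ∀ t, val M (θ t / Nat.card (centralizer ({t} : Set T))) ≤ 1) (g : G) :
    val M (indFun T θ g / Nat.card (centralizer ({g} : Set G))) ≤ 1 := by
  classical
  letI := Fintype.ofFinite T
  letI := Fintype.ofFinite (ConjClasses G)
  letI := Fintype.ofFinite (ConjClasses T)
  let f : G → ℂ := fun x => if ConjClasses.mk x = ConjClasses.mk g then 1 else 0
  have hf : IsClassFunction G f := fun x y => by
    simp only [f, ← ConjClasses.mk_eq_mk_iff_isConj.2 (isConj_iff.2 ⟨y, rfl⟩ : IsConj x _)]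
  have h1 := sum_card_centralizer_mul (G := G) fun C => if C = ConjClasses.mk g then
    indFun T θ g / Nat.card (centralizer ({g} : Set G)) else 0
  have h2 := sum_card_centralizer_mul (G := T) fun C =>
    θ C.out / Nat.card (centralizer ({C.out} : Set T)) * f (C.out : T)
  have h3 := sum_indFun_mul T θ hf
  rw [Finset.sum_ite_eq', if_pos (Finset.mem_univ _), Finset.sum_congr rfl fun x _ =>
    show _ = indFun T θ x * f x from ?_] at h1
  rw [Finset.sum_congr rfl fun t _ => show _ = θ t * f t from ?_] at h2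
  · rw [h1, h2, ← mul_assoc, ← Nat.cast_mul, index_mul_card,
      mul_right_inj' (card_ne_zero G)] at h3
    rw [h3]
    refine val_sum_le_one fun C _ => val_mul_le_one (h _) ?_
    simp only [f]
    split_ifs <;> simp
  · have h4 : IsConj (ConjClasses.mk t).out t := ConjClasses.mk_eq_mk_iff_isConj.1 (Quotient.out_eq _)
    rw [hθ.eq_of_isConj h4, card_centralizer_eq_of_isConj h4,
      ← mul_assoc, mul_div_cancel₀ _ (card_centralizer_cast_ne t)]
    exact congrArg _ (hf.eq_of_isConj (T.subtype.map_isConj h4))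
  · simp only [f]
    split_ifs with h4
    · rw [ConjClasses.mk_eq_mk_iff_isConj] at h4
      rw [(isClassFunction_indFun T θ).eq_of_isConj h4, card_centralizer_eq_of_isConj h4,
        mul_div_cancel₀ _ (card_centralizer_cast_ne g), mul_one]
    · simp

theorem PIso.ind [Fintype G] {T : Subgroup G} {b' : Set (IrrCharacter T)} (h : PIso p M c b')
    (f : b' ≃ b) (hf : ∀ ψ, (f ψ).1.1 = indFun T ψ.1.1) : PIso p M c b := by
  classical
  obtain ⟨e, h⟩ := h
  letI := Fintype.ofFinite c
  letI := Fintype.ofFinite (G ⧸ T)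
  refine .of_index (Equiv.refl _) (e.trans f) fun x y => ?_
  have h1 : ∑ᶠ η : c, ((e.trans f) η).1.1 x * ((Equiv.refl _) η : c).1.1 y =
      indFun T (fun t => ∑ᶠ η : c, (e η).1.1 t * η.1.1 y) x := by
    rw [show (fun t => ∑ᶠ η : c, (e η).1.1 t * η.1.1 y) = ∑ η : c, η.1.1 y • (e η).1.1 from
      funext fun t => by simp [finsum_eq_sum_of_fintype, mul_comm], indFun_sum]
    simp [finsum_eq_sum_of_fintype, hf, indFun_smul, mul_comm]
  have h2 : IsClassFunction T fun t => ∑ᶠ η : c, (e η).1.1 t * η.1.1 y := fun s t =>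
    finsum_congr fun η => by rw [(e η).1.2.isClassFunction]
  rw [h1]
  refine ⟨val_indFun_div T h2 (fun t => (h t y).left) x, ?_, fun h0 => ?_⟩
  · rw [indFun_eq_sum_quotient T h2, Finset.sum_div]
    refine val_sum_le_one fun q _ => ?_
    rw [extendByZero_apply]
    split_ifs
    · exact (h _ y).right
    · simp
  · by_contra h3
    refine h0 (indFun_eq_zero T _ x fun g hg => by_contra fun h4 => h3 ?_)
    rw [← (h _ y).sep h4, ← orderOf_coe, ← orderOf_eq_of_isConj (isConj_iff.2 ⟨g, rfl⟩)]

end Cfsg.Agent.Block
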