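import Mathlib
import Cfsg.Agent.Block.PIso
import Cfsg.Agent.Char.Triple

/-!
# Perfect isometries from isomorphic character triples over `p'`-groups
-/

set_option autoImplicit false
set_option linter.unusedSectionVars false
set_option linter.style.haveILetI false

namespace Cfsg.Agent.Block

open Cfsg Cfsg.Agent.Char Subgroup
open scoped ComplexConjugate

variable {M : Ideal AlgInt} {p : ℕ} [hp : Fact p.Prime] {L X Y Ω : Type*} [Group L] [Fintype L]
  [Group X] [Finite X] [Group Y] [Finite Y] [Group Ω] [Finite Ω]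

theorem dvd_orderOf_hom_iff (f : Y →* X) (h : ¬ p ∣ Nat.card f.ker) (y : Y) :
    p ∣ orderOf (f y) ↔ p ∣ orderOf y := by
  refine ⟨fun h1 => h1.trans (orderOf_map_dvd f y), fun h1 => ?_⟩
  refine ((Nat.Prime.dvd_mul hp.out).1 (h1.trans (orderOf_dvd_of_pow_eq_one ?_))).resolve_right h
  rw [pow_mul]
  exact congrArg Subtype.val (pow_card_eq_one' (x := (⟨y ^ orderOf (f y), by
    rw [MonoidHom.mem_ker, map_pow, pow_orderOf_eq_one]⟩ : f.ker)))

/-- a character triple over a `p'`-group, lifted to a central extension -/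
structure Tri (p : ℕ) (i : L →* X) (π : Y →* X) (κ : Y →* Ω) (s : L →* Y) (η : Y → ℂ) : Prop where
  surj : Function.Surjective π
  surj' : Function.Surjective κ
  central : π.ker ≤ center Y
  sec : ∀ l, π (s l) = i l
  ker : κ.ker = s.range
  char : IsCharacter Y η
  irr : IsIrrCharacter L fun l => η (s l)
  pz : ¬ p ∣ Nat.card π.ker
  pl : ¬ p ∣ Nat.card L

/-- the characters of the quotient which give characters of `X` -/
def triSet (π : Y →* X) (κ : Y →* Ω) (η : Y → ℂ) : Set (IrrCharacter Ω) :=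
  {β | ∀ z ∈ π.ker, β.1 (κ z) * η z = β.1 1 * η 1}

namespace Tri
variable {i : L →* X} {π : Y →* X} {κ : Y →* Ω} {s : L →* Y} {η : Y → ℂ} (h : Tri p i π κ s η)
include h

theorem κ_s (l : L) : κ (s l) = 1 := h.ker.ge ⟨l, rfl⟩

theorem normal : s.range.Normal := h.ker ▸ inferInstance

theorem pk : ¬ p ∣ Nat.card κ.ker := fun h1 => h.pl (h1.trans (h.ker ▸ card_range_dvd s))

theorem isIrr (β : IrrCharacter Ω) : IsIrrCharacter Y fun γ => β.1 (κ γ) * η γ :=
  gallagher_isIrr_hom s h.normal h.char h.irr (inflateIrr κ h.surj' β).2 fun l =>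
    congrArg β.1 ((h.κ_s l).trans (map_one κ).symm)

theorem exists_equiv : ∃ v : triSet π κ η ≃
    {χ : IrrCharacter X | classInner (fun l => χ.1 (i l)) (fun l => η (s l)) ≠ 0},
      ∀ β γ, (v β).1.1 (π γ) = β.1.1 (κ γ) * η γ := by
  have h1 : ∀ β : triSet π κ η, ∃ χ : {χ : IrrCharacter X |
      classInner (fun l => χ.1 (i l)) (fun l => η (s l)) ≠ 0},
        ∀ γ, χ.1.1 (π γ) = β.1.1 (κ γ) * η γ := fun β => by
    obtain ⟨ψ, -, h1, h2⟩ := exists_deflation_of_surjective π h.surj (h.isIrr β.1).isCharacter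
      fun z hz => (β.2 z hz).trans (by rw [map_one])
    refine ⟨⟨⟨ψ, h2 (h.isIrr β.1)⟩, ?_⟩, h1⟩
    have : (fun l => ψ (i l)) = β.1.1 1 • fun l => η (s l) := funext fun l => by
      rw [← h.sec, h1, h.κ_s]; rfl
    change classInner (fun l => ψ (i l)) _ ≠ 0
    rw [this, classInner_smul_left, h.irr.inner_self, mul_one]
    exact β.1.2.one_ne_zero
  choose v hv using h1
  refine ⟨Equiv.ofBijective v ⟨fun β β' e => ?_, fun χ => ?_⟩, hv⟩
  · have hs : ∀ (β : IrrCharacter Ω) l, β.1 (κ (s l)) = β.1 (κ 1) := fun β l =>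
      congrArg β.1 ((h.κ_s l).trans (map_one κ).symm)
    refine Subtype.ext (inflateIrr_injective κ h.surj' (Subtype.ext (gallagher_inj_hom s h.normal
      h.char h.irr (inflateIrr κ h.surj' β.1).2 (hs _) (inflateIrr κ h.surj' β'.1).2 (hs _)
        (funext fun γ => (hv β γ).symm.trans (e ▸ hv β' γ)))))
  · obtain ⟨β, h1, h2, h3⟩ := gallagher_surj_hom s h.normal h.char h.irr
      (inflateIrr π h.surj χ.1).2 (by
        have := χ.2
        simp only [← h.sec] at this
        exact this)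
    obtain ⟨β', -, h4, h5⟩ := exists_deflation_of_surjective κ h.surj' h1.isCharacter
      fun z hz => by obtain ⟨l, rfl⟩ := h.ker.le hz; exact h2 l
    replace h3 : ∀ γ, β' (κ γ) * η γ = χ.1.1 (π γ) := fun γ => by rw [h4]; exact congrFun h3 γ
    refine ⟨⟨⟨β', h5 h1⟩, fun z hz => ?_⟩, Subtype.ext (Subtype.ext (funext fun x => ?_))⟩
    · change β' _ * _ = β' 1 * _
      rw [h3, ← map_one κ, h3, MonoidHom.mem_ker.1 hz, map_one]
    · obtain ⟨γ, rfl⟩ := h.surj x
      exact (hv _ γ).trans (h3 γ)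

theorem val_cent (hM : IsPModular p M) (γ : Y) : val M ((Nat.card (centralizer ({κ γ} : Set Ω)) : ℂ) /
    Nat.card (centralizer ({π γ} : Set X))) ≤ 1 := by
  rw [map_div₀, div_le_one₀ ((val M).pos_iff.2 (card_centralizer_cast_ne _)),
    val_natCast_le_iff hM Nat.card_pos.ne' Nat.card_pos.ne',
    ← hp.out.pow_dvd_iff_le_factorization Nat.card_pos.ne']
  obtain ⟨Q, hQ⟩ := Sylow.exists_subgroup_card_pow_prime p (G := (centralizer {π γ}).comap π)
    ((Nat.ordProj_dvd _ p).trans (card_dvd_of_surjective (π.subgroupComap _)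
      (π.subgroupComap_surjective_of_surjective _ h.surj)))
  have h0 : ∀ q : Q, ((q : _) : Y) ^ p ^ _ = 1 := fun q =>
    congrArg (fun x : Q => ((x : _) : Y)) (hQ ▸ pow_card_eq_one' (x := q))
  have h1 : ∀ (K : Subgroup Y) (c : Y), ¬ p ∣ Nat.card K → c ∈ K → ∀ k, c ^ p ^ k = 1 → c = 1 :=
    fun K c hK hc k e => pow_eq_one_iff_of_coprime
      (((Nat.Prime.coprime_iff_not_dvd hp.out).2 hK).pow_left k) |>.1
        ⟨e, congrArg Subtype.val (pow_card_eq_one' (x := (⟨c, hc⟩ : K)))⟩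
  have h2 : ∀ q : Q, ((q : _) : Y) * γ = γ * q := fun q => by
    have h3 : γ⁻¹ * (((q : _) : Y)⁻¹ * γ * q) ∈ π.ker := by
      rw [MonoidHom.mem_ker, map_mul, map_mul, map_mul, mul_assoc,
        ← mem_centralizer_singleton_iff.1 q.1.2]
      simp
    have h4 := mem_center_iff.1 (h.central h3)
    have h5 : γ * q = q * γ * (γ⁻¹ * (((q : _) : Y)⁻¹ * γ * q)) := by group
    generalize γ⁻¹ * (((q : _) : Y)⁻¹ * γ * q) = c at *
    have h6 : ∀ n : ℕ, γ * q ^ n = q ^ n * γ * c ^ n := fun n => by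
      induction n with
      | zero => simp
      | succ n ih =>
        rw [pow_succ, ← mul_assoc, ih, mul_assoc, ((Commute.symm (h4 q)).pow_left n).eq,
          ← mul_assoc, mul_assoc _ γ, h5, pow_succ' c]
        simp only [mul_assoc]
    have h7 := h6 (p ^ (Nat.card (centralizer ({π γ} : Set X))).factorization p)
    rw [h0 q, mul_one, one_mul, left_eq_mul] at h7
    rw [h5, h1 _ c h.pz h3 _ h7, mul_one]
  rw [← hQ]
  refine card_dvd_of_injective ((κ.comp ((Subgroup.subtype _).comp Q.subtype)).codRestrict _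
    fun q => mem_centralizer_singleton_iff.2 (by simpa using congrArg κ (h2 q)))
      ((injective_iff_map_eq_one _).2 fun q hq => Subtype.ext (Subtype.ext
        (h1 _ _ h.pk (congrArg Subtype.val hq) _ (h0 q))))

theorem left (hM : IsPModular p M) (γ : Y) (b : Ω) {a : ℂ} (ha : val M a ≤ 1) {z : ℂ}
    (hz : z = ∑ᶠ β : triSet π κ η, β.1.1 (κ γ) * η γ * (β.1.1 b * a)) :
    val M (z / Nat.card (centralizer ({π γ} : Set X))) ≤ 1 ∧
      (z ≠ 0 → (p ∣ orderOf (π γ) ↔ p ∣ orderOf b)) := by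
  classical
  letI := Fintype.ofFinite π.ker
  have h1 : z = (Nat.card π.ker : ℂ)⁻¹ * ∑ u : π.ker, η (γ * u) * a *
      if IsConj (κ (γ * u)) b⁻¹ then (Nat.card (centralizer ({κ (γ * u)} : Set Ω)) : ℂ) else 0 := by
    simp only [← sum_irr_mul_conj, Finset.mul_sum]
    rw [Finset.sum_comm, hz, finsum_set_coe_eq_finsum_mem (f := fun β : IrrCharacter Ω =>
      β.1 (κ γ) * η γ * (β.1 b * a)), finsum_mem_irr]
    refine Finset.sum_congr rfl fun β _ => ?_
    rw [← isCharacter_apply_inv β.2.isCharacter, inv_inv, ← Finset.mul_sum,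
      Finset.sum_congr rfl fun (u : π.ker) _ => show _ = β.1 (κ (γ * u)) * η (γ * u) * (β.1 b * a)
        by ring, ← Finset.sum_mul]
    split_ifs with hβ
    · rw [Finset.sum_congr rfl fun (u : π.ker) _ => apply_mul_of_mem_charKer
        (h.isIrr β).isClassFunction ((mem_charKer_iff (h.isIrr β).isCharacter).2
          ((hβ u u.2).trans (by rw [map_one]))) γ, Finset.sum_const, Finset.card_univ, nsmul_eq_mul,
        ← Nat.card_eq_fintype_card, mul_assoc (Nat.card π.ker : ℂ), inv_mul_cancel_left₀ (card_ne_zero _)]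
    · rw [sum_coset_eq_zero (h.isIrr β) π.ker (by simpa [triSet] using hβ), zero_mul, mul_zero]
  have h2 : ∀ u : π.ker, π (γ * u) = π γ := fun u => by
    rw [map_mul, MonoidHom.mem_ker.1 u.2, mul_one]
  refine ⟨?_, fun h0 => ?_⟩
  · rw [h1, mul_div_assoc, Finset.sum_div]
    refine val_mul_le_one (val_inv_of_eq_one ((val_natCast_eq_one_iff hM _).2 h.pz)).le
      (val_sum_le_one fun u _ => ?_)
    rw [mul_div_assoc]
    refine val_mul_le_one (val_mul_le_one (val_char_le_one h.char _) ha) ?_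
    split_ifs
    · exact h2 u ▸ h.val_cent hM _
    · simp
  · rw [h1] at h0
    obtain ⟨u, -, hu⟩ := Finset.exists_ne_zero_of_sum_ne_zero (right_ne_zero_of_mul h0)
    rw [← h2 u, dvd_orderOf_hom_iff π h.pz, ← dvd_orderOf_hom_iff κ h.pk, orderOf_eq_of_isConj
      (of_not_not fun hc => hu (by rw [if_neg hc, mul_zero])), orderOf_inv]

theorem pIso (hM : IsPModular p M) {L' X' Y' : Type*} [Group L'] [Fintype L'] [Group X'] [Finite X']
    [Group Y'] [Finite Y'] {i' : L' →* X'} {π' : Y' →* X'} {κ' : Y' →* Ω} {s' : L' →* Y'}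
    {η' : Y' → ℂ} (h' : Tri p i' π' κ' s' η') (e : triSet π' κ' η' = triSet π κ η) :
    PIso p M {χ : IrrCharacter X' | classInner (fun l => χ.1 (i' l)) (fun l => η' (s' l)) ≠ 0}
      {χ : IrrCharacter X | classInner (fun l => χ.1 (i l)) (fun l => η (s l)) ≠ 0} := by
  obtain ⟨v, hv⟩ := h.exists_equiv
  obtain ⟨u, hu⟩ := h'.exists_equiv
  refine .of_index ((Equiv.setCongr e.symm).trans u) v fun x y => ?_
  obtain ⟨γ, rfl⟩ := h.surj x
  obtain ⟨δ, rfl⟩ := h'.surj y
  simp only [Equiv.trans_apply, hu, hv]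
  have h1 := h.left hM γ (κ' δ) (val_char_le_one h'.char δ) rfl
  refine ⟨h1.1, (h'.left hM δ (κ γ) (val_char_le_one h.char γ) ?_).1, fun h0 => ?_⟩
  · rw [← finsum_comp_equiv (Equiv.setCongr e.symm)]
    exact finsum_congr fun β => mul_comm _ _
  · rw [h1.2 h0, dvd_orderOf_hom_iff κ' h'.pk, dvd_orderOf_hom_iff π' h'.pz]

end Tri

end Cfsg.Agent.Block
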