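import Mathlib
import Cfsg.Agent.Block.PTri
import Cfsg.Agent.Block.DGN
import Cfsg.Agent.Block.Cover
import Cfsg.Agent.PLocal.PConstr

/-!
# The Dade–Glauberman–Nagao correspondence as a perfect isometry
-/

set_option autoImplicit false
set_option linter.unusedSectionVars false
set_option linter.style.haveILetI false

namespace Cfsg.Agent.Block

open Cfsg Cfsg.Agent.Char Subgroup Cfsg.Agent.PLocal.Amb

universe u

variable {M : Ideal AlgInt} {p : ℕ} [hp : Fact p.Prime]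

theorem isIrr_comp_of_center {L Y : Type*} [Group L] [Group Y] {χ : Y → ℂ}
    (hχ : IsIrrCharacter Y χ) (f : L →* Y) (hf : ∀ y, ∃ z ∈ center Y, ∃ l, y = z * f l) :
    IsIrrCharacter L fun l => χ (f l) := by
  obtain ⟨n, ρ, h, rfl⟩ := hχ
  haveI : Representation.IsIrreducible (ρ.comp f : Representation ℂ L _) := by
    have h1 := (isIrreducible_iff ρ).1 h
    refine (isIrreducible_iff _).2 ⟨h1.1, fun U hU => h1.2 U fun y v hv => ?_⟩
    obtain ⟨z, hz, l, rfl⟩ := hf y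
    obtain ⟨c, hc⟩ := exists_scalar_of_commute ρ (ρ z) fun g => by
      rw [← Module.End.mul_eq_comp, ← Module.End.mul_eq_comp, ← map_mul, ← map_mul,
        mem_center_iff.1 hz]
    rw [map_mul, Module.End.mul_apply, hc]
    exact U.smul_mem c (hU l v hv)
  exact isIrrCharacter_character (ρ.comp f)

theorem exists_root_of_mem_center {Y : Type*} [Group Y] [Finite Y] {χ : Y → ℂ}
    (hχ : IsIrrCharacter Y χ) {z : Y} (hz : z ∈ center Y) {n : ℕ} (hn : z ^ n = 1) :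
    ∃ ζ : ℂ, ζ ^ n = 1 ∧ χ z = ζ * χ 1 := by
  obtain ⟨ν, hν⟩ := exists_central_hom hχ (center Y) le_rfl
  refine ⟨ν ⟨z, hz⟩, ?_, by simpa using hν ⟨z, hz⟩ 1⟩
  rw [← Units.val_pow_eq_pow_val, ← map_pow, show (⟨z, hz⟩ : center Y) ^ n = 1 from Subtype.ext hn,
    map_one, Units.val_one]

theorem eq_one_of_mem_of_pow {Y : Type*} [Group Y] {K : Subgroup Y} (hK : ¬ p ∣ Nat.card K) {c : Y}
    (hc : c ∈ K) {k : ℕ} (e : c ^ p ^ k = 1) : c = 1 :=
  (pow_eq_one_iff_of_coprime (((Nat.Prime.coprime_iff_not_dvd hp.out).2 hK).pow_left k)).1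
    ⟨e, congrArg Subtype.val (pow_card_eq_one' (x := (⟨c, hc⟩ : K)))⟩

theorem inf_normalizer_eq_inf_centralizer {Y : Type*} [Group Y] {K P : Subgroup Y} [hn : K.Normal]
    (hK : ¬ p ∣ Nat.card K) (hP : IsPGroup p P) : K ⊓ 𝐍[P] = K ⊓ 𝐂[P] := by
  refine le_antisymm (fun x hx => ⟨hx.1, fun y hy => ?_⟩)
    (inf_le_inf_left _ (centralizer_le_normalizer' P))
  obtain ⟨k, hk⟩ := isPGroup_iff.1 hP _ (mul_mem hy (conj_mem_of_mem_normalizer hx.2 (inv_mem hy)))
  have := eq_one_of_mem_of_pow hK (c := y * (x * y⁻¹ * x⁻¹))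
    (by simpa [mul_assoc] using mul_mem (hn.conj_mem x hx.1 y) (inv_mem hx.1)) hk
  rwa [← mul_assoc, ← mul_assoc, mul_inv_eq_one, mul_inv_eq_iff_eq_mul] at this

theorem exists_pIso_above (hM : IsPModular p M) {G : Type u} [Group G] [Finite G] {K P : Subgroup G}
    [hn : K.Normal] [Fintype K] [Fintype (K.subgroupOf 𝐍[P])] (hK : ¬ p ∣ Nat.card K)
    (hP : IsPGroup p P) (hKN : K ⊔ 𝐍[P] = ⊤) (θ : IrrCharacter K) (hθ : ∀ g, conjIrr K θ g = θ) :
    ∃ ξ : IrrCharacter (K.subgroupOf 𝐍[P]), (∀ g, conjIrr _ ξ g = ξ) ∧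
      (∃ κ ≠ 0, ∀ l : K.subgroupOf 𝐍[P], red M (θ.1 ⟨l, l.2⟩) = κ * red M (ξ.1 l)) ∧
        PIso p M (above (K.subgroupOf 𝐍[P]) {ξ}) (above K {θ}) := by
  haveI := charP_resField hM
  obtain ⟨Γ, _, _, π, s, η, h, hker⟩ := exists_isTripleLift' K θ.2
    fun g n => congrFun (congrArg Subtype.val (hθ g)) n
  have hd : ¬ p ∣ charDegree θ.1 := fun h1 =>
    hK (h1.trans (θ.2.deg_dvd_card (coe_charDegree_irr θ).symm))
  replace hker : ¬ p ∣ Nat.card π.ker := fun h0 =>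
    ((Nat.Prime.dvd_mul hp.out).1 (h0.trans hker)).elim hd
      fun h1 => hK (h1.trans (detOrder_dvd_card _))
  haveI := h.normal_range
  have T : Tri p K.subtype π (QuotientGroup.mk' s.range) s η :=
    ⟨h.surj, QuotientGroup.mk'_surjective _, h.ker_le, h.sec, QuotientGroup.ker_mk' _,
      h.irr.isCharacter, h.comp_eq.symm ▸ θ.2, hker, hK⟩
  obtain ⟨Q, hQ, hQP⟩ := PLocal.exists_isPGroup_map_eq π h.surj hP
  have hK' : ¬ p ∣ Nat.card (K.comap π) := fun h0 => by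
    obtain ⟨x, hx⟩ := exists_prime_orderOf_dvd_card' p h0
    have h1 : (x : Γ) ^ p ^ 1 = 1 := by
      rw [pow_one, ← hx]; exact congrArg Subtype.val (pow_orderOf_eq_one x)
    rw [show x = 1 from Subtype.ext (eq_one_of_mem_of_pow hker
      (eq_one_of_mem_of_pow hK x.2 (by rw [← map_pow, h1, map_one])) h1), orderOf_one] at hx
    exact hp.out.one_lt.ne hx
  have hHQ : (𝐍[P]).comap π ≤ 𝐍[Q] := le_normalizer_iff_cj.2 fun γ hγ => by
    rintro _ ⟨y, hy, rfl⟩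
    obtain ⟨y', hy', e⟩ := hQP.ge (conj_mem_of_mem_normalizer hγ (hQP.le (mem_map_of_mem π hy)))
    have h1 : γ * y * γ⁻¹ * y'⁻¹ ∈ π.ker := by simp [MonoidHom.mem_ker, e]
    obtain ⟨a, ha⟩ := isPGroup_iff.1 hQ y hy
    obtain ⟨b, hb⟩ := isPGroup_iff.1 hQ y' hy'
    have h2 := (Commute.symm (mem_center_iff.1 (h.ker_le h1) y')).mul_pow (p ^ (a + b))
    rw [inv_mul_cancel_right, conj_pow, pow_add, pow_mul, ha, one_pow, mul_comm (p ^ a),
      pow_mul y', hb, one_pow, mul_one, mul_one, mul_inv_cancel, ← pow_add] at h2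
    rwa [← mul_inv_eq_one.1 (eq_one_of_mem_of_pow hker h1 h2.symm)] at hy'
  have hQH : 𝐍[Q] ≤ (𝐍[P]).comap π := hQP ▸ (le_comap_map π _).trans
    (comap_mono (le_normalizer_map π))
  have hC : K.comap π ⊓ (𝐍[P]).comap π = K.comap π ⊓ 𝐂[Q] := by
    rw [le_antisymm hHQ hQH, inf_normalizer_eq_inf_centralizer hK' hQ]
  let s₁ : K →* K.comap π := s.codRestrict _ fun k => by rw [mem_comap, h.sec]; exact k.2
  obtain ⟨ξ, ⟨κ, hκ, hξ⟩, hext⟩ := dgn hM hK' (H := (𝐍[P]).comap π) le_normalizer_of_normal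
    ⟨fun k => η k, isIrr_of_comp_isIrr (h.irr.isCharacter.comp (Subgroup.subtype _)) s₁ T.irr⟩
    ⟨⟨fun k => η k, isIrr_of_comp_isIrr (h.irr.isCharacter.comp (Subgroup.subtype _))
      ((inclusion le_sup_left).comp s₁) T.irr⟩, fun _ _ => rfl⟩ hQ (le_normalizer.trans hQH) hHQ hC
  obtain ⟨η', hη'⟩ := hext.mono inf_le_right le_sup_right
  let j : K.subgroupOf 𝐍[P] →* K := ((Subgroup.subtype _).comp (Subgroup.subtype _)).codRestrict _ fun l => l.2
  let s₂ : K.subgroupOf 𝐍[P] →* (K.comap π ⊓ (𝐍[P]).comap π : Subgroup Γ) :=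
    (s.comp j).codRestrict _ fun l => ⟨(s₁ (j l)).2, by
      change π (s _) ∈ 𝐍[P]
      rw [h.sec]; exact l.1.2⟩
  let s' := (inclusion inf_le_right).comp s₂
  have h1 : ∀ l, η'.1 (s' l) = ξ.1 (s₂ l) := fun l => hη' (s₂ l) _
  have hirr : IsIrrCharacter _ fun l => η'.1 (s' l) := by
    rw [funext h1]
    refine isIrr_comp_of_center ξ.2 s₂ fun y => ?_
    obtain ⟨z, hz, e⟩ := h.exists_eq_mul y.2.1
    refine ⟨⟨z, ker_le_comap _ _ hz, ker_le_comap _ _ hz⟩, mem_center_iff.2 fun g =>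
      Subtype.ext (mem_center_iff.1 (h.ker_le hz) g), ⟨⟨π y, y.2.2⟩, y.2.1⟩, Subtype.ext e⟩
  have T' : Tri p (K.subgroupOf 𝐍[P]).subtype (π.subgroupComap 𝐍[P])
      ((QuotientGroup.mk' s.range).comp (Subgroup.subtype _)) s' η'.1 := by
    refine ⟨π.subgroupComap_surjective_of_surjective _ h.surj, fun ω => ?_, fun z hz => ?_,
      fun l => Subtype.ext (h.sec _), ?_, η'.2.isCharacter, hirr, fun h0 => hker (h0.trans ?_),
      fun h0 => hK (h0.trans (card_dvd_of_injective j fun a b e =>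
        Subtype.ext (Subtype.ext (congrArg (fun x : K => (x : G)) e))))⟩
    · obtain ⟨γ, rfl⟩ := T.surj' ω
      obtain ⟨a, ha, b, hb, e⟩ := (mem_sup_of_le_normalizer_left le_normalizer_of_normal).1
        (hKN.ge (mem_top (π γ)))
      refine ⟨⟨(s ⟨a, ha⟩)⁻¹ * γ, ?_⟩, ?_⟩
      · rw [mem_comap, map_mul, map_inv, h.sec, e, inv_mul_cancel_left]; exact hb
      · simp [T.κ_s, -QuotientGroup.mk'_apply]
    · exact mem_center_iff.2 fun g => Subtype.ext
        (mem_center_iff.1 (h.ker_le (congrArg Subtype.val hz)) g)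
    · ext γ
      refine ⟨fun hγ => ?_, ?_⟩
      · obtain ⟨k, hk⟩ := T.ker.le hγ
        exact ⟨⟨⟨k, by rw [← h.sec, hk]; exact γ.2⟩, k.2⟩, Subtype.ext hk⟩
      · rintro ⟨l, rfl⟩
        exact T.κ_s _
    · exact card_dvd_of_injective (((Subgroup.subtype _).comp (Subgroup.subtype _)).codRestrict _ fun z =>
        congrArg Subtype.val z.2) fun a b e =>
          Subtype.ext (Subtype.ext (congrArg (fun x : π.ker => (x : Γ)) e))
  refine ⟨⟨_, hirr⟩, fun g => Subtype.ext (funext fun l => ?_), ⟨κ, hκ, fun l => ?_⟩, ?_⟩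
  · obtain ⟨γ, rfl⟩ := T'.surj g
    refine (congrArg η'.1 (Subtype.ext ?_)).trans (η'.2.isClassFunction (s' l) γ)
    exact (h.conj_sec γ (j l)).symm
  · exact (congrArg (red M) (h.apply_sec _).symm).trans
      ((hξ (s₂ l) (s₁ (j l)).2).trans (congrArg (κ * red M ·) (h1 l).symm))
  have key : ∀ z : (𝐍[P]).comap π, (z : Γ) ∈ π.ker → ∃ ζ, η z = ζ * η 1 ∧ η'.1 z = ζ * η'.1 1 :=
    fun z hz => by
    have h2 : (z : Γ) ^ Nat.card π.ker = 1 :=
      congrArg Subtype.val (pow_card_eq_one' (x := (⟨z, hz⟩ : π.ker)))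
    obtain ⟨a, ha, h3⟩ := exists_root_of_mem_center h.irr (h.ker_le hz) h2
    obtain ⟨b, hb, h4⟩ := exists_root_of_mem_center η'.2 (T'.central (Subtype.ext hz))
      (Subtype.ext h2)
    have ha' := (val_eq_one_of_pow_eq_one (M := M) Nat.card_pos.ne' ha).le
    have hb' := (val_eq_one_of_pow_eq_one (M := M) Nat.card_pos.ne' hb).le
    refine ⟨a, h3, h4.trans (congrArg (· * _)
      (eq_of_pow_eq_one_of_val_sub_lt hM hker ha hb ((red_eq_iff ha' hb').1 ?_)).symm)⟩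
    have h5 : red M (η z) = κ * red M (η'.1 z) :=
      (hξ ⟨z, ker_le_comap _ _ hz, z.2⟩ (ker_le_comap _ _ hz)).trans
        (congrArg (κ * red M ·) (hη' _ _).symm)
    have h6 : red M (η 1) = κ * red M (η'.1 1) :=
      (hξ 1 (one_mem _)).trans (congrArg (κ * red M ·) (hη' 1 (one_mem _)).symm)
    rw [h3, h4, red_mul ha' (val_char_le_one T.char 1), red_mul hb' (val_char_le_one T'.char 1),
      mul_left_comm, ← h6] at h5
    refine mul_right_cancel₀ ?_ h5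
    rw [h.one_eq, ← coe_charDegree_irr, red_natCast]
    exact fun h0 => hd ((CharP.cast_eq_zero_iff _ p _).1 h0)
  have := T.pIso hM T' (Set.ext fun β => ⟨fun hβ z hz => ?_, fun hβ z hz => ?_⟩)
  · convert this using 1 <;> ext χ
    · exact mem_above_singleton
    · rw [h.comp_eq]; exact mem_above_singleton
  · obtain ⟨ζ, h2, h3⟩ := key ⟨z, ker_le_comap _ _ hz⟩ hz
    have := hβ ⟨z, ker_le_comap _ _ hz⟩ (Subtype.ext hz)
    rw [h3, ← mul_assoc, mul_left_inj' η'.2.one_ne_zero] at this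
    rw [h2, ← mul_assoc, ← this]; rfl
  · obtain ⟨ζ, h2, h3⟩ := key z (congrArg Subtype.val hz)
    have := hβ z (congrArg Subtype.val hz)
    rw [h2, ← mul_assoc, mul_left_inj' h.irr.one_ne_zero] at this
    rw [h3, ← mul_assoc, ← this]; rfl

end Cfsg.Agent.Block
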