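import Mathlib
import Cfsg.Agent.Block.DGNIso
import Cfsg.Agent.Block.ModExists
import Cfsg.Agent.Char.RelMcKay
import Cfsg.Agent.PLocal.PIrred
import Cfsg.Agent.PLocal.PSolvHall
import Cfsg.Agent.Grp.Cores
import Cfsg.Agent.S4240

/-!
# Dade's extension theorem for the Glauberman correspondence with a solvable operator group
-/

set_option autoImplicit false
set_option linter.unusedSectionVars false
set_option linter.style.haveILetI false

namespace Cfsg.Agent.Block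

open Cfsg Cfsg.Agent.Char Subgroup Cfsg.Agent.PLocal.Amb

universe u

variable {Γ : Type u} [Group Γ] [Finite Γ]

/-- `θ` and `ξ` have the same central character on the center of the ambient group -/
def CRel {K C : Subgroup Γ} (θ : K → ℂ) (ξ : C → ℂ) : Prop :=
  ∀ z ∈ center Γ, ∀ (h : z ∈ K) (h' : z ∈ C), ∃ ζ, θ ⟨z, h⟩ = ζ * θ 1 ∧ ξ ⟨z, h'⟩ = ζ * ξ 1

theorem GRel.cRel {M : Ideal AlgInt} {p : ℕ} [Fact p.Prime] (hM : IsPModular p M)
    {K C : Subgroup Γ} (hK : ¬ p ∣ Nat.card K) {θ : IrrCharacter K} {ξ : IrrCharacter C}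
    (h : GRel M θ.1 ξ.1) : CRel θ.1 ξ.1 := fun z hz h1 h2 => by
  haveI := charP_resField hM
  obtain ⟨κ, -, h⟩ := h
  have h3 : z ^ Nat.card K = 1 := congrArg Subtype.val (pow_card_eq_one' (x := (⟨z, h1⟩ : K)))
  obtain ⟨a, ha, h4⟩ := exists_root_of_mem_center θ.2 (z := ⟨z, h1⟩)
    (mem_center_iff.2 fun g => Subtype.ext (mem_center_iff.1 hz g)) (Subtype.ext h3)
  obtain ⟨b, hb, h5⟩ := exists_root_of_mem_center ξ.2 (z := ⟨z, h2⟩)
    (mem_center_iff.2 fun g => Subtype.ext (mem_center_iff.1 hz g)) (Subtype.ext h3)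
  have ha' := (val_eq_one_of_pow_eq_one (M := M) Nat.card_pos.ne' ha).le
  have hb' := (val_eq_one_of_pow_eq_one (M := M) Nat.card_pos.ne' hb).le
  refine ⟨a, h4, h5.trans (congrArg (· * _)
    (eq_of_pow_eq_one_of_val_sub_lt hM hK ha hb ((red_eq_iff ha' hb').1 ?_)).symm)⟩
  have h6 : red M (θ.1 ⟨z, h1⟩) = _ := h ⟨z, h2⟩ h1
  have h7 : red M (θ.1 1) = _ := h 1 (one_mem _)
  rw [h4, h5, red_mul ha' (val_irr_le_one θ 1), red_mul hb' (val_irr_le_one ξ 1),
    mul_left_comm, ← h7] at h6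
  refine mul_right_cancel₀ ?_ h6
  rw [← coe_charDegree_irr, red_natCast]
  exact fun h0 => hK (((CharP.cast_eq_zero_iff _ p _).1 h0).trans
    (θ.2.deg_dvd_card (coe_charDegree_irr θ).symm))

theorem dgn_solvable {K H : Subgroup Γ} (hHK : H ≤ 𝐍[K]) (θ : IrrCharacter K)
    (hθ : HasExt θ.1 (K ⊔ H)) {A : Subgroup Γ} (hA : Group.IsSolvable A)
    (hcop : (Nat.card A).Coprime (Nat.card K)) (hAH : A ≤ H) (hHA : H ≤ 𝐍[A]) {C : Subgroup Γ}
    (hC : C = K ⊓ 𝐂[A]) : ∃ ξ : IrrCharacter C, CRel θ.1 ξ.1 ∧ HasExt ξ.1 (C ⊔ H) := by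
  induction h : Nat.card A using Nat.strong_induction_on generalizing A C with
  | _ n ih =>
  by_cases h0 : A = ⊥
  · obtain rfl : C = K := by rw [hC, h0, inf_eq_left]; exact fun x _ y hy => by simp_all
    exact ⟨θ, fun z hz h1 _ => ⟨θ.1 ⟨z, h1⟩ / θ.1 1, (div_mul_cancel₀ _ θ.2.one_ne_zero).symm,
      (div_mul_cancel₀ _ θ.2.one_ne_zero).symm⟩, hθ⟩
  haveI := (nontrivial_iff_ne_bot A).2 h0
  obtain ⟨p, hp, hlt⟩ := S4240.exists_pResidual_ne_top (G := A)
  haveI := Fact.mk hp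
  obtain ⟨M, hM⟩ := exists_isPModular hp
  obtain ⟨R, hR⟩ := exists_isSyl p A
  have hle := pRes_le p A
  have hK : ¬ p ∣ Nat.card K := fun h1 => hlt (by
    have h3 := hR.pRes_sup
    rw [hR.eq_bot_iff.2 fun h2 =>
      hp.one_lt.ne' (Nat.eq_one_of_dvd_coprimes hcop h2 h1), sup_bot_eq] at h3
    rw [← pRes_subgroupOf, subgroupOf_eq_top]
    exact h3.ge)
  have hH := hHA.trans (normalizer_le_normalizer_pRes p A)
  obtain ⟨η, h1, h2⟩ := ih _ (by
    rw [card_map_of_injective A.subtype_injective, ← h]; exact Grp.card_lt_of_ne_top hlt)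
    (haveI := hA; Group.isSolvable_of_isSolvable_injective (inclusion_injective hle))
    (hcop.coprime_dvd_left (card_dvd_of_le hle)) (hle.trans hAH) hH rfl rfl
  have hC' : C = (K ⊓ 𝐂[𝐎[p, A]]) ⊓ 𝐂[R] := by
    rw [hC, inf_assoc, ← centralizer_sup, hR.pRes_sup]
  have hCK : C ≤ K := hC ▸ inf_le_left
  have hHC : H ≤ 𝐍[C] := hC ▸ le_normalizer_inf hHK (le_normalizer_centralizer hHA)
  obtain ⟨ξ, h3, h4⟩ := dgn hM (H := H ⊓ 𝐍[R]) (fun h => hK (h.trans (card_dvd_of_le inf_le_left)))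
    (inf_le_left.trans (le_normalizer_inf hHK (le_normalizer_centralizer hH))) η
    (h2.mono le_sup_left (sup_le_sup_left inf_le_left _)) hR.pgrp
    (le_inf (hR.le.trans hAH) le_normalizer) inf_le_right hC'
  have hsup := hR.frattini_sup hAH hHA
  have hi : InvBy (C ⊔ H) ξ.1 := by
    obtain ⟨χ, hχ⟩ := h4
    refine (invBy_self ξ.2.isClassFunction).sup le_normalizer hHC ?_
    rw [← hsup]
    exact (invBy_of_centralizer _ (hC ▸ inf_le_right)).sup (hAH.trans hHC) (inf_le_left.trans hHC)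
      ((hχ.invBy le_sup_left (invBy_self χ.2.isClassFunction)).mono le_sup_right)
  refine ⟨ξ, fun z hz h5 h6 => ?_, hasExt_of_sylow le_sup_left (sup_le le_normalizer hHC) ξ hi
    fun q hq => ?_⟩
  · obtain ⟨a, h7, h8⟩ := h1 z hz h5 (hC'.le h6).1
    obtain ⟨b, h9, h10⟩ := h3.cRel hM (fun h => hK (h.trans (card_dvd_of_le inf_le_left))) z hz _ h6
    exact ⟨a, h7, mul_right_cancel₀ η.2.one_ne_zero (h9.symm.trans h8) ▸ h10⟩
  haveI := Fact.mk hq
  by_cases hqK : q ∣ Nat.card K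
  · obtain ⟨Q, hQ⟩ := exists_isSyl q (H ⊓ 𝐍[R])
    refine ⟨Q, hQ.pgrp, hQ.le.trans (inf_le_left.trans le_sup_right), fun h5 => ?_,
      h4.mono le_sup_left (sup_le_sup_left hQ.le _)⟩
    have h6 := h5.trans (relIndex_sup_sup_dvd (hQ.le.trans inf_le_left) hHC)
    rw [← relIndex_mul_relIndex _ _ _ hQ.le inf_le_left, hq.dvd_mul] at h6
    refine h6.elim hQ.not_dvd_relIndex fun h7 => ?_
    nth_rw 2 [← hsup] at h7
    rw [PLocal.CP.relIndex_sup_eq le_rfl (inf_le_left.trans hHA)] at h7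
    exact hq.one_lt.ne' (Nat.eq_one_of_dvd_coprimes hcop (h7.trans (relIndex_dvd_card _ _)) hqK)
  · obtain ⟨Q, hQ⟩ := exists_isSyl q H
    obtain ⟨k, hk⟩ := relIndex_sup_eq_pow hQ.pgrp (hQ.le.trans hHC)
    obtain ⟨χ, hχ, -⟩ := exists_ext_of_coprime le_sup_left (sup_le le_normalizer (hQ.le.trans hHC))
      ξ (hi.mono (sup_le_sup_left hQ.le _)) (by
        have h5 := (hq.coprime_iff_not_dvd.2 hqK).coprime_dvd_right (card_dvd_of_le hCK)
        rw [hk]
        exact ((h5.coprime_dvd_right (detOrder_dvd_card _)).mul_right (h5.coprime_dvd_right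
          (ξ.2.deg_dvd_card (coe_charDegree_irr ξ).symm))).pow_left k)
    exact ⟨Q, hQ.pgrp, hQ.le.trans le_sup_right, fun h5 => hQ.not_dvd_relIndex
      (h5.trans (relIndex_sup_sup_dvd hQ.le hHC)), χ, fun k _ => hχ.1 k⟩

/-- invariant characters extend when the fixed points of a coprime solvable normal subgroup of the
complement commute -/
theorem exists_ext_of_comm_fixed {G : Type u} [Group G] [Finite G] {E H K : Subgroup G}
    [hn : E.Normal] (hEH : E ⊓ H = ⊥) (htop : E ⊔ H = ⊤) (hKH : K ≤ H) (hHK : H ≤ 𝐍[K])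
    (hK : Group.IsSolvable K) (hcop : (Nat.card E).Coprime (Nat.card K))
    (hc : ∀ a ∈ E ⊓ 𝐂[K], ∀ b ∈ E ⊓ 𝐂[K], a * b = b * a) (θ : IrrCharacter E)
    (hθ : ∀ (g : G) (n : E), θ.1 ⟨g * n * g⁻¹, hn.conj_mem n n.2 g⟩ = θ.1 n) :
    ∃ χ : IrrCharacter G, ∀ e : E, χ.1 e = θ.1 e := by
  obtain ⟨Γ, _, _, π, s, η, h, hker⟩ := exists_isTripleLift' E θ.2 hθ
  have hz : (Nat.card π.ker).Coprime (Nat.card K) := ((hcop.coprime_dvd_left
    (θ.2.deg_dvd_card (coe_charDegree_irr θ).symm)).mul_left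
      (hcop.coprime_dvd_left (detOrder_dvd_card _))).coprime_dvd_left hker
  have hi : π.ker.relIndex (K.comap π) = Nat.card K := by
    rw [relIndex_ker, map_comap_eq_self_of_surjective h.surj]
  haveI := h.normal_range
  obtain ⟨A, hA, hsup, hinf, -, hcard⟩ := PLocal.exists_complement_of_le (ker_le_comap π K)
    le_normalizer_of_normal (hi ▸ hz)
  rw [hi] at hcard
  have hAK : A.map π = K := by
    rw [← map_comap_eq_self_of_surjective h.surj K, ← hsup, Subgroup.map_sup,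
      (Subgroup.map_eq_bot_iff _).2 le_rfl, bot_sup_eq]
  have hp : ∀ y ∈ A, y ^ Nat.card K = 1 := fun y hy =>
    hcard ▸ congrArg Subtype.val (pow_card_eq_one' (x := (⟨y, hy⟩ : A)))
  have hHA : H.comap π ≤ 𝐍[A] := le_normalizer_iff_cj.2 fun γ hγ => by
    rintro _ ⟨y, hy, rfl⟩
    obtain ⟨y', hy', e⟩ := hAK.ge (conj_mem_of_mem_normalizer (hHK hγ) (hA hy))
    have h1 : γ * y * γ⁻¹ * y'⁻¹ ∈ π.ker := by simp [MonoidHom.mem_ker, e]
    have h2 := (Commute.symm (mem_center_iff.1 (h.ker_le h1) y')).mul_pow (Nat.card K)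
    rw [inv_mul_cancel_right, conj_pow, hp y hy, hp y' hy', mul_one, mul_one, mul_inv_cancel] at h2
    rwa [← mul_inv_eq_one.1 ((pow_eq_one_iff_of_coprime hz).1 ⟨congrArg Subtype.val
      (pow_card_eq_one' (x := (⟨_, h1⟩ : π.ker))), h2.symm⟩)] at hy'
  let s₁ : E →* E.comap π := s.codRestrict _ fun k => by rw [mem_comap, h.sec]; exact k.2
  have hirr : IsIrrCharacter E fun n => η (s n) := h.comp_eq.symm ▸ θ.2
  obtain ⟨ξ, hξ, χ, hχ⟩ := dgn_solvable (K := E.comap π) (H := H.comap π) le_normalizer_of_normal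
    ⟨fun k => η k, isIrr_of_comp_isIrr (h.irr.isCharacter.comp (Subgroup.subtype _)) s₁ hirr⟩
    ⟨⟨fun k => η k, isIrr_of_comp_isIrr (h.irr.isCharacter.comp (Subgroup.subtype _))
      ((inclusion le_sup_left).comp s₁) hirr⟩, fun _ _ => rfl⟩ (A := A)
    (Group.isSolvable_of_isSolvable_injective
      (f := (π.comp A.subtype).codRestrict K fun a => hA a.2)
      ((injective_iff_map_eq_one _).2 fun a ha =>
        Subtype.ext (hinf.le ⟨congrArg Subtype.val ha, a.2⟩)))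
    (hcard ▸ (Grp.coprime_card_comap π E hcop hz).symm) (hA.trans (comap_mono hKH)) hHA rfl
  have h1 : ξ.1 1 = 1 := ξ.2.one_eq_one_of_comm fun a b => Subtype.ext <| by
    have key : ∀ c : (E.comap π ⊓ 𝐂[A] : Subgroup Γ), π c ∈ E ⊓ 𝐂[K] := fun c =>
      ⟨c.2.1, fun k hk => by
        obtain ⟨y, hy, rfl⟩ := hAK.ge hk
        rw [← map_mul, ← map_mul, c.2.2 y hy]⟩
    obtain ⟨z, hz, e⟩ := h.exists_eq_mul a.2.1
    have h2 := h.conj_sec b ⟨_, a.2.1⟩
    simp only [hc _ (key b) _ (key a), mul_inv_cancel_right, mul_inv_eq_iff_eq_mul] at h2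
    rw [coe_mul, coe_mul, e, mul_assoc, ← h2, ← mul_assoc, ← mem_center_iff.1 (h.ker_le hz),
      mul_assoc]
  obtain ⟨ν, hν⟩ := χ.2.isCharacter.exists_linear ((hχ 1 (one_mem _)).trans h1)
  obtain ⟨lam, h2, h3⟩ := exists_hom_ext_sup (M := s.range) (V₁ := H.comap π) (V := ⊤) le_top le_top
    le_normalizer_of_normal (fun γ _ => by
      obtain ⟨a, ha, b, hb, e⟩ := (mem_sup_of_le_normalizer_left le_normalizer_of_normal).1
        (htop.ge (mem_top (π γ)))
      rw [← mul_inv_cancel_left (s ⟨a, ha⟩) γ]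
      refine mul_mem (mem_sup_left ⟨_, rfl⟩) (mem_sup_right ?_)
      rw [mem_comap, map_mul, map_inv, h.sec, e, inv_mul_cancel_left]; exact hb)
    (ν.comp (inclusion le_sup_right)) (by
      rintro ⟨_, hv⟩ ⟨e, rfl⟩
      obtain rfl : e = 1 := Subtype.ext (hEH.le ⟨e.2, h.sec e ▸ hv⟩)
      exact (congrArg _ (Subtype.ext (map_one s))).trans (map_one _))
  obtain ⟨ψ, -, h4, h5⟩ := exists_deflation_of_surjective π h.surj
    (h.irr.mul_linear (lam.comp topEquiv.symm.toMonoidHom)⁻¹).isCharacter fun z hz => by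
      obtain ⟨ζ, h6, h7⟩ := hξ z (h.ker_le hz) (ker_le_comap _ _ hz)
        ⟨ker_le_comap _ _ hz, fun y _ => mem_center_iff.1 (h.ker_le hz) y⟩
      have h8 : (lam ⟨z, mem_top _⟩ : ℂ) = ζ := by
        rw [h1, mul_one] at h7
        rw [← h7, ← hχ _ (mem_sup_right (ker_le_comap _ _ hz)), hν]
        exact congrArg _ (h3 ⟨z, ker_le_comap _ _ hz⟩)
      change η z * ((lam ⟨z, _⟩)⁻¹ : ℂˣ) = _
      rw [map_one, Units.val_one, mul_one, Units.mul_inv_eq_iff_eq_mul, h8, mul_comm]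
      exact h6
  refine ⟨⟨ψ, h5 (h.irr.mul_linear _)⟩, fun e => ?_⟩
  have h6 := h4 (s e)
  rw [h.sec, h.apply_sec] at h6
  refine h6.trans ?_
  change _ * (((lam ⟨s e, _⟩)⁻¹ : ℂˣ) : ℂ) = _
  rw [h2 _ ⟨e, rfl⟩, inv_one, Units.val_one, mul_one]

end Cfsg.Agent.Block
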