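import Mathlib
import Cfsg.Agent.Block.CoverMore
import Cfsg.Agent.Block.Dominate
import Cfsg.Agent.Block.Principal
import Cfsg.Agent.Block.Teich
import Cfsg.Agent.Block.ExactLift
import Cfsg.Agent.Char.Gallagher
import Cfsg.Agent.Char.Restrict

/-! Principal blocks of `N ⊴ G` when `G = N C_G(P)`, `P` a Sylow `p`-subgroup of `N`
(Alperin, Dade). -/

namespace Cfsg.Agent.Block

open Cfsg Cfsg.Agent.Char MonoidAlgebra Subgroup

variable {G : Type*} [Group G] [Finite G] {M : Ideal AlgInt} {p : ℕ} {N : Subgroup G}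

/-- An integral `N`-invariant element of augmentation one supported on the coset `tN`. -/
structure GoodElt (M : Ideal AlgInt) (N : Subgroup G) (t : G) (c : MonoidAlgebra ℂ G) : Prop where
  inv : Alg.Inv N c
  int : c ∈ intAlg M G
  supp : Alg.SuppC N t c
  aug : Alg.aug c = 1

theorem om_one_eq_aug (a : MonoidAlgebra ℂ G) : om (fun _ : G => (1 : ℂ)) a = Alg.aug a := by
  have := Fintype.ofFinite G
  rw [Alg.aug_apply, om_eq_sum]
  simp

theorem val_aug_le_one {a : MonoidAlgebra ℂ G} (ha : a ∈ intAlg M G) : val M (Alg.aug a) ≤ 1 := by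
  have := Fintype.ofFinite G
  rw [Alg.aug_apply]
  exact val_sum_le_one fun g _ => ha g

theorem exists_goodElt (hM : IsPModular p M) [hN : N.Normal] {t x : G} (h : t⁻¹ * x ∈ N)
    (hx : ¬ p ∣ (centralizer ({x} : Set G)).relIndex N) : ∃ c, GoodElt M N t c := by
  have hst : Alg.stab (single x (1 : ℂ)) = centralizer ({x} : Set G) := by
    ext g
    rw [Alg.mem_stab, Alg.emb_single, mem_centralizer_singleton_iff,
      MonoidAlgebra.single_left_inj one_ne_zero, Alg.cm_apply, mul_inv_eq_iff_eq_mul]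
  have haug : Alg.aug (Alg.osum N (single x (1 : ℂ))) = (centralizer ({x} : Set G)).relIndex N := by
    rw [Alg.osum, map_sum, ← hst, ← Alg.card_orb, Finset.card_eq_sum_ones, Nat.cast_sum]
    refine Finset.sum_congr rfl fun y hy => ?_
    obtain ⟨u, -, rfl⟩ := Alg.mem_orb.1 hy
    rw [Alg.aug_cj]
    simp [Alg.aug]
  have hv := (val_natCast_eq_one_iff hM _).2 hx
  refine ⟨((centralizer ({x} : Set G)).relIndex N : ℂ)⁻¹ • Alg.osum N (single x 1),
    (Alg.inv_osum N _).smul _,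
    intAlg_smul_mem (val_inv_of_eq_one hv).le (osum_mem_intAlg N (single_one_mem_intAlg x)),
    fun g hg => ?_, ?_⟩
  · rw [MonoidAlgebra.coeff_smul, Finsupp.smul_apply, smul_eq_mul, Alg.osum, coeff_sum_apply] at hg
    obtain ⟨y, hy, h1⟩ := Finset.exists_ne_zero_of_sum_ne_zero (right_ne_zero_of_mul hg)
    obtain ⟨u, hu, rfl⟩ := Alg.mem_orb.1 hy
    rw [Alg.emb_single, MonoidAlgebra.coeff_single, Finsupp.single_apply_ne_zero] at h1
    rw [h1.1, Alg.cm_apply]
    have := mul_mem (mul_mem (hN.conj_mem _ hu t⁻¹) h) (inv_mem hu)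
    simpa [mul_assoc] using this
  · rw [map_smul, haug, smul_eq_mul, inv_mul_cancel₀ (ne_zero_of_val_eq_one hv)]

theorem forall_exists_goodElt [Fact p.Prime] (hM : IsPModular p M) [hN : N.Normal]
    {P : Subgroup G} (hP : ¬ p ∣ P.relIndex N) (h : N ⊔ centralizer (P : Set G) = ⊤) (t : G) :
    ∃ c, GoodElt M N t c := by
  obtain ⟨n, hn, x, hx, rfl⟩ := exists_mul_of_sup_eq_top h t
  refine exists_goodElt hM (x := x) ?_ fun hd => hP (hd.trans (relIndex_dvd_of_le_left N ?_))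
  · simpa [mul_assoc] using hN.conj_mem _ (inv_mem hn) x⁻¹
  · exact (le_centralizer_singleton_iff' P x).2 hx

theorem res_mem_ZA_of_inv {a : MonoidAlgebra ℂ G} (ha : Alg.Inv N a) : res ℂ N a ∈ ZA ℂ N :=
  res_mem_ZA' N fun g t ht => ha t ht g

omit [Finite G] in
theorem supp_incl (a : MonoidAlgebra ℂ N) : Alg.Supp N (incl ℂ N a) :=
  fun _ hg => coeff_incl_of_notMem N a hg

theorem incl_res_eq_trunc (a : MonoidAlgebra ℂ G) : incl ℂ N (res ℂ N a) = Alg.trunc N a := by
  rw [incl_res, alg_trunc_eq_trunc]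

theorem incl_eIrr_mul_trunc (θ : IrrCharacter N) {a : MonoidAlgebra ℂ G} (ha : Alg.Inv N a) :
    incl ℂ N (eIrr (θ : N → ℂ)) * Alg.trunc N a =
      om (θ : N → ℂ) (res ℂ N a) • incl ℂ N (eIrr (θ : N → ℂ)) := by
  rw [← incl_res_eq_trunc, ← map_mul, ← ZA_comm (res_mem_ZA_of_inv ha),
    ZA_mul_eIrr θ.2 (res_mem_ZA_of_inv ha), map_smul]

theorem val_om_res_sub_aug_lt (hM : IsPModular p M) {θ : IrrCharacter N}
    (hθ : θ ∈ principalBlock M N) {a : MonoidAlgebra ℂ G} (ha : Alg.Inv N a)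
    (hi : a ∈ intAlg M G) : val M (om (θ : N → ℂ) (res ℂ N a) - Alg.aug (Alg.trunc N a)) < 1 := by
  have := val_om_sub_om_lt hM (isClassFunction_const 1) θ.2.isClassFunction hθ
    (res_mem_ZA_of_inv ha) (res_mem_intAlg N hi)
  rwa [val_sub_comm, om_one_eq_aug, ← Alg.aug_emb N.subtype, emb_res] at this

theorem cmp_mem_intAlg (q : G ⧸ N) {a : MonoidAlgebra ℂ G} (hi : a ∈ intAlg M G) :
    Alg.cmp N q a ∈ intAlg M G := fun g => by
  rw [Alg.cmp, Alg.coeff_mk]
  split_ifs
  · exact hi g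
  · simp

variable [hN : N.Normal]

theorem inv_cmp (q : G ⧸ N) {a : MonoidAlgebra ℂ G} (ha : Alg.Inv N a) :
    Alg.Inv N (Alg.cmp N q a) :=
  (Alg.cmp_mem_fix (top_le_normalizer_of_normal N) ⟨Alg.supp_top a, ha⟩ q).2

theorem trunc_mul_of_suppC {s t : G} {a b : MonoidAlgebra ℂ G} (ha : Alg.SuppC N s a)
    (hb : Alg.SuppC N t b) (h : s * t = 1) : Alg.trunc N (a * b) = a * b := by
  have := ha.mul (le_normalizer_of_normal' N ⊤ (mem_top t)) hb
  rw [h] at this
  exact (Alg.suppC_one_iff.1 this).trunc_eq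

theorem aug_cmp_eq (q : G ⧸ N) (a : MonoidAlgebra ℂ G) :
    Alg.aug (Alg.cmp N q a) = (mapDomainAlgHom ℂ ℂ (QuotientGroup.mk' N) a).coeff q := by
  classical
  have := Fintype.ofFinite G
  rw [Alg.aug_apply, coeff_mapDomain]
  refine Finset.sum_congr rfl fun g _ => ?_
  rw [Alg.cmp, Alg.coeff_mk]
  by_cases h : (g : G ⧸ N) = q <;> simp [h]

theorem GoodElt.mapDomain {t : G} {c : MonoidAlgebra ℂ G} (hc : GoodElt M N t c) :
    mapDomainAlgHom ℂ ℂ (QuotientGroup.mk' N) c = single (t : G ⧸ N) 1 := by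
  classical
  have := Fintype.ofFinite G
  refine ga_ext fun q => ?_
  rw [coeff_mapDomain, MonoidAlgebra.coeff_single, Finsupp.single_apply]
  have h1 : ∀ g, (if QuotientGroup.mk' N g = q then c.coeff g else 0) =
      if (t : G ⧸ N) = q then c.coeff g else 0 := fun g => by
    by_cases h : c.coeff g = 0
    · simp [h]
    · rw [QuotientGroup.mk'_apply, ← QuotientGroup.eq.2 (hc.supp g h)]
  rw [Finset.sum_congr rfl fun g _ => (by convert h1 g : _ = if (t : G ⧸ N) = q then c.coeff g else 0)]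
  split_ifs
  · rw [← Alg.aug_apply, hc.aug]
  · simp

/-- Expansion of `e_θ a` in terms of good elements. -/
theorem incl_eIrr_mul_eq_sum [Fintype (G ⧸ N)] (θ : IrrCharacter N)
    {c c' : G ⧸ N → MonoidAlgebra ℂ G} (hc : ∀ q, GoodElt M N q.out (c q))
    (hc' : ∀ q, GoodElt M N q.out⁻¹ (c' q))
    (hν : ∀ q, om (θ : N → ℂ) (res ℂ N (c' q * c q)) ≠ 0) {a : MonoidAlgebra ℂ G}
    (ha : Alg.Inv N a) :
    incl ℂ N (eIrr (θ : N → ℂ)) * a = ∑ q, (om (θ : N → ℂ) (res ℂ N (a * c' q)) /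
      om (θ : N → ℂ) (res ℂ N (c' q * c q))) • (incl ℂ N (eIrr (θ : N → ℂ)) * c q) := by
  conv_lhs => rw [← Alg.sum_cmp N a, Finset.mul_sum]
  refine Finset.sum_congr rfl fun q _ => ?_
  have h1 := incl_eIrr_mul_trunc θ ((hc' q).inv.mul (hc q).inv)
  rw [trunc_mul_of_suppC (hc' q).supp (hc q).supp (inv_mul_cancel _)] at h1
  have h2 := incl_eIrr_mul_trunc θ (ha.mul (hc' q).inv)
  rw [Alg.trunc_mul_eq_cmp_mul (le_normalizer_of_normal' N ⊤ (mem_top _)) a (hc' q).supp] at h2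
  have h3 : incl ℂ N (eIrr (θ : N → ℂ)) * Alg.cmp N q a =
      Alg.cmp N q a * incl ℂ N (eIrr (θ : N → ℂ)) := (supp_incl _).commute (inv_cmp q ha)
  rw [div_eq_inv_mul, mul_smul, eq_inv_smul_iff₀ (hν q), h3, ← mul_smul_comm, ← h1,
    ← smul_mul_assoc, ← h2, ← mul_assoc _ (Alg.cmp N q a), h3]
  simp only [mul_assoc]

theorem val_om_res_mul_sub_one_lt (hM : IsPModular p M) {θ : IrrCharacter N}
    (hθ : θ ∈ principalBlock M N) {s t : G} {a b : MonoidAlgebra ℂ G} (ha : GoodElt M N s a)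
    (hb : GoodElt M N t b) (h : s * t = 1) :
    val M (om (θ : N → ℂ) (res ℂ N (a * b)) - 1) < 1 := by
  have := val_om_res_sub_aug_lt hM hθ (ha.inv.mul hb.inv) ((intAlg M G).mul_mem ha.int hb.int)
  rwa [trunc_mul_of_suppC ha.supp hb.supp h, map_mul Alg.aug, ha.aug, hb.aug, mul_one] at this

/-- If `G = N C_G(P)` with `P` Sylow in `G` and `[G : N]` is prime to `p`, the only character of
`G / N` in the principal block of `G` is the trivial one. -/
theorem domSet_principal_eq_singleton [Fact p.Prime] (hM : IsPModular p M) (hidx : ¬ p ∣ N.index)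
    {P : Subgroup G} (hP : ¬ p ∣ P.index) (h : N ⊔ centralizer (P : Set G) = ⊤) :
    domSet (QuotientGroup.mk' N) (QuotientGroup.mk'_surjective N) (principalBlock M G) =
      {irrOne (G ⧸ N)} := by
  have := Fintype.ofFinite (G ⧸ N)
  ext χ
  refine ⟨fun hχ => ?_, ?_⟩
  · by_contra hne
    have h0 := χ.2.sum_eq_zero fun e => hne (Subtype.ext e)
    have h1 : ∀ q : G ⧸ N, val M ((χ : G ⧸ N → ℂ) q / (χ : G ⧸ N → ℂ) 1 - 1) < 1 := by
      intro q
      obtain ⟨g, rfl⟩ := QuotientGroup.mk'_surjective N q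
      obtain ⟨n, hn, x, hx, rfl⟩ := exists_mul_of_sup_eq_top h g
      have h2 := val_centralChar_sub_index_lt hM (mem_domSet.1 hχ) x
      have h3 : ¬ p ∣ (centralizer ({x} : Set G)).index := fun hd =>
        hP (hd.trans (index_dvd_of_le ((le_centralizer_singleton_iff' P x).2 hx)))
      rw [centralChar, mul_div_assoc, ← mul_sub_one, map_mul, (val_natCast_eq_one_iff hM _).2 h3,
        one_mul, inflateIrr_apply, inflateIrr_apply, map_one] at h2
      rwa [map_mul, QuotientGroup.mk'_apply N n, (QuotientGroup.eq_one_iff n).2 hn, one_mul]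
    have h2 := val_sum_lt_one (s := Finset.univ) fun q _ => h1 q
    rw [Finset.sum_sub_distrib, ← Finset.sum_div, h0, zero_div, zero_sub, Valuation.map_neg,
      Finset.sum_const, Finset.card_univ, ← Nat.card_eq_fintype_card, nsmul_one,
      val_natCast_lt_one_iff hM] at h2
    exact hidx h2
  · rintro rfl
    exact irrOne_mem_principal hM

/-- The key computation: `e_θ e_B` spans a one-dimensional module for the centralizer algebra. -/
theorem index_mul_om_res_eSet (hM : IsPModular p M) (hG : ∀ t : G, ∃ c, GoodElt M N t c)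
    {θ : IrrCharacter N} (hθ : θ ∈ principalBlock M N) {B : Set (IrrCharacter G)}
    (hB : eSet B ∈ intAlg M G)
    (hdom : domSet (QuotientGroup.mk' N) (QuotientGroup.mk'_surjective N) B = {irrOne (G ⧸ N)})
    (h0 : incl ℂ N (eIrr (θ : N → ℂ)) * eSet B ≠ 0) :
    N.index * om (θ : N → ℂ) (res ℂ N (eSet B)) = 1 := by
  have := Fintype.ofFinite (G ⧸ N)
  choose c₀ hc₀ using hG
  have hc : ∀ q : G ⧸ N, GoodElt M N q.out (c₀ q.out) := fun q => hc₀ _
  have hc' : ∀ q : G ⧸ N, GoodElt M N q.out⁻¹ (c₀ q.out⁻¹) := fun q => hc₀ _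
  have hν1 : ∀ q : G ⧸ N, val M (om (θ : N → ℂ) (res ℂ N (c₀ q.out⁻¹ * c₀ q.out))) = 1 := fun q =>
    val_eq_one_of_sub_lt (map_one _)
      (val_om_res_mul_sub_one_lt hM hθ (hc' q) (hc q) (inv_mul_cancel _))
  have hν := fun q => ne_zero_of_val_eq_one (hν1 q)
  have hexp := fun {a : MonoidAlgebra ℂ G} (ha : Alg.Inv N a) =>
    incl_eIrr_mul_eq_sum θ hc hc' hν ha
  set E := incl ℂ N (eIrr (θ : N → ℂ)) with hE
  have hBi : Alg.Inv N (eSet B) := inv_of_mem_ZA (eSet_mem_ZA B) N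
  have hmul : ∀ a, E * eSet B * a = E * a * eSet B := fun a => by
    rw [mul_assoc, ZA_comm (eSet_mem_ZA B), mul_assoc]
  -- `f c_q` is a multiple of `f`
  have hline : ∀ q : G ⧸ N, E * eSet B * c₀ q.out ∈ Submodule.span ℂ {E * eSet B} := by
    intro q
    rw [← Subspace.forall_mem_dualAnnihilator_apply_eq_zero_iff]
    intro φ hφ
    have hφ0 : φ (E * eSet B) = 0 :=
      (Submodule.mem_dualAnnihilator φ).1 hφ _ (Submodule.mem_span_singleton_self _)
    refine eq_zero_of_eq_sum_small (M := M) (fun q : G ⧸ N => φ (E * eSet B * c₀ q.out))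
      (fun r q => om (θ : N → ℂ) (res ℂ N ((c₀ r.out - 1) * eSet B * c₀ q.out⁻¹)) /
        om (θ : N → ℂ) (res ℂ N (c₀ q.out⁻¹ * c₀ q.out))) (fun r q => ?_) (fun r => ?_) q
    · have ha : Alg.Inv N ((c₀ r.out - 1) * eSet B) := ((hc r).inv.sub (Alg.inv_one' N)).mul hBi
      have hi := (intAlg M G).mul_mem ((intAlg M G).sub_mem (hc r).int (one_mem _)) hB
      have h1 := val_om_res_sub_aug_lt hM hθ (ha.mul (hc' q).inv)
        ((intAlg M G).mul_mem hi (hc' q).int)
      rw [Alg.trunc_mul_eq_cmp_mul (le_normalizer_of_normal' N ⊤ (mem_top _)) _ (hc' q).supp,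
        map_mul Alg.aug, aug_cmp_eq, map_mul (mapDomainAlgHom ℂ ℂ (QuotientGroup.mk' N)),
        map_sub (mapDomainAlgHom ℂ ℂ (QuotientGroup.mk' N)), (hc r).mapDomain, map_one,
        mapDomain_eSet _ (QuotientGroup.mk'_surjective N), hdom, eSet_singleton,
        sub_mul _ _ (eIrr _), one_mul (eIrr _),
        MonoidAlgebra.coeff_sub, Finsupp.sub_apply, MonoidAlgebra.coeff_single_mul_apply, coeff_eIrr,
        coeff_eIrr] at h1
      simp only [irrOne_apply, one_mul, sub_self, zero_mul, sub_zero] at h1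
      rwa [map_div₀, hν1, div_one]
    · have ha : Alg.Inv N ((c₀ r.out - 1) * eSet B) := ((hc r).inv.sub (Alg.inv_one' N)).mul hBi
      have h1 := congrArg (fun x => φ (x * eSet B)) (hexp ha)
      simp only [Finset.sum_mul, smul_mul_assoc, map_sum, map_smul, smul_eq_mul, ← hmul] at h1
      rw [← h1, ← ZA_comm (eSet_mem_ZA B) (c₀ r.out - 1), ← mul_assoc (E * eSet B),
        mul_assoc E (eSet B) (eSet B), eSet_mul_self, mul_sub, mul_one, map_sub, hφ0, sub_zero]
  have hline' : ∀ a, Alg.Inv N a → ∃ s : ℂ, E * eSet B * a = s • (E * eSet B) := by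
    intro a ha
    have : E * eSet B * a ∈ Submodule.span ℂ {E * eSet B} := by
      rw [hmul, hexp ha, Finset.sum_mul]
      refine Submodule.sum_mem _ fun q _ => ?_
      rw [smul_mul_assoc, ← hmul]
      exact Submodule.smul_mem _ _ (hline q)
    obtain ⟨s, hs⟩ := Submodule.mem_span_singleton.1 this
    exact ⟨s, hs.symm⟩
  have hE0 : E ≠ 0 := left_ne_zero_of_mul h0
  have hterm : ∀ q : G ⧸ N, (om (θ : N → ℂ) (res ℂ N (eSet B * c₀ q.out⁻¹)) /
      om (θ : N → ℂ) (res ℂ N (c₀ q.out⁻¹ * c₀ q.out))) • (E * c₀ q.out) * eSet B =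
        om (θ : N → ℂ) (res ℂ N (eSet B)) • (E * eSet B) := by
    intro q
    obtain ⟨s, hs⟩ := hline' _ (hc' q).inv
    have h1 : om (θ : N → ℂ) (res ℂ N (eSet B * c₀ q.out⁻¹)) =
        s * om (θ : N → ℂ) (res ℂ N (eSet B)) := by
      apply smul_left_injective ℂ hE0
      have h2 := congrArg (Alg.trunc N) hs
      rw [mul_assoc, map_smul, Alg.trunc_mul_left (supp_incl _), Alg.trunc_mul_left (supp_incl _),
        incl_eIrr_mul_trunc θ (hBi.mul (hc' q).inv), incl_eIrr_mul_trunc θ hBi, smul_smul] at h2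
      exact h2
    have h2 := incl_eIrr_mul_trunc θ ((hc' q).inv.mul (hc q).inv)
    rw [trunc_mul_of_suppC (hc' q).supp (hc q).supp (inv_mul_cancel _), ← hE] at h2
    have h3 : s • (E * eSet B * c₀ q.out) =
        om (θ : N → ℂ) (res ℂ N (c₀ q.out⁻¹ * c₀ q.out)) • (E * eSet B) := by
      rw [← smul_mul_assoc, ← hs, mul_assoc, hmul, h2, smul_mul_assoc]
    rw [smul_mul_assoc, ← hmul, h1, mul_comm s, mul_div_right_comm, mul_smul, h3, smul_smul,
      div_mul_cancel₀ _ (hν q)]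
  have h1 := congrArg (· * eSet B) (hexp hBi)
  simp only [Finset.sum_mul, hterm, Finset.sum_const, Finset.card_univ,
    ← Nat.card_eq_fintype_card] at h1
  rw [mul_assoc, eSet_mul_self, ← Nat.cast_smul_eq_nsmul ℂ, smul_smul] at h1
  apply smul_left_injective ℂ h0
  simp only [one_smul]
  exact h1.symm

omit hN in
/-- Counting consequence of `[G : N] ω_θ(e_B) = 1`. -/
theorem eq_of_index_mul_om_res_eSet [Fintype N] {θ : IrrCharacter N} {B : Set (IrrCharacter G)}
    (h : N.index * om (θ : N → ℂ) (res ℂ N (eSet B)) = 1) {χ : IrrCharacter G} (hχ : χ ∈ B)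
    (h1 : classInner (fun n : N => (χ : G → ℂ) n) (θ : N → ℂ) ≠ 0) :
    (∀ n : N, (χ : G → ℂ) n = (θ : N → ℂ) n) ∧
      ∀ ψ ∈ B, classInner (fun n : N => (ψ : G → ℂ) n) (θ : N → ℂ) ≠ 0 → ψ = χ := by
  classical
  choose m hm using fun ψ : IrrCharacter G =>
    (ψ.2.isCharacter.restrict N).exists_nat_inner θ.2.isCharacter
  have hsum : ∑ ψ : IrrCharacter G, (if ψ ∈ B then charDegree (ψ : G → ℂ) * m ψ else 0) =
      charDegree (θ : N → ℂ) := by
    have h2 := θ.2.one_ne_zero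
    have h3 := card_ne_zero N
    have h4 : (N.index : ℂ) ≠ 0 := Nat.cast_ne_zero.2 index_ne_zero_of_finite
    rw [om_apply, eSet_eq_sum, map_sum, map_sum, mul_div_assoc', div_eq_one_iff_eq h2,
      Finset.mul_sum] at h
    apply Nat.cast_injective (R := ℂ)
    rw [cast_charDegree θ.2.isCharacter, ← h, Nat.cast_sum]
    refine Finset.sum_congr rfl fun ψ _ => ?_
    rw [map_smul, map_smul, ev_res_eIrr, θ.2.isCharacter.inner_symm (ψ.2.isCharacter.restrict N),
      hm, ← N.index_mul_card]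
    split_ifs
    · push_cast
      rw [cast_charDegree ψ.2.isCharacter, smul_eq_mul]
      field_simp
    · simp
  have hge : ∀ ψ : IrrCharacter G, classInner (fun n : N => (ψ : G → ℂ) n) (θ : N → ℂ) ≠ 0 →
      charDegree (θ : N → ℂ) ≤ charDegree (ψ : G → ℂ) ∧ 1 ≤ m ψ := by
    intro ψ hψ
    have h2 := (ψ.2.isCharacter.restrict N).one_le_of_inner_ne_zero θ.2 hψ
    rw [← cast_charDegree θ.2.isCharacter, OneMemClass.coe_one,
      ← cast_charDegree ψ.2.isCharacter] at h2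
    refine ⟨by exact_mod_cast h2, Nat.one_le_iff_ne_zero.2 fun h0 => hψ ?_⟩
    rw [hm, h0, Nat.cast_zero]
  obtain ⟨h2, h3⟩ := hge χ h1
  have hpos := Nat.pos_of_ne_zero (charDegree_ne_zero θ.2)
  constructor
  · have h4 := Finset.single_le_sum (f := fun ψ : IrrCharacter G =>
      if ψ ∈ B then charDegree (ψ : G → ℂ) * m ψ else 0) (fun _ _ => Nat.zero_le _)
      (Finset.mem_univ χ)
    rw [hsum] at h4
    simp only [if_pos hχ] at h4
    have h5 : charDegree (χ : G → ℂ) = charDegree (θ : N → ℂ) :=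
      le_antisymm ((Nat.le_mul_of_pos_right _ h3).trans h4) h2
    refine congrFun ((χ.2.isCharacter.restrict N).eq_of_inner_ne_zero_of_one_eq θ.2 h1 ?_)
    rw [OneMemClass.coe_one, ← cast_charDegree χ.2.isCharacter, h5,
      cast_charDegree θ.2.isCharacter]
  · intro ψ hψ h4
    by_contra hne
    obtain ⟨h5, h6⟩ := hge ψ h4
    have h7 := Finset.add_le_sum (f := fun ψ : IrrCharacter G =>
      if ψ ∈ B then charDegree (ψ : G → ℂ) * m ψ else 0) (fun _ _ => Nat.zero_le _)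
      (Finset.mem_univ ψ) (Finset.mem_univ χ) hne
    rw [hsum] at h7
    simp only [if_pos hχ, if_pos hψ] at h7
    have h8 := Nat.mul_le_mul h5 h6
    have h9 := Nat.mul_le_mul h2 h3
    omega

/-- Alperin–Dade: restriction from the principal block of `G` to that of `N`. -/
theorem principal_restrict_of_sup_centralizer [Fact p.Prime] [Fintype N] (hM : IsPModular p M)
    (hidx : ¬ p ∣ N.index) {P : Subgroup G} (hP : ¬ p ∣ P.index) (hPN : P ≤ N)
    (h : N ⊔ centralizer (P : Set G) = ⊤) {θ : IrrCharacter N} (hθ : θ ∈ principalBlock M N)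
    {χ : IrrCharacter G} (hχ : χ ∈ principalBlock M G)
    (h1 : classInner (fun n : N => (χ : G → ℂ) n) (θ : N → ℂ) ≠ 0) :
    (∀ n : N, (χ : G → ℂ) n = (θ : N → ℂ) n) ∧ ∀ ψ ∈ principalBlock M G,
      classInner (fun n : N => (ψ : G → ℂ) n) (θ : N → ℂ) ≠ 0 → ψ = χ := by
  refine eq_of_index_mul_om_res_eSet (index_mul_om_res_eSet hM (forall_exists_goodElt hM
    (fun hd => hP (hd.trans (relIndex_dvd_index_of_le hPN))) h) hθ
    (eSet_mem_intAlg hM isPBlock_principal) (domSet_principal_eq_singleton hM hidx hP h) ?_) hχ h1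
  rw [← ZA_comm (eSet_mem_ZA _), ← eSet_singleton]
  exact (eSet_mul_mapDomain_ne_zero_iff N.subtype _ {θ}).2 ⟨χ, hχ, θ, rfl, h1⟩

end Cfsg.Agent.Block
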