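import Mathlib
import Cfsg.Agent.Block.DadeIso

/-! Extensions of principal-block characters of `N ⊴ G` into the principal block of `G` when
`G = N C_G(P)`. -/

namespace Cfsg.Agent.Block

open Cfsg Cfsg.Agent.Char MonoidAlgebra Subgroup

variable {G : Type*} [Group G] [Finite G] {M : Ideal AlgInt} {p : ℕ} {N : Subgroup G}

/-- Schur's lemma for a character whose restriction to `N` is irreducible. -/
theorem ev_inv_mul {ψ : G → ℂ} (hψ : IsIrrCharacter G ψ)
    (hN : IsIrrCharacter N (fun n : N => ψ n)) {a : MonoidAlgebra ℂ G} (ha : Alg.Inv N a)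
    (b : MonoidAlgebra ℂ G) : ev ψ (a * b) = om ψ a * ev ψ b := by
  have h1 := hψ.one_ne_zero
  obtain ⟨n, ρ, hρ, rfl⟩ := hψ
  have hirr : Representation.IsIrreducible (ρ.comp N.subtype) :=
    isIrreducible_of_isIrrCharacter (ρ.comp N.subtype) hN
  obtain ⟨c, hc⟩ := exists_scalar_of_commute (ρ.comp N.subtype) (ρ.asAlgebraHom a) fun g => by
    rw [← Module.End.mul_eq_comp, ← Module.End.mul_eq_comp, MonoidHom.comp_apply,
      ← ρ.asAlgebraHom_single_one, ← map_mul, ← map_mul]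
    exact congrArg _ (Alg.inv_iff_commute.1 ha g g.2).symm
  have hc' : ρ.asAlgebraHom a = c • 1 := hc
  have h2 : om ρ.character a = c := by
    rw [om_apply, ev_character, hc', map_smul, ← map_one ρ.asAlgebraHom, ← ev_character, ev_one,
      smul_eq_mul, mul_div_cancel_right₀ _ h1]
  rw [h2, ev_character, ev_character, map_mul, hc', smul_mul_assoc, one_mul, map_smul, smul_eq_mul]

theorem om_inv_mul {ψ : G → ℂ} (hψ : IsIrrCharacter G ψ)
    (hN : IsIrrCharacter N (fun n : N => ψ n)) {a : MonoidAlgebra ℂ G} (ha : Alg.Inv N a)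
    (b : MonoidAlgebra ℂ G) : om ψ (a * b) = om ψ a * om ψ b := by
  rw [om_apply ψ (a * b), ev_inv_mul hψ hN ha, om_apply ψ b, mul_div_assoc]

theorem om_inv_pow {ψ : G → ℂ} (hψ : IsIrrCharacter G ψ)
    (hN : IsIrrCharacter N (fun n : N => ψ n)) {a : MonoidAlgebra ℂ G} (ha : Alg.Inv N a)
    (n : ℕ) : om ψ (a ^ n) = om ψ a ^ n := by
  induction n with
  | zero => rw [pow_zero, pow_zero, om_one hψ.one_ne_zero]
  | succ n ih => rw [pow_succ', om_inv_mul hψ hN ha, ih, pow_succ']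

theorem val_om_sub_aug_lt_of_supp (hM : IsPModular p M) {θ : IrrCharacter N}
    (hθ : θ ∈ principalBlock M N) {ψ : G → ℂ} (hψ : ∀ n : N, ψ n = (θ : N → ℂ) n)
    {a : MonoidAlgebra ℂ G} (ha : Alg.Inv N a) (hi : a ∈ intAlg M G) (hs : Alg.Supp N a) :
    val M (om ψ a - Alg.aug a) < 1 := by
  have h := val_om_res_sub_aug_lt hM hθ ha hi
  rwa [← funext hψ, ← om_incl, incl_res_eq_trunc, hs.trunc_eq] at h

theorem om_mul_hom_of_suppC (ψ : G → ℂ) (lam : G →* ℂˣ) (hlam : ∀ n ∈ N, lam n = 1) {t : G}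
    {a : MonoidAlgebra ℂ G} (ha : Alg.SuppC N t a) :
    om (fun g => ψ g * lam g) a = lam t * om ψ a := by
  have := Fintype.ofFinite G
  rw [om_eq_sum, om_eq_sum, Finset.mul_sum]
  refine Finset.sum_congr rfl fun g _ => ?_
  by_cases h : a.coeff g = 0
  · simp [h]
  · have h1 := hlam _ (ha g h)
    rw [map_mul, map_inv, inv_mul_eq_one] at h1
    rw [h1, map_one, Units.val_one]
    ring

variable [hN : N.Normal]

theorem val_om_goodElt (hM : IsPModular p M) {θ : IrrCharacter N}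
    (hθ : θ ∈ principalBlock M N) {ψ : G → ℂ} (hψi : IsIrrCharacter G ψ)
    (hψ : ∀ n : N, ψ n = (θ : N → ℂ) n) {t : G} {c : MonoidAlgebra ℂ G} (hc : GoodElt M N t c) :
    val M (om ψ c) = 1 := by
  have hN' : IsIrrCharacter N (fun n : N => ψ n) := by rw [funext hψ]; exact θ.2
  have h1 := hc.supp.pow (le_normalizer_of_normal' N ⊤ (mem_top t)) (orderOf t)
  rw [pow_orderOf_eq_one] at h1
  have h2 := val_om_sub_aug_lt_of_supp hM hθ hψ (hc.inv.pow (orderOf t))
    ((intAlg M G).pow_mem hc.int _) (Alg.suppC_one_iff.1 h1)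
  rw [map_pow Alg.aug, hc.aug, one_pow, om_inv_pow hψi hN' hc.inv] at h2
  have h3 := val_eq_one_of_sub_lt (map_one _) h2
  rw [map_pow] at h3
  exact (pow_eq_one_iff_of_nonneg zero_le (orderOf_pos t).ne').1 h3

theorem val_om_sub_mul_aug_lt (hM : IsPModular p M) (hG : ∀ t : G, ∃ c, GoodElt M N t c)
    {θ : IrrCharacter N} (hθ : θ ∈ principalBlock M N) {ψ : G → ℂ} (hψi : IsIrrCharacter G ψ)
    (hψ : ∀ n : N, ψ n = (θ : N → ℂ) n) {t : G} {c : MonoidAlgebra ℂ G} (hc : GoodElt M N t c)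
    {a : MonoidAlgebra ℂ G} (ha : Alg.Inv N a) (hi : a ∈ intAlg M G) (hs : Alg.SuppC N t a) :
    val M (om ψ a - om ψ c * Alg.aug a) < 1 := by
  have hN' : IsIrrCharacter N (fun n : N => ψ n) := by rw [funext hψ]; exact θ.2
  obtain ⟨c', hc'⟩ := hG t⁻¹
  have key : ∀ {a : MonoidAlgebra ℂ G}, Alg.Inv N a → a ∈ intAlg M G → Alg.SuppC N t a →
      val M (om ψ a * om ψ c' - Alg.aug a) < 1 := by
    intro a ha hi hs
    have h1 := hs.mul (le_normalizer_of_normal' N ⊤ (mem_top _)) hc'.supp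
    rw [mul_inv_cancel] at h1
    have h2 := val_om_sub_aug_lt_of_supp hM hθ hψ (ha.mul hc'.inv)
      ((intAlg M G).mul_mem hi hc'.int) (Alg.suppC_one_iff.1 h1)
    rwa [map_mul Alg.aug, hc'.aug, mul_one, om_inv_mul hψi hN' ha] at h2
  have h1 := key ha hi hs
  have h2 := key hc.inv hc.int hc.supp
  rw [hc.aug] at h2
  have h3 := val_sub_lt_one h1 (val_mul_lt_one_left h2 (val_aug_le_one hi))
  have h4 : om ψ a * om ψ c' - Alg.aug a - (om ψ c * om ψ c' - 1) * Alg.aug a =
      (om ψ a - om ψ c * Alg.aug a) * om ψ c' := by ring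
  rwa [h4, map_mul, val_om_goodElt hM hθ hψi hψ hc', mul_one] at h3

/-- An extension of a principal-block character of `N` can be modified by a linear character so
that its central character is the augmentation on the centralizer algebra of `N`. -/
theorem exists_ext_val_om_sub_aug_lt (hM : IsPModular p M) (hG : ∀ t : G, ∃ c, GoodElt M N t c)
    {θ : IrrCharacter N} (hθ : θ ∈ principalBlock M N) {ψ : G → ℂ} (hψi : IsIrrCharacter G ψ)
    (hψ : ∀ n : N, ψ n = (θ : N → ℂ) n) :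
    ∃ lam : G →* ℂˣ, (∀ n ∈ N, lam n = 1) ∧ ∀ a, Alg.Inv N a → a ∈ intAlg M G →
      val M (om (fun g => ψ g * lam g) a - Alg.aug a) < 1 := by
  have := Fintype.ofFinite (G ⧸ N)
  have hN' : IsIrrCharacter N (fun n : N => ψ n) := by rw [funext hψ]; exact θ.2
  have hG' := hG
  choose c hc using hG'
  have key := fun t => @val_om_sub_mul_aug_lt G _ _ M p N _ hM hG θ hθ ψ hψi hψ t _ (hc t)
  have hone : ∀ n ∈ N, val M (om ψ (c n) - 1) < 1 := fun n hn => by
    have h1 := key n (Alg.inv_one' N) (one_mem _) fun g hg => by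
      rw [(Alg.supp_one ⊥).mem hg, mul_one]
      exact inv_mem hn
    rwa [map_one Alg.aug, mul_one, om_one hψi.one_ne_zero, val_sub_comm] at h1
  obtain ⟨lam, h1, h2⟩ := exists_hom_congr hM (fun t => om ψ (c t))
    (fun t => (val_om_goodElt hM hθ hψi hψ (hc t)).le) (hone 1 (one_mem _)) fun s t => by
      have h1 := key (s * t) ((hc s).inv.mul (hc t).inv) ((intAlg M G).mul_mem (hc s).int (hc t).int)
        ((hc s).supp.mul (le_normalizer_of_normal' N ⊤ (mem_top _)) (hc t).supp)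
      rwa [map_mul Alg.aug, (hc s).aug, (hc t).aug, mul_one, mul_one, om_inv_mul hψi hN' (hc s).inv,
        val_sub_comm] at h1
  have hlam : ∀ n ∈ N, lam⁻¹ n = 1 := fun n hn => by
    rw [MonoidHom.inv_apply, h2 n (hone n hn), inv_one]
  refine ⟨lam⁻¹, hlam, fun a ha hi => ?_⟩
  rw [← Alg.sum_cmp N a, map_sum, map_sum, ← Finset.sum_sub_distrib]
  refine val_sum_lt_one fun q _ => ?_
  have h3 := key q.out (inv_cmp q ha) (cmp_mem_intAlg q hi) (Alg.suppC_cmp N q a)
  have h4 := val_mul_lt_one_left (h1 q.out) (val_aug_le_one (cmp_mem_intAlg q hi))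
  have h5 : val M (lam q.out : ℂ) = 1 :=
    val_eq_one_of_sub_lt (val_om_goodElt hM hθ hψi hψ (hc _)) (h1 _)
  have h6 := val_sub_lt_one h3 h4
  rw [om_mul_hom_of_suppC ψ lam⁻¹ hlam (Alg.suppC_cmp N q a), MonoidHom.inv_apply,
    Units.val_inv_eq_inv_val, ← one_mul (val M _), ← h5, ← map_mul, mul_sub,
    mul_inv_cancel_left₀ (Units.ne_zero _)]
  convert h6 using 2
  ring

omit hN in
theorem restrict_mem_principal_of_val_om (hM : IsPModular p M) {χ : G → ℂ}
    (h : ∀ a, Alg.Inv N a → a ∈ intAlg M G → val M (om χ a - Alg.aug a) < 1) {J : Subgroup G}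
    (hNJ : N ≤ J) (hJ : IsIrrCharacter J (fun y : J => χ y)) :
    (⟨_, hJ⟩ : IrrCharacter J) ∈ principalBlock M J := by
  refine sameBlock_of_om hM isIrrCharacter_one hJ fun z hz hi => ?_
  have h1 : Alg.Inv J (incl ℂ J z) := by
    refine Alg.inv_iff_commute.2 fun t ht => ?_
    rw [← incl_single J ⟨t, ht⟩, ← map_mul, ← map_mul, ZA_comm hz]
  have h2 := h _ (h1.mono hNJ) (incl_mem_intAlg J hi)
  rwa [val_sub_comm, om_incl, ← om_one_eq_aug, om_incl] at h2

omit hN in
theorem mem_principal_of_val_om (hM : IsPModular p M) {χ : IrrCharacter G}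
    (h : ∀ a, Alg.Inv N a → a ∈ intAlg M G → val M (om (χ : G → ℂ) a - Alg.aug a) < 1) :
    χ ∈ principalBlock M G := by
  refine sameBlock_of_om hM isIrrCharacter_one χ.2 fun z hz hi => ?_
  have h2 := h _ (inv_of_mem_ZA hz N) hi
  rwa [val_sub_comm, ← om_one_eq_aug] at h2

end Cfsg.Agent.Block
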