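import Mathlib
import Cfsg.Agent.Block.FongReynolds
import Cfsg.Agent.Block.Fong
import Cfsg.Agent.Block.NormalDefect
import Cfsg.Agent.Char.Degrees

/-! Fong reduction for blocks of `p`-solvable groups, as an induction principle. -/

namespace Cfsg.Agent.Block
open Cfsg Cfsg.Agent.Char Cfsg.Agent.PLocal Subgroup

universe u

/-- Fong reduction.  A property of blocks of `p`-solvable groups that holds for the blocks
`Irr(G | θ)` (`θ` an invariant irreducible character of `O_{p'}(G)`) and is inherited along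
Fong–Reynolds correspondences from proper subgroups holds for all blocks. -/
theorem fong_induction {p : ℕ} [Fact p.Prime] {M : Ideal AlgInt} (hM : IsPModular p M)
    (motive : ∀ (G : Type u) [Group G] [Finite G], Set (IrrCharacter G) → Prop)
    (base : ∀ (G : Type u) [Group G] [Finite G] [Fintype (pPrimeCore p G)], IsPSolvable p G →
      ∀ θ : IrrCharacter (pPrimeCore p G), (∀ g : G, conjIrr (pPrimeCore p G) θ g = θ) →
        IsPBlock M (above (pPrimeCore p G) {θ}) → motive G (above (pPrimeCore p G) {θ}))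
    (step : ∀ (G : Type u) [Group G] [Fintype G] [Fintype (pPrimeCore p G)], IsPSolvable p G →
      ∀ (θ : IrrCharacter (pPrimeCore p G)) (T : Subgroup G) [Fintype T]
        (hNT : pPrimeCore p G ≤ T), T ≠ ⊤ → blockStab (pPrimeCore p G) {θ} = T →
        ∀ (B' : Set (IrrCharacter T)) (B : Set (IrrCharacter G)), B' ⊆ aboveIn hNT {θ} →
          IsInducedBlock M T B' B → motive T B' → motive G B)
    (G : Type u) [Group G] [Finite G] (hG : IsPSolvable p G) (B : Set (IrrCharacter G))
    (hB : IsPBlock M B) : motive G B := by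
  induction h : Nat.card G using Nat.strong_induction_on generalizing G with
  | _ n ih =>
  have := Fintype.ofFinite G
  have := Fintype.ofFinite (pPrimeCore p G)
  have hN := Grp.not_dvd_card_pPrimeCore p G
  obtain ⟨χ, hχ⟩ := block_nonempty hM hB
  obtain ⟨θ, hθ⟩ := exists_irr_under (pPrimeCore p G) χ
  have hb : IsPBlock M {θ} := isPBlock_singleton_of_not_dvd hM hN θ
  have hcov : Covers (pPrimeCore p G) B {θ} := ⟨χ, hχ, θ, rfl, hθ⟩
  by_cases hT : blockStab (pPrimeCore p G) {θ} = ⊤
  · have hinv : ∀ g : G, conjIrr (pPrimeCore p G) θ g = θ := fun g =>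
      conjIrr_mem_of_mem_blockStab (b := {θ}) (hT ▸ mem_top g) rfl
    have hB' := isPBlock_above_of_isPConstrained hM (isPConstrained_of_isPSolvable hG) rfl hinv
    have : B = above (pPrimeCore p G) {θ} :=
      block_eq_of_mem hM hB hB' hχ (mem_above_singleton.2 hθ)
    exact this ▸ base G hG θ hinv hB'
  · have := Fintype.ofFinite (blockStab (pPrimeCore p G) {θ})
    obtain ⟨B', hB', hsub, hind⟩ := exists_aboveIn_isInducedBlock
      (hNT := le_blockStab (N := pPrimeCore p G) {θ}) hM hb le_rfl hB hcov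
    refine step G hG θ _ _ hT rfl B' B hsub hind (ih _ ?_ _ (IsPSolvable.subgroup hG _) B' hB' rfl)
    exact h ▸ Grp.card_lt_of_ne_top hT

/-- If `N` is a normal Hall subgroup with abelian quotient and `θ ∈ Irr N` is invariant, every
irreducible character over `θ` extends `θ`. -/
theorem one_eq_of_over_of_coprime {K : Type*} [Group K] [Finite K] (N : Subgroup K) [hN : N.Normal]
    [Fintype N] (hcop : N.index.Coprime (Nat.card N)) (hc : commutator K ≤ N) {θ : N → ℂ}
    (hθ : IsIrrCharacter N θ)
    (hinv : ∀ (g : K) (n : N), θ ⟨g * n * g⁻¹, hN.conj_mem n n.2 g⟩ = θ n) {ψ : K → ℂ}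
    (hψ : IsIrrCharacter K ψ) (h : classInner (fun n : N => ψ n) θ ≠ 0) : ψ 1 = θ 1 := by
  have := Fintype.ofFinite K
  obtain ⟨η, ⟨hη, hηθ, -⟩, -⟩ := S0867.result N θ hθ hinv (charDegree θ)
    (coe_charDegree_of_isCharacter hθ.isCharacter).symm
    (Nat.Coprime.mul_right (hcop.coprime_dvd_right (detOrder_dvd_card θ))
      (hcop.coprime_dvd_right (charDegree_dvd_card hθ)))
  have e : (fun n : N => η n) = θ := funext hηθ
  obtain ⟨β, hβ, hβN, rfl⟩ := gallagher_surj hη.isCharacter (e ▸ hθ) hψ (e ▸ h)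
  have h1 : β 1 = 1 := one_eq_one_of_commutator_le hβ fun x hx =>
    (mem_charKer_iff hβ.isCharacter).2 (hβN ⟨x, hc hx⟩)
  rw [Pi.mul_apply, h1, one_mul]
  exact hηθ 1

/-- Relative version of `one_eq_of_over_of_coprime`. -/
theorem one_eq_of_over_of_coprime' {G : Type*} [Group G] [Finite G] {N K : Subgroup G}
    [hN : N.Normal] [Fintype N] (hNK : N ≤ K) (hcop : (N.relIndex K).Coprime (Nat.card N))
    (hc : ⁅K, K⁆ ≤ N) {θ : N → ℂ} (hθ : IsIrrCharacter N θ) (hK : K ≤ inertia N θ)
    {ψ : K → ℂ} (hψ : IsIrrCharacter K ψ)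
    (h : classInner (fun n : N => ψ ⟨n, hNK n.2⟩) θ ≠ 0) : ψ 1 = θ 1 := by
  have := Fintype.ofFinite (N.subgroupOf K)
  have h2 := one_eq_of_over_of_coprime (N.subgroupOf K) ?_ ?_ (isIrr_subgroupOf hNK hθ)
    (fun g n => (mem_inertia' N).1 (hK g.2) ⟨_, n.2⟩) hψ
    (by rw [← classInner_subgroupOf hNK] at h; exact h)
  · exact h2
  · rwa [Nat.card_congr (subgroupOfEquivOfLe hNK).toEquiv]
  · rw [← map_subtype_le_map_subtype, map_commutator_eq, subgroupOf_map_subtype,
      range_subtype]
    exact le_inf hc (commutator_le_self K)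

theorem index_center_congr {A B : Type*} [Group A] [Group B] (e : A ≃* B) :
    (center A).index = (center B).index := by
  rw [← index_comap_of_surjective (center B) (f := e.toMonoidHom) e.surjective]
  congr 1
  ext a
  simp only [mem_center_iff, mem_comap, MulEquiv.toMonoidHom_eq_coe, MonoidHom.coe_coe]
  refine ⟨fun h b => ?_, fun h b => e.injective (by rw [map_mul, map_mul, h])⟩
  obtain ⟨b, rfl⟩ := e.surjective b
  rw [← map_mul, h, map_mul]

/-- In a `p`-constrained group, `χ(1)_p ≤ |P : Z(P)|` for every irreducible `χ` over an invariant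
character of `O_{p'}(G)`. -/
theorem factorization_charDegree_le_of_invariant {p : ℕ} [hp : Fact p.Prime] {G : Type*} [Group G]
    [Finite G] [Fintype (pPrimeCore p G)] (hG : IsPConstrained p G) {θ : pPrimeCore p G → ℂ}
    (hθ : IsIrrCharacter _ θ) (hinv : inertia (pPrimeCore p G) θ = ⊤) {χ : G → ℂ}
    (hχ : IsIrrCharacter G χ) (h : classInner (fun n : pPrimeCore p G => χ n) θ ≠ 0)
    (P : Sylow p G) :
    (charDegree χ).factorization p ≤ (center (P : Subgroup G)).index.factorization p := by
  have := Fintype.ofFinite G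
  let N := pPrimeCore p G
  set O := pCore p (G ⧸ N)
  set Z : Subgroup (G ⧸ N) := O ⊓ centralizer (O : Set (G ⧸ N))
  set K : Subgroup G := Z.comap (QuotientGroup.mk' N)
  have hNK : N ≤ K := by
    conv_lhs => rw [← QuotientGroup.ker_mk' N]
    exact ker_le_comap _ _
  have := Fintype.ofFinite K
  obtain ⟨ψ, hψ, hχψ, hψθ⟩ := exists_irr_between hNK hχ.isCharacter.isClassFunction h
  have hrel : ∃ k, N.relIndex K = p ^ k := by
    have hZ : IsPGroup p Z := (Grp.pCore_isPGroup p _).to_le inf_le_left
    obtain ⟨k, hk⟩ := hZ.exists_card_eq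
    refine ⟨k, ?_⟩
    rw [← hk]
    conv_lhs => rw [← QuotientGroup.ker_mk' N]
    rw [← MonoidHom.comap_bot, relIndex_comap, map_comap_eq_self_of_surjective
      (QuotientGroup.mk'_surjective N), relIndex_bot_left]
  obtain ⟨k, hk⟩ := hrel
  have h1 : ψ 1 = θ 1 := by
    refine one_eq_of_over_of_coprime' hNK ?_ ?_ hθ (hinv ▸ le_top) hψ hψθ
    · rw [hk]; exact (Grp.pPrimeCore_coprime p G).symm.pow_left k
    · rw [commutator_le]
      intro a ha b hb
      rw [← QuotientGroup.eq_one_iff, ← QuotientGroup.mk'_apply, map_commutatorElement,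
        commutatorElement_eq_one_iff_mul_comm]
      exact hb.2 _ ha.1
  obtain ⟨e, he, hdvd⟩ := exists_deg_eq_mul_dvd_index K hψ hχ hχψ
  have hdeg : charDegree χ = e * charDegree θ := by
    apply charDegree_eq_of_one_eq
    rw [he, h1, Nat.cast_mul, coe_charDegree_of_isCharacter hθ.isCharacter]
  have hθp : ¬ p ∣ charDegree θ := fun hd =>
    Grp.not_dvd_card_pPrimeCore p G (hd.trans (charDegree_dvd_card hθ))
  have hZK : (center (P : Subgroup G)).map (P : Subgroup G).subtype ≤ K := by
    rintro _ ⟨z, hz, rfl⟩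
    have hzc : QuotientGroup.mk' N z ∈ centralizer (O : Set (G ⧸ N)) := by
      intro y hy
      have hy' : y ∈ (P : Subgroup G).map (QuotientGroup.mk' N) :=
        Grp.pCore_le_sylow (P.mapSurjective (QuotientGroup.mk'_surjective N)) hy
      obtain ⟨x, hx, rfl⟩ := hy'
      rw [← map_mul, ← map_mul]
      exact congrArg _ (congrArg Subtype.val (mem_center_iff.1 hz ⟨x, hx⟩))
    exact ⟨isPConstrained_iff.1 hG hzc, hzc⟩
  have h2 : e ∣ (center (P : Subgroup G)).index * (P : Subgroup G).index := by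
    refine hdvd.trans ((index_dvd_of_le hZK).trans (dvd_of_eq ?_))
    rw [index_map_subtype]
  have he0 : e ≠ 0 := by
    rintro rfl
    exact (charDegree_pos_of_isIrr hχ).ne' (by simpa using hdeg)
  have h3 := (Nat.factorization_le_iff_dvd he0
    (mul_ne_zero FiniteIndex.index_ne_zero FiniteIndex.index_ne_zero)).2 h2 p
  rw [Nat.factorization_mul FiniteIndex.index_ne_zero FiniteIndex.index_ne_zero, Finsupp.add_apply,
    Nat.factorization_eq_zero_of_not_dvd P.not_dvd_index] at h3
  rw [hdeg, Nat.factorization_mul he0 (charDegree_pos_of_isIrr hθ).ne', Finsupp.add_apply,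
    Nat.factorization_eq_zero_of_not_dvd hθp]
  simpa using h3

end Cfsg.Agent.Block
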