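import Mathlib
import Cfsg.Agent.Block.OlsOrb
import Cfsg.Agent.Block.Cyc4Grp
import Cfsg.Agent.Block.RankTools

/-! Definitions for the bound `k(B) ≤ |D|` when `D` has a central cyclic subgroup of index at
most `16`. -/

set_option autoImplicit false
set_option linter.unusedSectionVars false

namespace Cfsg.Agent.Block.K16

open Subgroup MulAction

/-- A family of integer vectors (indexed by pairs) with property `Pr`, containing `l` independent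
vectors, of total norm at most `m * N`, such that every linear form that does not vanish on the
family is nonzero on at least `m` members. -/
def CovZ {κ : Type*} [Fintype κ] (Pr : (κ → ℤ) → Prop) (l N : ℕ) : Prop :=
  ∃ (n : κ × κ → κ → ℤ) (T : Finset (κ × κ)) (m : ℕ), 0 < m ∧ l ≤ T.card ∧ (∀ i, Pr (n i)) ∧
    ∑ i, ∑ χ, n i χ * n i χ ≤ (m : ℤ) * N ∧
    (∀ c : κ × κ → ℂ, (∀ χ, ∑ i ∈ T, c i * n i χ = 0) → ∀ i ∈ T, c i = 0) ∧
    ∀ a : κ → ℂ, (∃ i, ∑ χ, (n i χ : ℂ) * a χ ≠ 0) →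
      ∃ t : Finset (κ × κ), m ≤ t.card ∧ ∀ i ∈ t, ∑ χ, (n i χ : ℂ) * a χ ≠ 0

theorem CovZ.mono {κ : Type*} [Fintype κ] {Pr Pr' : (κ → ℤ) → Prop} {l l' N : ℕ}
    (h : CovZ Pr l N) (h1 : ∀ n, Pr n → Pr' n) (h2 : l' ≤ l) : CovZ Pr' l' N :=
  let ⟨n, T, m, a1, a2, a3, a4⟩ := h
  ⟨n, T, m, a1, h2.trans a2, fun i => h1 _ (a3 i), a4⟩

/-- Every element of `E` is induced by an automorphism of `D` that fixes `z`. -/
def Lifts (E : Type*) {W D : Type*} [Group E] [Group W] [MulDistribMulAction E W] [Group D]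
    (π : D →* W) (z : D) : Prop :=
  ∀ g : E, ∃ α : D ≃* D, α z = z ∧ ∀ x, π (α x) = g • π x

/-- The action of `3 × 3` on `2 ^ 2 × 2 ^ 2`. -/
structure Nine (E : Type*) {W : Type*} [Group E] [Group W] [MulDistribMulAction E W]
    (V₁ V₂ : Subgroup W) : Prop where
  idx₁ : V₁.index = 4
  idx₂ : V₂.index = 4
  ne₁ : V₁ ≠ ⊥
  ne₂ : V₂ ≠ ⊥
  disj : Disjoint V₁ V₂
  sq : ∀ x : W, x * x = 1
  inv₁ : ∀ g : E, ∀ x ∈ V₁, g • x ∈ V₁
  inv₂ : ∀ g : E, ∀ x ∈ V₂, g • x ∈ V₂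
  tr₁ : ∀ a ∈ V₁, ∀ b ∈ V₁, a ≠ 1 → b ≠ 1 → ∃ g : E, g • a = b
  tr₂ : ∀ a ∈ V₂, ∀ b ∈ V₂, a ≠ 1 → b ≠ 1 → ∃ g : E, g • a = b
  tr₃ : ∀ a b : W, a ∉ V₁ → a ∉ V₂ → b ∉ V₁ → b ∉ V₂ → ∃ g : E, g • a = b
  st₁ : ∀ a ∈ V₁, a ≠ 1 → Nat.card (stabilizer E a) = 3
  st₂ : ∀ a ∈ V₂, a ≠ 1 → Nat.card (stabilizer E a) = 3
  st₃ : ∀ a : W, a ∉ V₁ → a ∉ V₂ → Nat.card (stabilizer E a) = 1
  card : Nat.card W = 16

/-- The groups `Q₈ × C₂` and `Q₈ * C₄` of order `16`, with commutator subgroup `⟨w⟩`. -/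
structure QP {G : Type*} [Group G] (P : Subgroup G) (w : G) : Prop where
  card : Nat.card P = 16
  cz : Nat.card (P ⊓ centralizer (P : Set G) : Subgroup G) = 4
  wP : w ∈ P
  ne : w ≠ 1
  ww : w * w = 1
  cen : ∀ g ∈ P, g * w = w * g
  comm : ∀ a ∈ P, ∀ b ∈ P, a * b = b * a ∨ a * b = w * (b * a)
  sq : ∀ a ∈ P, a * a = 1 ∨ a * a = w
  four : ∀ g ∈ P, ∃ h ∈ P, h * g = g * h ∧ h * h = w

/-- The centre has index at most four, and modulo `w` it has a cyclic subgroup of order at least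
four and index at most two. -/
def Big {D : Type*} [Group D] (w : D) : Prop :=
  (center D).index ≤ 4 ∧ ∃ y ∈ center D, y * y ∉ zpowers w ∧ ∀ a ∈ center D, ∀ b ∈ center D,
    a ∉ zpowers y ⊔ zpowers w → b ∉ zpowers y ⊔ zpowers w → a * b ∈ zpowers y ⊔ zpowers w

/-- An automorphism of odd order is trivial on an abelian `2`-subgroup that has a cyclic subgroup
of order at least four and index at most two. -/
theorem odd_fix {K : Type*} [Group K] [Finite K] {φ : MulAut K} {m : ℕ} (hm : Odd m)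
    (hφ : φ ^ m = 1) {S : Subgroup K} (hS : ∀ a ∈ S, ∀ b ∈ S, a * b = b * a)
    (h1 : ∀ a ∈ S, φ a ∈ S) (h2 : ∀ a ∈ S, ∃ j, a ^ 2 ^ j = 1) {y : K} (hy : y ∈ S)
    (hy2 : y * y ≠ 1)
    (two : ∀ a ∈ S, ∀ b ∈ S, a ∉ zpowers y → b ∉ zpowers y → a * b ∈ zpowers y) :
    ∀ a ∈ S, φ a = a := by
  obtain ⟨j, hj⟩ := h2 y hy
  obtain ⟨i, -, hi⟩ := (Nat.dvd_prime_pow Nat.prime_two).1 (orderOf_dvd_of_pow_eq_one hj)
  obtain ⟨n, rfl⟩ : ∃ n, i = n + 1 + 1 := ⟨i - 2, (Nat.sub_add_cancel (m := 2) (not_lt.1 fun h => hy2 (by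
    rw [← sq, ← orderOf_dvd_iff_pow_eq_one, hi]
    exact pow_dvd_pow 2 (show i ≤ 1 by omega)))).symm⟩
  have h3 : φ y * φ y ∈ zpowers y := by
    by_cases h : φ y ∈ zpowers y
    exacts [mul_mem h h, two _ (h1 y hy) _ (h1 y hy) h h]
  have h4 : φ (y ^ 2 ^ (n + 1)) = y ^ 2 ^ (n + 1) :=
    (eq_half hi (by rw [map_pow, pow_succ', pow_mul, sq]; exact pow_mem h3 _)
      (by rw [← map_mul, half_mul_half hi, map_one])).resolve_left
        fun h => half_ne_one hi (φ.injective (h.trans (map_one φ).symm))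
  have h5 : ∀ a ∈ zpowers y, a * a = 1 → φ a = a := fun a ha h => by
    rcases eq_half hi ha h with rfl | rfl
    exacts [map_one _, h4]
  refine fun a ha => (h2 a ha).elim fun k hk => aut_fix_of_comm hm hφ hS h1 (fun a ha h => ?_) k a ha hk
  have h6 : φ a * φ a = 1 := by rw [← map_mul, h, map_one]
  by_cases h7 : a ∈ zpowers y
  · exact h5 a h7 h
  by_cases h8 : φ a ∈ zpowers y
  · exact φ.injective (h5 _ h8 h6)
  have h9 : φ a * a * (φ a * a) = 1 := by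
    rw [mul_assoc, ← mul_assoc a, hS a ha _ (h1 a ha), mul_assoc, h, mul_one, h6]
  exact aut_fix_of_mul hm hφ (t := φ a * a) (j := 1) (by rw [mul_assoc, h, mul_one])
    (h5 _ (two _ (h1 a ha) _ ha h8 h7) h9) (by rw [pow_one, sq, h9])

end Cfsg.Agent.Block.K16
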