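import Mathlib
import Cfsg.Agent.Block.K16Def
import Cfsg.Agent.Grp.ConjCount

/-! Odd order groups acting on abelian 2-groups with a cyclic subgroup of index at most 16. -/

set_option autoImplicit false
set_option linter.unusedSectionVars false

namespace Cfsg.Agent.Block.K16

open Subgroup MulAction Cfsg.Agent.Block.Ols

namespace Act

theorem half' {Q : Type*} [Group Q] [Finite Q] {y : Q} (h : ∃ k, y ^ 2 ^ k = 1) :
    ∃ w, ∀ a ∈ zpowers y, a * a = 1 → a = 1 ∨ a = w := by
  obtain ⟨k, hk⟩ := h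
  obtain ⟨_ | n, -, hn⟩ := (Nat.dvd_prime_pow Nat.prime_two).1 (orderOf_dvd_of_pow_eq_one hk)
  · exact ⟨1, fun a ha _ => Or.inl (by simpa [orderOf_eq_one_iff.1 hn] using ha)⟩
  · exact ⟨_, fun a => eq_half hn⟩

theorem orbit_all {X W : Type*} [Group X] [Group W] [Finite W] [MulDistribMulAction X W]
    {S : Set W} {v : W} (hS : ∀ g : X, g • v ∈ S) (hi : S.ncard ≤ (stabilizer X v).index) :
    ∀ b ∈ S, ∃ g : X, g • v = b := fun b hb => by
  rw [index_stabilizer] at hi
  have := Set.eq_of_subset_of_ncard_le (s := orbit X v) (t := S)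
    (by rintro _ ⟨g, rfl⟩; exact hS g) hi (Set.toFinite _)
  exact (this ▸ hb : b ∈ orbit X v)

theorem smul_ne_one {X W : Type*} [Group X] [Group W] [MulDistribMulAction X W] (g : X) {x : W}
    (h : x ≠ 1) : g • x ≠ 1 := fun e => h (by rw [← inv_smul_smul g x, e, smul_one])

theorem orbit_sub {X W : Type*} [Group X] [Group W] [Finite W] [MulDistribMulAction X W]
    {V : Subgroup W} (hV : ∀ g : X, ∀ x ∈ V, g • x ∈ V) {v : W} (hv : v ∈ V) (h1 : v ≠ 1)
    (hi : Nat.card V ≤ (stabilizer X v).index + 1) : ∀ b ∈ V, b ≠ 1 → ∃ g : X, g • v = b :=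
  fun b hb b1 => orbit_all (S := (V : Set W) \ {1}) (fun g => ⟨hV g v hv, smul_ne_one g h1⟩) (by
    rw [Set.ncard_sdiff_singleton_of_mem (one_mem V)]
    exact Nat.sub_le_iff_le_add.2 hi) b ⟨hb, b1⟩

theorem sq_of_tr {X W : Type*} [Group X] [Group W] [Finite W] [MulDistribMulAction X W]
    {V : Subgroup W} (h2 : 2 ∣ Nat.card V)
    (tr : ∀ a ∈ V, ∀ b ∈ V, a ≠ 1 → b ≠ 1 → ∃ g : X, g • a = b) : ∀ x ∈ V, x * x = 1 := by
  intro x hx
  by_cases x1 : x = 1
  · simp [x1]
  obtain ⟨t, ht⟩ := exists_prime_orderOf_dvd_card' 2 h2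
  rw [← orderOf_coe] at ht
  obtain ⟨g, rfl⟩ := tr t t.2 x hx (fun e => by simp [e] at ht) x1
  rw [← smul_mul', ← pow_two, ← ht, pow_orderOf_eq_one, smul_one]

/-- commuting lifts -/
def Cm {D W : Type*} [Group D] [Group W] (π : D →* W) (hπ : Function.Surjective π)
    (hk : π.ker ≤ center D) (x : W) : Subgroup W where
  carrier := {y | ∀ a b, π a = x → π b = y → a * b = b * a}
  one_mem' := fun a b _ hb => mem_center_iff.1 (hk hb) a
  mul_mem' := fun {y y'} hy hy' a b ha hb => by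
    obtain ⟨c, hc⟩ := hπ y
    have h1 : Commute a c := hy a c ha hc
    have h2 : Commute a (c⁻¹ * b) := hy' a _ ha (by rw [map_mul, map_inv, hc, hb]; simp)
    simpa using (h1.mul_right h2).eq
  inv_mem' := fun {y} hy a b ha hb => by
    have h1 : Commute a b⁻¹ := hy a _ ha (by rw [map_inv, hb, inv_inv])
    simpa using h1.inv_right.eq

section
variable {D W : Type*} [Group D] [Group W] {π : D →* W} {hπ : Function.Surjective π}
  {hk : π.ker ≤ center D}

theorem cm_symm {x y : W} (h : y ∈ Cm π hπ hk x) : x ∈ Cm π hπ hk y :=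
  fun a b ha hb => (h b a hb ha).symm

theorem cm_of {a b : D} (h : Commute a b) : π b ∈ Cm π hπ hk (π a) := fun a' b' ha hb => by
  have h1 : a⁻¹ * a' ∈ center D := hk (by rw [MonoidHom.mem_ker, map_mul, map_inv, ha]; simp)
  have h2 : b⁻¹ * b' ∈ center D := hk (by rw [MonoidHom.mem_ker, map_mul, map_inv, hb]; simp)
  have h3 : Commute (a * (a⁻¹ * a')) (b * (b⁻¹ * b')) :=
    (h.mul_right (mem_center_iff.1 h2 a)).mul_left (mem_center_iff.1 h1 _).symm
  simpa using h3.eq

theorem cm_self (x : W) : x ∈ Cm π hπ hk x := by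
  obtain ⟨a, rfl⟩ := hπ x
  exact cm_of (Commute.refl a)

end

end Act

open Act

variable {E W : Type*} [Group E] [Finite E] [CommGroup W] [Finite W] [MulDistribMulAction E W]
  (hE : Odd (Nat.card E)) (hW : IsPGroup 2 W) (hf : ∀ a : E, (∀ x : W, a • x = x) → a = 1)
include hE hW hf

/-- PROOF (tools: `Block/OlsOrb`, namespace `Ols`; `Fix W H` = fixed points of `H`). If
`(Fix W ⊤).index ≤ 8`, `card_dvd_or`. Otherwise `Fix W ⊤ = ⊥`, `card W = 16`. For `u ≠ 1` the
stabilizer `E_u` fixes `u`, so its `Fix` has index `≤ 8` and `card E_u ∣ 3`; the orbit of `u` has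
`card E / card E_u ≤ 15` elements (`relIndex_stabilizer_lt` with `K = ⊤`, `N = ⊤`), so
`card E ≤ 45`. A prime `q ∣ card E` has `2 ^ j ≡ 1 [MOD q]`, `1 ≤ j ≤ 4` (`exists_of_dvd`), so
`q ∈ {3, 5}`.
(a) `5 ∣ card E`: then `card E ∈ {5, 15, 45}` (`25` is excluded: an orbit of `≤ 15` points with
stabilizer of order `∣ 3`). Let `card E ≠ 5`. The Sylow `5`-subgroup `N = ⟨s⟩` is normal (number of
Sylow subgroups divides `9`, `≡ 1 mod 5`), `Fix W N = ⊥` (index `2 ^ j ≡ 1 mod 5`). Let `g` fix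
`x ≠ 1`; `g ∈ E_x` has `g ^ 3 = 1`; `g s g⁻¹ = s ^ i`, `i ^ 3 ≡ 1 mod 5`, so `g` commutes with `s`
and fixes the five points `s ^ k • x` and `1`; so `Fix W ⟨g⟩` has more than `4` elements, index
`≤ 2`, and `g = 1` by `eq_bot_of_index`. So the action is free, `card E ≤ 15`, `card E = 15`.
(b) `E` is a `3`-group, `card E ∈ {1, 3, 9, 27}`. If all `u ≠ 1` had orbits of length divisible by
`9` then `9 ∣ 15` (class formula); so some `u ≠ 1` has orbit length `1` or `3`, and `card E ∣ 9`.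
Let `card E = 9` (abelian), `H = E_u` of order `3`, `V₁ = Fix W H` (index `2 ^ j ≡ 1 mod 3`,
`≤ 8`, `≠ 1`, so `4`), `V₂ = K` from `exists_compl` (invariant, disjoint, of order `4`). For
`v ≠ 1` in `V₁` or `V₂` the orbit lies in `V ∖ 1`, has length `< 4`, `≠ 1`, so the stabilizer has
order `3` and the orbit is all of `V ∖ 1`; in particular an involution of `V` is conjugate to every
`v ≠ 1`, so `v * v = 1`. `W = V₁ V₂` by orders. For `a = v₁ v₂` with both `≠ 1`,
`E_a ≤ E_{v₁} ⊓ E_{v₂}` (`stabilizer_mul`), `E_{v₁} = H`, `H` does not fix `v₂`, so `E_a = 1`, and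
the orbit of `a` has `9` elements, all of the `16 - 7` elements outside `V₁ ∪ V₂`. -/
theorem cls16 (hc : Nat.card W ≤ 16) (h7 : ¬ 7 ∣ Nat.card E) :
    Nat.card E ∣ 3 ∨ Nat.card E ∣ 5 ∨
      (Nat.card W = 16 ∧ Nat.card E = 15 ∧ ∀ (g : E) (x : W), x ≠ 1 → g • x = x → g = 1) ∨
      ∃ V₁ V₂ : Subgroup W, Nine E V₁ V₂ := by
  have n7 : ∀ H : Subgroup E, ¬ 7 ∣ Nat.card H := fun H h => h7 (h.trans (card_subgroup_dvd_card H))
  have f3 : Fact (Nat.Prime 3) := ⟨by norm_num⟩
  have f5 : Fact (Nat.Prime 5) := ⟨by norm_num⟩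
  by_cases h8 : (Fix W (⊤ : Subgroup E)).index ≤ 8
  · exact Or.inl (card_top (G := E) ▸ (card_dvd_or hE hW hf h8).resolve_right (n7 _))
  have hF := card_mul_index (Fix W (⊤ : Subgroup E))
  have pF := Nat.card_pos (α := Fix W (⊤ : Subgroup E))
  have F1 : Nat.card (Fix W (⊤ : Subgroup E)) = 1 := by nlinarith
  have W16 : Nat.card W = 16 := by
    obtain ⟨j, hj⟩ := IsPGroup.iff_card.1 hW
    rw [F1, one_mul] at hF
    rw [hF, hj] at h8
    rw [hj] at hc ⊢
    have : j ≤ 4 := (Nat.pow_le_pow_iff_right one_lt_two).1 hc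
    interval_cases j <;> simp at h8 ⊢
  have nF : ∀ u : W, u ≠ 1 → (stabilizer E u).index ≠ 1 := fun u hu e => hu (mem_bot.1
    (card_eq_one.1 F1 ▸ mem_Fix.2 fun g _ => (index_eq_one.1 e).ge (mem_top g)))
  have A : ∀ u : W, u ≠ 1 → (Fix W (stabilizer E u)).index ≤ 8 := fun u hu => by
    have a1 := card_mul_index (Fix W (stabilizer E u))
    have a2 := (one_lt_card_iff_ne_bot (Fix W (stabilizer E u))).2
      fun e => hu (mem_bot.1 (e ▸ mem_Fix.2 fun g hg => hg))
    nlinarith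
  have B : ∀ u : W, u ≠ 1 → Nat.card (stabilizer E u) ∣ 3 := fun u hu =>
    (card_dvd_or hE hW hf (A u hu)).resolve_right (n7 _)
  have C : ∀ {V : Subgroup W}, (∀ g : E, ∀ x ∈ V, g • x ∈ V) → ∀ u ∈ V, u ≠ 1 →
      (stabilizer E u).index < Nat.card V := fun hV u hu u1 => by
    simpa using relIndex_stabilizer_lt hV hu u1 ⊤
  have C' : ∀ u : W, u ≠ 1 → (stabilizer E u).index < 16 := fun u hu => by
    simpa [W16] using C (V := ⊤) (fun _ _ _ => trivial) u trivial hu
  have : Nontrivial W := Finite.one_lt_card_iff_nontrivial.1 (by omega)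
  obtain ⟨u, hu⟩ := exists_ne (1 : W)
  have D : Nat.card E ≤ 45 := by
    have := Nat.le_of_dvd three_pos (B u hu)
    have := C' u hu
    have := card_mul_index (stabilizer E u)
    nlinarith
  by_cases h5 : 5 ∣ Nat.card E
  · by_cases e5 : Nat.card E = 5
    · exact Or.inr (Or.inl e5.dvd)
    obtain ⟨s, hs⟩ := exists_prime_orderOf_dvd_card' 5 h5
    have cs : Nat.card (zpowers s) = 5 := by rw [Nat.card_zpowers, hs]
    have a1 := card_mul_index (zpowers s)
    rw [cs] at a1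
    have a2 : (zpowers s).index = 3 ∨ (zpowers s).index = 9 := by
      have b1 := Nat.odd_iff.1 hE
      have b2 : Nat.card E ≠ 25 := fun e => by
        have c1 := card_mul_index (stabilizer E u)
        have c2 := C' u hu
        rcases (Nat.dvd_prime Nat.prime_three).1 (B u hu) with c | c <;> rw [c] at c1 <;> omega
      omega
    let P : Sylow 5 E := (IsPGroup.of_card (n := 1) (by rw [cs, pow_one]) :
      IsPGroup 5 (zpowers s)).toSylow (by omega)
    have a3 : Nat.card (Sylow 5 E) ∣ (zpowers s).index := P.card_dvd_index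
    have a4 := card_sylow_modEq_one 5 E
    have a5 : Nat.card (Sylow 5 E) = 1 := by
      have : Nat.card (Sylow 5 E) ∣ 9 := by
        rcases a2 with e | e <;> rw [e] at a3
        exacts [a3.trans (by norm_num), a3]
      have a6 := Nat.le_of_dvd (by norm_num) this
      unfold Nat.ModEq at a4
      generalize Nat.card (Sylow 5 E) = n at *
      interval_cases n <;> simp at this a4 ⊢
    have := (Nat.card_eq_one_iff_unique.1 a5).1
    have hN : (zpowers s).Normal := Sylow.normal_of_subsingleton P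
    have free : ∀ (g : E) (x : W), x ≠ 1 → g • x = x → g = 1 := fun g x hx hg => by
      have g3 : IsPGroup 3 (zpowers g) := IsPGroup.of_card_dvd_pow (n := 1)
        ((card_dvd_of_le (zpowers_le.2 (show g ∈ stabilizer E x from hg))).trans (B x hx))
      have b1 : Nat.card (zpowers s) ≡ Nat.card ↥(zpowers s ⊓ centralizer (zpowers g : Set E)) [MOD 3] :=
        Grp.ConjCount.card_modEq g3 (zpowers s : Set E) fun k _ y hy => hN.conj_mem y hy k
      have b2 : zpowers s ⊓ centralizer (zpowers g : Set E) = zpowers s :=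
        eq_of_le_of_card_ge inf_le_left (by
          have := cs ▸ card_dvd_of_le (inf_le_left : zpowers s ⊓ centralizer (zpowers g : Set E) ≤ _)
          unfold Nat.ModEq at b1
          rcases (Nat.dvd_prime f5.out).1 this with c | c <;> omega)
      have b3 : ∀ k : zpowers s, ∀ y ∈ Fix W (zpowers g), k • y ∈ Fix W (zpowers g) :=
        fun k y hy => mem_Fix.2 fun a ha => by
          change a • (k : E) • y = (k : E) • y
          rw [smul_smul, mem_centralizer_iff.1 (b2.ge k.2).2 a ha, mul_smul, mem_Fix.1 hy a ha]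
      have b4 := relIndex_stabilizer_lt b3 (mem_Fix.2 (show zpowers g ≤ stabilizer E x from zpowers_le.2 hg)) hx ⊤
      rw [relIndex_top_right] at b4
      have b5 : (stabilizer (zpowers s) x).index = 5 := by
        refine ((Nat.dvd_prime f5.out).1 (cs ▸ index_dvd_card _)).resolve_left fun e => ?_
        have : s ∈ stabilizer E x := (index_eq_one.1 e).ge (mem_top ⟨s, mem_zpowers s⟩)
        have := (cs ▸ card_dvd_of_le (zpowers_le.2 this)).trans (B x hx)
        omega
      have b6 := card_mul_index (Fix W (zpowers g))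
      exact zpowers_eq_bot.1 (eq_bot_of_index hE hW hf (by nlinarith))
    refine Or.inr (Or.inr (Or.inl ⟨W16, ?_, free⟩))
    have b1 := C' u hu
    rw [show stabilizer E u = ⊥ from eq_bot_iff.2 fun g hg => mem_bot.2 (free g u hu hg),
      index_bot] at b1
    omega
  have p3 : IsPGroup 3 E := IsPGroup.iff_card.2 ⟨_, Nat.eq_prime_pow_of_unique_prime_dvd
    Nat.card_pos.ne' fun {q} hq hd => by
      have := Fact.mk hq
      have q2 : q ≠ 2 := fun e => hE.not_two_dvd_nat (e ▸ hd)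
      obtain ⟨-, -, -, j, a1, a2, -, a3⟩ := exists_of_dvd hW hf q2 (H := ⊤) (by rwa [card_top])
      have a4 : j ≤ 4 := (Nat.pow_le_pow_iff_right one_lt_two).1 (by nlinarith)
      have a5 : q ∣ 2 ^ j - 1 := (Nat.modEq_iff_dvd' Nat.one_le_two_pow).1 a2.symm
      have a6 : q ≠ 5 := fun e => h5 (e ▸ hd)
      have a7 : q ≠ 7 := fun e => h7 (e ▸ hd)
      interval_cases j
      · exact absurd rfl a1
      · exact absurd (Nat.dvd_one.1 a5) hq.ne_one
      · exact (Nat.prime_dvd_prime_iff_eq hq (by norm_num)).1 a5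
      · exact absurd ((Nat.prime_dvd_prime_iff_eq hq (by norm_num : Nat.Prime 7)).1 a5) a7
      · rcases (Nat.Prime.dvd_mul hq (m := 3) (n := 5)).1 a5 with h | h
        · exact (Nat.prime_dvd_prime_iff_eq hq (by norm_num)).1 h
        · exact absurd ((Nat.prime_dvd_prime_iff_eq hq (by norm_num)).1 h) a6⟩
  have I : ∀ v : W, v ≠ 1 → (stabilizer E v).index = 3 ∨ (stabilizer E v).index = 9 := fun v hv => by
    obtain ⟨i, hi⟩ := p3.index (stabilizer E v)
    have a1 := C' v hv
    have a2 := nF v hv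
    rw [hi] at a1 a2 ⊢
    have : i < 3 := by
      by_contra h
      have := Nat.pow_le_pow_right (show 0 < 3 by norm_num) (not_lt.1 h)
      omega
    interval_cases i <;> simp at a2 ⊢
  obtain ⟨v, hv, iv⟩ : ∃ v : W, v ≠ 1 ∧ (stabilizer E v).index = 3 := by
    rcases I u hu with e | e
    · exact ⟨u, hu, e⟩
    have a1 : (insert 1 (orbit E u))ᶜ.ncard = 6 := by
      have := Set.ncard_add_ncard_compl (insert 1 (orbit E u))
      rw [Set.ncard_insert_of_notMem (by rintro ⟨g, hg⟩; exact smul_ne_one g hu hg),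
        ← index_stabilizer, e, W16] at this
      omega
    obtain ⟨v, hv⟩ : (insert 1 (orbit E u))ᶜ.Nonempty := Set.nonempty_of_ncard_ne_zero (by omega)
    have v1 : v ≠ 1 := fun e => hv (Or.inl e)
    refine ⟨v, v1, (I v v1).resolve_right fun e' => ?_⟩
    have := Set.ncard_le_ncard (s := orbit E v) (t := (insert 1 (orbit E u))ᶜ) (by
      rintro _ ⟨g, rfl⟩ (h | ⟨k, h⟩)
      · exact smul_ne_one g v1 h
      · exact hv (Or.inr ⟨g⁻¹ * k, by
          have h' : k • u = g • v := h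
          show (g⁻¹ * k) • u = v
          rw [mul_smul, h', inv_smul_smul]⟩))
    rw [← index_stabilizer] at this
    omega
  have a1 := card_mul_index (stabilizer E v)
  rcases (Nat.dvd_prime Nat.prime_three).1 (B v hv) with c3 | c3
  · exact Or.inl (by rw [← a1, c3, iv])
  have E9 : Nat.card E = 3 ^ 2 := by rw [← a1, c3, iv]; rfl
  have := IsPGroup.isMulCommutative_of_card_eq_prime_sq E9
  have hN : (stabilizer E v).Normal := inferInstance
  have i1 : (Fix W (stabilizer E v)).index = 4 := by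
    have b1 := modEq_of_pgroup hW (by norm_num) (p3.to_subgroup (stabilizer E v))
    have b2 := A v hv
    have b3 : (Fix W (stabilizer E v)).index ≠ 1 := fun e => by
      rw [eq_bot_of_Fix hf (index_eq_one.1 e), card_bot] at c3
      omega
    obtain ⟨j, hj⟩ := index_eq_pow hW (Fix W (stabilizer E v))
    rw [hj] at b1 b2 b3 ⊢
    have : j ≤ 3 := (Nat.pow_le_pow_iff_right one_lt_two).1 b2
    interval_cases j <;> simp [Nat.ModEq] at b1 b3 ⊢
  obtain ⟨K, k1, k2, k3⟩ := exists_compl hE hW (stabilizer E v)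
  set V := Fix W (stabilizer E v) with hV
  have v1 : ∀ g : E, ∀ x ∈ V, g • x ∈ V := fun g x hx => smul_mem_Fix _ g hx
  have cK : Nat.card K = 4 := k3 ▸ i1
  have cV : Nat.card V = 4 := by have := card_mul_index V; rw [i1] at this; omega
  have S : ∀ {U : Subgroup W}, (∀ g : E, ∀ x ∈ U, g • x ∈ U) → Nat.card U = 4 → ∀ a ∈ U, a ≠ 1 →
      (stabilizer E a).index = 3 ∧ Nat.card (stabilizer E a) = 3 := fun hU cU a ha a1 => by
    have b1 := C hU a ha a1
    have b2 := I a a1
    have b3 := card_mul_index (stabilizer E a)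
    have b4 : (stabilizer E a).index = 3 := by omega
    rw [b4] at b3
    exact ⟨b4, by omega⟩
  have T : ∀ {U : Subgroup W}, (∀ g : E, ∀ x ∈ U, g • x ∈ U) → Nat.card U = 4 → ∀ a ∈ U, ∀ b ∈ U,
      a ≠ 1 → b ≠ 1 → ∃ g : E, g • a = b := fun hU cU a ha b hb a1 b1 =>
    orbit_sub hU ha a1 (by rw [cU, (S hU cU a ha a1).1]) b hb b1
  have dec : ∀ x : W, ∃ a ∈ V, ∃ b ∈ K, a * b = x := fun x => by
    obtain ⟨p, hp⟩ := (isComplement'_of_card_mul_and_disjoint (by rw [cV, cK, W16]) k2).2 x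
    exact ⟨_, p.1.2, _, p.2.2, hp⟩
  have st : ∀ a : W, a ∉ V → a ∉ K → Nat.card (stabilizer E a) = 1 := fun x h1 h2 => by
    obtain ⟨a, ha, b, hb, rfl⟩ := dec x
    have a1 : a ≠ 1 := fun e => h2 (by simpa [e] using hb)
    have b1 : b ≠ 1 := fun e => h1 (by simpa [e] using ha)
    have c1 := stabilizer_mul k2 v1 k1 ha hb
    have c2 : stabilizer E v = stabilizer E a := eq_of_le_of_card_ge (fun g hg => mem_Fix.1 ha g hg)
      (by rw [c3, (S v1 cV a ha a1).2])
    have c4 : stabilizer E (a * b) ≤ stabilizer E v := c2 ▸ c1.trans inf_le_left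
    refine ((Nat.dvd_prime Nat.prime_three).1 (c3 ▸ card_dvd_of_le c4)).resolve_right fun e => ?_
    have c5 := eq_of_le_of_card_ge c4 (by rw [e, c3])
    exact b1 (disjoint_def.1 k2 (mem_Fix.2 fun g hg => (c1 (c5.ge hg)).2) hb)
  refine Or.inr (Or.inr (Or.inr ⟨V, K, i1, by have := card_mul_index K; rw [cK] at this; omega,
    fun e => by simp [e] at cV, fun e => by simp [e] at cK, k2, fun x => ?_, v1, k1, T v1 cV, T k1 cK,
    fun a b a1 a2 b1 b2 => ?_, fun a ha a1 => (S v1 cV a ha a1).2, fun a ha a1 => (S k1 cK a ha a1).2,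
    st, W16⟩))
  · obtain ⟨a, ha, b, hb, rfl⟩ := dec x
    rw [mul_mul_mul_comm, sq_of_tr (by rw [cV]; norm_num) (T v1 cV) a ha,
      sq_of_tr (by rw [cK]; norm_num) (T k1 cK) b hb, one_mul]
  · refine orbit_all (S := ((V : Set W) ∪ K)ᶜ) (fun g h => ?_) ?_ b fun h => h.elim b1 b2
    · rcases h with h | h
      · exact a1 (by simpa using v1 g⁻¹ _ h)
      · exact a2 (by simpa using k1 g⁻¹ _ h)
    · have c1 := card_mul_index (stabilizer E a)
      rw [st a a1 a2, E9] at c1
      have c2 := Set.ncard_add_ncard_compl ((V : Set W) ∪ K)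
      have c3 := Set.ncard_union_add_ncard_inter (V : Set W) K
      have c4 : ((V : Set W) ∩ K).ncard = 1 := by
        rw [← coe_inf, disjoint_iff.1 k2, coe_bot, Set.ncard_singleton]
      have c5 : (V : Set W).ncard = 4 := cV
      have c6 : (K : Set W).ncard = 4 := cK
      omega

/-- PROOF. Let `g ∈ E` have order `7`, with lift `α`; `exists_of_dvd`: `F = Fix W ⟨g⟩` has index
`8`, so `card F ≤ 2`; `exists_compl` (for the group `zpowers g` and `N = ⊤`) gives an invariant
`K` of order `8` disjoint from `F`; `W = F K`. `⟨g⟩` permutes the `7` elements of `K ∖ 1`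
regularly, so all have square `1`. Put `β x y = x y x⁻¹ y⁻¹ ∈ ⟨z⟩` (central, bilinear, depends
only on `π x`, `π y`, `β (α x) (α y) = α (β x y) = β x y`). If `π x * π x = 1`, then `β x y` has
square `1`, so lies in `{1, t}` (`exists_half`/`eq_half`), and `C x = {k ∈ K | β x k = 1}` has index
`≤ 2` in `K`. For `π x ∈ F` it is `g`-invariant and nontrivial, so all of `K`. For `x̄ ∈ K ∖ 1`:
`g ^ i x̄ ∈ C x ↔ g ^ (-i) x̄ ∈ C x`; if `C x ≠ K` it has `4` elements `1, x̄, h x̄, h⁻¹ x̄` with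
`1 ≠ h ∈ ⟨g⟩`, and `x̄ * h x̄ = h⁻¹ x̄`; applying `h` gives `h² x̄ = x̄ * h x̄ = h⁻¹ x̄`, so `h³`
fixes `x̄`, impossible. Hence `β` vanishes on `K × K`, `F × K`, `F × F`, and `D` is abelian. -/
theorem not_seven {D : Type*} [Group D] [Finite D] (hD : IsPGroup 2 D) {π : D →* W}
    (hπ : Function.Surjective π) {z : D} (hz : z ∈ center D) (hk : π.ker = zpowers z)
    (hL : Lifts E π z) (hc : Nat.card W ≤ 16) (hn : ∃ a b : D, a * b ≠ b * a) :
    ¬ 7 ∣ Nat.card E := by
  classical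
  intro h7
  have f7 : Fact (Nat.Prime 7) := ⟨by norm_num⟩
  have hk' : π.ker ≤ center D := hk ▸ zpowers_le.2 hz
  obtain ⟨g, -, hg, j, a1, a2, a3, -⟩ := exists_of_dvd hW hf (q := 7) (by norm_num) (H := ⊤)
    (by rwa [card_top])
  have cg : Nat.card (zpowers g) = 7 := by rw [Nat.card_zpowers, hg]
  have hF := card_mul_index (Fix W (zpowers g))
  have pF := Nat.card_pos (α := Fix W (zpowers g))
  have i8 : (Fix W (zpowers g)).index = 8 := by
    have a4 : j ≤ 4 := (Nat.pow_le_pow_iff_right one_lt_two).1 (by nlinarith)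
    rw [a3]
    interval_cases j <;> simp [Nat.ModEq] at a1 a2 ⊢
  obtain ⟨K, k1, k2, k3⟩ := exists_compl (E := zpowers g) (by rw [cg]; decide) hW ⊤
  have eF : Fix W (⊤ : Subgroup (zpowers g)) = Fix W (zpowers g) := by
    ext x
    exact ⟨fun h a => mem_Fix.1 h a trivial, fun h => mem_Fix.2 fun a _ => h a⟩
  rw [eF] at k2 k3
  set F := Fix W (zpowers g) with hFd
  have cK : Nat.card K = 8 := k3 ▸ i8
  have tr : ∀ a ∈ K, ∀ b ∈ K, a ≠ 1 → b ≠ 1 → ∃ e : zpowers g, e • a = b := fun a ha b hb a1 b1 =>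
    orbit_sub k1 ha a1 (by
      rw [cK, ((Nat.dvd_prime f7.out).1 (cg ▸ index_dvd_card (stabilizer (zpowers g) a))).resolve_left
        fun e => a1 (disjoint_def.1 k2 (fun c => (index_eq_one.1 e).ge (mem_top c)) ha)]) b hb b1
  have sq := sq_of_tr (by rw [cK]; norm_num) tr
  have inv : ∀ (e : E) {x y : W}, y ∈ Cm π hπ hk' x → e • y ∈ Cm π hπ hk' (e • x) := fun e x y h => by
    obtain ⟨α, -, hα⟩ := hL e
    obtain ⟨a, rfl⟩ := hπ x
    obtain ⟨b, rfl⟩ := hπ y
    rw [← hα, ← hα]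
    exact cm_of (Commute.map (h a b rfl rfl) α)
  obtain ⟨w, hw⟩ := half' (y := z) ((IsPGroup.iff_orderOf.1 hD z).imp fun k hk => by
    rw [← hk, pow_orderOf_eq_one])
  have two : ∀ x : W, x * x = 1 → ∀ y y', y ∉ Cm π hπ hk' x → y' ∉ Cm π hπ hk' x →
      y * y' ∈ Cm π hπ hk' x := fun x hx y y' h h' => by
    obtain ⟨a, rfl⟩ := hπ x
    have H : ∀ b, π b ∉ Cm π hπ hk' (π a) → b * a * b⁻¹ = a * w ∧ w ∈ center D ∧ w * w = 1 :=
      fun b hb => by
        have m : a⁻¹ * (b * a * b⁻¹) ∈ π.ker := by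
          rw [MonoidHom.mem_ker]; simp only [map_mul, map_inv]; rw [mul_comm (π b)]; simp
        have c := mem_center_iff.1 (hk' m) a
        have aa : a * a ∈ center D := hk' (by rw [MonoidHom.mem_ker, map_mul, hx])
        have s2 : a⁻¹ * (b * a * b⁻¹) * (a⁻¹ * (b * a * b⁻¹)) = 1 := by
          have e1 : (b * a * b⁻¹) * (b * a * b⁻¹) = a * a := by
            rw [show (b * a * b⁻¹) * (b * a * b⁻¹) = b * (a * a) * b⁻¹ by group,
              mem_center_iff.1 aa b]; simp
          set t := a⁻¹ * (b * a * b⁻¹)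
          have e2 : b * a * b⁻¹ = a * t := by simp [t]
          rw [e2, mul_assoc, ← mul_assoc t, ← c] at e1
          simpa [mul_assoc] using e1
        rcases hw _ (hk ▸ m) s2 with e | e
        · exact (hb (cm_of (mul_inv_eq_iff_eq_mul.1 (inv_mul_eq_one.1 e).symm).symm)).elim
        · exact ⟨by rw [← e]; simp, e ▸ hk' m, e ▸ s2⟩
    obtain ⟨b, rfl⟩ := hπ y
    obtain ⟨c, rfl⟩ := hπ y'
    obtain ⟨h1, h2, h3⟩ := H b h
    obtain ⟨h4, -⟩ := H c h'
    rw [← map_mul]
    refine cm_of (mul_inv_eq_iff_eq_mul.1 ?_).symm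
    calc b * c * a * (b * c)⁻¹ = b * (c * a * c⁻¹) * b⁻¹ := by group
      _ = b * a * (w * b⁻¹) := by rw [h4]; group
      _ = (b * a * b⁻¹) * w := by rw [← mem_center_iff.1 h2 b⁻¹]; group
      _ = a := by rw [h1, mul_assoc, h3, mul_one]
  have := Fintype.ofFinite W
  have cK' : (Finset.univ.filter (· ∈ K)).card = 8 := by
    rw [← cK, Nat.card_eq_fintype_card, Fintype.card_subtype]
  have KK : ∀ a ∈ K, K ≤ Cm π hπ hk' a := fun a ha b hb => by
    by_contra hab
    have hba : a ∉ Cm π hπ hk' b := fun h => hab (cm_symm h)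
    have a1 : a ≠ 1 := fun e => hba (e ▸ one_mem _)
    obtain ⟨y, hy, hy'⟩ := Finset.exists_mem_notMem_of_card_lt_card
      (s := ({1, a, b, a * b} : Finset W)) (t := Finset.univ.filter (· ∈ K))
      (lt_of_le_of_lt Finset.card_le_four (by omega))
    have hy : y ∈ K := (Finset.mem_filter.1 hy).2
    simp only [Finset.mem_insert, Finset.mem_singleton, not_or] at hy'
    obtain ⟨y1, y2, y3, y4⟩ := hy'
    have ne : ∀ t ∈ K, y ≠ t → y * t ≠ 1 := fun t ht h e =>
      h ((eq_inv_of_mul_eq_one_left e).trans (inv_eq_of_mul_eq_one_right (sq t ht)))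
    obtain ⟨c, hc, c1, ca, cb⟩ : ∃ c ∈ K, c ≠ 1 ∧ c ∈ Cm π hπ hk' a ∧ c ∈ Cm π hπ hk' b := by
      by_cases h1 : y ∈ Cm π hπ hk' a <;> by_cases h2 : y ∈ Cm π hπ hk' b
      · exact ⟨y, hy, y1, h1, h2⟩
      · exact ⟨y * a, mul_mem hy ha, ne a ha y2, mul_mem h1 (cm_self a), two b (sq b hb) _ _ h2 hba⟩
      · exact ⟨y * b, mul_mem hy hb, ne b hb y3, two a (sq a ha) _ _ h1 hab, mul_mem h2 (cm_self b)⟩
      · refine ⟨y * (a * b), mul_mem hy (mul_mem ha hb), ne _ (mul_mem ha hb) y4, ?_, ?_⟩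
        · rw [mul_comm a, ← mul_assoc]
          exact mul_mem (two a (sq a ha) _ _ h1 hab) (cm_self a)
        · rw [← mul_assoc]
          exact mul_mem (two b (sq b hb) _ _ h2 hba) (cm_self b)
    have c5 : 5 ≤ Nat.card ↥(K ⊓ Cm π hπ hk' c) := by
      have b1 : b ≠ 1 := fun e => hab (e ▸ one_mem _)
      have ab : a ≠ b := fun e => hab (e ▸ cm_self a)
      have n1 : a * b ∉ Cm π hπ hk' a := fun h => hab ((mul_mem_cancel_left (cm_self a)).1 h)
      have : ({1, a, b, a * b, c} : Finset W).card = 5 := by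
        rw [Finset.card_insert_of_notMem, Finset.card_insert_of_notMem,
          Finset.card_insert_of_notMem, Finset.card_pair]
        · exact fun e => n1 (e ▸ ca)
        · simp only [Finset.mem_insert, Finset.mem_singleton, not_or]
          exact ⟨by simpa using a1, fun e => hab (e ▸ ca)⟩
        · simp only [Finset.mem_insert, Finset.mem_singleton, not_or]
          exact ⟨ab, by simpa using b1, fun e => hba (e ▸ cb)⟩
        · simp only [Finset.mem_insert, Finset.mem_singleton, not_or]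
          exact ⟨a1.symm, b1.symm, fun e => n1 (e ▸ one_mem _), c1.symm⟩
      rw [← this, Nat.card_eq_fintype_card, Fintype.card_subtype]
      refine Finset.card_le_card fun t ht => Finset.mem_filter.2 ⟨Finset.mem_univ _, ?_⟩
      simp only [Finset.mem_insert, Finset.mem_singleton] at ht
      rcases ht with rfl | rfl | rfl | rfl | rfl
      exacts [one_mem _, ⟨ha, cm_symm ca⟩, ⟨hb, cm_symm cb⟩,
        ⟨mul_mem ha hb, mul_mem (cm_symm ca) (cm_symm cb)⟩, ⟨hc, cm_self _⟩]
    have c8 : K ⊓ Cm π hπ hk' c = K := eq_of_le_of_card_ge inf_le_left (by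
      have := cK ▸ card_dvd_of_le (inf_le_left : K ⊓ Cm π hπ hk' c ≤ K)
      have h8 := Nat.le_of_dvd (by norm_num) this
      rw [cK]
      generalize Nat.card ↥(K ⊓ Cm π hπ hk' c) = n at *
      interval_cases n <;> simp at this ⊢)
    obtain ⟨e, rfl⟩ := tr c hc a ha c1 a1
    have : e • e⁻¹ • b ∈ Cm π hπ hk' (e • c) := inv e (c8.ge (k1 e⁻¹ b hb)).2
    exact hab (by rwa [smul_inv_smul] at this)
  have F2 : ∀ f ∈ F, ∀ f' ∈ F, f ≠ 1 → f' ≠ 1 → f = f' := fun f hf f' hf' f1 f1' => by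
    have h5 : Nat.card F = 2 := le_antisymm (by nlinarith) ((one_lt_card_iff_ne_bot _).2
      fun e => f1 (mem_bot.1 (e ▸ hf)))
    obtain ⟨y, -, hy⟩ := (Nat.card_eq_two_iff' (1 : F)).1 h5
    exact congrArg Subtype.val ((hy ⟨f, hf⟩ fun e => f1 (congrArg Subtype.val e)).trans
      (hy ⟨f', hf'⟩ fun e => f1' (congrArg Subtype.val e)).symm)
  have FF : ∀ f ∈ F, F ≤ Cm π hπ hk' f := fun f hf f' hf' => by
    by_cases h1 : f = 1
    · exact cm_symm (h1 ▸ one_mem _)
    by_cases h2 : f' = 1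
    · exact h2 ▸ one_mem _
    exact F2 f hf f' hf' h1 h2 ▸ cm_self f
  have FK : ∀ f ∈ F, K ≤ Cm π hπ hk' f := fun f hf b hb => by
    have ff : f * f = 1 := by
      by_contra h
      have f1 : f ≠ 1 := fun e => h (by simp [e])
      exact f1 (by simpa using F2 _ (mul_mem hf hf) f hf h f1)
    by_cases b1 : b = 1
    · exact b1 ▸ one_mem _
    obtain ⟨y, hy, hy'⟩ := Finset.exists_mem_notMem_of_card_lt_card
      (s := ({1, b} : Finset W)) (t := Finset.univ.filter (· ∈ K))
      (lt_of_le_of_lt Finset.card_le_two (by omega))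
    have hy : y ∈ K := (Finset.mem_filter.1 hy).2
    simp only [Finset.mem_insert, Finset.mem_singleton, not_or] at hy'
    obtain ⟨c, hc, c1, cf⟩ : ∃ c ∈ K, c ≠ 1 ∧ c ∈ Cm π hπ hk' f := by
      by_cases h1 : y ∈ Cm π hπ hk' f
      · exact ⟨y, hy, hy'.1, h1⟩
      by_cases h2 : b ∈ Cm π hπ hk' f
      · exact ⟨b, hb, b1, h2⟩
      exact ⟨y * b, mul_mem hy hb, fun e => hy'.2 ((eq_inv_of_mul_eq_one_left e).trans
        (inv_eq_of_mul_eq_one_right (sq b hb))), two f ff _ _ h1 h2⟩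
    obtain ⟨e, rfl⟩ := tr c hc b hb c1 b1
    have := inv e cf
    rwa [mem_Fix.1 hf e e.2] at this
  have dec : ∀ x : W, ∃ a ∈ F, ∃ b ∈ K, a * b = x := fun x => by
    obtain ⟨p, hp⟩ := (isComplement'_of_card_mul_and_disjoint (by rw [← k3, hF]) k2).2 x
    exact ⟨_, p.1.2, _, p.2.2, hp⟩
  obtain ⟨a, b, hab⟩ := hn
  refine hab ((?_ : π b ∈ Cm π hπ hk' (π a)) a b rfl rfl)
  obtain ⟨f, hf, k, hk, e⟩ := dec (π a)
  obtain ⟨f', hf', k', hk', e'⟩ := dec (π b)
  rw [← e, ← e']
  exact cm_symm (mul_mem (cm_symm (mul_mem (FF f hf hf') (FK f hf hk')))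
    (cm_symm (mul_mem (cm_symm (FK f' hf' hk)) (KK k hk hk'))))

/-- PROOF. `U = (center D).map π` is `E`-invariant (the centre is characteristic, use the lifts),
has index `∣ (center D).index ≤ 4` (`index_map_dvd`), and `odd_fix` (with
`φ = MulDistribMulAction.toMulAut E W g`, `m = card E`, `y = π y`) shows `U ≤ Fix W ⊤`; then
`card_dvd_three`. -/
theorem big_three {D : Type*} [Group D] [Finite D] {π : D →* W} (hπ : Function.Surjective π)
    {w : D} (hk : π.ker = zpowers w) (hL : Lifts E π w) (hB : Big w) : Nat.card E ∣ 3 := by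
  obtain ⟨h1, y, hy, h2, h3⟩ := hB
  have e : (zpowers y ⊔ zpowers w).map π = zpowers (π y) := by
    rw [Subgroup.map_sup, MonoidHom.map_zpowers, MonoidHom.map_zpowers,
      show π w = 1 from (hk.ge (mem_zpowers w)), zpowers_one_eq_bot, sup_bot_eq]
  have le : (center D).map π ≤ Fix W (⊤ : Subgroup E) := fun x hx => mem_Fix.2 fun g _ => by
    obtain ⟨α, -, hα⟩ := hL g
    refine odd_fix (φ := MulDistribMulAction.toMulAut E W g) hE (by rw [← map_pow, pow_card_eq_one', map_one])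
      (S := (center D).map π) (fun a _ b _ => mul_comm a b) ?_ (fun a _ => hW a) (y := π y)
      (mem_map_of_mem π hy) (fun h => h2 (hk.le (by rw [MonoidHom.mem_ker, map_mul, h]))) ?_ x hx
    · rintro _ ⟨c, hc, rfl⟩
      refine ⟨α c, mem_center_iff.2 fun d => ?_, hα c⟩
      obtain ⟨d, rfl⟩ := α.surjective d
      rw [← map_mul, ← map_mul, mem_center_iff.1 hc d]
    · rintro _ ⟨a, ha, rfl⟩ _ ⟨b, hb, rfl⟩ a1 b1
      rw [← e] at a1 b1 ⊢
      rw [← map_mul]
      exact mem_map_of_mem π (h3 a ha b hb (fun h => a1 (mem_map_of_mem π h))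
        fun h => b1 (mem_map_of_mem π h))
  exact card_top (G := E) ▸ card_dvd_three hE hW hf ((Nat.le_of_dvd
    (Nat.pos_of_ne_zero index_ne_zero_of_finite)
      ((index_dvd_of_le le).trans (index_map_dvd _ hπ))).trans h1)

/-- PROOF. `Ω = {x | x * x = 1}` (the kernel of squaring) is invariant, `E` acts faithfully on it
(`aut_fix_of_comm`), and `card Ω ≤ 32` (`Ω ⊓ ⟨z⟩` has at most two elements). Apply
`exists_small_stabilizer` to the restricted action on `Ω`: we are done unless `u ≠ 1` has a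
stabilizer `H` of order `5` and `card W > 32`. Then `Fix Ω H` has index `16` (`≡ 1 mod 5`) and
contains `u`, so `card Ω = 32`, `Fix Ω H = {1, u}`. The subgroup of squares `℧` has order
`card W / 32 ≥ 2`, at most `orderOf z / 2`, and contains `z ^ 2`; so `℧ = ⟨z ^ 2⟩` is a nontrivial
invariant cyclic group and its involution `v` is fixed by `E`. So `v = u`, `H = E` has order `5`,
and any `u' ∈ Ω ∖ {1, u}` has a proper, hence trivial stabilizer. -/
theorem ab_two {z : W} (hc : Nat.card W ≤ 16 * orderOf z) : ∃ u : W,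
    Nat.card (stabilizer E u) ∣ 3 ∨
      (u ≠ 1 ∧ Nat.card (stabilizer E u) ∣ 5 ∧ Nat.card W ≤ 32) := by
  have f5 : Fact (Nat.Prime 5) := ⟨by norm_num⟩
  set Ω : Subgroup W := (powMonoidHom 2 : W →* W).ker with hΩ
  have mΩ : ∀ x, x ∈ Ω ↔ x * x = 1 := fun x => by simp [hΩ, sq]
  obtain ⟨_, act⟩ := Solv.Ext.exists_subAction (A := E) (H := Ω) fun g x hx => by
    rw [mΩ] at hx ⊢
    rw [← smul_mul', hx, smul_one]
  have st : ∀ u : Ω, stabilizer E u = stabilizer E (u : W) := fun u => by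
    ext g
    rw [mem_stabilizer_iff, mem_stabilizer_iff, ← act, Subtype.ext_iff]
  have hW' : IsPGroup 2 Ω := hW.to_subgroup Ω
  have hf' : ∀ a : E, (∀ x : Ω, a • x = x) → a = 1 := fun g hg => hf g fun x => by
    obtain ⟨k, hk⟩ := hW x
    exact aut_fix_of_comm (φ := MulDistribMulAction.toMulAut E W g) hE
      (by rw [← map_pow, pow_card_eq_one', map_one]) (S := ⊤) (fun a _ b _ => mul_comm a b)
      (fun _ _ => trivial) (fun a _ h => (act g ⟨a, (mΩ a).2 h⟩).symm.trans
        (congrArg Subtype.val (hg _))) k x trivial hk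
  have oz := orderOf_pos z
  have c32 : Nat.card Ω ≤ 32 := by
    have a1 := card_mul_index (zpowers z)
    rw [Nat.card_zpowers] at a1
    have a2 : (zpowers z).index ≤ 16 := by nlinarith
    have a3 := (Nat.le_of_dvd (Nat.pos_of_ne_zero index_ne_zero_of_finite)
      (relIndex_dvd_index_of_normal (zpowers z) Ω)).trans a2
    have a4 := card_mul_index ((zpowers z).subgroupOf Ω)
    have a5 : Nat.card ((zpowers z).subgroupOf Ω) ≤ 2 := by
      obtain ⟨w, hw⟩ := half' (hW z)
      have : Nat.card ((zpowers z).subgroupOf Ω) ≤ Nat.card ({1, w} : Set W) :=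
        Nat.card_le_card_of_injective (fun x => ⟨x.1.1, hw _ x.2 ((mΩ _).1 x.1.2)⟩)
          fun x y h => Subtype.ext (Subtype.ext (congrArg (fun t : ({1, w} : Set W) => (t : W)) h))
      exact this.trans ((Set.ncard_insert_le _ _).trans (by simp))
    unfold relIndex at a3
    nlinarith
  obtain ⟨u, hu⟩ := exists_small_stabilizer hE hW' hf' c32
  rcases hu with hu | ⟨u1, hu⟩
  · exact ⟨u, Or.inl (st u ▸ hu)⟩
  by_cases h32 : Nat.card W ≤ 32
  · exact ⟨u, Or.inr ⟨fun e => u1 (Subtype.ext e), st u ▸ hu, h32⟩⟩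
  rcases (Nat.dvd_prime f5.out).1 hu with c5 | c5
  · exact ⟨u, Or.inl (by rw [← st, c5]; norm_num)⟩
  have a1 := card_mul_index (Fix Ω (stabilizer E u))
  have mu : u ∈ Fix Ω (stabilizer E u) := mem_Fix.2 fun g hg => hg
  have a2 := (one_lt_card_iff_ne_bot (Fix Ω (stabilizer E u))).2 fun e => u1 (mem_bot.1 (e ▸ mu))
  have i16 : (Fix Ω (stabilizer E u)).index = 16 := by
    have b1 := modEq_of_pgroup hW' (q := 5) (by norm_num) (IsPGroup.of_card (n := 1) c5)
    have b3 : (Fix Ω (stabilizer E u)).index ≠ 1 := fun e => by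
      rw [eq_bot_of_Fix hf' (index_eq_one.1 e), card_bot] at c5
      omega
    obtain ⟨j, hj⟩ := index_eq_pow hW' (Fix Ω (stabilizer E u))
    have : j ≤ 4 := (Nat.pow_le_pow_iff_right one_lt_two).1 (by nlinarith)
    rw [hj] at b1 b3 ⊢
    interval_cases j <;> simp [Nat.ModEq] at b1 b3 ⊢
  rw [i16] at a1
  have a3 := card_mul_index Ω
  rw [hΩ, index_ker, ← hΩ] at a3
  set U : Subgroup W := (powMonoidHom 2 : W →* W).range with hU
  have a4 : zpowers (z ^ 2) = U := eq_of_le_of_card_ge (zpowers_le.2 ⟨z, rfl⟩) (by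
    have : orderOf z ≤ 2 * orderOf (z ^ 2) := orderOf_le_of_pow_eq_one
      (Nat.mul_pos two_pos (orderOf_pos _)) (by rw [pow_mul, pow_orderOf_eq_one])
    rw [Nat.card_zpowers]
    nlinarith)
  have a5 : ∀ g : E, U ≤ XG.Fx W g := fun g => XG.fix_of_isCyclic (by
    rintro g _ ⟨x, rfl⟩
    exact ⟨g • x, (smul_pow' g x 2).symm⟩) (hW.to_subgroup U) (a4 ▸ inferInstance)
    (hE.of_dvd_nat (orderOf_dvd_natCard g))
  obtain ⟨v, hv⟩ := exists_prime_orderOf_dvd_card' (G := U) 2 (by
    obtain ⟨n, hn⟩ := IsPGroup.iff_card.1 (hW.to_subgroup U)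
    rcases n with _ | n
    · rw [hn] at a3; omega
    · rw [hn]; exact dvd_pow_self 2 (by omega))
  rw [← orderOf_coe] at hv
  have vΩ : (v : W) ∈ Ω := (mΩ _).2 (by rw [← sq, ← hv, pow_orderOf_eq_one])
  have sv : stabilizer E (⟨v, vΩ⟩ : Ω) = ⊤ := by
    rw [st]; exact eq_top_iff.2 fun g _ => a5 g v.2
  have uv : u = ⟨v, vΩ⟩ := by
    obtain ⟨y, -, hy⟩ := (Nat.card_eq_two_iff' (1 : Fix Ω (stabilizer E u))).1 (by omega)
    exact congrArg Subtype.val ((hy ⟨u, mu⟩ fun e => u1 (congrArg Subtype.val e)).trans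
      (hy ⟨⟨v, vΩ⟩, mem_Fix.2 fun g _ => sv.ge (mem_top g)⟩ fun e => by
        have : (v : W) = 1 := congrArg (fun t : Fix Ω (stabilizer E u) => (t.1 : W)) e
        simp [this] at hv).symm)
  rw [← uv] at sv
  obtain ⟨u', hu'⟩ : ∃ u', u' ∉ Fix Ω (stabilizer E u) := by
    by_contra! h
    rw [show Fix Ω (stabilizer E u) = ⊤ from eq_top_iff.2 fun x _ => h x, index_top] at i16
    omega
  rw [sv, card_top] at c5
  refine ⟨u', Or.inl ?_⟩
  rw [← st, ((Nat.dvd_prime f5.out).1 (c5 ▸ card_subgroup_dvd_card (stabilizer E u'))).resolve_right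
    fun e => hu' (mem_Fix.2 fun g _ => (eq_top_of_card_eq _ (e.trans c5.symm)).ge (mem_top g))]
  norm_num

end Cfsg.Agent.Block.K16
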