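import Mathlib
import Cfsg.Agent.Block.K16Def

/-! Covering families for the orthogonal complement of one or two integer vectors. -/

set_option autoImplicit false
set_option linter.unusedSectionVars false

namespace Cfsg.Agent.Block.K16

open Finset

variable {κ : Type*} [Fintype κ] {Pr : (κ → ℤ) → Prop}

theorem exists_ne_pairs {ι α : Type*} {s : Finset ι} {f : ι → α} {x y : ι} (hx : x ∈ s)
    (hy : y ∈ s) (h : f x ≠ f y) : ∃ t : Finset (ι × ι), 2 * (s.card - 1) ≤ t.card ∧
      ∀ i ∈ t, i.1 ∈ s ∧ i.2 ∈ s ∧ f i.1 ≠ f i.2 := by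
  classical
  let g : ι → ι := fun i => if f i = f x then y else x
  have h1 : ∀ i, g i ∈ s ∧ f i ≠ f (g i) := fun i => by
    by_cases h2 : f i = f x <;> simp [g, h2, hx, hy, h]
  refine ⟨(s.erase x).image (fun i => (i, g i)) ∪ (s.erase x).image (fun i => (g i, i)), ?_, ?_⟩
  · rw [card_union_of_disjoint, card_image_of_injective _ fun a b e => congrArg Prod.fst e,
      card_image_of_injective _ fun a b e => congrArg Prod.snd e, card_erase_of_mem hx, two_mul]
    rw [disjoint_left]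
    simp only [mem_image, mem_erase, not_exists, not_and]
    rintro _ ⟨i, ⟨h2, -⟩, rfl⟩ j ⟨h3, -⟩ h4
    obtain ⟨h4, h5⟩ := Prod.mk.inj h4
    by_cases h6 : f j = f x
    · obtain rfl : y = i := by simpa [g, h6] using h4
      exact h3 (by simpa [g, h.symm] using h5)
    · exact h2 (by simpa [g, h6] using h4.symm)
  · intro i hi
    rcases mem_union.1 hi with hi | hi <;> obtain ⟨j, hj, rfl⟩ := mem_image.1 hi
    exacts [⟨mem_of_mem_erase hj, (h1 j).1, (h1 j).2⟩, ⟨(h1 j).1, mem_of_mem_erase hj, (h1 j).2.symm⟩]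

theorem cov_lagr {s : Finset κ} {v : κ → κ → ℤ} {t : κ → ℤ} {o : κ} {N : ℕ} (ho : o ∈ s)
    (h2 : 2 ≤ s.card) (ht : ∀ i ∈ s, t i ≠ 0) (h0 : ∀ i ∉ s, t i = 0 ∧ ∀ χ, v i χ = 0)
    (hd : ∀ i ∈ s, i ≠ o → v i i = 1 ∧ ∀ j, j ≠ i → v j i = 0)
    (hP : ∀ i j, Pr fun χ => t j * v i χ - t i * v j χ)
    (hN : (∑ i, t i * t i) * (∑ i, ∑ χ, v i χ * v i χ) -
      ∑ χ, (∑ i, t i * v i χ) * (∑ i, t i * v i χ) ≤ (s.card - 1 : ℕ) * (N : ℤ)) :
    CovZ Pr (s.card - 1) N := by
  classical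
  refine ⟨fun i χ => t i.2 * v i.1 χ - t i.1 * v i.2 χ, (s.erase o).image fun i => (i, o),
    2 * (s.card - 1), by omega, ?_, fun i => hP _ _, ?_, fun c hc i hi => ?_, fun a ha => ?_⟩
  · rw [card_image_of_injective _ fun a b e => congrArg Prod.fst e, card_erase_of_mem ho]
  · have e : ∀ i j χ, (t j * v i χ - t i * v j χ) * (t j * v i χ - t i * v j χ) =
        t j * t j * (v i χ * v i χ) + t i * t i * (v j χ * v j χ) -
          2 * (t i * v i χ * (t j * v j χ)) := fun i j χ => by ring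
    rw [Fintype.sum_prod_type]
    simp only [e, sum_sub_distrib, sum_add_distrib, ← mul_sum, ← sum_mul]
    have e2 : ∑ i, ∑ j, ∑ χ, t i * v i χ * (t j * v j χ) =
        ∑ χ, (∑ i, t i * v i χ) * (∑ i, t i * v i χ) := by
      simp only [sum_mul_sum]
      exact (sum_congr rfl fun i _ => sum_comm).trans sum_comm
    rw [e2]
    push_cast at hN ⊢
    linarith
  · obtain ⟨j, hj, rfl⟩ := mem_image.1 hi
    obtain ⟨h3, h4⟩ := mem_erase.1 hj
    have h5 := hc j
    rw [sum_image fun a _ b _ e => congrArg Prod.fst e, sum_eq_single_of_mem j hj fun l _ hl => by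
      simp [(hd j h4 h3).2 l hl, (hd j h4 h3).2 o h3.symm]] at h5
    simpa [(hd j h4 h3).1, (hd j h4 h3).2 o h3.symm, ht o ho] using h5
  · have e : ∀ i j, ∑ χ, ((t j * v i χ - t i * v j χ : ℤ) : ℂ) * a χ =
        t j * ∑ χ, v i χ * a χ - t i * ∑ χ, v j χ * a χ := fun i j => by
      simp only [mul_sum, ← sum_sub_distrib]
      exact sum_congr rfl fun χ _ => by push_cast; ring
    have e2 : ∀ i ∈ s, ∀ j ∈ s, ∑ χ, ((t j * v i χ - t i * v j χ : ℤ) : ℂ) * a χ ≠ 0 ↔
        (∑ χ, v i χ * a χ) / t i ≠ (∑ χ, v j χ * a χ) / t j := fun i hi j hj => by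
      rw [e, Ne, Ne, div_eq_div_iff (Int.cast_ne_zero.2 (ht i hi)) (Int.cast_ne_zero.2 (ht j hj)),
        sub_eq_zero, mul_comm, mul_comm (t i : ℂ)]
    obtain ⟨⟨x, y⟩, h3⟩ := ha
    have hx : x ∈ s := by_contra fun h => h3 (by simp [h0 x h])
    have hy : y ∈ s := by_contra fun h => h3 (by simp [h0 y h])
    obtain ⟨u, h4, h5⟩ := exists_ne_pairs (f := fun i => (∑ χ, v i χ * a χ) / t i) hx hy
      ((e2 x hx y hy).1 h3)
    exact ⟨u, h4, fun i hi => (e2 _ (h5 i hi).1 _ (h5 i hi).2.1).2 (h5 i hi).2.2⟩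

theorem cov_one {N : κ → ℤ} (hN : ∀ χ, N χ ≠ 0) {R : ℕ} (hR : ∑ χ, N χ * N χ = R)
    (hk : 2 ≤ Fintype.card κ) : CovZ (fun n => ∑ χ, n χ * N χ = 0) (Fintype.card κ - 1) R := by
  classical
  obtain ⟨o⟩ : Nonempty κ := Fintype.card_pos_iff.1 (by omega)
  refine cov_lagr (s := univ) (v := fun i χ => if i = χ then 1 else 0) (t := N) (mem_univ o) hk
    (fun i _ => hN i) (by simp) (fun i _ _ => ⟨if_pos rfl, fun j h => if_neg h⟩) (fun i j => ?_) ?_
  · simp [sub_mul, sum_sub_distrib, mul_comm (N j)]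
  · simp only [mul_ite, mul_one, mul_zero, sum_ite_eq, sum_ite_eq', mem_univ, if_true, hR,
      sum_const, card_univ]
    rw [Nat.cast_sub (by omega)]
    simp only [nsmul_eq_mul, mul_one, Nat.cast_one]
    linarith

theorem exists_two {d : κ → ℤ} (hd : ∑ χ, d χ * d χ = 2) : ∃ a b, a ≠ b ∧ d a * d a = 1 ∧
    d b * d b = 1 ∧ ∀ χ, χ ≠ a → χ ≠ b → d χ = 0 := by
  classical
  have h1 : ∀ χ, d χ ≠ 0 → d χ * d χ = 1 := fun χ h => by
    have h2 := single_le_sum (f := fun χ => d χ * d χ) (fun _ _ => mul_self_nonneg _) (mem_univ χ)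
    have h3 : d χ ≤ 1 := by nlinarith
    have h4 : -1 ≤ d χ := by nlinarith
    generalize d χ = x at *
    interval_cases x <;> simp_all
  rw [← sum_filter_ne_zero, sum_congr rfl (g := fun _ => 1) fun χ h => h1 χ (by simpa using h),
    sum_const, nsmul_eq_mul, mul_one] at hd
  obtain ⟨a, b, h2, h3⟩ := card_eq_two.1 (by exact_mod_cast hd)
  have h4 : ∀ χ, d χ ≠ 0 ↔ χ = a ∨ χ = b := fun χ => by simpa using Finset.ext_iff.1 h3 χ
  exact ⟨a, b, h2, h1 a (by simp [h4]), h1 b (by simp [h4]),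
    fun χ h5 h6 => by_contra fun h => by simp [h4, h5, h6] at h⟩

theorem cov_two {N : κ → Fin 2 → ℤ} {e : ℕ}
    (hG : ∀ a b, ∑ χ, N χ a * N χ b = e + if a = b then 1 else 0) (hne : ∀ χ, ∃ a, N χ a ≠ 0)
    (hk : 3 ≤ Fintype.card κ) :
    CovZ (fun n => ∀ a, ∑ χ, n χ * N χ a = 0) (Fintype.card κ - 2) (2 * e + 1) := by
  classical
  have h00 := hG 0 0
  have h11 := hG 1 1
  have h01 := hG 0 1
  simp only [if_true, show ((0 : Fin 2) = 1) = False by simp, if_false] at h00 h11 h01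
  obtain ⟨a, b, hab, ha, hb, h0⟩ := exists_two (d := fun χ => N χ 0 - N χ 1) (by
    have : ∀ χ, (N χ 0 - N χ 1) * (N χ 0 - N χ 1) =
      N χ 0 * N χ 0 + N χ 1 * N χ 1 - 2 * (N χ 0 * N χ 1) := fun χ => by ring
    simp only [this, sum_sub_distrib, sum_add_distrib, ← mul_sum, h00, h11, h01]
    ring)
  have hs : ∀ f : κ → ℤ, ∑ χ, f χ = f b + (f a + ∑ χ ∈ (univ.erase b).erase a, f χ) := fun f => by
    rw [add_sum_erase _ _ (by simpa using hab), add_sum_erase _ _ (mem_univ b)]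
  have hT : ∀ χ ∈ (univ.erase b).erase a, χ ≠ a ∧ χ ≠ b := fun χ h => by simpa using h
  have h1 : (N a 0 - N a 1) * N a 0 + (N b 0 - N b 1) * N b 0 = 1 := by
    have : ∑ χ, (N χ 0 - N χ 1) * N χ 0 = 1 := by
      simp only [sub_mul, sum_sub_distrib, h00, mul_comm (N _ 1), h01]
      ring
    rw [hs, sum_eq_zero fun χ h => by rw [h0 χ (hT χ h).1 (hT χ h).2, zero_mul]] at this
    linarith
  set x := N a 0 - N a 1 with hx
  set y := N b 0 - N b 1 with hy
  let v : κ → κ → ℤ := fun i χ => if i = b then 0 else if i = a then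
    (if a = χ then x else 0) - (if b = χ then y else 0) else if i = χ then 1 else 0
  let t : κ → ℤ := fun i => if i = b then 0 else if i = a then x * N a 0 - y * N b 0 else N i 0
  have hv : ∀ i c, ∑ χ, v i χ * N χ c = t i := fun i c => by
    by_cases h2 : i = b
    · simp [v, t, h2]
    by_cases h3 : i = a
    · simp only [v, t, h3, hab, if_true, if_false, sub_mul, sum_sub_distrib, ite_mul, zero_mul,
        sum_ite_eq, mem_univ]
      fin_cases c
      · rfl
      · change x * N a 1 - y * N b 1 = _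
        linear_combination hb - ha
    · simp only [v, t, h2, h3, if_false, ite_mul, zero_mul, sum_ite_eq, mem_univ, if_true, one_mul]
      fin_cases c
      exacts [rfl, (sub_eq_zero.1 (h0 i h3 h2)).symm]
  have hc : (univ.erase b).card - 1 = Fintype.card κ - 2 := by
    rw [card_erase_of_mem (mem_univ b), card_univ]; omega
  rw [← hc]
  refine cov_lagr (v := v) (t := t) (o := a) (by simpa using hab) (by omega) (fun i hi => ?_)
    (fun i hi => by simp [v, t, show i = b by simpa using hi]) (fun i hi h2 => ?_)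
    (fun i j c => ?_) ?_
  · have h2 : i ≠ b := by simpa using hi
    by_cases h3 : i = a
    · simp only [t, h3, hab, if_true, if_false]
      omega
    · obtain ⟨c, h4⟩ := hne i
      simp only [t, h2, h3, if_false]
      fin_cases c
      exacts [h4, sub_eq_zero.1 (h0 i h3 h2) ▸ h4]
  · have h3 : i ≠ b := by simpa using hi
    refine ⟨by simp [v, h2, h3], fun j h4 => ?_⟩
    simp [v, h2.symm, h3.symm, h4]
  · simp only [sub_mul, sum_sub_distrib, mul_assoc, ← mul_sum, hv]
    ring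
  · have e1 : ∑ i, t i * t i = t a * t a + ∑ χ ∈ (univ.erase b).erase a, N χ 0 * N χ 0 := by
      rw [hs, sum_congr rfl fun χ h => by simp only [t, (hT χ h).1, (hT χ h).2, if_false]; rfl]
      simp [t]
    have e2 : ∑ i, ∑ χ, v i χ * v i χ = 2 + ((univ.erase b).erase a).card := by
      have a1 : ∑ i ∈ (univ.erase b).erase a, ∑ χ, v i χ * v i χ = ∑ i ∈ (univ.erase b).erase a, 1 :=
        sum_congr rfl fun χ h => by simp [v, (hT χ h).1, (hT χ h).2]
      have a2 : ∑ χ, v a χ * v a χ = 2 := by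
        rw [hs, sum_eq_zero fun χ h => by simp [v, (hT χ h).1.symm, (hT χ h).2.symm]]
        simp [v, hab, hab.symm, ha, hb]
      rw [hs, a1, a2]
      simp [v]
    have e3 : ∀ χ, ∑ i, t i * v i χ = t a * v a χ + if χ ∈ (univ.erase b).erase a then N χ 0 else 0 :=
      fun χ => by
        rw [hs, sum_congr rfl (g := fun i => if i = χ then N i 0 else 0) fun i h => by
          simp [t, v, (hT i h).1, (hT i h).2], sum_ite_eq']
        simp [t]
    have e4 : ∑ χ, (∑ i, t i * v i χ) * (∑ i, t i * v i χ) =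
        2 * (t a * t a) + ∑ χ ∈ (univ.erase b).erase a, N χ 0 * N χ 0 := by
      simp only [e3]
      rw [hs, sum_congr rfl (g := fun χ => N χ 0 * N χ 0) fun χ h => by
        simp [v, h, (hT χ h).1.symm, (hT χ h).2.symm]]
      simp only [v, hab, hab.symm, if_true, if_false, mem_erase, ne_eq, not_true, false_and,
        and_false]
      linear_combination t a * t a * ha + t a * t a * hb
    have e5 : ((univ.erase b).erase a).card = (univ.erase b).card - 1 :=
      card_erase_of_mem (by simpa using hab)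
    have e6 : t a * t a + 2 * ∑ χ ∈ (univ.erase b).erase a, N χ 0 * N χ 0 = 2 * e + 1 := by
      rw [hs] at h00
      simp only [t, hab, if_true, if_false]
      linear_combination 2 * h00 - (x * N a 0 + y * N b 0 + 1) * h1 + 2 * (N a 0 * N a 0) * ha +
        2 * (N b 0 * N b 0) * hb
    have e7 : 0 ≤ ∑ χ ∈ (univ.erase b).erase a, N χ 0 * N χ 0 :=
      sum_nonneg fun _ _ => mul_self_nonneg _
    have e8 : (1 : ℤ) ≤ ((univ.erase b).card - 1 : ℕ) := by omega
    rw [e1, e2, e4, e5]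
    push_cast
    rw [← e6]
    nlinarith

theorem cov_indep {T : Finset κ} {n : κ → κ → ℤ} {N : ℕ} (h0 : Pr 0) (h1 : ∀ i ∈ T, Pr (n i))
    (h2 : ∑ i ∈ T, ∑ χ, n i χ * n i χ ≤ N)
    (h3 : ∀ c : κ → ℂ, (∀ χ, ∑ i ∈ T, c i * n i χ = 0) → ∀ i ∈ T, c i = 0) :
    CovZ Pr T.card N := by
  classical
  refine ⟨fun i => if i.1 = i.2 ∧ i.1 ∈ T then n i.1 else 0, T.image fun i => (i, i), 1, one_pos,
    (card_image_of_injective _ fun a b e => congrArg Prod.fst e).ge, fun i => ?_, ?_,
    fun c hc i hi => ?_, fun a ⟨i, hi⟩ => ⟨{i}, by simp, by simpa using hi⟩⟩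
  · dsimp only
    split_ifs with h
    exacts [h1 _ h.2, h0]
  · rw [Fintype.sum_prod_type, sum_congr rfl (g := fun i => if i ∈ T then ∑ χ, n i χ * n i χ else 0)
      fun i _ => by
        rw [sum_eq_single i (fun j _ h => by simp [h.symm]) (by simp)]
        by_cases h : i ∈ T <;> simp [h]]
    simpa using h2
  · obtain ⟨j, hj, rfl⟩ := mem_image.1 hi
    refine h3 (fun i => c (i, i)) (fun χ => ?_) j hj
    rw [← hc χ, sum_image fun a _ b _ e => congrArg Prod.fst e]
    exact sum_congr rfl fun l hl => by simp [hl]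

end Cfsg.Agent.Block.K16
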