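import Mathlib
import Cfsg.Agent.Block.K16Cov
import Cfsg.Agent.Block.OlsAb
import Cfsg.Agent.Block.FusChain
import Cfsg.Agent.Block.FusQuot
import Cfsg.Agent.Fus.Act

/-! Bounds for the number of characters of a block from a major subsection. -/

set_option autoImplicit false
set_option linter.unusedSectionVars false

namespace Cfsg.Agent.Block

open Cfsg Cfsg.Agent.Char Subgroup Cfsg.Agent.Block.Alg K16 Cfsg.Agent.Fus

variable {G : Type*} [Group G] [Finite G] {M : Ideal AlgInt} {p : ℕ} [hp : Fact p.Prime]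
  {B : Set (IrrCharacter G)} {P : Subgroup G} {e : MonoidAlgebra (resField M) G}

/-- The block of `C(z) / ⟨z⟩` dominated by the block of the subsection of `z`. -/
noncomputable abbrev dblk (p : ℕ) (P : Subgroup G) (e : MonoidAlgebra (resField M) G) (z : G) :=
  domSet (QuotientGroup.mk' (zpowers (cself z))) (QuotientGroup.mk'_surjective _) (lblk p P e z)

/-- The covering property for the virtual projective characters of a block. -/
def BCov (p : ℕ) (B : Set (IrrCharacter G)) (N : ℕ) : Prop :=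
  ∀ [Fintype B], CovZ (fun n : B → ℤ => IsProj p B (icomb n)) (blockRank p B) N

theorem MP.card_le_of_cov (h : MP p B P e) {u : G} (hu : u ∈ P) (hP : P ≤ centralizer {u})
    {N : ℕ} (hc : BCov p (dblk p P e u) N) : Nat.card B ≤ orderOf u * N := by
  classical
  have hr := rank_domSet_cself h.hM (h.order hu) (h.block hu)
  unfold dblk at hc
  set Z := zpowers (cself u)
  set c := domSet (QuotientGroup.mk' Z) (QuotientGroup.mk'_surjective _) (lblk p P e u)
  have := Fintype.ofFinite c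
  have := Fintype.ofFinite (centralizer ({u} : Set G))
  have := Fintype.ofFinite (centralizer ({u} : Set G) ⧸ Z)
  obtain ⟨n, T, m, a0, a1, a2, a3, a4, a5⟩ := @hc _
  have hZ : IsPGroup p Z := orderOf_eq_pow_iff_isPGroup.1 (by
    rw [← orderOf_coe]; exact h.order hu)
  have hcm : ∀ v ∈ Z, ∀ y : centralizer ({u} : Set G), ¬ p ∣ orderOf y → Commute v y :=
    fun v hv y _ => (mem_center_iff.1 (zpowers_cself_le u hv) y).symm
  have hΦ : ∀ i, IsProj p (lblk p P e u) (plift p Z (icomb (n i))) := fun i =>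
    (a2 i).plift h.hM hZ hcm (eSet_mem_intAlg h.hM (h.block hu))
  have hind : LinearIndependent ℂ fun i : T => plift p Z (icomb (n i)) := by
    rw [Fintype.linearIndependent_iff]
    intro g hg i
    have h7 := a4 (fun j => if hj : j ∈ T then g ⟨j, hj⟩ else 0) (fun χ => by
      have h8 := congrArg (fun θ => classInner θ fun x : centralizer ({u} : Set G) =>
        (χ.1 : _ → ℂ) (x : _ ⧸ Z)) hg
      simp only [classInner_sum_left, classInner_smul_left, classInner_zero_left] at h8
      rw [← h8, ← Finset.sum_coe_sort T]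
      refine Finset.sum_congr rfl fun j _ => ?_
      rw [dif_pos j.2, classInner_plift hZ hcm (a2 j).reg (Ψ := χ.1) fun _ _ => rfl]
      simp only [icomb, classInner_sum_left, classInner_smul_left, irr_inner, Subtype.val_inj,
        mul_ite, mul_one, mul_zero]
      rw [Finset.sum_eq_single χ (fun _ _ h => if_neg h) (by simp), if_pos rfl]) i i.2
    rwa [dif_pos i.2] at h7
  have h6 : ∀ (χ : G → ℂ) i, gdn _ u χ (plift p Z (icomb (n i))) =
      ∑ ψ, (n i ψ : ℂ) * gdn _ u χ (plift p Z ψ.1) := fun χ i => by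
    simp only [← gdn_smul, ← gdn_sum]
    congr 1
    ext g
    by_cases hg : p ∣ orderOf g
    · simp [plift, regPart_of_dvd _ hg]
    · simp [plift, regPart_of_not_dvd _ hg, icomb, Finset.mul_sum, mul_left_comm]
  have h7 := mul_card_le_of_gdn h.hM (h.order hu) rfl (h.ind hu) Finset.univ (fun i _ => hΦ i)
    (n := fun i => Nat.card Z * ∑ χ, n i χ * n i χ) (fun i _ => by
      rw [classInner_plift_plift hZ hcm (a2 i).reg, classInner_icomb]; push_cast; rfl)
    (Finset.univ.filter fun χ => χ ∈ B) (m := m) fun χ hχ => by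
      obtain ⟨i, hi⟩ := exists_gdn_ne_of_indep h.hM (h.block hu) (fun i : T => hΦ i) hind
        (by simpa [hr] using a1)
        (bcmp_ne_zero_of_induced_major h.hM (h.order hu) rfl (h.ind hu)
          (blockDefect_eq_of_major h.hM h.hB h.hm rfl hP (h.block hu) (h.ple hu))
          (Finset.mem_filter.1 hχ).2)
      obtain ⟨t, h8, h9⟩ := a5 _ ⟨i, h6 _ _ ▸ hi⟩
      exact ⟨t, Finset.subset_univ _, h8, fun j hj => h6 _ _ ▸ h9 j hj⟩
  rw [← Finset.mul_sum, Nat.card_zpowers,
    show orderOf (cself u) = orderOf u from (orderOf_coe _).symm] at h7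
  rw [natCard_block_eq']
  have h8 : (0 : ℤ) ≤ orderOf u := by positivity
  have h9 := h7.trans (mul_le_mul_of_nonneg_left a3 h8)
  rw [mul_left_comm] at h9
  exact_mod_cast le_of_mul_le_mul_left h9 (by exact_mod_cast a0)

theorem MP.cov_five (h : MP 2 B P e) (hab : P ≤ centralizer (P : Set G)) (hc : Nat.card P ≤ 16)
    (hd : inI P e ∣ 5) (hl : 4 ≤ blockRank 2 B) : BCov 2 B (Nat.card P) := fun [_] => by
  obtain ⟨h1, T, n, a1, a2, a3, a4⟩ := h.exists_five hab hc hd hl
  rw [← a1, h1]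
  exact cov_indep (by simpa [icomb] using isProj_zero) a2 a3 a4

theorem MP.cov_free (h : MP p B P e) (hab : P ≤ centralizer (P : Set G))
    (hf : ∀ g ∈ nst ⊤ P e, ∀ x ∈ P, x ≠ 1 → g * x * g⁻¹ = x → g ∈ centralizer (P : Set G))
    (hc : Nat.card P = inI P e + 1 ∨ Nat.card P = 2 * inI P e + 1) : BCov p B (Nat.card P) :=
  fun [_] => by
  classical
  have h1 : inI P e ≠ 0 := index_ne_zero_of_finite
  have h0 : P ≠ ⊥ := (one_lt_card_iff_ne_bot P).1 (by omega)
  have := Fintype.ofFinite P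
  obtain ⟨N, h3, h4, h5⟩ := h.exists_gram_proj hab hf h0
  have h6 := card_dorbs_mul (MP.free_nrho hf) (comm_of_le_centralizer hab)
  have h7 := h.card_eq_add hab hf
  have h8 := blockRank_pos (p := p) h.hM h.hB
  rw [index_ker_nrho, ← inI] at h3 h6
  rw [Nat.card_eq_fintype_card] at h7
  rcases hc with hc | hc
  · have h9 : Nat.card {O // ∃ ψ, ψ ≠ 1 ∧ dorb (nrho P e) ψ = O} = 1 :=
      Nat.eq_of_mul_eq_mul_right (Nat.pos_of_ne_zero h1) (by omega)
    obtain ⟨a, ha⟩ := Nat.card_eq_one_iff_exists.1 h9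
    refine (cov_one (N := fun χ => N χ a) (fun χ => (h4 χ).elim fun b hb => ha b ▸ hb)
      (by rw [h3, hc]; simp) (by omega)).mono (fun n hn => h5 n fun b => ha b ▸ hn) (by omega)
  · have h9 : Nat.card {O // ∃ ψ, ψ ≠ 1 ∧ dorb (nrho P e) ψ = O} = 2 :=
      Nat.eq_of_mul_eq_mul_right (Nat.pos_of_ne_zero h1) (by omega)
    have := Nat.finite_of_card_ne_zero (h9.trans_ne two_ne_zero)
    let ε := (Finite.equivFinOfCardEq h9).symm
    rw [hc]
    exact (cov_two (N := fun χ a => N χ (ε a)) (fun a b => by simpa using h3 (ε a) (ε b))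
      (fun χ => (h4 χ).imp' ε.symm fun a ha => by simpa using ha) (by omega)).mono
      (fun n hn => h5 n fun a => by simpa using hn (ε.symm a)) (by omega)

theorem MP.nst_le_of (h : MP p B P e) {e' : MonoidAlgebra (resField M) G} (h' : MP p B P e')
    (h1 : nst ⊤ P e ≤ centralizer (P : Set G)) : nst ⊤ P e' ≤ centralizer (P : Set G) := by
  have := charP_resField h.hM
  obtain ⟨x, -, h2, rfl⟩ := h'.hm.exists_conj h.hm
  conv_lhs => rw [← h2, ← map_cm_nst _ _ (mem_top x)]
  rw [← h2, ← map_cm_centralizer, h2]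
  exact map_mono h1

universe u in
/-- Abelian defect group and inertial index three: three Brauer characters. -/
theorem rank_eq_three (n : ℕ) : ∀ {G : Type u} [Group G] [Finite G]
    {B : Set (IrrCharacter G)} {P : Subgroup G} {e : MonoidAlgebra (resField M) G},
    MP p B P e → P ≤ centralizer (P : Set G) → Nat.card P = n → inI P e = 3 →
      blockRank p B = 3 := by
  induction n using Nat.strong_induction_on with
  | _ n ih =>
    intro G _ _ B P e h hab hn hd
    rcases h.cases_prime Nat.prime_three hd.dvd with h1 | ⟨h1, h2 | ⟨z, hz, h2, h3⟩⟩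
    · rw [inI, relIndex_eq_one.2 h1] at hd
      omega
    · refine (h.frobenius_count hab h2 ?_ h1).2.2 le_rfl
      rintro rfl
      rw [inI, relIndex_eq_one.2 fun x _ => by simp] at hd
      omega
    have hP : P ≤ centralizer {z} := hab.trans (centralizer_le (Set.singleton_subset_iff.2 hz))
    obtain ⟨e', h', rfl⟩ := h.exists_sub hz hP
    obtain ⟨f, h4, h5⟩ := h'.exists_quot_dvd (zpowers_cself_le z) (zpowers_le.2 hz)
    obtain ⟨f', h6, h7⟩ := h'.exists_quot_fm (zpowers_cself_le z) (zpowers_le.2 hz)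
    have h8 := inI_sub hP e'
    rw [inf_of_le_left h3, ← inI, hd] at h8
    rw [← h.rank_lblk_eq hab hz h3, ← rank_domSet_cself h.hM (h.order hz) (h.block hz)]
    have := charP_resField h.hM
    refine ih _ ?_ h4 ?_ rfl (((Nat.dvd_prime Nat.prime_three).1 (h8 ▸ h5)).resolve_left fun h9 => ?_)
    · have h8 : 1 < orderOf z := by
        have := orderOf_pos z
        have := mt orderOf_eq_one_iff.1 h2
        omega
      have h9 := card_map_cself (D := P.subgroupOf _) hz
      rw [Nat.card_congr (subgroupOfEquivOfLe hP).toEquiv] at h9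
      have := Nat.card_pos (α := (P.subgroupOf _).map (QuotientGroup.mk' (zpowers (cself z))))
      nlinarith
    · rintro _ ⟨x, hx, rfl⟩
      exact map_mem_centralizer_map _ (MP.sub_comm hab hx)
    have h10 := h'.hm.not_dvd_relIndex
    rw [top_inf_eq, sup_eq_left.2 (MP.sub_comm hab)] at h10
    rw [inI, relIndex_eq_one.2 (le_of_reg_mem ((nst_le_normalizer _ _ _).trans
      (normalizer_le_normalizer_centralizer _)) (fun x hx ho => ?_) le_rfl h10)] at h8
    · omega
    refine mem_centralizer_of_central_quot h'.pgroup (zpowers_cself_le z) (zpowers_le.2 hz) ho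
      (h4.nst_le_of h6 (relIndex_eq_one.1 h9) (h6.mem_nst_of_fm (PLE.refl h6.hm.of.pair)
        (h7 x _ (zpowers_le.2 hz) (fm_of_nst (PLE.refl h'.hm.of.pair) hx))
        (le_normalizer_map _ ⟨x, nst_le_normalizer _ _ _ hx, rfl⟩)))

theorem MP.rank_eq_one_of_centric (h : MP p B P e) (hn : ∀ Q ≤ P,
    P ⊓ centralizer (Q : Set G) ≤ Q → ∀ x, FM p P e x Q → x ∈ normalizer (Q : Set G) →
      ¬ p ∣ orderOf x → x ∈ centralizer (Q : Set G)) : blockRank p B = 1 := by
  have := charP_resField h.hM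
  have hF := isPairFus_pairFus h.hm.of.pair
  refine blockRank_eq_one_of_nilpotent h.hM ((nilB_gbar_iff h.hM h.hB).1
    (h.hm.nilB_of_innerFus (hF.innerFus_iff.2 fun Q => congrArg (·.Hom Q)
      (eq_inner_of_not_act h.pgroup (hF.isSaturated h.hm) fun Q h1 h2 h3 => h3 ?_))))
  obtain ⟨f, hf⟩ := exists_ple h.hm.of.pair h1
  rintro ⟨α, hα⟩
  have h4 := hα
  rw [hF.autGroup_eq hf, mem_autInducedBy_iff] at h4
  obtain ⟨g, hg, h4⟩ := h4
  have h5 : ∀ (k : ℕ) (x : Q), ((α ^ k) x : G) = g ^ k * x * (g ^ k)⁻¹ := fun k => by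
    induction k with
    | zero => simp
    | succ k ih => intro x; rw [pow_succ, MulAut.mul_apply, ih, h4]; group
  obtain ⟨n, h6⟩ := pow_pow_eq_one_of_orderOf (orderOf_pPart p g)
  have h7 := zpowers_le.2 hg (pReg_mem_zpowers p g)
  refine ⟨n, Subtype.ext (MulEquiv.ext fun x => Subtype.ext ((h5 _ x).trans ?_))⟩
  rw [← pPart_mul_pReg p g, (commute_pPart_pReg p _).mul_pow, h6, one_mul, mul_inv_eq_iff_eq_mul]
  exact (pow_mem (hn Q h1 h2 _ (fm_of_nst hf h7) (nst_le_normalizer _ _ _ h7)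
    (not_dvd_orderOf_pReg p g)) _ x x.2).symm

theorem MP.exists_lifts (h : MP p B P e) {z : P} (hz : z ∈ center P) :
    ∃ (π : P →* centralizer ({(z : G)} : Set G) ⧸ zpowers (cself (z : G)))
      (f : MonoidAlgebra (resField M) _), MP p (dblk p P e z) π.range f ∧ π.ker = zpowers z ∧
      ∀ s ∈ nst ⊤ π.range f, ∃ α : P ≃* P, α z = z ∧ ∀ x, π (α x) = s * π x * s⁻¹ := by
  have hP : P ≤ centralizer {(z : G)} := fun x hx =>
    mem_centralizer_singleton_iff.2 (congrArg Subtype.val (mem_center_iff.1 hz ⟨x, hx⟩))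
  obtain ⟨e', h', rfl⟩ := h.exists_sub z.2 hP
  obtain ⟨f, h1, h2⟩ := h'.exists_quot (zpowers_cself_le (z : G)) (zpowers_le.2 z.2)
  rw [← inclusion_range hP, ← MonoidHom.range_comp] at h1 h2
  refine ⟨_, f, h1, ?_, fun s hs => ?_⟩
  · rw [← MonoidHom.comap_ker, QuotientGroup.ker_mk',
      ← comap_map_eq_self_of_injective (inclusion_injective hP) (zpowers z), MonoidHom.map_zpowers]
    rfl
  obtain ⟨t, ht, h3⟩ := h2 s hs
  have h4 : (t : G) ∈ nst ⊤ P (emb (centralizer {(z : G)}).subtype e') := by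
    rw [inclusion_range, ← mem_nst_emb (subtype_injective _), subgroupOf_map_subtype,
      inf_of_le_left hP, mem_nst] at ht
    exact mem_nst.2 ⟨trivial, ht.2⟩
  exact ⟨nrho P _ ⟨t, h4⟩, Subtype.ext (mul_inv_eq_iff_eq_mul.2
    (mem_centralizer_singleton_iff.1 t.2)), fun x => (h3 _ ⟨x, rfl⟩).symm⟩

theorem lifts_nrho {D : Type*} [Group D] {π : D →* G} {z : D}
    {f : MonoidAlgebra (resField M) G}
    (h : ∀ s ∈ nst ⊤ π.range f, ∃ α : D ≃* D, α z = z ∧ ∀ x, π (α x) = s * π x * s⁻¹) :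
    Lifts (nrho π.range f).range π.rangeRestrict z := by
  rintro ⟨_, s, rfl⟩
  obtain ⟨α, h1, h2⟩ := h s s.2
  exact ⟨α, h1, fun x => Subtype.ext (h2 x)⟩

theorem MP.not_dvd_card_nrho (h : MP p B P e) (hab : P ≤ centralizer (P : Set G)) :
    ¬ p ∣ Nat.card (nrho P e).range := by
  have := charP_resField h.hM
  have h2 := h.hm.not_dvd_relIndex
  rw [top_inf_eq, sup_eq_left.2 hab] at h2
  rwa [← index_ker, index_ker_nrho]

theorem card_nrho : Nat.card (nrho P e).range = inI P e := by
  rw [← index_ker, index_ker_nrho, inI]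

theorem free_of_nrho (h : ∀ (g : (nrho P e).range) (x : P), x ≠ 1 → g • x = x → g = 1) :
    ∀ g ∈ nst ⊤ P e, ∀ x ∈ P, x ≠ 1 → g * x * g⁻¹ = x → g ∈ centralizer (P : Set G) :=
  fun g hg x hx h1 h2 => mem_ker_nrho.1 (show (⟨g, hg⟩ : nst ⊤ P e) ∈ (nrho P e).ker from
    congrArg Subtype.val (h ⟨_, ⟨g, hg⟩, rfl⟩ ⟨x, hx⟩ (fun e => h1 (congrArg Subtype.val e))
      (Subtype.ext h2)))

end Cfsg.Agent.Block
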