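import Mathlib
import Cfsg.Agent.Block.K16Def
import Cfsg.Agent.Grp.MaxClass

/-! Groups of order at most sixteen. -/

set_option autoImplicit false
set_option linter.unusedSectionVars false
set_option linter.unusedVariables false

namespace Cfsg.Agent.Block.K16

open Subgroup MulAction Cfsg.Agent.Block.Ols

variable {G : Type*} [Group G] [Finite G]

/-- Groups of order sixteen whose commutators lie in a central subgroup of order two. -/
structure CW (P : Subgroup G) (w : G) : Prop where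
  card : Nat.card P = 16
  wP : w ∈ P
  ne : w ≠ 1
  ww : w * w = 1
  cen : ∀ g ∈ P, g * w = w * g
  comm : ∀ a ∈ P, ∀ b ∈ P, a * b = b * a ∨ a * b = w * (b * a)

theorem QP.cw {P : Subgroup G} {w : G} (d : QP P w) : CW P w :=
  ⟨d.card, d.wP, d.ne, d.ww, d.cen, d.comm⟩

theorem g16_two {w y : G} (hw : w * w = 1) (h : y ∈ zpowers w) : y = 1 ∨ y = w := by
  obtain ⟨i, rfl⟩ := exists_pow_of_mem h
  exact (pow_of_sq_eq_one hw i).imp And.right And.right

theorem g16_ord {a : G} (h : a * a ≠ 1) (h4 : a * a * (a * a) = 1) : orderOf a = 2 ^ 2 :=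
  orderOf_eq_prime_pow (by rwa [pow_one, sq]) (by rw [← h4]; norm_num [pow_succ, mul_assoc])

namespace CW

variable {P : Subgroup G} {w a b g g' : G} (d : CW P w)
include d

theorem two (ha : a ∈ P) (hg : g ∈ P) (hg' : g' ∈ P) (h : ¬ Commute g a) (h' : ¬ Commute g' a) :
    Commute (g * g') a := by
  have e := (d.comm g hg a ha).resolve_left h
  have e' := (d.comm g' hg' a ha).resolve_left h'
  calc g * g' * a = g * w * a * g' := by rw [mul_assoc, e']; group
    _ = w * w * (a * (g * g')) := by rw [d.cen g hg, mul_assoc w, e]; group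
    _ = _ := by rw [d.ww, one_mul]

theorem sq_mem (hg : g ∈ P) : g * g ∈ P ⊓ centralizer (P : Set G) :=
  ⟨mul_mem hg hg, fun a ha => by
    by_cases c : Commute g a
    exacts [(c.mul_left c).symm.eq, (d.two ha hg hg c c).symm.eq]⟩

theorem card_half {A : Subgroup G} (hA : A ≤ P) (ha : a ∈ P) (hg : g ∈ A) (h : ¬ Commute g a) :
    Nat.card A = 2 * Nat.card ↥(A ⊓ centralizer {a}) :=
  le_antisymm (card_le_of_two inf_le_left fun _ hx _ hy h1 h2 => ⟨mul_mem hx hy,
    mem_centralizer_singleton_iff.2 (d.two ha (hA hx) (hA hy)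
      (fun c => h1 ⟨hx, mem_centralizer_singleton_iff.2 c⟩)
      fun c => h2 ⟨hy, mem_centralizer_singleton_iff.2 c⟩)⟩)
    (two_mul_card_le inf_le_left hg fun c => h (mem_centralizer_singleton_iff.1 c.2))

variable (ha : a ∈ P) (hb : b ∈ P) (hab : ¬ Commute a b)
include ha hb hab

theorem card8 : Nat.card ↥(P ⊓ centralizer {a}) = 8 := by
  have := d.card_half le_rfl ha hb fun c => hab c.symm
  rw [d.card] at this
  omega

theorem card4 : Nat.card ↥(P ⊓ centralizer {a} ⊓ centralizer {b}) = 4 := by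
  have := d.card_half (A := P ⊓ centralizer {a}) inf_le_left hb
    ⟨ha, mem_centralizer_singleton_iff.2 rfl⟩ hab
  rw [d.card8 ha hb hab] at this
  omega

theorem dec0 (hg : g ∈ P) : ∃ y ∈ P, Commute y a ∧ Commute y b ∧
    (g = y ∨ g = a * y ∨ g = b * y ∨ g = a * b * y) := by
  have ia : ¬ Commute a⁻¹ b := fun c => hab (Commute.inv_left_iff.1 c)
  have ib : ¬ Commute b⁻¹ a := fun c => hab (Commute.inv_left_iff.1 c).symm
  by_cases c : Commute g a <;> by_cases c' : Commute g b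
  · exact ⟨g, hg, c, c', .inl rfl⟩
  · exact ⟨a⁻¹ * g, mul_mem (inv_mem ha) hg, (Commute.refl a).inv_left.mul_left c,
      d.two hb (inv_mem ha) hg ia c', by simp⟩
  · exact ⟨b⁻¹ * g, mul_mem (inv_mem hb) hg, d.two ha (inv_mem hb) hg ib c,
      (Commute.refl b).inv_left.mul_left c', by simp⟩
  · exact ⟨b⁻¹ * (a⁻¹ * g), mul_mem (inv_mem hb) (mul_mem (inv_mem ha) hg),
      d.two ha (inv_mem hb) (mul_mem (inv_mem ha) hg) ib fun k => c (by
        simpa using (Commute.refl a).mul_left k),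
      (Commute.refl b).inv_left.mul_left (d.two hb (inv_mem ha) hg ia c'), by simp [mul_assoc]⟩

theorem mem_Z (hg : g ∈ P) (c : Commute g a) (c' : Commute g b) :
    g ∈ P ⊓ centralizer (P : Set G) := ⟨hg, fun x hx => by
  have := Fact.mk Nat.prime_two
  obtain ⟨y, hy, e, e', k⟩ := d.dec0 ha hb hab hx
  have m := fun {x y : G} => (mem_centralizer_singleton_iff (g := x) (k := y)).2
  have h : Commute g y := congrArg Subtype.val
    ((IsPGroup.isMulCommutative_of_card_eq_prime_sq (p := 2) (d.card4 ha hb hab)).1.1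
      ⟨g, ⟨hg, m c⟩, m c'⟩ ⟨y, ⟨hy, m e⟩, m e'⟩)
  rcases k with rfl | rfl | rfl | rfl
  exacts [h.symm.eq, (c.mul_right h).symm.eq, (c'.mul_right h).symm.eq,
    ((c.mul_right c').mul_right h).symm.eq]⟩

theorem dec (hg : g ∈ P) : ∃ y ∈ P ⊓ centralizer (P : Set G),
    g = y ∨ g = a * y ∨ g = b * y ∨ g = a * b * y :=
  let ⟨y, hy, c, c', k⟩ := d.dec0 ha hb hab hg
  ⟨y, d.mem_Z ha hb hab hy c c', k⟩

theorem cz : Nat.card ↥(P ⊓ centralizer (P : Set G)) = 4 := by
  rw [← d.card4 ha hb hab]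
  congr 2
  exact le_antisymm (fun y hy => ⟨⟨hy.1, mem_centralizer_singleton_iff.2 (hy.2 a ha).symm⟩,
      mem_centralizer_singleton_iff.2 (hy.2 b hb).symm⟩)
    fun y hy => d.mem_Z ha hb hab hy.1.1 (mem_centralizer_singleton_iff.1 hy.1.2)
      (mem_centralizer_singleton_iff.1 hy.2)

theorem decA (hg : g ∈ P) (c : Commute g a) :
    ∃ y ∈ P ⊓ centralizer (P : Set G), g = y ∨ g = a * y := by
  by_cases c' : Commute g b
  · exact ⟨g, d.mem_Z ha hb hab hg c c', .inl rfl⟩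
  · exact ⟨a⁻¹ * g, d.mem_Z ha hb hab (mul_mem (inv_mem ha) hg) ((Commute.refl a).inv_left.mul_left c)
      (d.two hb (inv_mem ha) hg (fun c => hab (Commute.inv_left_iff.1 c)) c'), by simp⟩

variable (el : ∀ y ∈ P ⊓ centralizer (P : Set G), y * y = 1)
include el

omit d ha hb hab in
theorem sq_eq (hg : g ∈ P) {y : G} (hy : y ∈ P ⊓ centralizer (P : Set G)) :
    g * y * (g * y) = g * g := by
  rw [mul_assoc, ← mul_assoc y, ← hy.2 g hg, mul_assoc g, el y hy, mul_one]

theorem ud (h1 : a * a ≠ 1) (h2 : b * b ≠ a * a) (h3 : a * b * (a * b) ≠ a * a) :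
    CycFourQuot P := by
  have o := g16_ord h1 (el _ (d.sq_mem ha))
  have aA : a ∈ P ⊓ centralizer {a} := ⟨ha, mem_centralizer_singleton_iff.2 rfl⟩
  have zA : ∀ y ∈ P ⊓ centralizer (P : Set G), y ∈ P ⊓ centralizer {a} := fun y hy =>
    ⟨hy.1, mem_centralizer_singleton_iff.2 (hy.2 a ha).symm⟩
  have dA := fun g (hg : g ∈ P ⊓ centralizer {a}) =>
    d.decA ha hb hab hg.1 (mem_centralizer_singleton_iff.1 hg.2)
  have c8 := d.card8 ha hb hab
  obtain ⟨u, hu, un⟩ : ∃ u ∈ P ⊓ centralizer (P : Set G), u ∉ zpowers a := by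
    by_contra! k
    have := card_le_of_le (show P ⊓ centralizer {a} ≤ zpowers a from fun g hg => by
      obtain ⟨y, hy, rfl | rfl⟩ := dA g hg
      exacts [k _ hy, mul_mem (mem_zpowers a) (k _ hy)])
    rw [c8, Nat.card_zpowers, o] at this
    omega
  refine .inr (.inr (.inr ⟨P ⊓ centralizer {a}, a, u, b, 0, inf_le_left, fun x hx y hy => ?_,
    fun x hx y hy c c' => ⟨mul_mem hx hy, mem_centralizer_singleton_iff.2 (d.two ha hx hy
      (fun k => c ⟨hx, mem_centralizer_singleton_iff.2 k⟩)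
      fun k => c' ⟨hy, mem_centralizer_singleton_iff.2 k⟩)⟩, hb,
    fun c => hab (mem_centralizer_singleton_iff.1 c.2).symm, aA, o, zA u hu, el u hu, un,
    fun x hx => or_iff_not_imp_left.2 fun c => two_of_card (zpowers_le.2 aA)
      (by rw [c8, Nat.card_zpowers, o]; rfl) x hx u (zA u hu) c un,
    fun x hx => ⟨fun c => el x (d.mem_Z ha hb hab hx.1 (mem_centralizer_singleton_iff.1 hx.2)
      c.symm), fun c => ?_⟩, fun x hx c => ?_⟩))
  · obtain ⟨v, hv, rfl | rfl⟩ := dA y hy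
    · exact hv.2 x hx.1
    · exact Commute.mul_right (mem_centralizer_singleton_iff.1 hx.2) (hv.2 x hx.1)
  · obtain ⟨v, hv, rfl | rfl⟩ := dA x hx
    · exact hv.2 b hb
    · exact absurd ((sq_eq el ha hv).symm.trans c) h1
  · rw [show a ^ 2 ^ (0 + 1) = a * a from sq a]
    obtain ⟨v, hv, rfl | rfl | rfl | rfl⟩ := d.dec ha hb hab hx
    · exact absurd (zA _ hv) c
    · exact absurd (mul_mem aA (zA _ hv)) c
    · rwa [sq_eq el hb hv]
    · rwa [sq_eq el (mul_mem ha hb) hv]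

theorem elem : CycFourQuot P ∨ QP P w := by
  have e := (d.comm b hb a ha).resolve_left fun c => hab c.symm
  have za := d.sq_mem ha
  have zb := d.sq_mem hb
  have e3 : a * b * (a * b) = w * (a * a * (b * b)) := by
    calc _ = a * (b * a) * b := by group
      _ = a * w * (a * b) * b := by rw [e]; group
      _ = _ := by rw [d.cen a ha]; group
  have e4 : b * a * (b * a) = a * b * (a * b) := by
    calc _ = b * (a * b * (a * b)) * b⁻¹ := by group
      _ = _ := by rw [(d.sq_mem (mul_mem ha hb)).2 b hb, mul_inv_cancel_right]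
  have A := fun h1 h2 h3 => d.ud ha hb hab el h1 h2 h3
  have B := fun h1 h2 h3 => d.ud hb ha (fun c => hab c.symm) el h1 h2 (e4 ▸ h3)
  have C := fun h1 h2 h3 => d.ud (mul_mem ha hb) hb (fun c => hab (by
    simpa using c.mul_left (Commute.refl b).inv_left)) el h1 h2
    (by rw [mul_assoc a b b, sq_eq el ha zb]; exact h3)
  by_cases c1 : a * a = b * b
  · have e5 : a * b * (a * b) = w := by rw [e3, c1, el _ zb, mul_one]
    by_cases c2 : a * a = w
    · have k : ∀ g ∈ P, g ∈ P ⊓ centralizer (P : Set G) ∨ g * g = w := fun g hg => by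
        obtain ⟨v, hv, rfl | rfl | rfl | rfl⟩ := d.dec ha hb hab hg
        exacts [.inl hv, .inr ((sq_eq el ha hv).trans c2), .inr ((sq_eq el hb hv).trans (c1 ▸ c2)),
          .inr ((sq_eq el (mul_mem ha hb) hv).trans e5)]
      exact .inr ⟨d.card, d.cz ha hb hab, d.wP, d.ne, d.ww, d.cen, d.comm,
        fun g hg => (k g hg).imp_left (el g), fun g hg => (k g hg).elim
          (fun c => ⟨a, ha, c.2 a ha, c2⟩) fun c => ⟨g, hg, rfl, c⟩⟩
    · exact .inl (C (e5 ▸ d.ne) (e5 ▸ c1 ▸ c2) (e5 ▸ c2))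
  left
  by_cases c2 : a * b * (a * b) = a * a
  · have e5 : b * b = w := by
      rw [e3, ← mul_assoc, ← d.cen _ za.1, mul_assoc, mul_eq_left] at c2
      exact mul_left_cancel (c2.trans d.ww.symm)
    exact B (e5 ▸ d.ne) c1 (c2 ▸ c1)
  by_cases c3 : a * a = 1
  · refine B (c3 ▸ Ne.symm c1) c1 fun c => d.ne ?_
    rwa [e3, c3, one_mul, mul_eq_right] at c
  · exact A c3 (Ne.symm c1) c2

end CW

theorem grp16 {P : Subgroup G} (hP : IsPGroup 2 P) (hc : Nat.card P ≤ 16) :
    (∀ a ∈ P, ∀ b ∈ P, a * b = b * a) ∨ CycFourQuot P ∨ ∃ w, QP P w := by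
  have := Fact.mk Nat.prime_two
  rw [or_iff_not_imp_left, or_iff_not_imp_left]
  intro h1 h2
  push Not at h1
  obtain ⟨a, ha, b, hb, hab⟩ := h1
  obtain ⟨n, hn⟩ := IsPGroup.iff_card.1 hP
  have n4 : n ≤ 4 := (Nat.pow_le_pow_iff_right one_lt_two).1 (hn ▸ hc)
  have n3 : 3 ≤ n := by
    by_contra k
    exact h2 (.inl (hn ▸ Nat.pow_le_pow_right two_pos (show n ≤ 2 by omega)))
  have no : ∀ y ∈ P, 2 * orderOf y < Nat.card P := fun y hy =>
    not_le.1 fun c => h2 (.inr (.inl ⟨y, hy, c⟩))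
  have i4 : 4 < (commutator P).index := not_le.1 fun c => by
    obtain ⟨y, hy⟩ := Grp.MaxClass.exists_orderOf_of_index_commutator_le n3 hn c
    have := no y y.2
    rw [orderOf_coe, hy, hn, ← pow_succ', Nat.sub_add_cancel (by omega)] at this
    exact lt_irrefl _ this
  have m : ∀ x y : P, x * y * (y * x)⁻¹ ∈ commutator P := fun x y => by
    simpa [commutatorElement_def, mul_assoc, _root_.commutator_def] using
      commutator_mem_commutator (mem_top x) (mem_top y)
  have c1 : 1 < Nat.card (commutator P) := (one_lt_card_iff_ne_bot _).2 fun c =>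
    hab (congrArg Subtype.val (mul_inv_eq_one.1 (mem_bot.1 (c.le (m ⟨a, ha⟩ ⟨b, hb⟩)))))
  have c2 := card_mul_index (commutator P)
  obtain ⟨j, -, hj⟩ := (Nat.dvd_prime_pow Nat.prime_two).1 (hn ▸ (commutator P).index_dvd_card)
  have j3 : 2 ^ 3 ≤ (commutator P).index := hj ▸ Nat.pow_le_pow_right two_pos
    ((Nat.pow_lt_pow_iff_right (n := 2) one_lt_two).1 (hj ▸ i4))
  have c3 : Nat.card (commutator P) = 2 := by nlinarith
  have c16 : Nat.card P = 16 := by nlinarith
  obtain ⟨w, w1, hw⟩ := (Nat.card_eq_two_iff' (1 : commutator P)).1 c3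
  have hw' : ∀ x ∈ commutator P, x = 1 ∨ x = w := fun x hx => or_iff_not_imp_left.2 fun c =>
    congrArg Subtype.val (hw ⟨x, hx⟩ fun e => c (congrArg Subtype.val e))
  have w1' : (w : P) ≠ 1 := fun e => w1 (Subtype.ext e)
  have d : CW P w := ⟨c16, w.1.2, fun e => w1' (Subtype.ext e),
    congrArg Subtype.val ((hw' _ (mul_mem w.2 w.2)).resolve_right (by simpa using w1')),
    fun g hg => congrArg Subtype.val (mul_inv_eq_iff_eq_mul.1 ((hw' _ (Normal.conj_mem inferInstance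
      _ w.2 ⟨g, hg⟩)).resolve_left (by simpa using w1'))),
    fun x hx y hy => (hw' _ (m ⟨x, hx⟩ ⟨y, hy⟩)).imp (fun e => congrArg Subtype.val (mul_inv_eq_one.1 e))
      fun e => congrArg Subtype.val (mul_inv_eq_iff_eq_mul.1 e)⟩
  refine ⟨w, ?_⟩
  by_cases el : ∀ y ∈ P ⊓ centralizer (P : Set G), y * y = 1
  · exact (d.elem ha hb hab el).resolve_left h2
  push Not at el
  obtain ⟨h, hh, h1⟩ := el
  have p4 : ∀ y ∈ P, y * y * (y * y) = 1 := fun y hy => by
    obtain ⟨i, -, hi⟩ := (Nat.dvd_prime_pow Nat.prime_two).1 (hn ▸ orderOf_dvd_natCard P hy)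
    have k := no y hy
    rw [c16, hi] at k
    have : orderOf y ∣ 2 ^ 2 := hi ▸ pow_dvd_pow 2 (Nat.lt_succ_iff.1
      ((Nat.pow_lt_pow_iff_right (m := 3) one_lt_two).1 (by omega)))
    rw [← orderOf_dvd_iff_pow_eq_one.1 this]
    norm_num [pow_succ, mul_assoc]
  have o := g16_ord h1 (p4 h hh.1)
  have e : zpowers h = P ⊓ centralizer (P : Set G) := eq_of_le_of_card_ge (zpowers_le.2 hh)
    (by rw [d.cz ha hb hab, Nat.card_zpowers, o]; rfl)
  have ew := (eq_half o (e.ge ⟨d.wP, d.cen⟩) d.ww).resolve_left d.ne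
  exact ⟨c16, d.cz ha hb hab, d.wP, d.ne, d.ww, d.cen, d.comm,
    fun g hg => ew ▸ eq_half o (e.ge (d.sq_mem hg)) (p4 g hg),
    fun g hg => ⟨h, hh.1, (hh.2 g hg).symm, (sq h).symm.trans ew.symm⟩⟩

omit [Finite G] in
theorem QP.pow4 {P : Subgroup G} {w a : G} (d : QP P w) (ha : a ∈ P) : a ^ 2 ^ 2 = 1 := by
  rw [show a ^ 2 ^ 2 = a * a * (a * a) by norm_num [pow_succ, mul_assoc]]
  rcases d.sq a ha with e | e <;> rw [e]
  exacts [mul_one 1, d.ww]

theorem QP.centric {P R : Subgroup G} {w x : G} (d : QP P w) (hR : R ≤ P) (hne : R ≠ P)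
    (hc : P ⊓ centralizer (R : Set G) ≤ R) (hx : x ∈ normalizer (R : Set G))
    (ho : ¬ 2 ∣ orderOf x) : x ∈ centralizer (R : Set G) := by
  have hZ : P ⊓ centralizer (P : Set G) ≤ R := (inf_le_inf_left P (centralizer_le hR)).trans hc
  obtain ⟨p, hp, pR⟩ := SetLike.exists_of_lt (lt_of_le_of_ne hR hne)
  obtain ⟨g, hg, gZ⟩ : ∃ g ∈ R, g ∉ P ⊓ centralizer (P : Set G) := by
    by_contra! k
    exact pR (hc ⟨hp, fun r hr => ((k r hr).2 p hp).symm⟩)
  have c8 := two_mul_card_le hR hp pR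
  rw [d.card] at c8
  have two := two_of_card hZ (by rw [d.cz]; omega)
  have cm : ∀ h ∈ P, ∀ g ∈ R, g ∉ P ⊓ centralizer (P : Set G) → Commute h g → ∀ r ∈ R,
      Commute h r := fun h hh g hg gZ c r hr => by
    by_cases k : r ∈ P ⊓ centralizer (P : Set G)
    · exact k.2 h hh
    · simpa using c.inv_right.mul_right (show Commute h (g * r) from (two g hg r hr gZ k).2 h hh)
  obtain ⟨h, hh, e, e'⟩ := d.four g (hR hg)
  have hR' : h ∈ R := hc ⟨hh, fun r hr => (cm h hh g hg gZ e r hr).symm⟩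
  have h1 : h * h ≠ 1 := e' ▸ d.ne
  exact fun r hr => (mul_inv_eq_iff_eq_mul.1 (odd_fix (odd_of_not_dvd ho) (conj_pow_orderOf x) (S := R)
    (fun a ha b hb => (em (a ∈ P ⊓ centralizer (P : Set G))).elim (fun k => (k.2 b (hR hb)).symm)
      fun k => cm a (hR ha) a ha k rfl b hb)
    (fun a ha => (mem_normalizer_iff.1 hx a).1 ha) (fun a ha => ⟨2, d.pow4 (hR ha)⟩) hR' h1
    (two_of_card (zpowers_le.2 hR') (by
      rw [Nat.card_zpowers, g16_ord h1 (by rw [e', d.ww])]; omega)) r hr)).symm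

theorem QP.fixZ {Q : Subgroup G} {w s : G} (d : QP Q w) (hs : ¬ 2 ∣ orderOf s)
    (n : ∀ q ∈ Q, s * q * s⁻¹ ∈ Q) (n' : ∀ q ∈ Q, s⁻¹ * q * s ∈ Q) {q : G}
    (hq : q ∈ Q ⊓ centralizer (Q : Set G)) : s * q * s⁻¹ = q := by
  obtain ⟨h, hh, -, e⟩ := d.four 1 (one_mem _)
  have sw : s * w * s⁻¹ = w := by
    have := d.sq _ (n h hh)
    rw [conj_mul, e] at this
    exact this.resolve_left fun c => d.ne (conj_eq_one_iff.1 c)
  have fw : ∀ t ∈ zpowers w, s * t = t * s := fun t ht => by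
    rcases g16_two d.ww ht with rfl | rfl
    exacts [by simp, mul_inv_eq_iff_eq_mul.1 sw]
  by_cases c : q ∈ zpowers w
  · exact mul_inv_eq_iff_eq_mul.2 (fw q c)
  have h1 : s * q * s⁻¹ ∈ Q ⊓ centralizer (Q : Set G) := ⟨n q hq.1, fun x hx => by
    calc x * (s * q * s⁻¹) = s * (s⁻¹ * x * s * q) * s⁻¹ := by group
      _ = _ := by rw [hq.2 _ (n' x hx)]; group⟩
  have := Fact.mk Nat.prime_two
  have h2 := two_of_card (A := zpowers w) (P := Q ⊓ centralizer (Q : Set G))
    (zpowers_le.2 ⟨d.wP, d.cen⟩) (by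
      rw [d.cz, Nat.card_zpowers, orderOf_eq_prime ((pow_two w).trans d.ww) d.ne]) _ h1 _ (inv_mem hq)
    (fun k => c (by
      have := fw _ k
      rw [inv_mul_cancel_right, mul_left_cancel_iff] at this
      rwa [this] at k)) (mt inv_mem_iff.1 c)
  exact conj_eq_of_odd hs (inv_mul_cancel_right _ q).symm (fw _ h2) (d.pow4 (mul_mem h1.1 (inv_mem hq.1)))

theorem QP.fix_of_comm {Q : Subgroup G} {w s : G} (d : QP Q w) (hs : ¬ 2 ∣ orderOf s)
    (n : ∀ q ∈ Q, s * q * s⁻¹ ∈ Q) (n' : ∀ q ∈ Q, s⁻¹ * q * s ∈ Q) {c : G} (hc : c ∈ Q)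
    (h : Commute (s * c * s⁻¹) c) : s * c * s⁻¹ = c := by
  by_cases k : c ∈ Q ⊓ centralizer (Q : Set G)
  · exact d.fixZ hs n n' k
  obtain ⟨b, hb, hab⟩ : ∃ b ∈ Q, ¬ Commute c b := by
    by_contra! e
    exact k ⟨hc, fun b hb => (e b hb).symm⟩
  obtain ⟨y, hy, e | e⟩ := d.cw.decA hc hb hab (n c hc) h
  · have := d.fixZ hs n n' hy
    rw [← e, mul_inv_eq_iff_eq_mul, inv_mul_cancel_right, mul_left_cancel_iff] at this
    exact this
  · exact conj_eq_of_odd hs (e.trans (hy.2 c hc)) (mul_inv_eq_iff_eq_mul.1 (d.fixZ hs n n' hy))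
      (d.pow4 hy.1)

theorem qp_lift {D : Type*} [Group D] [Finite D] (hD : IsPGroup 2 D) {π : D →* G} {z : D}
    (hz : z ∈ center D) (hk : π.ker = zpowers z) {w₀ : G} (d : QP π.range w₀) {α : D ≃* D}
    (hα : α z = z) {s : G} (hs : ¬ 2 ∣ orderOf s) (h : ∀ x, π (α x) = s * π x * s⁻¹)
    (hn : s ∉ centralizer (π.range : Set G)) : ∃ w ∈ center D,
      (∀ a b : D, a * b * a⁻¹ * b⁻¹ ∈ zpowers w) ∧ (Nat.card D ≤ 16 * orderOf w ∨ Big w) := by
  have := Fact.mk Nat.prime_two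
  have n : ∀ q ∈ π.range, s * q * s⁻¹ ∈ π.range := by rintro _ ⟨x, rfl⟩; exact ⟨_, h x⟩
  have n' : ∀ q ∈ π.range, s⁻¹ * q * s ∈ π.range := by
    rintro _ ⟨x, rfl⟩
    exact ⟨α.symm x, by rw [← α.apply_symm_apply x, h, α.symm_apply_apply]; group⟩
  have kc : ∀ x, π x = 1 → x ∈ center D ∧ α x = x := fun x hx => by
    obtain ⟨k, rfl⟩ := hk.le hx
    exact ⟨zpow_mem hz k, by rw [map_zpow, hα]⟩
  obtain ⟨x, hx⟩ : ∃ x, s * π x * s⁻¹ ≠ π x := by
    by_contra! e
    exact hn (by rintro _ ⟨x, rfl⟩; exact (mul_inv_eq_iff_eq_mul.1 (e x)).symm)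
  have hab : ¬ Commute (π (x⁻¹ * α x)) (π ((α x)⁻¹ * α (α x))) := fun c => by
    rw [← map_inv α, ← map_mul α, h (x⁻¹ * α x)] at c
    have h1 := d.fix_of_comm hs n n' ⟨_, rfl⟩ c.symm
    have h2 := conj_eq_of_odd (q := (π x)⁻¹) hs (t := (π (x⁻¹ * α x))⁻¹)
      (by rw [map_mul, map_inv, h]; group)
      (show Commute s (π (x⁻¹ * α x)) from mul_inv_eq_iff_eq_mul.1 h1).inv_right.eq
      (d.pow4 (inv_mem ⟨_, rfl⟩))
    exact hx (inv_injective (by rw [← h2]; group))
  have cY : ∀ y, π y ∈ π.range ⊓ centralizer (π.range : Set G) → ∀ x, Commute y (x⁻¹ * α x) :=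
    fun y hy x => by
      have h1 := (kc (y⁻¹ * α y) (by rw [map_mul, map_inv, h, d.fixZ hs n n' hy, inv_mul_cancel])).1
      obtain ⟨h2, h3⟩ := kc (y * x * y⁻¹ * x⁻¹) (by
        simp only [map_mul, map_inv]; rw [← hy.2 _ ⟨x, rfl⟩]; group)
      have h4 : α y * α x * (α y)⁻¹ = y * α x * y⁻¹ := by
        calc _ = y * (y⁻¹ * α y * α x) * (α y)⁻¹ := by group
          _ = _ := by rw [← mem_center_iff.1 h1]; group
      simp only [map_mul, map_inv] at h3
      rw [h4, mul_inv_eq_iff_eq_mul] at h3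
      calc y * (x⁻¹ * α x) = (y * x * y⁻¹)⁻¹ * (y * α x * y⁻¹) * y := by group
        _ = _ := by rw [h3]; group
  generalize hb : (α x)⁻¹ * α (α x) = b at hab
  generalize ha : x⁻¹ * α x = a at hab
  have cw : ∀ y, π y ∈ π.range ⊓ centralizer (π.range : Set G) → Commute y a ∧ Commute y b ∧
      Commute y (a * b * a⁻¹ * b⁻¹) := fun y hy =>
    have h1 := ha ▸ cY y hy x
    have h2 := hb ▸ cY y hy (α x)
    ⟨h1, h2, ((h1.mul_right h2).mul_right h1.inv_right).mul_right h2.inv_right⟩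
  have πw : π (a * b * a⁻¹ * b⁻¹) = w₀ := by
    simp only [map_mul, map_inv]
    rw [(d.comm _ ⟨a, rfl⟩ _ ⟨b, rfl⟩).resolve_left hab]
    group
  have ew : a * b = a * b * a⁻¹ * b⁻¹ * (b * a) := by group
  generalize a * b * a⁻¹ * b⁻¹ = w at cw πw ew
  have hW : ∀ y, π y ∈ zpowers w₀ → π y = 1 ∨ π (y * w⁻¹) = 1 := fun y hy =>
    (g16_two d.ww hy).imp_right fun e => by rw [map_mul, map_inv, e, πw, mul_inv_cancel]
  have two := two_of_card (A := zpowers w₀) (P := π.range ⊓ centralizer (π.range : Set G))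
    (zpowers_le.2 ⟨d.wP, d.cen⟩) (by
      rw [d.cz, Nat.card_zpowers, orderOf_eq_prime ((sq w₀).trans d.ww) d.ne])
  have cW : ∀ y, π y ∈ π.range ⊓ centralizer (π.range : Set G) → ∀ v, π v ∈ zpowers w₀ →
      Commute y v := fun y hy v hv => by
    rcases hW v hv with e | e
    · exact mem_center_iff.1 (kc _ e).1 y
    · simpa using Commute.mul_right (mem_center_iff.1 (kc _ e).1 y) (cw y hy).2.2
  have dec : ∀ g, ∃ y, π y ∈ π.range ⊓ centralizer (π.range : Set G) ∧
      (g = y ∨ g = a * y ∨ g = b * y ∨ g = a * b * y) := fun g => by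
    obtain ⟨y, hy, e | e | e | e⟩ := d.cw.dec ⟨a, rfl⟩ ⟨b, rfl⟩ hab ⟨g, rfl⟩
    · exact ⟨g, e ▸ hy, .inl rfl⟩
    · exact ⟨a⁻¹ * g, by simpa [e] using hy, by simp⟩
    · exact ⟨b⁻¹ * g, by simpa [e] using hy, by simp⟩
    · exact ⟨(a * b)⁻¹ * g, by simpa [e, mul_assoc] using hy, by simp [mul_assoc]⟩
  have hY : ∀ y, y ∈ center D ↔ π y ∈ π.range ⊓ centralizer (π.range : Set G) := fun y =>
    ⟨fun c => ⟨⟨y, rfl⟩, by rintro _ ⟨g, rfl⟩; rw [← map_mul, mem_center_iff.1 c, map_mul]⟩,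
      fun hy => mem_center_iff.2 fun g => by
        obtain ⟨v, hv, e⟩ := dec g
        have c : Commute y v := by
          by_cases k : π v ∈ zpowers w₀
          · exact cW y hy v k
          by_cases k' : π y ∈ zpowers w₀
          · exact (cW v hv y k').symm
          simpa using (Commute.refl y).inv_right.mul_right
            (cW y hy (y * v) (map_mul π y v ▸ two _ hy _ hv k' k))
        obtain ⟨c1, c2, -⟩ := cw y hy
        rcases e with rfl | rfl | rfl | rfl
        exacts [c.symm.eq, (c1.mul_right c).symm.eq, (c2.mul_right c).symm.eq,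
          ((c1.mul_right c2).mul_right c).symm.eq]⟩
  have wc : w ∈ center D := (hY w).2 (πw ▸ ⟨d.wP, d.cen⟩)
  have ww : w * w = 1 := by
    have h1 := mem_center_iff.1 ((hY (a * a)).2 (map_mul π a a ▸ d.cw.sq_mem ⟨a, rfl⟩)) b
    have h2 : a * a * b = w * w * (b * (a * a)) := by
      calc a * a * b = a * w * b * a := by rw [mul_assoc, ew]; group
        _ = w * (a * b) * a := by rw [mem_center_iff.1 wc a]; group
        _ = _ := by rw [ew]; group
    rwa [h1, eq_comm, mul_eq_right] at h2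
  have w1 : w ≠ 1 := fun e => d.ne (by rw [← πw, e, map_one])
  refine ⟨w, wc, fun g g' => ?_, ?_⟩
  · have : (zpowers w).Normal := ⟨fun v hv g => by
      rwa [mem_center_iff.1 (zpowers_le.2 wc hv), mul_inv_cancel_right]⟩
    let f := QuotientGroup.mk' (zpowers w)
    have f0 : ∀ y, π y ∈ π.range ⊓ centralizer (π.range : Set G) → ∀ g, Commute (f g) (f y) :=
      fun y hy g => Commute.map (mem_center_iff.1 ((hY y).2 hy) g) f
    have f1 : Commute (f a) (f b) := by
      rw [Commute, SemiconjBy, ← map_mul, ew, map_mul,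
        show f w = 1 from (QuotientGroup.eq_one_iff w).2 (mem_zpowers w), one_mul, map_mul]
    have f2 : ∀ u, Commute (f u) (f a) → Commute (f u) (f b) → ∀ g, Commute (f u) (f g) :=
      fun u c1 c2 g => by
        obtain ⟨v, hv, rfl | rfl | rfl | rfl⟩ := dec g <;> try simp only [map_mul]
        exacts [f0 _ hv u, c1.mul_right (f0 _ hv u), c2.mul_right (f0 _ hv u),
          (c1.mul_right c2).mul_right (f0 _ hv u)]
    have := f2 g (f2 a (.refl _) f1 g).symm (f2 b f1.symm (.refl _) g).symm g'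
    rw [← QuotientGroup.eq_one_iff]
    change f _ = 1
    simp only [map_mul, map_inv]
    rw [this.eq]
    group
  by_cases zz : z * z = 1
  · left
    rw [← card_mul_index π.ker, index_ker, d.card, hk, Nat.card_zpowers,
      orderOf_eq_prime ((sq w).trans ww) w1]
    have := orderOf_le_of_pow_eq_one two_pos ((sq z).trans zz)
    omega
  have πz : π z = 1 := hk.ge (mem_zpowers z)
  have hS : ∀ y, π y ∈ zpowers w₀ → y ∈ zpowers z ⊔ zpowers w := fun y hy => by
    rcases hW y hy with e | e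
    · exact mem_sup_left (hk.le e)
    · simpa using mul_mem_sup (hk.le e) (mem_zpowers w)
  refine .inr ⟨?_, z, hz, fun c => ?_, fun u hu v hv c c' => hS _ (map_mul π u v ▸
    two _ ((hY u).1 hu) _ ((hY v).1 hv) (mt (hS u) c) (mt (hS v) c'))⟩
  · have := card_mul_index ((π.range ⊓ centralizer (π.range : Set G)).subgroupOf π.range)
    rw [Nat.card_congr (subgroupOfEquivOfLe inf_le_left).toEquiv, d.cz, d.card] at this
    rw [show center D = (π.range ⊓ centralizer (π.range : Set G)).comap π from Subgroup.ext hY,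
      index_comap, relIndex]
    omega
  · exact d.ne (by rw [← πw, ← (g16_two ww c).resolve_left zz, map_mul, πz, mul_one])

end Cfsg.Agent.Block.K16
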