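import Mathlib
import Cfsg.Agent.Block.K16Def

/-! Covering families for a grid of characters (pure integer combinatorics). -/

set_option autoImplicit false
set_option linter.unusedSectionVars false

namespace Cfsg.Agent.Block.K16

open Subgroup MulAction Cfsg.Agent.Block.Ols

section Nine

open Finset

theorem n9_six {α γ : Type*} [Fintype α] [DecidableEq α] [DecidableEq γ] (hc : Fintype.card α = 4) (f : α → γ)
    {a a' : α} (h : f a ≠ f a') : 6 ≤ (univ.filter fun p : α × α => f p.1 ≠ f p.2).card := by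
  let A : Finset α := univ.filter fun p => f p = f a
  have h1 : A ×ˢ Aᶜ ∪ Aᶜ ×ˢ A ⊆ univ.filter fun p : α × α => f p.1 ≠ f p.2 := by
    intro p hp
    simp only [A, mem_union, mem_product, mem_compl, mem_filter, mem_univ, true_and] at hp ⊢
    rcases hp with ⟨k1, k2⟩ | ⟨k1, k2⟩
    · exact fun e => k2 (e ▸ k1)
    · exact fun e => k1 (e ▸ k2)
  have h2 : Disjoint (A ×ˢ Aᶜ) (Aᶜ ×ˢ A) := by
    rw [disjoint_left]
    intro p k1 k2
    exact (mem_compl.1 (mem_product.1 k2).1) (mem_product.1 k1).1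
  have h3 := card_le_card h1
  rw [card_union_of_disjoint h2, card_product, card_product] at h3
  have h4 := card_add_card_compl A
  have h5 : 0 < A.card := card_pos.2 ⟨a, by simp [A]⟩
  have h6 : 0 < Aᶜ.card := card_pos.2 ⟨a', by simpa [A] using h.symm⟩
  rw [hc] at h4
  generalize A.card = k at *
  generalize Aᶜ.card = m at *
  have : k ≤ 3 := by omega
  obtain rfl : m = 4 - k := by omega
  interval_cases k <;> omega

theorem n9_grid {α β : Type*} [Fintype α] [Fintype β] [DecidableEq α] [DecidableEq β]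
    (ha : Fintype.card α = 4) (hb : Fintype.card β = 4) (x : α → β → ℂ) {a₀ a₁ : α} {b₀ b₁ : β}
    (h : x a₀ b₁ - x a₀ b₀ - x a₁ b₁ + x a₁ b₀ ≠ 0) :
    ∃ t : Finset ((α × α) × (β × β)), 36 ≤ t.card ∧
      ∀ p ∈ t, x p.1.1 p.2.1 - x p.1.1 p.2.2 - x p.1.2 p.2.1 + x p.1.2 p.2.2 ≠ 0 := by
  classical
  let F : α → β → ℂ := fun a b => x a b - x a b₀
  have h1 := n9_six ha F (a := a₀) (a' := a₁) fun e => h (by
    have := congrFun e b₁
    simp only [F] at this
    linear_combination this)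
  let P := univ.filter fun p : α × α => F p.1 ≠ F p.2
  let Q : α × α → Finset (β × β) := fun p =>
    univ.filter fun q : β × β => x p.1 q.1 - x p.2 q.1 ≠ x p.1 q.2 - x p.2 q.2
  refine ⟨(P.sigma Q).map (Equiv.sigmaEquivProd _ _).toEmbedding, ?_, fun p hp => ?_⟩
  · rw [card_map, card_sigma]
    have : ∀ p ∈ P, 6 ≤ (Q p).card := fun p hp => by
      obtain ⟨b, hb'⟩ := Function.ne_iff.1 (mem_filter.1 hp).2
      exact n9_six hb (fun b => x p.1 b - x p.2 b) (a := b) (a' := b₀) fun e => hb' (by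
        simp only [F] at e ⊢
        linear_combination e)
    have h2 := card_nsmul_le_sum P _ 6 this
    rw [smul_eq_mul] at h2
    have : 6 ≤ P.card := h1
    omega
  · obtain ⟨⟨p, q⟩, hq, rfl⟩ := mem_map.1 hp
    have := (mem_filter.1 (mem_sigma.1 hq).2).2
    refine fun e => this ?_
    simp only [Equiv.coe_toEmbedding, Equiv.sigmaEquivProd_apply] at e ⊢
    linear_combination e

variable {κ : Type*} [Fintype κ]

theorem n9_eig {A B : κ → κ → ℤ} {w : κ → ℤ} (q : ∀ i j, ∑ l, A i l * A l j = 4 * A i j)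
    (h : ∀ i j, ∑ l, A i l * B l j = w i * w j) (hw : ∀ i, w i ≠ 0) (i : κ) :
    ∑ l, A i l * w l = 4 * w i := by
  refine mul_right_cancel₀ (hw i) ?_
  calc (∑ l, A i l * w l) * w i = ∑ l, ∑ m, A i l * A l m * B m i := by
        rw [sum_mul]
        refine sum_congr rfl fun l _ => ?_
        rw [mul_assoc, ← h, mul_sum]
        exact sum_congr rfl fun m _ => (mul_assoc _ _ _).symm
    _ = 4 * w i * w i := by
        rw [sum_comm, mul_assoc, ← h, mul_sum]
        refine sum_congr rfl fun m _ => ?_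
        rw [← sum_mul, q, mul_assoc]

theorem n9_row [DecidableEq κ] {S : κ → κ → ℤ} {w : κ → ℤ} (s : ∀ i j, S i j = S j i)
    (q : ∀ i j, ∑ l, S i l * S l j = 4 * S i j) (e : ∀ i, ∑ l, S i l * w l = 4 * w i) {o : κ}
    (ho : w o * w o = 4) (hl : ∀ l, l ≠ o → w l * w l = 1) : S o o = 4 ∧ ∀ l, l ≠ o → S o l = 0 := by
  have wo : w o = 2 ∨ w o = -2 := by
    have : (w o - 2) * (w o + 2) = 0 := by linear_combination ho
    rcases mul_eq_zero.1 this with k | k <;> omega
  have ev : ∀ i, Even (S i o) := by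
    intro i
    have h1 : ∑ l, S i l * (S i l - w l) = 4 * S i i - 4 * w i := by
      rw [← q, ← e, ← sum_sub_distrib]
      exact sum_congr rfl fun l _ => by rw [s l i]; ring
    rw [← add_sum_erase _ _ (mem_univ o)] at h1
    have h2 : Even (∑ l ∈ univ.erase o, S i l * (S i l - w l)) := by
      refine Finset.even_sum _ fun l hl' => ?_
      rcases Int.eq_one_or_neg_one_of_mul_eq_one (hl l (mem_erase.1 hl').1) with k | k <;> rw [k]
      · exact Int.even_mul_pred_self _
      · rw [sub_neg_eq_add]; exact Int.even_mul_succ_self _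
    have h3 : Even (S i o * (S i o - w o)) := by
      obtain ⟨k, hk⟩ := h2
      exact ⟨2 * S i i - 2 * w i - k, by linear_combination h1 - hk⟩
    rcases Int.even_mul.1 h3 with k | ⟨k, hk⟩
    · exact k
    · rcases wo with k' | k' <;> rw [k'] at hk
      · exact ⟨k + 1, by omega⟩
      · exact ⟨k - 1, by omega⟩
  have h1 := q o o
  have h2 := e o
  rw [← add_sum_erase _ _ (mem_univ o)] at h1 h2
  have h3 : (∑ l ∈ univ.erase o, S o l * w l) * w o ≤ ∑ l ∈ univ.erase o, S o l * S l o := by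
    rw [sum_mul]
    refine sum_le_sum fun l hl' => ?_
    obtain ⟨k, hk⟩ := ev l
    rw [s o l, hk]
    have k1 : k ≤ k * k := Int.le_self_sq k |>.trans_eq (sq k)
    have k2 : -k ≤ k * k := (Int.le_self_sq (-k)).trans_eq (by ring)
    rcases Int.eq_one_or_neg_one_of_mul_eq_one (hl l (mem_erase.1 hl').1) with a | a <;>
      rcases wo with b | b <;> rw [a, b] <;> nlinarith
  have h4 : S o o = 4 := by
    have : (∑ l ∈ univ.erase o, S o l * w l) * w o = 16 - 4 * S o o := by
      linear_combination w o * h2 + (4 - S o o) * ho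
    nlinarith [sq_nonneg (S o o - 4)]
  refine ⟨h4, fun l hl' => ?_⟩
  have h5 : ∑ l ∈ univ.erase o, S o l * S l o = 0 := by rw [h4] at h1; omega
  have := (sum_eq_zero_iff_of_nonneg fun l _ => by rw [s l o]; exact mul_self_nonneg _).1 h5 l
    (mem_erase.2 ⟨hl', mem_univ l⟩)
  rw [s l o] at this
  exact mul_self_eq_zero.1 this

/-- the normalized matrices -/
structure N9 (R : κ → κ → ℤ) : Prop where
  symm : ∀ i j, R i j = R j i
  val : ∀ i j, R i j = 0 ∨ R i j = 1
  refl : ∀ i, R i i = 1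
  tr : ∀ {i j l}, R i j = 1 → R j l = 1 → R i l = 1
  sum : ∀ i, ∑ j, R i j = 4

theorem N9.symm' {R : κ → κ → ℤ} (h : N9 R) {i j : κ} (e : R i j = 1) : R j i = 1 := (h.symm j i).trans e

theorem N9.congr {R : κ → κ → ℤ} (h : N9 R) {i j : κ} (e : R i j = 1) (k : κ) : R k i = R k j := by
  rcases h.val k i with a | a
  · rcases h.val k j with b | b
    · rw [a, b]
    · rw [h.tr b (h.symm' e)] at a
      exact absurd a one_ne_zero
  · rw [a, h.tr a e]

theorem N9.card {R : κ → κ → ℤ} (h : N9 R) (i : κ) : Fintype.card {j // R i j = 1} = 4 := by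
  have := h.sum i
  rw [Fintype.card_subtype]
  have e : ∑ j, R i j = ((univ.filter fun j => R i j = 1).card : ℤ) := by
    rw [← sum_boole]
    exact sum_congr rfl fun j _ => by rcases h.val i j with a | a <;> simp [a]
  omega

theorem n9_norm {S : κ → κ → ℤ} {w : κ → ℤ} (s : ∀ i j, S i j = S j i)
    (q : ∀ i j, ∑ l, S i l * S l j = 4 * S i j) (e : ∀ i, ∑ l, S i l * w l = 4 * w i)
    (hw : ∀ l, w l * w l = 1) (t : ∑ i, S i i = 16) (hc : Fintype.card κ = 16) :
    N9 fun i j => w i * S i j * w j := by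
  have d1 : ∀ i, 1 ≤ S i i := by
    intro i
    have h1 := q i i
    have nn : ∀ l ∈ univ, 0 ≤ S i l * S l i := fun l _ => by rw [s l i]; exact mul_self_nonneg _
    have h2 := sum_nonneg nn
    by_contra k
    have h3 := (sum_eq_zero_iff_of_nonneg nn).1 (by omega)
    have h4 := e i
    rw [sum_eq_zero fun l hl => by
      have := h3 l hl
      rw [s l i] at this
      rw [mul_self_eq_zero.1 this, zero_mul]] at h4
    have := hw i
    rw [show w i = 0 by omega] at this
    omega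
  have d : ∀ i, S i i = 1 := by
    intro i
    have h1 : ∑ i, (S i i - 1) = 0 := by
      rw [sum_sub_distrib, t, sum_const, card_univ, hc]; rfl
    have := (sum_eq_zero_iff_of_nonneg fun l _ => sub_nonneg.2 (d1 l)).1 h1 i (mem_univ i)
    omega
  have sm : ∀ i, ∑ j, w i * S i j * w j = 4 := fun i => by
    simp only [mul_assoc]
    rw [← mul_sum, e]
    linear_combination 4 * hw i
  have sq : ∀ i j, ∑ l, w i * S i l * w l * (w l * S l j * w j) = 4 * (w i * S i j * w j) := fun i j => by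
    have : ∀ l, w i * S i l * w l * (w l * S l j * w j) = w i * (S i l * S l j) * w j := fun l => by
      linear_combination (w i * S i l * S l j * w j) * hw l
    simp only [this]
    rw [← sum_mul, ← mul_sum, q]; ring
  have val : ∀ i j, w i * S i j * w j = 0 ∨ w i * S i j * w j = 1 := by
    intro i j
    have h1 : ∑ l, w i * S i l * w l * (w i * S i l * w l - 1) = 0 := by
      have h2 := sq i i
      rw [d, mul_one, hw, mul_one] at h2
      simp only [mul_sub, mul_one]
      rw [sum_sub_distrib, sm, ← h2, sub_eq_zero]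
      exact sum_congr rfl fun l _ => by rw [s l i]; ring
    have := (sum_eq_zero_iff_of_nonneg fun l _ => by
      have := Int.le_self_sq (w i * S i l * w l)
      nlinarith).1 h1 j (mem_univ j)
    exact (mul_eq_zero.1 this).imp id sub_eq_zero.1
  refine ⟨fun i j => by rw [s i j]; ring, val, fun i => by rw [d, mul_one, hw], fun {i j l} a b => ?_, sm⟩
  have h1 := single_le_sum (f := fun l' => w i * S i l' * w l' * (w l' * S l' l * w l))
    (fun l' _ => by rcases val i l' with k | k <;> rcases val l' l with k' | k' <;> simp [k, k']) (mem_univ j)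
  rw [sq, a, b] at h1
  rcases val i l with k | k
  · omega
  · exact k

theorem n9_mu {R₁ R₂ : κ → κ → ℤ} (h₁ : N9 R₁) (h₂ : N9 R₂) (h : ∀ i j, ∑ l, R₁ i l * R₂ l j = 1) (i j : κ) :
    ∃! l, R₁ i l = 1 ∧ R₂ l j = 1 := by
  classical
  have e : ∑ l, R₁ i l * R₂ l j = ((univ.filter fun l => R₁ i l = 1 ∧ R₂ l j = 1).card : ℤ) := by
    rw [← sum_boole]
    exact sum_congr rfl fun l _ => by
      rcases h₁.val i l with a | a <;> rcases h₂.val l j with b | b <;> simp [a, b]
  rw [h] at e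
  obtain ⟨l, hl⟩ := card_eq_one.1 (show (univ.filter fun l => R₁ i l = 1 ∧ R₂ l j = 1).card = 1 by omega)
  refine ⟨l, ?_, fun m hm => ?_⟩
  · have : l ∈ univ.filter fun l => R₁ i l = 1 ∧ R₂ l j = 1 := hl ▸ mem_singleton_self l
    exact (mem_filter.1 this).2
  · exact mem_singleton.1 (hl ▸ mem_filter.2 ⟨mem_univ m, hm⟩)

theorem n9_cov {R₁ R₂ : κ → κ → ℤ} {w : κ → ℤ} (h₁ : N9 R₁) (h₂ : N9 R₂)
    (h : ∀ i j, ∑ l, R₁ i l * R₂ l j = 1) (hw : ∀ l, w l * w l = 1) (hc : Fintype.card κ = 16) :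
    CovZ (fun n => (∀ i, ∑ l, R₁ i l * (w l * n l) = 0) ∧ ∀ i, ∑ l, R₂ i l * (w l * n l) = 0) 9 16 := by
  classical
  choose μ hμ un using n9_mu h₁ h₂ h
  have un' : ∀ {i j l}, R₁ i l = 1 → R₂ l j = 1 → μ i j = l := fun a b => (un _ _ _ ⟨a, b⟩).symm
  obtain ⟨o⟩ : Nonempty κ := Fintype.card_pos_iff.1 (by omega)
  let δ : κ → κ → ℤ := fun i χ => if χ = i then 1 else 0
  let n : κ × κ → κ → ℤ := fun p χ => w χ * (δ p.1 χ - δ (μ p.1 p.2) χ - δ (μ p.2 p.1) χ + δ p.2 χ)
  have ev : ∀ {A : Type} [CommRing A] (f : κ → A) (p : κ × κ), ∑ χ, (n p χ : A) * f χ =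
      w p.1 * f p.1 - w (μ p.1 p.2) * f (μ p.1 p.2) - w (μ p.2 p.1) * f (μ p.2 p.1) + w p.2 * f p.2 := by
    intro A _ f p
    simp only [n, δ, Int.cast_mul, Int.cast_add, Int.cast_sub, Int.cast_ite, Int.cast_one, Int.cast_zero,
      mul_add, mul_sub, add_mul, sub_mul, mul_ite, ite_mul, mul_one, mul_zero, zero_mul, sum_add_distrib,
      sum_sub_distrib, sum_ite_eq', mem_univ, if_true]
  have kill : ∀ (R : κ → κ → ℤ) (k : κ) (p : κ × κ), ∑ l, R k l * (w l * n p l) =
      R k p.1 - R k (μ p.1 p.2) - R k (μ p.2 p.1) + R k p.2 := by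
    intro R k p
    have := ev (fun l => w l * R k l) p
    simp only [Int.cast_id, ← mul_assoc, hw, one_mul] at this
    rw [← this]
    exact sum_congr rfl fun l _ => by ring
  have nine : ∀ i, ∑ j, (1 - R₁ i j) * (1 - R₂ j i) = 9 := fun i => by
    have : ∀ j, (1 - R₁ i j) * (1 - R₂ j i) = 1 - R₁ i j - R₂ i j + R₁ i j * R₂ j i := fun j => by
      rw [h₂.symm i j]; ring
    simp only [this]
    rw [sum_add_distrib, sum_sub_distrib, sum_sub_distrib, h, h₁.sum, h₂.sum, sum_const, card_univ, hc]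
    rfl
  refine ⟨n, (univ.filter fun i => R₁ o i = 0 ∧ R₂ i o = 0).map ⟨fun i => (i, o), fun a b e => congrArg Prod.fst e⟩,
    36, by omega, ?_, fun p => ⟨fun k => ?_, fun k => ?_⟩, ?_, fun c hc' p hp => ?_, fun a ⟨p, hp⟩ => ?_⟩
  · rw [card_map]
    have e : ∑ j, (1 - R₁ o j) * (1 - R₂ j o) = ((univ.filter fun i => R₁ o i = 0 ∧ R₂ i o = 0).card : ℤ) := by
      rw [← sum_boole]
      exact sum_congr rfl fun l _ => by
        rcases h₁.val o l with a | a <;> rcases h₂.val l o with b | b <;> simp [a, b]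
    rw [nine] at e
    omega
  · rw [kill, h₁.congr (hμ p.1 p.2).1 k, h₁.congr (hμ p.2 p.1).1 k]; ring
  · rw [kill, h₂.congr (hμ p.1 p.2).2 k, h₂.congr (hμ p.2 p.1).2 k]; ring
  · have e : ∀ p : κ × κ, ∑ χ, n p χ * n p χ = 4 * ((1 - R₁ p.1 p.2) * (1 - R₂ p.2 p.1)) := by
      rintro ⟨i, j⟩
      have e0 := ev (n (i, j)) (i, j)
      simp only [Int.cast_id] at e0
      rw [e0]
      simp only [n, ← mul_assoc, hw, one_mul]
      rcases h₁.val i j with a | a
      · rcases h₂.val j i with b | b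
        · have n1 : i ≠ j := fun k => by rw [k, h₁.refl] at a; omega
          have n2 : μ i j ≠ j := fun k => by have := (hμ i j).1; rw [k] at this; omega
          have n3 : μ j i ≠ i := fun k => by have := h₁.symm' (hμ j i).1; rw [k] at this; omega
          have n4 : μ i j ≠ i := fun k => by have := h₂.symm' (hμ i j).2; rw [k] at this; omega
          have n5 : μ j i ≠ j := fun k => by have := (hμ j i).2; rw [k] at this; omega
          have n6 : μ i j ≠ μ j i := fun k => by
            have := h₁.tr (hμ i j).1 (h₁.symm' (k ▸ (hμ j i).1)); omega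
          simp [δ, a, b, n1, n2, n3, n4, n5, n6, n1.symm, n2.symm, n3.symm, n4.symm, n5.symm, n6.symm]
        · rw [un' (h₁.refl i) (h₂.symm' b), un' (h₁.refl j) b, b]; ring
      · rw [un' a (h₂.refl j), un' (h₁.symm' a) (h₂.refl i), a]; ring
    simp only [e]
    rw [← mul_sum, Fintype.sum_prod_type]
    simp only [nine]
    rw [sum_const, card_univ, hc]
    norm_num
  · obtain ⟨i, hi, rfl⟩ := mem_map.1 hp
    have hi' := (mem_filter.1 hi).2
    have := hc' i
    rw [sum_map] at this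
    change ∑ x ∈ _, c (x, o) * (n (x, o) i : ℂ) = 0 at this
    change c (i, o) = 0
    rw [sum_eq_single i] at this
    · have n1 : i ≠ o := fun k => by rw [k, h₁.refl] at hi'; omega
      have n2 : i ≠ μ i o := fun k => by have := (hμ i o).2; rw [← k] at this; omega
      have n3 : i ≠ μ o i := fun k => by have := (hμ o i).1; rw [← k] at this; omega
      have n4 : w i ≠ 0 := fun k => by have := hw i; rw [k] at this; omega
      simpa [n, δ, n1, n2, n3, n4] using this
    · intro j _ ji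
      have n1 : i ≠ o := fun k => by rw [k, h₁.refl] at hi'; omega
      have n2 : i ≠ μ j o := fun k => by have := (hμ j o).2; rw [← k] at this; omega
      have n3 : i ≠ μ o j := fun k => by have := (hμ o j).1; rw [← k] at this; omega
      simp [n, δ, n1, n2, n3, ji.symm]
    · exact fun k => absurd hi k
  · let ε : {a // R₂ o a = 1} → {b // R₁ o b = 1} → κ := fun a b => μ a b
    have mu : ∀ a a' b b', μ (ε a b) (ε a' b') = ε a b' := fun a a' b b' =>
      un' (h₁.tr (h₁.symm' (hμ a b).1) (hμ a b').1) (h₂.tr (hμ a b').2 (h₂.symm' (hμ a' b').2))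
    have su : ∀ i, ∃ a b, ε a b = i := fun i =>
      ⟨⟨μ i o, h₂.symm' (hμ i o).2⟩, ⟨μ o i, (hμ o i).1⟩, un' (h₁.symm' (hμ i o).1) (h₂.symm' (hμ o i).2)⟩
    have inj : ∀ a a' b b', ε a b = ε a' b' → a = a' ∧ b = b' := by
      intro a a' b b' e
      have e1 : R₁ a a' = 1 := h₁.tr (hμ a b).1 (h₁.symm' ((show μ a b = μ a' b' from e) ▸ (hμ a' b').1))
      have e2 : R₂ b b' = 1 := h₂.tr (h₂.symm' (hμ a b).2) ((show μ a b = μ a' b' from e) ▸ (hμ a' b').2)
      exact ⟨Subtype.ext ((un' (h₁.refl a) (h₂.tr (h₂.symm' a.2) a'.2)).symm.trans (un' e1 (h₂.refl a'))),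
        Subtype.ext ((un' (h₁.refl b) e2).symm.trans (un' (h₁.tr (h₁.symm' b.2) b'.2) (h₂.refl b')))⟩
    obtain ⟨i, j⟩ := p
    obtain ⟨a₀, b₁, rfl⟩ := su i
    obtain ⟨a₁, b₀, rfl⟩ := su j
    rw [ev, mu, mu] at hp
    obtain ⟨t, t1, t2⟩ := n9_grid (h₂.card o) (h₁.card o) (fun x y => (w (ε x y) : ℂ) * a (ε x y)) hp
    refine ⟨t.image fun p => (ε p.1.1 p.2.1, ε p.1.2 p.2.2), ?_, fun p hp => ?_⟩
    · rwa [card_image_of_injective]
      rintro ⟨⟨x, x'⟩, y, y'⟩ ⟨⟨z, z'⟩, v, v'⟩ e
      obtain ⟨rfl, rfl⟩ := inj _ _ _ _ (congrArg Prod.fst e)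
      obtain ⟨rfl, rfl⟩ := inj _ _ _ _ (congrArg Prod.snd e)
      rfl
    · obtain ⟨q, hq, rfl⟩ := mem_image.1 hp
      rw [ev, mu, mu]
      exact t2 q hq

end Nine

/-- PROOF. (1) `S₁ w = 4 w`, `S₂ w = 4 w`, `∑ w² = 16`: from `S₁ (S₁ S₂) = 4 S₁ S₂` one gets
`(S₁ w) wᵀ = 4 w wᵀ`; transpose (`S₂ S₁ = w wᵀ` by symmetry) for `S₂`; and
`∑ l, w l * w l = 16` from `wᵢ ∑ₗ wₗ wₗ = ∑ₗ (S₁ S₂) i l * w l = (S₁ (S₂ w)) i = 16 wᵢ`.
(2) All `w i = ±1` and `card κ = 16`. As `card κ ≥ 11` and `∑ w² = 16`, at most one entry `o` has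
`w o ^ 2 > 1`, and then `w o = ±2` (two such entries, or `w² ≥ 9`, give a sum `> 16`). Suppose it
exists. For `S = S₁, S₂` and each row `i`: `∑ l, S i l ≡ ∑ l, (S i l)² = 4 S i i ≡ 0 (mod 2)` and
`∑ l, S i l * w l = 4 w i`, with `w l` odd for `l ≠ o`; so `S i o` is even for all `i`. With
`a = S o o`: `a² + ∑_{l ≠ o} (S o l)² = 4 a`, `a` even, so `a = 0` (row zero, against
`S w = 4 w`), `a = 4` (all other entries zero), or `a = 2` with `∑_{l ≠ o} (S o l)² = 4`, all even,
so `∑_{l ≠ o} |S o l| ≤ 2` (use `2 |x| ≤ x²` for even `x`) and `|(S w) o| ≤ 4 + 2 < 8`, impossible.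
So `a = 4` for both matrices and `(S₁ S₂) o o = 16 ≠ 4 = (w o)²`.
(3) Each diagonal entry is `≥ 1` (`4 S i i = ∑ (S i l)²`, and row `i` is nonzero), the trace is
`16 = card κ`, so all are `1`. Put `R i j = w i * S i j * w j`: rows have `∑ R² = 4 = ∑ R`, so
`R ∈ {0, 1}` (`∑ (x² - x) = 0`), `R i j = 1` is an equivalence relation (`R² = 4 R`) with classes
of size `4`, and `∑ l, R₁ i l * R₂ l j = 1`: there is exactly one `μ i j` with `R₁ i (μ i j)`,
`R₂ (μ i j) j`.
(4) Family: `n (i, j) = fun χ => w χ * (δ i χ - δ (μ i j) χ - δ (μ j i) χ + δ j χ)`; it is killed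
by `S₁`, `S₂`, is `0` if `R₁ i j` or `R₂ i j` and has norm `4` otherwise: total
`16 * 9 * 4 = 36 * 16`, `m = 36`. Easiest through a bijection `ε : α × β ≃ κ`
(`α = {a // R₂ a o}`, `β = {b // R₁ o b}` for a fixed `o`, `ε (a, b) = μ a b`, both of size `4`;
`R₁ (ε (a, b)) (ε (a', b')) ↔ a = a'`, `R₂ ↔ b = b'`). `T = {(ε (a, b), o) | a ≠ o, b ≠ o}` has `9`
elements and is independent (look at the coordinate `ε (a, b)`). Counting: a nonconstant function
on a set with `4` elements differs on at least `6` ordered pairs (each point differs from one of two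
points with different values). For `x (a, b) = w * a` at `ε (a, b)`: the function
`a ↦ (b ↦ x (a, b) - x (a, o))` is nonconstant, and for each of the `≥ 6` pairs `(a, a')` where it
differs, `b ↦ x (a, b) - x (a', b)` is nonconstant, giving `≥ 6` pairs `(b, b')`. -/
theorem cov_nine {κ : Type*} [Fintype κ] (S₁ S₂ : κ → κ → ℤ) (w : κ → ℤ)
    (s₁ : ∀ i j, S₁ i j = S₁ j i) (s₂ : ∀ i j, S₂ i j = S₂ j i)
    (q₁ : ∀ i j, ∑ l, S₁ i l * S₁ l j = 4 * S₁ i j) (q₂ : ∀ i j, ∑ l, S₂ i l * S₂ l j = 4 * S₂ i j)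
    (h : ∀ i j, ∑ l, S₁ i l * S₂ l j = w i * w j) (hw : ∀ i, w i ≠ 0)
    (t₁ : ∑ i, S₁ i i = 16) (t₂ : ∑ i, S₂ i i = 16) (hk : 11 ≤ Fintype.card κ) :
    Fintype.card κ = 16 ∧
      CovZ (fun n => (∀ i, ∑ l, S₁ i l * n l = 0) ∧ ∀ i, ∑ l, S₂ i l * n l = 0) 9 16 := by
  classical
  have h' : ∀ i j, ∑ l, S₂ i l * S₁ l j = w i * w j := fun i j => by
    rw [mul_comm, ← h]
    exact Finset.sum_congr rfl fun l _ => by rw [s₂ i l, s₁ l j, mul_comm]
  have e₁ := n9_eig q₁ h hw
  have e₂ := n9_eig q₂ h' hw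
  obtain ⟨i₀⟩ : Nonempty κ := Fintype.card_pos_iff.1 (by omega)
  have sw : ∑ l, w l * w l = 16 := by
    refine mul_left_cancel₀ (hw i₀) ?_
    calc w i₀ * ∑ l, w l * w l = ∑ l, ∑ m, S₁ i₀ m * (S₂ m l * w l) := by
          rw [Finset.mul_sum]
          refine Finset.sum_congr rfl fun l _ => ?_
          rw [← mul_assoc, ← h, Finset.sum_mul]
          exact Finset.sum_congr rfl fun m _ => mul_assoc _ _ _
      _ = ∑ m, 4 * (S₁ i₀ m * w m) := by
          rw [Finset.sum_comm]
          exact Finset.sum_congr rfl fun m _ => by rw [← Finset.mul_sum, e₂]; ring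
      _ = w i₀ * 16 := by rw [← Finset.mul_sum, e₁]; ring
  have p1 : ∀ l, 1 ≤ w l * w l := fun l => mul_self_pos.2 (hw l)
  have p4 : ∀ l, w l * w l ≠ 1 → 4 ≤ w l * w l := fun l k => by
    have := hw l
    rcases lt_trichotomy (w l) 0 with a | a | a
    · have : w l ≠ -1 := fun e => k (by rw [e]; rfl)
      have : w l ≤ -2 := by omega
      nlinarith
    · omega
    · have : w l ≠ 1 := fun e => k (by rw [e]; rfl)
      have : 2 ≤ w l := by omega
      nlinarith
  have lb : ∀ s : Finset κ, (s.card : ℤ) ≤ ∑ l ∈ s, w l * w l := fun s => by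
    have := Finset.card_nsmul_le_sum s (fun l => w l * w l) 1 fun l _ => p1 l
    simpa using this
  have w1 : ∀ l, w l * w l = 1 := by
    intro o
    by_contra ho
    have c1 := Finset.card_erase_add_one (Finset.mem_univ o)
    rw [Finset.card_univ] at c1
    have a1 := Finset.add_sum_erase _ (fun l => w l * w l) (Finset.mem_univ o)
    simp only [sw] at a1
    have a2 := lb (Finset.univ.erase o)
    have a3 := p4 o ho
    have o4 : w o * w o = 4 := by
      have a4 : w o * w o ≤ 6 := by omega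
      have a5 : w o ≤ 2 := by nlinarith
      have a6 : -2 ≤ w o := by nlinarith
      generalize w o = x at *
      interval_cases x <;> omega
    have hl : ∀ l, l ≠ o → w l * w l = 1 := by
      intro l hl
      by_contra k
      have m : l ∈ Finset.univ.erase o := Finset.mem_erase.2 ⟨hl, Finset.mem_univ l⟩
      have c2 := Finset.card_erase_add_one m
      have b1 := Finset.add_sum_erase _ (fun l => w l * w l) m
      have b2 := lb ((Finset.univ.erase o).erase l)
      have b3 := p4 l k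
      omega
    obtain ⟨r1, r2⟩ := n9_row s₁ q₁ e₁ o4 hl
    obtain ⟨r3, -⟩ := n9_row s₂ q₂ e₂ o4 hl
    have := h o o
    rw [Finset.sum_eq_single o (fun l _ k => by rw [r2 l k, zero_mul]) (fun k => absurd (Finset.mem_univ o) k),
      r1, r3, o4] at this
    omega
  have hc : Fintype.card κ = 16 := by
    simp only [w1, Finset.sum_const, Finset.card_univ, nsmul_eq_mul, mul_one] at sw
    omega
  refine ⟨hc, (n9_cov (n9_norm s₁ q₁ e₁ w1 t₁ hc) (n9_norm s₂ q₂ e₂ w1 t₂ hc) (fun i j => ?_) w1 hc).mono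
    (fun n hn => ?_) le_rfl⟩
  · have : ∀ l, w i * S₁ i l * w l * (w l * S₂ l j * w j) = w i * (S₁ i l * S₂ l j) * w j := fun l => by
      linear_combination (w i * S₁ i l * S₂ l j * w j) * w1 l
    simp only [this]
    rw [← Finset.sum_mul, ← Finset.mul_sum, h]
    linear_combination (w j * w j) * w1 i + w1 j
  · have key : ∀ (S : κ → κ → ℤ) (i : κ), ∑ l, w i * S i l * w l * (w l * n l) = 0 → ∑ l, S i l * n l = 0 := by
      intro S i k
      have : ∀ l, w i * S i l * w l * (w l * n l) = w i * (S i l * n l) := fun l => by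
        linear_combination (w i * S i l * n l) * w1 l
      simp only [this] at k
      rw [← Finset.mul_sum] at k
      exact (mul_eq_zero.1 k).resolve_left (hw i)
    exact ⟨fun i => key S₁ i (hn.1 i), fun i => key S₂ i (hn.2 i)⟩

end Cfsg.Agent.Block.K16
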