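import Mathlib
import Cfsg.Agent.Block.K16Blk
import Cfsg.Agent.Block.K16Nine
import Cfsg.Agent.Block.StarSec

/-! Blocks with elementary abelian defect group of order `16` and inertial quotient `3 × 3`. -/

set_option autoImplicit false
set_option linter.unusedSectionVars false

namespace Cfsg.Agent.Block

open Cfsg Cfsg.Agent.Char Subgroup Cfsg.Agent.Block.Alg K16
open scoped ComplexConjugate

variable {G : Type*} [Group G] [Finite G] {M : Ideal AlgInt} {p : ℕ} [hp : Fact p.Prime]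
  {B : Set (IrrCharacter G)} {P : Subgroup G} {e : MonoidAlgebra (resField M) G}

open Classical in
theorem MP.exists_star (h : MP p B P e) [Fintype B]
    [∀ x : G, Fintype (centralizer ({x} : Set G))] {ι : Type*} [Fintype ι] {rep : ι → P}
    (hw : ∀ v ∈ P, ∑ i, (if PF p P e (rep i) v then (1 : ℂ) else 0) = 1) {κ : Type*}
    {σ : κ → P → ℤ} (hs : ∀ a (u v : P), PF p P e u v → σ a v = σ a u)
    (hg : ∀ a, IsGeneralizedCharacter P fun x => (σ a x : ℂ)) {I : P → B → B → ℂ}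
    (hI : ∀ v χ ψ, I v χ ψ = classInner (bcmp p _ (v : G) (lblk p P e v) χ.1)
      (bcmp p _ (v : G) (lblk p P e v) ψ.1)) :
    ∃ S : κ → B → B → ℤ, (∀ a χ ψ, (S a χ ψ : ℂ) = ∑ i, σ a (rep i) * I (rep i) χ ψ) ∧
      (∀ a χ ψ, S a χ ψ = S a ψ χ) ∧
      (∀ a b χ ψ, ((∑ l, S a χ l * S b l ψ : ℤ) : ℂ) =
        ∑ i, σ a (rep i) * σ b (rep i) * I (rep i) χ ψ) ∧
      ∀ a (n : B → ℤ), (∀ χ, ∑ l, S a χ l * n l = 0) → ∀ v : P, σ a v ≠ 0 →
        bcmp p _ (v : G) (lblk p P e v) (icomb n) = 0 := by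
  have := Fintype.ofFinite G
  have h1 : ∀ a, PairStable p P e fun x => (σ a x : ℂ) := fun a =>
    h.pairStable fun u v h1 => by rw [hs a u v h1]
  have h2 : ∀ a {θ : G → ℂ} (_ : IsClassFunction G θ) (v : P), bcmp p _ (v : G) (lblk p P e v)
      (pstar p P e θ fun x => (σ a x : ℂ)) = (σ a v : ℂ) • bcmp p _ (v : G) (lblk p P e v) θ :=
    fun a _ hθ v => (h1 a).bcmp_pstar h.hM hθ v rfl (h.block v.2) (h.ple v.2)
  have h3 : ∀ a (χ : B), blockPart B (pstar p P e χ.1 fun x => (σ a x : ℂ)) = _ := fun a χ =>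
    (h1 a).blockPart_pstar h.hM h.hB (blockPart_irr_of_mem χ.2)
  choose S hS using fun a (χ ψ : B) =>
    ((h1 a).isGen_pstar h.hM h.hm (hg a) χ.1.2.isGen).exists_int_inner ψ.1.2.isGen
  have h4 : ∀ a χ ψ, (S a χ ψ : ℂ) = ∑ i, σ a (rep i) * I (rep i) χ ψ := fun a χ ψ => by
    rw [← hS, h.classInner_eq_sum_wt (fun i => (rep i).2) hw (h3 a χ) ψ.1.2.isClassFunction]
    simp only [h2 a χ.1.2.isClassFunction, classInner_smul_left, one_mul, hI]
  have h5 : ∀ a χ ψ, S a χ ψ = S a ψ χ := fun a χ ψ => Int.cast_injective (α := ℂ) (by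
    rw [← map_intCast (starRingEnd ℂ) (S a ψ χ), h4, h4, map_sum]
    simp only [map_mul, map_intCast, hI, classInner_conj_symm])
  refine ⟨S, h4, h5, fun a b χ ψ => ?_, fun a n hn v hv => ?_⟩
  · have h6 := h.classInner_eq_sum_wt (fun i => (rep i).2) hw (h3 a χ)
      ((h1 b).isClassFunction_pstar h.hM ψ.1.2.isClassFunction)
    simp only [h2 a χ.1.2.isClassFunction, h2 b ψ.1.2.isClassFunction, classInner_smul_left,
      classInner_smul_right, one_mul, ← hI, map_intCast, ← mul_assoc, mul_comm (σ b _ : ℂ)] at h6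
    simp only [mul_right_comm _ (σ b _ : ℂ)]
    rw [← h6, funext (eq_sum_of_blockPart (h3 a χ)), ← Finset.sum_fn, classInner_sum_left]
    push_cast
    refine Finset.sum_congr rfl fun l _ => ?_
    rw [hS, h5 b, ← map_intCast (starRingEnd ℂ) (S b ψ l), ← hS b, classInner_conj_symm,
      ← classInner_smul_left]
    rfl
  · have h6 := (h1 a).blockPart_pstar h.hM h.hB (blockPart_icomb n)
    have h7 : (pstar p P e (icomb n) fun x => (σ a x : ℂ)) = 0 := funext fun g => by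
      rw [eq_sum_of_blockPart h6]
      refine Finset.sum_eq_zero fun ψ _ => mul_eq_zero_of_left ?_ _
      have h8 : ((∑ l, S a ψ l * n l : ℤ) : ℂ) = 0 := by rw [hn, Int.cast_zero]
      rw [h.classInner_eq_sum_wt (fun i => (rep i).2) hw h6 ψ.1.2.isClassFunction, ← h8]
      simp only [h2 a (isGen_icomb n).isClassFunction, classInner_smul_left, one_mul]
      simp only [icomb, bcmp_sum, bcmp_smul, classInner_sum_left, classInner_smul_left, ← hI,
        Int.cast_sum, Int.cast_mul, h5 a ψ, h4, Finset.mul_sum, Finset.sum_mul]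
      rw [Finset.sum_comm]
      exact Finset.sum_congr rfl fun _ _ => Finset.sum_congr rfl fun _ _ => by ring
    have h8 := h2 a (isGen_icomb n).isClassFunction v
    rw [h7, ← zero_smul ℂ (0 : G → ℂ), bcmp_smul, zero_smul] at h8
    exact (smul_eq_zero.1 h8.symm).resolve_left (Int.cast_ne_zero.2 hv)

open Classical in
theorem isGen_four {A : Type*} [Group A] [Finite A] (V : Subgroup A) [V.Normal]
    (h : V.index = 4) : IsGeneralizedCharacter A fun x => ((if x ∈ V then 0 else 4 : ℤ) : ℂ) := by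
  convert (isGen_one.intCast_smul 4).sub
    (isCharacter_regChar.isGen.comp (QuotientGroup.mk' V)) using 2 with y
  split_ifs with h1
  · simp [(QuotientGroup.eq_one_iff y).2 h1, regChar_one, ← index_eq_card, h]
  · simp [regChar_of_ne_one fun h2 => h1 ((QuotientGroup.eq_one_iff (N := V) y).1 h2)]

theorem MP.cov_nine (h : MP 2 B P e) (hab : P ≤ centralizer (P : Set G)) {V₁ V₂ : Subgroup P}
    (d : Nine (nrho P e).range V₁ V₂) (hl : 4 ≤ blockRank 2 B) : BCov 2 B (Nat.card P) :=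
  fun [_] => by
  classical
  have := fun x : G => Fintype.ofFinite (centralizer ({x} : Set G))
  have hn : ∀ V : Subgroup P, V.Normal := fun V => ⟨fun a ha g => by
    rwa [comm_of_le_centralizer hab g, mul_inv_cancel_right]⟩
  have pf : ∀ u v : P, PF 2 P e u v ↔ ∃ g : (nrho P e).range, g • u = v := fun u v =>
    (h.pf_iff' hab).trans ⟨fun ⟨t, ht⟩ => ⟨⟨_, t, rfl⟩, ht⟩, fun ⟨⟨_, t, rfl⟩, ht⟩ => ⟨t, ht⟩⟩
  have iv : ∀ V : Subgroup P, (∀ g : (nrho P e).range, ∀ x ∈ V, g • x ∈ V) → ∀ u v : P,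
      PF 2 P e u v → (v ∈ V ↔ u ∈ V) := fun V hV u v h1 =>
    ⟨fun h2 => ((pf _ _).1 h1.symm).elim fun g hg => hg ▸ hV g _ h2,
      fun h2 => ((pf _ _).1 h1).elim fun g hg => hg ▸ hV g _ h2⟩
  obtain ⟨⟨a, a1⟩, a2⟩ := ne_bot_iff_exists_ne_one.1 d.ne₁
  obtain ⟨⟨b, b1⟩, b2⟩ := ne_bot_iff_exists_ne_one.1 d.ne₂
  replace a2 : a ≠ 1 := fun e => a2 (Subtype.ext e)
  replace b2 : b ≠ 1 := fun e => b2 (Subtype.ext e)
  have dj : ∀ x ∈ V₁, x ∈ V₂ → x = 1 := fun x h1 h2 => disjoint_def.1 d.disj h1 h2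
  have a3 : a ∉ V₂ := fun h => a2 (dj a a1 h)
  have b3 : b ∉ V₁ := fun h => b2 (dj b h b1)
  have c1 : a * b ∉ V₁ := mt (mul_mem_cancel_left a1).1 b3
  have c2 : a * b ∉ V₂ := mt (mul_mem_cancel_right b1).1 a3
  have hw : ∀ v ∈ P, ∑ i : Fin 4, (if PF 2 P e (![1, a, b, a * b] i : P) v then (1 : ℂ) else 0) =
      1 := fun v hv => by
    lift v to P using hv
    have e0 : PF 2 P e (1 : P) v ↔ v ∈ V₁ ∧ v ∈ V₂ :=
      ⟨fun h => ⟨(iv _ d.inv₁ _ _ h).2 (one_mem _), (iv _ d.inv₂ _ _ h).2 (one_mem _)⟩,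
        fun h1 => dj v h1.1 h1.2 ▸ h.pf_refl (Subtype.prop _)⟩
    have e1 : PF 2 P e a v ↔ v ∈ V₁ ∧ v ∉ V₂ :=
      ⟨fun h => ⟨(iv _ d.inv₁ _ _ h).2 a1, mt (iv _ d.inv₂ _ _ h).1 a3⟩,
        fun h1 => (pf _ _).2 (d.tr₁ a a1 v h1.1 a2 fun e => h1.2 (e ▸ one_mem _))⟩
    have e2 : PF 2 P e b v ↔ v ∉ V₁ ∧ v ∈ V₂ :=
      ⟨fun h => ⟨mt (iv _ d.inv₁ _ _ h).1 b3, (iv _ d.inv₂ _ _ h).2 b1⟩,
        fun h1 => (pf _ _).2 (d.tr₂ b b1 v h1.2 b2 fun e => h1.1 (e ▸ one_mem _))⟩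
    have e3 : PF 2 P e (a * b : P) v ↔ v ∉ V₁ ∧ v ∉ V₂ :=
      ⟨fun h => ⟨mt (iv _ d.inv₁ _ _ h).1 c1, mt (iv _ d.inv₂ _ _ h).1 c2⟩,
        fun h1 => (pf _ _).2 (d.tr₃ _ v c1 c2 h1.1 h1.2)⟩
    simp only [Fin.sum_univ_four, Matrix.cons_val_zero, Matrix.cons_val_one, Matrix.cons_val,
      e0, e1, e2, e3]
    by_cases h1 : v ∈ V₁ <;> by_cases h2 : v ∈ V₂ <;> simp [h1, h2]
  have r3 : ∀ u : P, Nat.card (MulAction.stabilizer (nrho P e).range u) = 3 →
      blockRank 2 (lblk 2 P e u) = 3 := fun u hu => by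
    have hP : P ≤ centralizer {(u : G)} :=
      hab.trans (centralizer_le (Set.singleton_subset_iff.2 u.2))
    rw [card_stabilizer_nrho] at hu
    obtain ⟨e', h', rfl⟩ := h.exists_sub u.2 hP
    exact rank_eq_three _ h' (MP.sub_comm hab) rfl (inI_sub hP e' ▸ hu)
  have r1 : blockRank 2 (lblk 2 P e (a * b : P)) = 1 := h.rank_lblk hab (a * b).2 fun t h1 h2 =>
    relIndex_eq_one.1 (card_stabilizer_nrho (a * b) ▸ d.st₃ _ c1 c2) (mem_inf.2 ⟨h1, h2⟩)
  have ra := r3 a (d.st₁ a a1 a2)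
  have rb := r3 b (d.st₂ b b1 b2)
  have hk := h.card_eq_sum_wt (fun i => (![1, a, b, a * b] i).2) hw
  obtain ⟨L, hL⟩ : ∃ L : P → ℕ, ∀ v : P, blockRank 2 (lblk 2 P e v) = L v := ⟨_, fun _ => rfl⟩
  obtain ⟨I, hI⟩ : ∃ I : P → B → B → ℂ, ∀ v χ ψ, I v χ ψ = classInner
    (bcmp 2 _ (v : G) (lblk 2 P e v) χ.1) (bcmp 2 _ (v : G) (lblk 2 P e v) ψ.1) :=
    ⟨_, fun _ _ _ => rfl⟩
  have r0 := (hL 1).symm.trans h.rank_one
  have r2 := (hL _).symm.trans r1
  simp only [hL] at hk ra rb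
  simp only [Fin.sum_univ_four, Matrix.cons_val_zero, Matrix.cons_val_one, Matrix.cons_val,
    ra, rb, r2, r0, one_mul] at hk
  replace hk : Fintype.card B = blockRank 2 B + 3 + 3 + 1 := by
    rw [← Nat.card_eq_fintype_card]; exact_mod_cast hk
  obtain ⟨S, s1, s2, s3, s4⟩ := h.exists_star hw
    (σ := fun (V : {V : Subgroup P // V = V₁ ∨ V = V₂}) x => if x ∈ V.1 then 0 else 4)
    (fun V u v h1 => by
      rcases V with ⟨V, rfl | rfl⟩
      exacts [if_congr (iv _ d.inv₁ _ _ h1) rfl rfl, if_congr (iv _ d.inv₂ _ _ h1) rfl rfl])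
    (fun V => by
      rcases V with ⟨V, rfl | rfl⟩
      exacts [isGen_four _ d.idx₁, isGen_four _ d.idx₂]) hI
  have ho : orderOf ((a * b : P) : G) = 2 := by
    rw [orderOf_coe]
    exact orderOf_eq_prime (by rw [sq, d.sq]) fun e => c1 (e ▸ one_mem _)
  choose w hw using fun χ : B => h.exists_int_pd (a * b).2 ho χ.1.2.isGen
  have q : ∀ V χ ψ, ∑ l, S V χ l * S V l ψ = 4 * S V χ ψ := fun V χ ψ =>
    Int.cast_injective (α := ℂ) (by
      rw [s3, Int.cast_mul, s1, Finset.mul_sum]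
      refine Finset.sum_congr rfl fun i _ => ?_
      split_ifs <;> simp [mul_assoc])
  have tr : ∀ u : P, ∑ χ : B, I u χ χ = L u := fun u => by
    rw [← hL, ← h.finsum_inner_bcmp u.2, finsum_mem_eq_sum_coe]
    simp only [hI]
  obtain ⟨k1, k2⟩ := K16.cov_nine (S ⟨V₂, .inr rfl⟩) (S ⟨V₁, .inl rfl⟩) w (s2 _) (s2 _) (q _) (q _)
    (fun χ ψ => Int.cast_injective (α := ℂ) (by
      rw [s3]
      simp only [Fin.sum_univ_four, Matrix.cons_val_zero, Matrix.cons_val_one, Matrix.cons_val,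
        one_mem, a1, a3, b1, b3, c1, c2, if_true, if_false]
      rw [hI (a * b), h.inner_bcmp_eq_pd (a * b).2 r1 χ.1.2.isClassFunction ψ.1.2.isClassFunction, hw, hw]
      have h1 := congrArg (Nat.cast (R := ℂ)) ((h.pow_defect_lblk hab (a * b).2).trans d.card)
      push_cast at h1 ⊢
      rw [h1, map_intCast]
      ring))
    (fun χ h0 => h.pd_ne_zero hab (a * b).2 r1 χ.2 (by rw [hw, h0, Int.cast_zero]))
    (Int.cast_injective (α := ℂ) (by
      simp only [Int.cast_sum, s1]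
      rw [Finset.sum_comm]
      simp only [← Finset.mul_sum, tr, Fin.sum_univ_four, Matrix.cons_val_zero, Matrix.cons_val_one,
        Matrix.cons_val, one_mem, a3, b1, c2, if_true, if_false, ra, r2]
      norm_num))
    (Int.cast_injective (α := ℂ) (by
      simp only [Int.cast_sum, s1]
      rw [Finset.sum_comm]
      simp only [← Finset.mul_sum, tr, Fin.sum_univ_four, Matrix.cons_val_zero, Matrix.cons_val_one,
        Matrix.cons_val, one_mem, a1, b3, c1, if_true, if_false, rb, r2]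
      norm_num)) (by omega)
  rw [d.card]
  refine k2.mono (fun n hn => ⟨isGen_icomb n, h.regPart_eq_of_bcmp (blockPart_icomb n)
    fun v hv h1 => ?_, blockPart_icomb n⟩) (by omega)
  by_cases h2 : (⟨v, hv⟩ : P) ∈ V₁
  · exact s4 _ n hn.1 ⟨v, hv⟩ (by simp [mt (dj _ h2) fun e => h1 (congrArg Subtype.val e)])
  · exact s4 _ n hn.2 ⟨v, hv⟩ (by simp [h2])

end Cfsg.Agent.Block
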