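import Mathlib
import Cfsg.Agent.Block.K16Def
import Cfsg.Agent.Block.K16Act

/-! Groups of order prime to 3 acting on 3-groups with a central cyclic subgroup of index at most 9. -/

set_option autoImplicit false
set_option linter.unusedSectionVars false

namespace Cfsg.Agent.Block.K16

open Subgroup MulAction Cfsg.Agent.Block.Ols

namespace Thr

theorem dvd_orb {H Ω : Type*} [Group H] [MulAction H Ω] [Finite Ω] {Z : Set Ω} {k : ℕ}
    (hZ : ∀ x : H, ∀ a ∈ Z, x • a ∈ Z) (h : ∀ a ∈ Z, k ∣ (orbit H a).ncard) : k ∣ Z.ncard := by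
  classical
  have := Fintype.ofFinite Ω
  rw [Set.ncard_eq_toFinset_card' Z, Finset.card_eq_sum_card_image (fun a => orbit H a)]
  refine Finset.dvd_sum fun O hO => ?_
  obtain ⟨a, ha, rfl⟩ := Finset.mem_image.1 hO
  have ha : a ∈ Z := Set.mem_toFinset.1 ha
  have : (Z.toFinset.filter fun b => orbit H b = orbit H a : Set Ω) = orbit H a := by
    ext b
    simp only [Finset.coe_filter, Set.mem_toFinset, Set.mem_ofPred_eq, orbit_eq_iff]
    exact ⟨fun h => h.2, fun h => ⟨by obtain ⟨x, rfl⟩ := h; exact hZ x a ha, h⟩⟩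
  rw [← Set.ncard_coe_finset, this]
  exact h a ha

variable {E W : Type*} [Group E] [Finite E] [CommGroup W] [Finite W] [MulDistribMulAction E W]

theorem diff (hE : ¬ 3 ∣ Nat.card E) {a : E} {x : W} (h3 : (x⁻¹ * a • x) ^ 3 = 1)
    (h : a • (x⁻¹ * a • x) = x⁻¹ * a • x) : a • x = x := by
  set t := x⁻¹ * a • x
  have e : a • x = x * t := by simp [t]
  have h1 : a ^ 3 ∈ stabilizer E x := by
    rw [mem_stabilizer_iff, pow_three, mul_smul, mul_smul, e, smul_mul', e, h, smul_mul', smul_mul',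
      e, h, mul_assoc, mul_assoc, ← pow_three, h3, mul_one]
  obtain ⟨m, hm⟩ := exists_pow_eq_self_of_coprime (x := a) (n := 3)
    ((Nat.Prime.coprime_iff_not_dvd Nat.prime_three).2 fun hd => hE (hd.trans (orderOf_dvd_natCard a)))
  exact hm ▸ pow_mem h1 m

theorem idx {p : ℕ} [Fact p.Prime] {X : Type*} [Group X] [Finite X] (hX : IsPGroup p X)
    {A B : Subgroup X} (h : A < B) : p * B.index ≤ A.index := by
  rw [← relIndex_mul_index h.le]
  refine Nat.mul_le_mul_right _ ?_
  obtain ⟨i, hi⟩ := (hX.to_subgroup B).index (A.subgroupOf B)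
  rcases i with _ | i
  · exact absurd (relIndex_eq_one.1 hi) (not_le_of_gt h)
  · exact Nat.le_of_dvd (Nat.pos_of_ne_zero index_ne_zero_of_finite) ((dvd_pow_self p (by omega)).trans hi.symm.dvd)

theorem gen2 (hW : IsPGroup 3 W) (h : ((powMonoidHom 3 : W →* W).range).index ≤ 9) :
    ∃ a b : W, zpowers a ⊔ zpowers b = ⊤ := by
  have : Fact (Nat.Prime 3) := ⟨by norm_num⟩
  have step : ∀ H : Subgroup W, ∃ a, H ⊔ zpowers a = ⊤ ∨ 3 * (H ⊔ zpowers a).index ≤ H.index :=
    fun H => by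
      by_cases e : H = ⊤
      · exact ⟨1, Or.inl (by simp [e])⟩
      obtain ⟨a, ha⟩ : ∃ a, a ∉ H := by
        by_contra! h1
        exact e (eq_top_iff.2 fun x _ => h1 x)
      exact ⟨a, Or.inr (idx hW (lt_of_le_of_ne le_sup_left fun e =>
        ha (e ▸ mem_sup_right (mem_zpowers a))))⟩
  obtain ⟨a, ha⟩ := step (powMonoidHom 3 : W →* W).range
  obtain ⟨b, hb⟩ := step ((powMonoidHom 3 : W →* W).range ⊔ zpowers a)
  have e : (powMonoidHom 3 : W →* W).range ⊔ (zpowers a ⊔ zpowers b) = ⊤ := by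
    rw [← sup_assoc]
    rcases hb with hb | hb
    · exact hb
    rcases ha with ha | ha
    · simp [ha]
    have : ((powMonoidHom 3 : W →* W).range ⊔ zpowers a ⊔ zpowers b).index ≠ 0 :=
      index_ne_zero_of_finite
    exact index_eq_one.1 (by omega)
  refine ⟨a, b, eq_top_iff.2 fun x _ => ?_⟩
  have H : ∀ k : ℕ, ∃ y, ∃ m ∈ zpowers a ⊔ zpowers b, x = y ^ 3 ^ k * m := fun k => by
    induction k with
    | zero => exact ⟨x, 1, one_mem _, by simp⟩
    | succ k ih =>
      obtain ⟨y, m, hm, e1⟩ := ih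
      obtain ⟨_, ⟨c, rfl⟩, d, hd, rfl⟩ := mem_sup.1 (e.ge (mem_top y))
      refine ⟨c, d ^ 3 ^ k * m, mul_mem (pow_mem hd _) hm, ?_⟩
      rw [e1, powMonoidHom_apply, mul_pow, ← pow_mul, pow_succ', mul_assoc]
  obtain ⟨n, hn⟩ := IsPGroup.iff_card.1 hW
  obtain ⟨y, m, hm, e1⟩ := H n
  rwa [e1, ← hn, pow_card_eq_one', one_mul]

theorem compl (N : Subgroup E) [hN : N.Normal] (h2 : (Nat.card W).Coprime (Nat.card N)) :
    ∃ K : Subgroup W,
      (∀ g : E, ∀ x ∈ K, g • x ∈ K) ∧ Disjoint (Fix W N) K ∧ (Fix W N).index = Nat.card K := by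
  have := Fintype.ofFinite N
  let ν : W →* W := ∏ n : N, MulDistribMulAction.toMonoidHom W n
  have hν : ∀ x, ν x = ∏ n : N, n • x := fun x => by simp [ν]
  have h1 : ∀ x ∈ Fix W N, ν x = x ^ Nat.card N := fun x hx => by
    rw [hν, Finset.prod_congr rfl fun n _ => hx n, Finset.prod_const, Finset.card_univ,
      Nat.card_eq_fintype_card]
  have h3 : ν.range = Fix W N := by
    refine le_antisymm ?_ fun x hx => ?_
    · rintro _ ⟨x, rfl⟩ m
      rw [hν, Finset.smul_prod']
      exact Fintype.prod_equiv (Equiv.mulLeft m) _ _ fun n => (mul_smul _ _ _).symm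
    · obtain ⟨y, hy⟩ := (powCoprime (h2.coprime_dvd_left
        (card_subgroup_dvd_card (Fix W N)))).surjective ⟨x, hx⟩
      exact ⟨y, (h1 y y.2).trans (congrArg Subtype.val hy)⟩
  refine ⟨ν.ker, fun g x hx => ?_, disjoint_def.2 fun {x} hx hx' => ?_, ?_⟩
  · rw [MonoidHom.mem_ker, hν] at hx ⊢
    rw [← smul_one g, ← hx, Finset.smul_prod']
    refine (Fintype.prod_equiv (MulAut.conjNormal g).toEquiv _ _ fun n => ?_).symm
    change g • (n : E) • x = (g * n * g⁻¹) • g • x
    rw [smul_smul, smul_smul, inv_mul_cancel_right]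
  · rw [MonoidHom.mem_ker, h1 x hx] at hx'
    exact orderOf_eq_one_iff.1 (Nat.eq_one_of_dvd_coprimes h2 (orderOf_dvd_natCard x)
      (orderOf_dvd_of_pow_eq_one hx'))
  · have h4 := card_mul_index ν.ker
    rw [index_ker, h3, ← card_mul_index (Fix W N), mul_comm] at h4
    exact (mul_left_cancel₀ Nat.card_pos.ne' h4).symm

variable (hE : ¬ 3 ∣ Nat.card E) (h3 : ∀ x : W, x ^ 3 = 1)
  (hf : ∀ a : E, (∀ x : W, a • x = x) → a = 1)
include hE h3 hf

theorem key {H : Subgroup E} (h : (Fix W H).index ≤ 3) : Nat.card H ∣ 2 := by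
  have : Fact (Nat.Prime 3) := ⟨by norm_num⟩
  have hW : IsPGroup 3 W := fun x => ⟨1, h3 x⟩
  by_cases h0 : Fix W H = ⊤
  · simp [eq_bot_of_Fix hf h0]
  obtain ⟨x, hx⟩ : ∃ x, x ∉ Fix W H := by
    by_contra! h1
    exact h0 (eq_top_iff.2 fun x _ => h1 x)
  have a1 : (H ⊓ stabilizer E x).relIndex H < (Fix W H).index := by
    have h1 : (H ⊓ stabilizer E x).relIndex H = Nat.card (orbit H x) := by
      rw [inf_relIndex_left, Nat.card_coe_set_eq, ← index_stabilizer]
      rfl
    have := Fintype.ofFinite (orbit H x)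
    have := Fintype.ofFinite (W ⧸ Fix W H)
    rw [h1, index, Nat.card_eq_fintype_card, Nat.card_eq_fintype_card]
    refine Fintype.card_lt_of_injective_of_notMem (fun y => ((y : W) : W ⧸ Fix W H)) ?_
      (b := 1) ?_
    · rintro ⟨_, a, rfl⟩ ⟨_, b, rfl⟩ h2
      have h3' : (b * a⁻¹) • a • x = b • x := by rw [smul_smul, inv_mul_cancel_right]
      have h4 : (a • x)⁻¹ * (b * a⁻¹) • a • x ∈ Fix W H := by
        rw [h3']; exact QuotientGroup.eq.1 h2
      exact Subtype.ext ((diff hE (a := ((b * a⁻¹ : H) : E)) (x := a • x) (h3 _)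
        (h4 (b * a⁻¹))).symm.trans h3')
    · rintro ⟨⟨_, a, rfl⟩, h2⟩
      have h3 := (QuotientGroup.eq_one_iff _).1 h2
      have h4 : a⁻¹ • a • x = a • x := h3 a⁻¹
      rw [inv_smul_smul] at h4
      exact hx (h4 ▸ h3)
  have a2 := idx hW (lt_of_le_of_ne (Fix_anti (W := W) (inf_le_left : H ⊓ stabilizer E x ≤ H))
    fun e => hx (e ▸ mem_Fix.2 fun a ha => ha.2))
  have a3 : (Fix W (H ⊓ stabilizer E x)).index ≠ 0 := index_ne_zero_of_finite
  rw [eq_bot_of_Fix hf (index_eq_one.1 (show (Fix W (H ⊓ stabilizer E x)).index = 1 by omega)),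
    relIndex_bot_left] at a1
  have a4 := Nat.card_pos (α := H)
  have : Nat.card H = 1 ∨ Nat.card H = 2 := by omega
  rcases this with e | e <;> simp [e]

theorem key2 (hc : Nat.card W = 27) {H : Subgroup E} {a b : W} (a1 : a ≠ 1) (b1 : b ≠ 1)
    (hd : Disjoint (zpowers a) (zpowers b)) (ha : H ≤ stabilizer E a) (hb : H ≤ stabilizer E b) :
    Nat.card H ∣ 2 := by
  have : Fact (Nat.Prime 3) := ⟨by norm_num⟩
  have := index_le_of_disjoint hd (U := Fix W H) (zpowers_le.2 (mem_Fix.2 ha))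
    (zpowers_le.2 (mem_Fix.2 hb))
  rw [Nat.card_zpowers, Nat.card_zpowers, orderOf_eq_prime (h3 a) a1, orderOf_eq_prime (h3 b) b1,
    hc] at this
  exact key hE h3 hf (by omega)

theorem split (hc : Nat.card W = 27) (a : W) (a1 : a ≠ 1) [(stabilizer E a).Normal] :
    ∃ u : W, Nat.card (stabilizer E u) ∣ 2 := by
  obtain ⟨K, k1, k2, k3⟩ := compl (W := W) (stabilizer E a) (by
    rw [hc]
    exact ((Nat.Prime.coprime_iff_not_dvd Nat.prime_three).2
      fun hd => hE (hd.trans (card_subgroup_dvd_card _))).pow_left 3)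
  obtain ⟨b, hb, b1⟩ := exists_elt K
  by_cases e : b = 1
  · exact ⟨a, key hE h3 hf (by rw [k3, b1 e, card_bot]; norm_num)⟩
  have ha : a ∈ Fix W (stabilizer E a) := mem_Fix.2 fun g hg => hg
  have := stabilizer_mul k2 (fun g x hx => smul_mem_Fix _ g hx) k1 ha hb
  exact ⟨a * b, key2 hE h3 hf hc a1 e (k2.mono (zpowers_le.2 ha) (zpowers_le.2 hb))
    (this.trans inf_le_left) (this.trans inf_le_right)⟩

omit hE in
theorem fix13 (hc : Nat.card W = 27) {H : Subgroup E} {q : ℕ} [hq : Fact q.Prime] (q2 : q ≠ 2)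
    (q3 : q ≠ 3) (hH : IsPGroup q H) (ne : H ≠ ⊥) : q = 13 ∧ Fix W H = ⊥ := by
  have : Fact (Nat.Prime 3) := ⟨by norm_num⟩
  have hW : IsPGroup 3 W := fun x => ⟨1, h3 x⟩
  have a1 : (Fix W H).index ≡ 1 [MOD q] := index_fix_modEq hH fun h =>
    q3 ((Nat.prime_dvd_prime_iff_eq hq.out Nat.prime_three).1 (hq.out.dvd_of_dvd_pow (n := 3) (h.trans hc.dvd)))
  obtain ⟨j, hj⟩ := hW.index (Fix W H)
  have a2 := card_mul_index (Fix W H)
  have a3 := Nat.card_pos (α := Fix W H)
  have a4 : j ≤ 3 := (Nat.pow_le_pow_iff_right (by norm_num : 1 < 3)).1 (by nlinarith)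
  have a5 : q ∣ 3 ^ j - 1 := (Nat.modEq_iff_dvd' (Nat.one_le_pow _ _ three_pos)).1 (hj ▸ a1).symm
  interval_cases j
  · exact absurd (eq_bot_of_Fix hf (index_eq_one.1 hj)) ne
  · exact absurd ((Nat.prime_dvd_prime_iff_eq hq.out Nat.prime_two).1 a5) q2
  · exact absurd ((Nat.prime_dvd_prime_iff_eq hq.out Nat.prime_two).1
      (hq.out.dvd_of_dvd_pow (n := 3) a5)) q2
  · rw [hj, hc] at a2
    refine ⟨?_, card_eq_one.1 (by omega)⟩
    rcases (Nat.Prime.dvd_mul hq.out (m := 2) (n := 13)).1 a5 with h | h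
    · exact absurd ((Nat.prime_dvd_prime_iff_eq hq.out Nat.prime_two).1 h) q2
    · exact (Nat.prime_dvd_prime_iff_eq hq.out (by norm_num)).1 h

theorem prm (hc : Nat.card W = 27) {H : Subgroup E} {q : ℕ} (hq : q.Prime) (hd : q ∣ Nat.card H) :
    q = 2 ∨ q = 13 ∧ Fix W H = ⊥ := by
  have := Fact.mk hq
  refine or_iff_not_imp_left.2 fun q2 => ?_
  obtain ⟨g, hg⟩ := exists_prime_orderOf_dvd_card' q hd
  rw [← orderOf_coe] at hg
  obtain ⟨a1, a2⟩ := fix13 h3 hf hc q2 (fun e => hE (e ▸ hd.trans (card_subgroup_dvd_card H)))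
    (H := zpowers (g : E)) (IsPGroup.of_card (n := 1) (by rw [Nat.card_zpowers, hg, pow_one]))
    fun e => hq.ne_one (by rw [← hg, zpowers_eq_bot.1 e, orderOf_one])
  exact ⟨a1, eq_bot_iff.2 (a2 ▸ Fix_anti (zpowers_le.2 g.2))⟩

theorem elem (hc : Nat.card W = 27) : ∃ u : W, Nat.card (stabilizer E u) ∣ 2 := by
  have f3 : Fact (Nat.Prime 3) := ⟨by norm_num⟩
  have f13 : Fact (Nat.Prime 13) := ⟨by norm_num⟩
  have hW : IsPGroup 3 W := fun x => ⟨1, h3 x⟩
  have hp : ∀ q : ℕ, q.Prime → q ∣ Nat.card E → q = 2 ∨ q = 13 := fun q hq hd =>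
    (prm hE h3 hf hc (H := ⊤) hq (by rwa [card_top])).imp_right And.left
  by_cases h13 : ¬ 13 ∣ Nat.card E
  · have p2 : IsPGroup 2 E := IsPGroup.iff_card.2 ⟨_, Nat.eq_prime_pow_of_unique_prime_dvd
      Nat.card_pos.ne' fun {q} hq hd => (hp q hq hd).resolve_right fun e => h13 (e ▸ hd)⟩
    obtain ⟨a, a1, ha⟩ : ∃ a : W, a ≠ 1 ∧ ¬ 4 ∣ (stabilizer E a).index := by
      by_contra! h
      have := dvd_orb (H := E) (Z := ({1} : Set W)ᶜ) (k := 4) (fun g a ha => Act.smul_ne_one g ha)
        fun a ha => index_stabilizer E a ▸ h a ha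
      have h1 := Set.ncard_add_ncard_compl ({1} : Set W)
      rw [Set.ncard_singleton, hc] at h1
      omega
    have : (stabilizer E a).Normal := by
      obtain ⟨j, hj⟩ := p2.index (stabilizer E a)
      rcases j with _ | _ | j
      · rw [index_eq_one.1 hj]; infer_instance
      · exact normal_of_index_eq_two hj
      · exact absurd (hj ▸ pow_dvd_pow 2 (show 2 ≤ j + 1 + 1 by omega)) ha
    exact split hE h3 hf hc a a1
  push Not at h13
  have : Nontrivial W := Finite.one_lt_card_iff_nontrivial.1 (by omega)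
  obtain ⟨u, u1⟩ := exists_ne (1 : W)
  have ou : Nat.card (zpowers u) = 3 := by rw [Nat.card_zpowers, orderOf_eq_prime (h3 u) u1]
  have bd : Nat.card E ≤ 26 * 26 * 2 := by
    obtain ⟨b, hb⟩ : ∃ b, b ∉ zpowers u := by
      by_contra! h
      rw [show zpowers u = ⊤ from eq_top_iff.2 fun x _ => h x, card_top] at ou
      omega
    have b1 : b ≠ 1 := fun e => hb (e ▸ one_mem _)
    have ob : Nat.card (zpowers b) = 3 := by rw [Nat.card_zpowers, orderOf_eq_prime (h3 b) b1]
    have a1 := Nat.le_of_dvd two_pos (key2 hE h3 hf hc u1 b1 (disjoint_iff.2 (card_eq_one.1 (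
      ((Nat.dvd_prime f3.out).1 (ob ▸ card_dvd_of_le inf_le_right)).resolve_right fun e =>
        hb ((eq_of_le_of_card_ge inf_le_right (by rw [e, ob])).ge (mem_zpowers b)).1)))
      (H := stabilizer E u ⊓ stabilizer E b) inf_le_left inf_le_right)
    have a2 := relIndex_stabilizer_lt (K := ⊤) (fun _ _ _ => trivial) (mem_top u) u1 (⊤ : Subgroup E)
    have a3 := relIndex_stabilizer_lt (K := ⊤) (fun _ _ _ => trivial) (mem_top b) b1 (stabilizer E u)
    rw [card_top, hc] at a2 a3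
    rw [relIndex_top_right] at a2
    have a4 := card_mul_index (stabilizer E u ⊓ stabilizer E b)
    rw [← relIndex_mul_index (inf_le_left : stabilizer E u ⊓ stabilizer E b ≤ _),
      inf_relIndex_left] at a4
    rw [← a4]
    calc _ ≤ 2 * (26 * 26) := Nat.mul_le_mul a1 (Nat.mul_le_mul (by omega) (by omega))
      _ = _ := rfl
  obtain ⟨P⟩ : Nonempty (Sylow 13 E) := inferInstance
  have a5 : Nat.card (Sylow 13 E) = 1 := by
    have a3 := P.card_dvd_index.trans (index_dvd_card _)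
    have a4 := card_sylow_modEq_one 13 E
    have a6 := Nat.eq_prime_pow_of_unique_prime_dvd (n := Nat.card (Sylow 13 E)) (p := 2)
      Nat.card_pos.ne' fun {q} hq hd => (hp q hq (hd.trans a3)).resolve_right fun e => by
        subst e
        exact absurd ((a4.dvd_iff dvd_rfl).1 hd) (by norm_num)
    have a7 := (Nat.le_of_dvd Nat.card_pos a3).trans bd
    generalize (Nat.card (Sylow 13 E)).primeFactorsList.length = j at a6
    rw [a6] at a4 a7 ⊢
    have : j < 11 := by
      by_contra h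
      have := Nat.pow_le_pow_right two_pos (not_lt.1 h)
      omega
    interval_cases j <;> simp [Nat.ModEq] at a4 ⊢
  have := (Nat.card_eq_one_iff_unique.1 a5).1
  have hN : (P : Subgroup E).Normal := Sylow.normal_of_subsingleton P
  have F : ∀ w ∈ (P : Subgroup E), ∀ x : W, w • x = x → x ≠ 1 → w = 1 := fun w hw x hx x1 => by
    by_contra w1
    have := (fix13 h3 hf hc (q := 13) (by norm_num) (by norm_num) (H := zpowers w)
      (P.isPGroup'.to_le (zpowers_le.2 hw)) (mt zpowers_eq_bot.1 w1)).2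
    exact x1 (mem_bot.1 (this ▸ mem_Fix.2 (show zpowers w ≤ stabilizer E x from zpowers_le.2 hx)))
  obtain ⟨s, hs⟩ := exists_prime_orderOf_dvd_card' (G := P) 13 (P.dvd_card_of_dvd_card h13)
  rw [← orderOf_coe] at hs
  have sP := s.2
  generalize (s : E) = s at hs sP
  refine ⟨u, ?_⟩
  refine (Nat.eq_one_iff_not_exists_prime_dvd.2 fun q hq hd => ?_).dvd.trans (one_dvd 2)
  rcases prm hE h3 hf hc hq hd with rfl | ⟨-, e⟩
  swap
  · exact u1 (mem_bot.1 (e ▸ mem_Fix.2 fun g hg => hg))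
  obtain ⟨t, ht⟩ := exists_prime_orderOf_dvd_card' 2 hd
  rw [← orderOf_coe] at ht
  have tu : (t : E) • u = u := t.2
  generalize (t : E) = t at ht tu
  have tt : t * t = 1 := by rw [← sq, ← ht, pow_orderOf_eq_one]
  have t1 : t ≠ 1 := fun e => by simp [e] at ht
  have ti : t⁻¹ = t := inv_eq_of_mul_eq_one_right tt
  have w1 : t * (s * t * s⁻¹) ≠ 1 := fun e => by
    have c : Commute t s := by
      rw [mul_eq_one_iff_inv_eq, ti, eq_mul_inv_iff_mul_eq] at e
      exact e
    have b3 : ∀ k : zpowers s, ∀ y ∈ XG.Fx W t, k • y ∈ XG.Fx W t := fun k y hy => by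
      obtain ⟨_, i, rfl⟩ := k
      change t • s ^ i • y = s ^ i • y
      rw [smul_smul, (c.zpow_right i).eq, mul_smul, hy]
    have b4 := relIndex_stabilizer_lt b3 tu u1 ⊤
    rw [show stabilizer (zpowers s) u = ⊥ from eq_bot_iff.2 fun k hk => mem_bot.2 (Subtype.ext
      (F k (zpowers_le.2 sP k.2) u hk u1)), relIndex_bot_left, card_top, Nat.card_zpowers, hs] at b4
    have b5 := card_mul_index (XG.Fx W t)
    have b6 : (XG.Fx W t).index ≠ 1 := fun e => t1 (hf t fun x => (index_eq_one.1 e).ge (mem_top x))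
    have b7 : (XG.Fx W t).index ≠ 0 := index_ne_zero_of_finite
    have : 2 ≤ (XG.Fx W t).index := by omega
    nlinarith
  have wP : t * (s * t * s⁻¹) ∈ (P : Subgroup E) := by
    have := mul_mem (hN.conj_mem s sP t) (inv_mem sP)
    rwa [ti, show t * s * t * s⁻¹ = t * (s * t * s⁻¹) by group] at this
  have G : ∀ ε : ℤ, ε * ε = 1 → ∀ S : Subgroup W, (∀ x ∈ S, t • x = x ^ ε) → Nat.card S ≤ 5 :=
    fun ε hε S hS => by
      let φ := MulDistribMulAction.toMonoidHom W s
      have c1 : Nat.card (S.map φ) = Nat.card S := card_map_of_injective (MulAction.injective s)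
      have c2 := index_le_of_disjoint (A := S) (B := S.map φ) (U := ⊤) (disjoint_def.2 fun {x} hx hx' => by
        obtain ⟨y, hy, rfl⟩ := hx'
        by_contra x1
        refine w1 (F _ wP _ ?_ x1)
        change (t * (s * t * s⁻¹)) • s • y = s • y
        rw [mul_smul, mul_smul, mul_smul, inv_smul_smul, hS y hy, smul_zpow', smul_zpow']
        rw [show t • s • y = (s • y) ^ ε from hS _ hx, ← zpow_mul, hε, zpow_one]) le_top le_top
      rw [index_top, c1, hc] at c2
      nlinarith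
  let ψ : W →* W := MulDistribMulAction.toMonoidHom W t / MonoidHom.id W
  have c1 := G 1 rfl ψ.ker fun x hx => by
    rw [zpow_one]; exact div_eq_one.1 hx
  have c2 := G (-1) rfl ψ.range (by
    rintro _ ⟨x, rfl⟩
    change t • (t • x / x) = (t • x / x) ^ (-1 : ℤ)
    rw [smul_div', smul_smul, tt, one_smul, zpow_neg_one, inv_div])
  have c3 := card_mul_index ψ.ker
  rw [index_ker, hc] at c3
  nlinarith

end Thr

variable {E : Type*} [Group E] [Finite E] (hE : ¬ 3 ∣ Nat.card E)
include hE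

/-- PROOF. `⟨z⟩` has index `1`, `3` or `9`. Let `W` not be generated by two elements. Let
`V = {x | x ^ 3 = 1}`, `℧ = {x ^ 3}`, `card W = card V * card ℧`. `card V ≤ 27` as `V ⊓ ⟨z⟩` has at
most `3` elements. If `card V ≤ 9`, `℧` has index `≤ 9` and two elements generating `W` modulo `℧`
generate `W` (if `H ⊔ ℧ = ⊤` then `H ⊔ ℧ᵏ = ⊤` for all `k`); so `card V = 27`, and `E` acts
faithfully on `V` (if `g` fixes `V`, induct on `x ^ 3 ^ j = 1`: `g x = t x` with `t ∈ V`, so
`g ^ 3` fixes `x`). KEY: if a `3'`-element `g` fixes a subgroup `U` of index `3` of `V` pointwise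
and fixes `V / U`, then `g x = t x`, `g ^ 3 = 1`, `g = 1`.
(a) Some line `L = ⟨a⟩ ≤ V` is `E`-invariant. Take an invariant complement `K` (Maschke: the
kernel of the averaged projection, or `S0xxx`/`Solv/Coprime*`; alternatively avoid it: `N` = the
elements fixing `a` has index `≤ 2`, is normal, and `V = Fix N × [V, N]` as in `exists_compl`),
`1 ≠ v ∈ K`, `u = a v`. `E_u` fixes `a` and `v` (`stabilizer_mul`), so it fixes `U = ⟨a, v⟩` of
index `3` and embeds in `Aut (V / U)` of order `2` by KEY.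
(b) No invariant line. `E` acts on the `13` lines (subgroups of order `3` of `V`, or pairs
`{a, a⁻¹}`) without fixed point, so it is not a `2`-group. A prime `q ∣ card E` has
`3 ^ j ≡ 1 [MOD q]`, `1 ≤ j ≤ 3` (`index_fix_modEq`), so `q ∈ {2, 13}`; an element of order `13`
fixes only `1`; stabilizers `E_a`, `a ≠ 1`, are `2`-groups of order `≤ 16` (the orbit of the coset
`b ⟨a⟩`, `b ∉ ⟨a⟩`, has `≤ 8` points, and the stabilizer of `a` and of `b ⟨a⟩` fixes `b`, so has
order `≤ 2` by KEY), orbits have length `≤ 26`, so `card E = 13 * 2 ^ k`, `k ≤ 5`, and the Sylow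
`13`-subgroup `N = ⟨s⟩` is normal. Take any `u ≠ 1` in `V`; claim `E_u = 1`. Otherwise it contains
an involution `t`, and `t s t⁻¹ = s` or `s⁻¹`. In the first case `N` acts on `Fix t` (order `3` or
`9`) and fixes a point `≠ 1`, impossible. In the second case `t` maps the orbits `N u` and `N u⁻¹`
(disjoint, `13` points each, together `V ∖ 1`) to themselves and fixes only `u`, `u⁻¹` there; for
`x ∉ ⟨u⟩`, `y = x * (t x)⁻¹ ≠ 1` has `t y = y⁻¹`, while inversion swaps the two orbits. -/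
theorem ab_three {W : Type*} [CommGroup W] [Finite W] [MulDistribMulAction E W]
    (hW : IsPGroup 3 W) (hf : ∀ a : E, (∀ x : W, a • x = x) → a = 1) {z : W}
    (hc : Nat.card W ≤ 16 * orderOf z) :
    (∃ a b : W, zpowers a ⊔ zpowers b = ⊤) ∨ ∃ u : W, Nat.card (stabilizer E u) ∣ 2 := by
  have f3 : Fact (Nat.Prime 3) := ⟨by norm_num⟩
  set V : Subgroup W := (powMonoidHom 3 : W →* W).ker with hV
  have mV : ∀ x, x ∈ V ↔ x ^ 3 = 1 := fun x => Iff.rfl
  by_cases h9 : Nat.card V ≤ 9
  · refine Or.inl (Thr.gen2 hW ?_)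
    have a1 := card_mul_index V
    have a2 := card_mul_index (powMonoidHom 3 : W →* W).range
    rw [hV, index_ker, ← hV, ← a2, mul_comm] at a1
    exact mul_left_cancel₀ Nat.card_pos.ne' a1 ▸ h9
  obtain ⟨_, act⟩ := Solv.Ext.exists_subAction (A := E) (H := V) fun g x hx => by
    rw [mV] at hx ⊢
    rw [← smul_pow', hx, smul_one]
  have st : ∀ u : V, stabilizer E u = stabilizer E (u : W) := fun u => by
    ext g
    rw [mem_stabilizer_iff, mem_stabilizer_iff, ← act, Subtype.ext_iff]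
  have hf' : ∀ a : E, (∀ x : V, a • x = x) → a = 1 := fun g hg => hf g fun x => by
    obtain ⟨k, hk⟩ := hW x
    induction k generalizing x with
    | zero => rw [show x = 1 by simpa using hk, smul_one]
    | succ k ih =>
      have a1 := ih (x ^ 3) (by rw [← pow_mul, ← pow_succ', hk])
      have a2 : (x⁻¹ * g • x) ^ 3 = 1 := by rw [mul_pow, ← smul_pow', a1]; simp
      exact Thr.diff hE a2 ((act g ⟨_, a2⟩).symm.trans (congrArg Subtype.val (hg _)))
  have c27 : Nat.card V = 27 := by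
    have oz := orderOf_pos z
    have a1 := card_mul_index (zpowers z)
    rw [Nat.card_zpowers] at a1
    have a2 : (zpowers z).index ≤ 9 := by
      obtain ⟨j, hj⟩ := hW.index (zpowers z)
      have : j < 3 := by
        by_contra h
        have := Nat.pow_le_pow_right three_pos (not_lt.1 h)
        nlinarith
      rw [hj]
      exact Nat.pow_le_pow_right three_pos (show j ≤ 2 by omega)
    have a3 := (Nat.le_of_dvd (Nat.pos_of_ne_zero index_ne_zero_of_finite)
      (relIndex_dvd_index_of_normal (zpowers z) V)).trans a2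
    have a4 := card_mul_index ((zpowers z).subgroupOf V)
    have a5 : Nat.card ((zpowers z).subgroupOf V) ≤ 3 := by
      classical
      have := Fintype.ofFinite (zpowers z)
      refine le_trans ?_ (IsCyclic.card_pow_eq_one_le (α := zpowers z) three_pos)
      rw [← Fintype.card_subtype, ← Nat.card_eq_fintype_card]
      exact Nat.card_le_card_of_injective (fun x => ⟨⟨x.1.1, x.2⟩, Subtype.ext x.1.2⟩)
        fun x y h => Subtype.ext (Subtype.ext
          (congrArg (fun t : {a : zpowers z // a ^ 3 = 1} => (t.1 : W)) h))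
    unfold relIndex at a3
    obtain ⟨j, hj⟩ := IsPGroup.iff_card.1 (hW.to_subgroup V)
    have : j ≤ 3 := (Nat.pow_le_pow_iff_right (by norm_num : 1 < 3)).1 (by nlinarith)
    rw [hj] at h9 ⊢
    interval_cases j <;> simp at h9 ⊢
  obtain ⟨u, hu⟩ := Thr.elem hE (fun x : V => Subtype.ext x.2) hf' c27
  exact Or.inr ⟨u, st u ▸ hu⟩

end Cfsg.Agent.Block.K16
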