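import Mathlib
import Cfsg.Agent.Block.RankTools

/-! A bound for the number of height zero characters from a nilpotent major subsection. -/

set_option autoImplicit false
set_option linter.unusedSectionVars false

namespace Cfsg.Agent.Block

open Cfsg Cfsg.Agent.Char Subgroup
open scoped ComplexConjugate

variable {M : Ideal AlgInt} {p : ℕ} [hp : Fact p.Prime]

/-- The linear part of a generalized character of a `p`-group. -/
theorem exists_lin_part (hM : IsPModular p M) {K : Type*} [Group K] [Fintype K]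
    [Fintype (commutator K)] (hK : IsPGroup p K) {F : K → ℂ} (hF : IsGeneralizedCharacter K F) :
    ∃ L, IsGeneralizedCharacter K L ∧ ∀ y, val M (L y - F y) < 1 ∧
      ∑ n : commutator K, F (y * n) = Nat.card (commutator K) * L y := by
  classical
  obtain ⟨a, -, rfl⟩ := hF.exists_coeff
  refine ⟨_, isGen_sum_zsmul_irr fun θ => if commutator K ≤ charKer (θ : K → ℂ) then a θ else 0,
    fun y => ⟨?_, ?_⟩⟩
  · simp only [Finset.sum_apply, ← Finset.sum_sub_distrib, Pi.smul_apply, smul_eq_mul]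
    refine val_sum_lt_one fun θ _ => ?_
    split_ifs with h
    · simp
    · rw [Int.cast_zero, zero_mul, zero_sub, Valuation.map_neg]
      refine val_mul_lt_one_right (val_intCast_le_one _) (val_lt_one_of_sub_lt ?_
        (val_char_sub_pReg_lt_one hM θ.2.isCharacter y))
      obtain ⟨j, hj⟩ := IsPGroup.iff_orderOf.1 hK y
      obtain ⟨m, hm⟩ := IsPGroup.iff_card.1 hK
      obtain ⟨i, -, hi⟩ := (Nat.dvd_prime_pow hp.out).1 (hm ▸ charDegree_dvd_card θ.2)
      rw [pReg_eq_one_iff.2 ⟨j, hj⟩, ← coe_charDegree_irr, val_natCast_lt_one_iff hM, hi]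
      refine dvd_pow_self _ fun h0 => h (commutator_le_charKer_of_one θ.2.isCharacter ?_)
      rw [← coe_charDegree_irr, hi, h0, pow_zero, Nat.cast_one]
  · simp only [Finset.sum_apply, Pi.smul_apply, smul_eq_mul, Finset.mul_sum]
    rw [Finset.sum_comm]
    refine Finset.sum_congr rfl fun θ _ => ?_
    rw [← Finset.mul_sum]
    split_ifs with h
    · rw [Finset.sum_congr rfl fun n _ => apply_mul_of_mem_charKer θ.2.isClassFunction (h n.2) y]
      simp [mul_left_comm]
    · obtain ⟨n, hn, h1⟩ := SetLike.not_le_iff_exists.1 h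
      rw [sum_coset_eq_zero θ.2 _ ⟨n, hn, mt (mem_charKer_irr θ).2 h1⟩]
      simp

variable {G : Type*} [Group G] [Finite G] {B : Set (IrrCharacter G)} {P : Subgroup G}
  {e : MonoidAlgebra (resField M) G}

theorem MP.kz_mul_le (h : MP p B P e) {c : G} (hc : c ∈ P) (hP : P ≤ centralizer ({c} : Set G))
    (hnil : IsNilpotentBlock p M (lblk p P e c)) {S : Set G} {s₀ : G} (h0 : s₀ ∈ S)
    (hS : ∀ s ∈ S, s ∈ P) (h1 : ∀ m : ℕ, m.Coprime (Nat.card P) → ∀ s ∈ S, s ^ m ∈ S)
    (h2 : ∀ s ∈ S, ∀ g ∈ ⁅P, P⁆, s * g ∈ S)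
    (h3 : ∀ s ∈ S, centralizer ({s} : Set G) ≤ centralizer {c})
    (h4 : ∀ s ∈ S, blockRank p (lblk p P e s) = 1) {m : ℕ}
    (h5 : ∀ s ∈ S, p ^ blockDefect p (lblk p P e s) = m)
    (h6 : ∀ s ∈ S, ∃ s', ∀ t, PF p P e s t → t = s ∨ t = s') :
    kz p B * Nat.card (⁅P, P⁆ : Subgroup G) ≤ 2 * m := by
  classical
  have := charP_resField h.hM
  obtain ⟨e', h', he⟩ := h.exists_sub hc hP
  have hI := h'.hm.innerFus_of_nilB ((nilB_gbar_iff h'.hM h'.hB).2 hnil)
  subst he
  set K := P.subgroupOf (centralizer ({c} : Set G)) with hK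
  have := Fintype.ofFinite K
  have := Fintype.ofFinite B
  let ι : K →* G := (centralizer ({c} : Set G)).subtype.comp K.subtype
  have hι : Function.Injective ι := (subtype_injective _).comp (subtype_injective _)
  have hN : (commutator K).map ι = ⁅P, P⁆ := by
    have : (⊤ : Subgroup K).map ι = P := by
      rw [← map_map, map_subtype_top, map_subgroupOf_eq_of_le hP]
    rw [commutator_def, map_commutator, this]
  obtain ⟨ψ, hψ, hψ0⟩ := exists_blockHeight_eq_zero (p := p) (block_nonempty h'.hM h'.hB)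
  choose L hL hL' using fun χ : B => exists_lin_part h.hM h'.pgroup
    (h'.isGen_sctr_of_innerFus hI hψ (χ.1.2.isGen.restrict (centralizer ({c} : Set G))))
  have hr : ∀ y : K, ι y ∈ S → blockRank p (lblk p K e' y) = 1 := fun y hy =>
    (h.rank_sub h' hP (hS _ hy) (h3 _ hy)).trans (h4 _ hy)
  have hF : ∀ (χ : B) (y : K), ι y ∈ S → sctr p (lblk p K e' y) y
      (fun g => (χ.1 : G → ℂ) g) ψ = pd p P (Alg.emb (Subgroup.subtype _) e') (ι y) (χ.1 : G → ℂ) *
        conj (pd p K e' y ψ) := fun χ y hy => by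
    rw [h'.sctr_eq_pd y.2 (hr y hy) (χ.1.2.isGen.restrict _).isClassFunction ψ.2.isClassFunction]
    exact congrArg (· * _) (h.pd_sub h' hP (x := y) (hS _ hy) (h3 _ hy) (h4 _ hy) _)
  have hε : ∀ y : K, ι y ∈ S → pd p K e' y ψ * conj (pd p K e' y ψ) = 1 := fun y hy => by
    rw [← h'.sctr_eq_pd y.2 (hr y hy) ψ.2.isClassFunction ψ.2.isClassFunction]
    exact sctr_eq_one_of_innerFus h'.hM h'.hB h'.hm hI hψ hψ0 rfl (h'.block y.2) (h'.ple y.2)
  have hε' : ∀ y : K, ι y ∈ S → ‖pd p K e' y ψ‖ = 1 := fun y hy => by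
    have h7 := congrArg norm (hε y hy)
    rw [norm_mul, Complex.norm_conj, norm_one] at h7
    exact (mul_self_eq_one_iff.1 h7).resolve_right fun h8 => by
      linarith [norm_nonneg (pd p K e' y ψ)]
  have hmul : ∀ y : K, ι y ∈ S → ∀ n : commutator K, ι (y * n) ∈ S := fun y hy n => by
    rw [map_mul]
    exact h2 _ hy _ (hN ▸ mem_map_of_mem ι n.2)
  set s : Finset K := Finset.univ.filter fun y => ι y ∈ S with hs
  have a1 : ∀ χ : B, blockHeight p B (χ.1 : G → ℂ) = 0 → (s.card : ℝ) ≤ ∑ y ∈ s, ‖L χ y‖ ^ 2 :=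
    fun χ hχ => (hL χ).card_le_sum_norm_sq s (fun j hj y hy => by
      rw [hs, Finset.mem_filter, map_pow]
      exact ⟨Finset.mem_univ _, h1 j (by rwa [← Nat.card_congr (subgroupOfEquivOfLe hP).toEquiv])
        _ (Finset.mem_filter.1 hy).2⟩) fun y hy => by
      have hy' := (Finset.mem_filter.1 hy).2
      refine ne_zero_of_val_eq_one (M := M) (val_eq_one_of_sub_lt ?_ (hL' χ y).1)
      have h7 := h'.isIntegral_pd y.2 ψ.2.isGen
      rw [hF χ y hy', map_mul, h.val_pd_eq_one (hS _ hy') (h4 _ hy') χ.2 hχ, one_mul]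
      exact (val_eq_one_of_mul_eq_one (val_le_one_of_isIntegral h7)
        (val_le_one_of_isIntegral (isIntegral_conj h7)) (by rw [hε y hy', map_one])).2
  have a2 : ∀ y ∈ s, (Nat.card (commutator K) : ℝ) * ∑ χ : B, ‖L χ y‖ ^ 2 ≤ 2 * m := fun y hy => by
    have hy' := (Finset.mem_filter.1 hy).2
    have hN0 : (0 : ℝ) < Nat.card (commutator K) := Nat.cast_pos.2 Nat.card_pos
    refine le_of_mul_le_mul_left ?_ hN0
    have b1 : (((Nat.card (commutator K) : ℝ) * (Nat.card (commutator K) *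
        ∑ χ : B, ‖L χ y‖ ^ 2) : ℝ) : ℂ) = ∑ n : commutator K, ∑ n' : commutator K,
          conj (pd p K e' (y * n : K) ψ) * pd p K e' (y * n' : K) ψ *
          ∑ χ : B, pd p P (Alg.emb (Subgroup.subtype _) e') (ι (y * n)) (χ.1 : G → ℂ) *
            conj (pd p P (Alg.emb (Subgroup.subtype _) e') (ι (y * n')) (χ.1 : G → ℂ)) := by
      have b2 : ∀ χ : B, ((Nat.card (commutator K) : ℝ) * (Nat.card (commutator K) *
          ‖L χ y‖ ^ 2) : ℂ) = (Nat.card (commutator K) * L χ y) *
            conj (Nat.card (commutator K) * L χ y) := fun χ => by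
        rw [map_mul, map_natCast, mul_mul_mul_comm, Complex.mul_conj']
        push_cast
        ring
      push_cast at b2 ⊢
      rw [Finset.mul_sum, Finset.mul_sum]
      simp only [b2, ← (hL' _ y).2, hF _ _ (hmul y hy' _), map_sum (starRingEnd ℂ),
        map_mul (starRingEnd ℂ), Finset.sum_mul_sum, Complex.conj_conj]
      rw [Finset.sum_comm]
      refine Finset.sum_congr rfl fun n _ => ?_
      rw [Finset.sum_comm]
      refine Finset.sum_congr rfl fun n' _ => ?_
      rw [Finset.mul_sum]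
      exact Finset.sum_congr rfl fun χ _ => by push_cast; ring
    refine (le_abs_self _).trans ?_
    rw [← Real.norm_eq_abs, ← Complex.norm_real, b1, Nat.card_eq_fintype_card, ← nsmul_eq_mul]
    refine (norm_sum_le _ _).trans (Finset.sum_le_card_nsmul _ _ _ fun n _ => ?_)
    obtain ⟨s', h7⟩ := h6 _ (hmul y hy' n)
    refine (norm_sum_le _ _).trans ((Finset.sum_le_sum (g := fun n' : commutator K =>
      if ι (y * n') ∈ ({ι (y * n), s'} : Finset G) then (m : ℝ) else 0) fun n' _ => ?_).trans ?_)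
    · rw [norm_mul, norm_mul, Complex.norm_conj, hε' _ (hmul y hy' n), hε' _ (hmul y hy' n'),
        one_mul, one_mul, ← finsum_mem_eq_sum_coe B fun χ => pd p P _ (ι (y * n)) (χ : G → ℂ) *
          conj (pd p P _ (ι (y * n')) (χ : G → ℂ))]
      by_cases h8 : PF p P (Alg.emb (Subgroup.subtype _) e') (ι (y * n)) (ι (y * n'))
      · rw [h.finsum_pd_of_pf h8 (h4 _ (hmul y hy' n)), ← Nat.cast_pow, h5 _ (hmul y hy' n),
          if_pos (by simpa using h7 _ h8), Complex.norm_natCast]
      · rw [h.finsum_pd_of_not_pf (hS _ (hmul y hy' n)) (hS _ (hmul y hy' n')) h8, norm_zero]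
        split_ifs <;> positivity
    · rw [← Finset.sum_filter, Finset.sum_const, nsmul_eq_mul]
      refine mul_le_mul_of_nonneg_right ?_ (Nat.cast_nonneg m)
      exact_mod_cast (Finset.card_le_card_of_injOn (fun n' : commutator K => ι (y * n'))
        (fun n' hn' => (Finset.mem_filter.1 hn').2) fun a _ b _ hab =>
          Subtype.ext (mul_left_cancel (hι hab))).trans Finset.card_le_two
  have a3 : (0 : ℝ) < s.card := Nat.cast_pos.2 (Finset.card_pos.2
    ⟨⟨⟨s₀, hP (hS _ h0)⟩, hS _ h0⟩, Finset.mem_filter.2 ⟨Finset.mem_univ _, h0⟩⟩)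
  have a4 : (kz p B : ℝ) = ∑ χ : B, if blockHeight p B (χ.1 : G → ℂ) = 0 then 1 else 0 := by
    rw [kz, ← Nat.card_congr (Equiv.subtypeSubtypeEquivSubtypeInter (· ∈ B) _),
      Nat.card_eq_fintype_card, Fintype.card_subtype, Finset.card_filter]
    simp
  rw [← hN, card_map_of_injective hι, ← Nat.cast_le (α := ℝ)]
  refine le_of_mul_le_mul_left ?_ a3
  push_cast
  rw [← nsmul_eq_mul s.card (2 * m : ℝ)]
  refine le_trans ?_ (Finset.sum_le_card_nsmul _ _ _ a2)
  rw [← Finset.mul_sum, Finset.sum_comm, a4, ← mul_assoc, mul_comm, Finset.mul_sum]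
  refine mul_le_mul_of_nonneg_left (Finset.sum_le_sum fun χ _ => ?_) (Nat.cast_nonneg _)
  split_ifs with h7
  · simpa using a1 χ h7
  · rw [mul_zero]
    positivity

end Cfsg.Agent.Block
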