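import Mathlib
import Cfsg.Agent.Block.KzLin
import Cfsg.Agent.Block.UDGrp

/-! `2`-blocks whose defect group has an abelian subgroup `C_{2^(n+2)} × C_2` of index two
inverted modulo its involutions: fusion and bounds for `k(B)`. -/

set_option autoImplicit false
set_option linter.unusedSectionVars false

namespace Cfsg.Agent.Block

open Cfsg Cfsg.Agent.Char Subgroup Cfsg.Agent.Block.Alg

variable {G : Type*} [Group G] [Finite G]

namespace UD

variable {P A : Subgroup G} {x u g₀ : G} {n : ℕ} (d : UD P A x u g₀ n) {a b g t : G}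
include d

local notation "v" => x ^ 2 ^ (n + 1)
local notation "τ" => x ^ 2 ^ n
local notation "c" => τ * g₀ * τ⁻¹ * g₀⁻¹

theorem odd_fix {y w : G} (hy : ¬ 2 ∣ orderOf y) (hw : w ∈ A) (h1 : w * w = 1) (h2 : w ≠ 1)
    (h3 : y * w * y⁻¹ = w) (ha : a ∈ A) (ha' : a * a = 1) (h4 : y * a * y⁻¹ ∈ A) :
    y * a * y⁻¹ = a := by
  by_cases e1 : a = 1
  · simp [e1]
  by_cases e2 : a = w
  · rw [e2, h3]
  rcases d.eq_or_eq_mul hw h1 h2 ha ha' h4 (by rw [conj_mul, ha']; simp) e1 e2 (by simpa using e1)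
    (fun h5 => e2 (mul_left_cancel (mul_right_cancel (h5.trans h3.symm)))) with h5 | h5
  · exact h5
  · exact conj_eq_of_odd hy h5 (mul_inv_eq_iff_eq_mul.1 h3) (j := 1) (by rwa [pow_one, sq])

theorem xsq_ne : x * x ≠ 1 := by
  rw [← sq]
  exact pow_ne_one_of_lt_orderOf two_ne_zero (d.ord ▸ Nat.lt_of_lt_of_le (by norm_num)
    (Nat.pow_le_pow_right two_pos (Nat.le_add_left 2 n)))

theorem mem_center_iff' : a ∈ P ⊓ centralizer (P : Set G) ↔ a ∈ A ∧ a * a = 1 := by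
  refine ⟨fun h => ?_, fun h => ⟨d.le h.1, fun g hg => d.central h.1 h.2 hg⟩⟩
  have h1 : a ∈ A := by_contra fun h1 =>
    d.xsq_ne ((d.cen' h.1 h1 d.xA).1 (h.2 x (d.le d.xA)).symm)
  exact ⟨h1, (d.cen a h1).1 (h.2 _ d.gP)⟩

theorem pow_eq_one (ha : a ∈ A) : a ^ 2 ^ (n + 2) = 1 := by
  obtain ⟨y, hy, h⟩ := d.sq_mem ha
  rw [pow_succ', pow_mul, sq, h, ← sq, ← pow_mul, ← pow_succ', ← d.ord]
  exact orderOf_dvd_iff_pow_eq_one.1 (orderOf_dvd_of_mem_zpowers hy)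

theorem comm_sq' (hg : g ∈ P) (hgA : g ∉ A) (ha : a ∈ A) :
    (a * g * a⁻¹ * g⁻¹) ^ 2 = a ^ 4 := by
  have := d.conj_sq hg hgA (inv_mem ha)
  rw [sq, d.comm_sq hg ha, mul_assoc, mul_assoc, ← mul_assoc g, mul_inv_rev, this]
  group

theorem commutator_le' (hg : g ∈ ⁅P, P⁆) : g ∈ A ∧ g ^ 2 ^ (n + 1) = 1 := by
  let A₀ : Subgroup G :=
    { carrier := {a | a ∈ A ∧ a ^ 2 ^ (n + 1) = 1}
      mul_mem' := fun {a b} ha hb => ⟨mul_mem ha.1 hb.1, by
        rw [Commute.mul_pow (d.comm _ ha.1 _ hb.1), ha.2, hb.2, one_mul]⟩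
      one_mem' := ⟨one_mem _, one_pow _⟩
      inv_mem' := fun {a} ha => ⟨inv_mem ha.1, by rw [inv_pow, ha.2, inv_one]⟩ }
  have k1 : ∀ g ∈ P, g ∉ A → ∀ a ∈ A, a * g * a⁻¹ * g⁻¹ ∈ A₀ := fun g hg hgA a ha =>
    ⟨d.comm_mem hg ha, by
      rw [pow_succ', pow_mul, d.comm_sq' hg hgA ha, ← pow_mul, ← d.pow_eq_one ha]
      congr 1
      ring⟩
  have k2 : ∀ g ∈ P, g ∉ A → ∀ a ∈ A, g * a * g⁻¹ * a⁻¹ ∈ A₀ := fun g hg hgA a ha => by
    simpa [mul_assoc] using inv_mem (k1 g hg hgA a ha)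
  refine (commutator_le (H₃ := A₀)).2 (fun g hg g' hg' => ?_) hg
  rw [commutatorElement_def]
  by_cases h : g ∈ A <;> by_cases h' : g' ∈ A
  · rw [d.comm _ h _ h']
    simp
  · exact k1 g' hg' h' g h
  · exact k2 g hg h g' h'
  · have e : g * g' * g⁻¹ * g'⁻¹ = g * (g' * g⁻¹) * g⁻¹ * (g' * g⁻¹)⁻¹ := by group
    exact e ▸ k2 g hg h _ (d.two _ hg' _ (inv_mem hg) h' (mt inv_mem_iff.1 h))

theorem le_card_commutator (hn : n ≠ 0) : 2 ^ (n + 1) ≤ Nat.card (⁅P, P⁆ : Subgroup G) := by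
  have h1 : x * g₀ * x⁻¹ * g₀⁻¹ ∈ ⁅P, P⁆ := commutator_mem_commutator (d.le d.xA) d.gP
  refine le_trans (le_of_eq ?_) (card_le_of_le (zpowers_le.2 h1))
  obtain ⟨m, rfl⟩ : ∃ m, n = m + 1 := ⟨n - 1, by omega⟩
  rw [Nat.card_zpowers, orderOf_eq_prime_pow _ (d.commutator_le' h1).2]
  rw [pow_succ', pow_mul, d.comm_sq' d.gP d.gA d.xA, ← pow_mul]
  refine fun h => d.v_ne (Eq.trans ?_ h)
  congr 1
  ring

variable {M : Ideal AlgInt} {B : Set (IrrCharacter G)} {e : MonoidAlgebra (resField M) G}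
  (h : MP 2 B P e)
include h

omit d in
theorem pf_sq (h1 : PF 2 P e a b) : PF 2 P e (a * a) (b * b) := by
  simpa only [sq] using h.pf_pow h1 2

theorem nf (ha : a ∈ A) (ha' : a * a = 1) (h1 : PF 2 P e a b) (hb : b ∈ A) : b = a := by
  obtain ⟨g, rfl, h2⟩ := h.fm_ext_center h1
    (d.le_centralizer hb ((pf_sq h h1).eq_one_iff.1 ha'))
  rw [inf_eq_left.2 (d.le_centralizer ha ha')] at h2
  have hN : normalizer (P : Set G) ≤
      normalizer ((P ⊓ centralizer (P : Set G) : Subgroup G) : Set G) :=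
    (le_inf le_rfl (normalizer_le_normalizer_centralizer P)).trans
      inf_normalizer_le_normalizer_inf
  obtain ⟨b, hb, h3⟩ := h.exists_of_normal h2 (mem_normalizer_fintype fun _ => h2.mem)
    le_normalizer inf_le_left hN fun y hy ho z hz => by
      have h3 := d.mem_center_iff'.1 hz
      exact (mul_inv_eq_iff_eq_mul.1 (d.odd_fix ho d.cA d.csq d.c_ne (d.conj_c hy) h3.1 h3.2
        (d.mem_center_iff'.1 ((mem_normalizer_iff.1 (hN hy) z).1 hz)).1)).symm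
  rw [h3 a (d.mem_center_iff'.2 ⟨ha, ha'⟩), d.central ha ha' hb, mul_inv_cancel_right]

theorem pf_mem (ha : a ∈ A) (ha' : a * a ≠ 1) (h1 : PF 2 P e a t) : t ∈ A := by_contra fun ht => by
  have h2 := pf_sq h h1
  have h3 := d.out_sq h1.right ht
  rw [d.sq_eq_v ha ha' ((pf_sq h h2).eq_one_iff.2 h3.2)] at h2
  exact d.sqne t h1.right ht (d.nf h d.vA d.vsq h2 h3.1)

theorem card_inf (ha : a ∈ A) (ha' : a * a ≠ 1) (h1 : PF 2 P e a t) :
    P ⊓ centralizer {t} = A :=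
  d.inf_centralizer (d.pf_mem h ha ha' h1) (mt (pf_sq h h1).eq_one_iff.2 ha')

theorem fc (ha : a ∈ A) (ha' : a * a ≠ 1) (w : G) (h1 : PF 2 P e a w) :
    Nat.card (P ⊓ centralizer ({w} : Set G) : Subgroup G) ≤
      Nat.card (P ⊓ centralizer ({a} : Set G) : Subgroup G) := by
  rw [d.card_inf h ha ha' h1, d.inf_centralizer ha ha']

theorem rank_a (ha : a ∈ A) (ha' : a * a ≠ 1) : blockRank 2 (lblk 2 P e a) = 1 := by
  refine blockRank_eq_one_of_nilpotent h.hM (h.nilpotent_local (d.le ha) (d.fc h ha ha')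
    fun Q hQ y hy hN ho => ?_)
  rw [d.inf_centralizer ha ha'] at hQ
  have h1 := fun q hq => hQ ((mem_normalizer_iff.1 hN q).1 hq)
  obtain ⟨m, hm⟩ := d.exists_pow_eq_v ha ha'
  exact mem_centralizer_of_index_two h.pgroup d.comm d.two (hQ.trans d.le) ho hN
    (fun q hq _ => h1 q hq) fun q hq hq' hq'' => d.odd_fix ho d.vA d.vsq d.v_ne (by
      rw [← hm, ← conj_pow, mem_centralizer_singleton_iff.1 hy, mul_inv_cancel_right]) hq' hq''
      (h1 q hq)

theorem defect_a (ha : a ∈ A) (ha' : a * a ≠ 1) :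
    2 ^ blockDefect 2 (lblk 2 P e a) = 2 ^ (n + 3) := by
  rw [h.pow_defect_local (d.le ha) (d.fc h ha ha'), d.inf_centralizer ha ha', d.card_A]

theorem pf_a (ha : a ∈ A) (ha' : a * a ≠ 1) (h1 : PF 2 P e a t) : t = a ∨ t = g₀ * a * g₀⁻¹ := by
  have ht := d.pf_mem h ha ha' h1
  obtain ⟨g, rfl, h2⟩ := h.fm_ext_cent h1 (d.fc h ht (mt (pf_sq h h1).eq_one_iff.2 ha'))
  rw [d.inf_centralizer ha ha'] at h2
  obtain ⟨b, hb, h3⟩ := h.exists_of_normal h2 (mem_normalizer_fintype fun q hq =>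
    (d.card_inf h ha ha' h1).le ⟨h2.mem hq, mem_centralizer_singleton_iff.2 (by
      rw [conj_mul, conj_mul, d.comm _ hq _ ha])⟩)
    (fun y hy => mem_normalizer_fintype fun q hq => d.conj_mem hy hq) le_rfl le_rfl
    fun y hy ho => by
      have h3 := fun q => (mem_normalizer_iff.1 hy q).1
      have h4 : y * τ * y⁻¹ * (y * τ * y⁻¹) = y * v * y⁻¹ := by rw [conj_mul, tsq]
      exact mem_centralizer_of_index_two h.pgroup d.comm d.two d.le ho hy (fun q hq _ => h3 q hq)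
        fun q hq _ hq' => d.odd_fix ho d.vA d.vsq d.v_ne (h4 ▸ d.sq_eq_v (h3 _ d.tA)
          (by simpa [h4] using d.v_ne) (by rw [h4, conj_mul, d.vsq]; simp)) hq hq' (h3 q hq)
  rw [h3 a ha]
  by_cases h4 : b ∈ A
  exacts [Or.inl (d.conj_self ha h4), Or.inr (d.conj_eq hb h4 ha)]

theorem rank_of_not_pf (h0 : ∀ t ∉ A, ∀ a ∈ A, ¬ PF 2 P e a t) : blockRank 2 B = 1 :=
  h.rank_eq_one_of_fm fun _ _ h1 hN ho => by
    have h2 := fun q hq hq' => of_not_not fun h2 => h0 _ h2 q hq' (h.fm_pf h1 hq)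
    exact mem_centralizer_of_index_two h.pgroup d.comm d.two h1.le ho hN h2
      fun q hq hq' hq'' => d.nf h hq' hq'' (h.fm_pf h1 hq) (h2 q hq hq')

theorem not_fm {Q : Subgroup G} (h1 : FM 2 P e g Q) (hc : c ∈ Q) (ht : t ∈ Q) (htA : t ∉ A)
    (h2 : g * c * g⁻¹ ∈ centralizer (P : Set G)) (h3 : g * t * g⁻¹ ∈ centralizer (P : Set G)) :
    False := by
  have h4 : zpowers c ⊔ zpowers t ≤ (centralizer (P : Set G)).comap (cm g) :=
    sup_le (zpowers_le.2 h2) (zpowers_le.2 h3)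
  have h5 : zpowers c ⊔ zpowers t ≤ (zpowers c ⊔ zpowers t).comap (cm τ) :=
    sup_le (zpowers_le.2 (by
      rw [mem_comap, cm_apply, d.conj_self d.cA d.tA]
      exact mem_sup_left (mem_zpowers _))) (zpowers_le.2 (by
      rw [mem_comap, cm_apply, mul_inv_eq_iff_eq_mul.1 (d.comm_t (h1.le ht) htA)]
      exact mul_mem_sup (mem_zpowers _) (mem_zpowers _)))
  have h6 := h.fm_center (h.fm_mono h1 (sup_le (zpowers_le.2 hc) (zpowers_le.2 ht)))
    (fun q hq => h4 hq) (d.le d.tA) (fun q hq => h5 hq) (mem_sup_right (mem_zpowers t))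
  exact d.v_ne (tsq.symm.trans ((d.cen' (h1.le ht) htA d.tA).1 h6.symm))

theorem nil_c : IsNilpotentBlock 2 M (lblk 2 P e c) := by
  refine h.nilpotent_of_fm (d.le d.cA) (d.le_centralizer d.cA d.csq) fun Q y hc hy h1 hN ho => ?_
  have h2 : ∀ q ∈ Q, q ∈ A → y * q * y⁻¹ ∈ A := fun q hq hq' => by
    by_cases h2 : q * q = 1
    · have h3 := h1.inv
      rw [map_cm_eq_iff.2 hN] at h3
      refine of_not_not fun h4 => d.not_fm h h3 hc ((mem_normalizer_iff.1 hN q).1 hq) h4 ?_ ?_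
      · rw [mem_centralizer_singleton_iff.1 (inv_mem hy), mul_inv_cancel_right]
        exact (d.mem_center_iff'.2 ⟨d.cA, d.csq⟩).2
      · simpa [mul_assoc] using (d.mem_center_iff'.2 ⟨hq', h2⟩).2
    · exact d.pf_mem h hq' h2 (h.fm_pf h1 hq)
  exact mem_centralizer_of_index_two h.pgroup d.comm d.two h1.le ho hN h2
    fun q hq hq' hq'' => d.nf h hq' hq'' (h.fm_pf h1 hq) (h2 q hq hq')

theorem kz_le : kz 2 B ≤ 8 := by
  by_cases hn : n = 0
  · subst hn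
    exact h.kz_le_of_fc (d.le d.xA) (by rw [d.ord]; norm_num) fun w hw => by
      rw [d.card_inf h d.xA d.xsq_ne hw, d.card_A]; norm_num
  have hs : ∀ s ∈ {a | a ∈ A ∧ a ^ 2 ^ (n + 1) ≠ 1}, s * s ≠ 1 := fun s hs h1 =>
    hs.2 (by rw [pow_succ', pow_mul, sq, h1, one_pow])
  have h1 := h.kz_mul_le (d.le d.vA) (d.le_centralizer d.vA d.vsq) (d.c_eq_v hn ▸ d.nil_c h)
    (S := {a | a ∈ A ∧ a ^ 2 ^ (n + 1) ≠ 1}) (s₀ := x) ⟨d.xA, d.v_ne⟩ (fun s hs => d.le hs.1)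
    (fun m hm s hs => ⟨pow_mem hs.1 m, fun h1 => hs.2 (by
      rw [← pow_mul, mul_comm, pow_mul] at h1
      exact orderOf_eq_one_iff.1 (Nat.eq_one_of_dvd_coprimes hm (orderOf_dvd_of_pow_eq_one h1)
        (orderOf_dvd_natCard _ (pow_mem (d.le hs.1) _))))⟩)
    (fun s hs g hg => ⟨mul_mem hs.1 (d.commutator_le' hg).1, by
      rw [Commute.mul_pow (d.comm _ hs.1 _ (d.commutator_le' hg).1), (d.commutator_le' hg).2,
        mul_one]
      exact hs.2⟩)
    (fun s hs' y hy => by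
      obtain ⟨m, hm⟩ := d.exists_pow_eq_v hs'.1 (hs s hs')
      rw [← hm]
      exact mem_centralizer_singleton_iff.2
        (Commute.pow_right (mem_centralizer_singleton_iff.1 hy) m))
    (fun s hs' => d.rank_a h hs'.1 (hs s hs')) (fun s hs' => d.defect_a h hs'.1 (hs s hs'))
    fun s hs' => ⟨_, fun t => d.pf_a h hs'.1 (hs s hs')⟩
  refine Nat.le_of_mul_le_mul_right ((Nat.mul_le_mul_left _ (d.le_card_commutator hn)).trans
    (h1.trans (le_of_eq ?_))) (Nat.two_pow_pos _)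
  ring

theorem card_le : Nat.card B ≤ 2 ^ (n + 2) + 6 := by
  have h1 := h.four_mul_card_le (d.le d.cA) (orderOf_eq_prime (by rw [sq, d.csq]) d.c_ne)
    (d.le_centralizer d.cA d.csq) (blockRank_eq_one_of_nilpotent h.hM (d.nil_c h))
  have h2 := d.kz_le h
  rw [d.card_P, show 2 ^ (n + 4) = 4 * 2 ^ (n + 2) by ring] at h1
  omega

theorem rank_add_le {R : Finset G} (hR : ∀ r ∈ R, r ∈ P ∧ r ∉ A ∧ ∀ a ∈ A, ¬ PF 2 P e a r)
    (hR' : ∀ r ∈ R, ∀ r' ∈ R, PF 2 P e r r' → r = r') :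
    blockRank 2 B + blockRank 2 (lblk 2 P e v) + blockRank 2 (lblk 2 P e u) +
      blockRank 2 (lblk 2 P e (u * v)) + R.card ≤ 8 := by
  classical
  have := Fintype.ofFinite G
  have hΩ : ∀ a, a ∈ ({1, v, u, u * v} : Finset G) ↔ a ∈ A ∧ a * a = 1 := fun a =>
    ⟨fun ha => by
      simp only [Finset.mem_insert, Finset.mem_singleton] at ha
      rcases ha with rfl | rfl | rfl | rfl
      exacts [⟨one_mem _, one_mul _⟩, ⟨d.vA, d.vsq⟩, ⟨d.uA, d.usq⟩,
        ⟨mul_mem d.uA d.vA, by rw [d.mul_sq d.uA d.vA, d.usq, d.vsq, one_mul]⟩],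
    fun ha => by simpa using d.omega ha.1 ha.2⟩
  have hv : v ∈ zpowers x := pow_mem (mem_zpowers x) _
  have hsum : ∀ F : G → ℕ, ∑ r ∈ ({1, v, u, u * v} : Finset G), F r =
      F 1 + F v + F u + F (u * v) := fun F => by
    have a1 : u ≠ 1 := fun h => d.unot (h ▸ one_mem _)
    have a2 : u ≠ v := fun h => d.unot (h ▸ hv)
    have a3 : u * v ≠ 1 := fun h => d.uv_not (h ▸ one_mem _)
    rw [Finset.sum_insert (by simp [d.v_ne.symm, a1.symm, a3.symm]),
      Finset.sum_insert (by simp [a1, a2.symm]), Finset.sum_pair (by simp [d.v_ne])]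
    ring
  have hdis : Disjoint ({1, v, u, u * v} : Finset G) R :=
    Finset.disjoint_left.2 fun a ha ha' => (hR a ha').2.1 ((hΩ a).1 ha).1
  have h1 := h.sum_rank_le (R := {1, v, u, u * v} ∪ R)
    (S := Finset.univ.filter (· ∈ A) \ {1, v, u, u * v}) (fun r hr => ?_)
    (fun s hs => d.le (by simpa using (Finset.mem_sdiff.1 hs).1)) (fun r hr r' hr' h1 => ?_)
    (fun r hr s hs h1 => ?_) fun s hs => ?_
  · have h2 := Finset.card_nsmul_le_sum R (fun r => blockRank 2 (lblk 2 P e r)) 1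
      fun r hr => blockRank_pos h.hM (h.block (hR r hr).1)
    have h3 := Finset.card_sdiff_add_card_eq_card (s := {1, v, u, u * v})
      (t := Finset.univ.filter (· ∈ A)) fun a ha => by simpa using ((hΩ a).1 ha).1
    have h4 := d.card_le h
    rw [← Fintype.card_subtype, ← Nat.card_eq_fintype_card, d.card_A,
      Finset.card_eq_sum_ones {1, v, u, u * v}, hsum,
      show 2 ^ (n + 3) = 2 * 2 ^ (n + 2) by ring] at h3
    rw [Finset.sum_union hdis, hsum, h.rank_one] at h1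
    rw [smul_eq_mul] at h2
    omega
  · exact (Finset.mem_union.1 hr).elim (fun h => d.le ((hΩ r).1 h).1) fun h => (hR r h).1
  · rcases Finset.mem_union.1 hr with a1 | a1 <;> rcases Finset.mem_union.1 hr' with a2 | a2
    · exact (d.nf h ((hΩ r).1 a1).1 ((hΩ r).1 a1).2 h1 ((hΩ r').1 a2).1).symm
    · exact absurd h1 ((hR r' a2).2.2 _ ((hΩ r).1 a1).1)
    · exact absurd h1.symm ((hR r a1).2.2 _ ((hΩ r').1 a2).1)
    · exact hR' r a1 r' a2 h1
  · obtain ⟨a1, a2⟩ := Finset.mem_sdiff.1 hs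
    have a3 : s ∈ A := by simpa using a1
    rcases Finset.mem_union.1 hr with a4 | a4
    · exact a2 ((hΩ s).2 ⟨a3, (pf_sq h h1).eq_one_iff.2 ((hΩ r).1 a4).2⟩)
    · exact (hR r a4).2.2 s a3 h1
  · obtain ⟨a1, a2⟩ := Finset.mem_sdiff.1 hs
    have a3 : s ∈ A := by simpa using a1
    exact ⟨_, fun t _ => d.pf_a h a3 fun a4 => a2 ((hΩ s).2 ⟨a3, a4⟩)⟩

theorem rank_le_of_order_four (hg : g ∈ P) (hgA : g ∉ A) (h1 : g * g ≠ 1) :
    blockRank 2 B ≤ 3 := by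
  classical
  have k1 : ∀ g ∈ P, g ∉ A → g * g ≠ 1 → ∀ a ∈ A, ¬ PF 2 P e a g := fun g _ hgA h1 a ha h2 =>
    hgA (d.pf_mem h ha (mt (pf_sq h h2).eq_one_iff.1 h1) h2)
  have k2 : ¬ PF 2 P e g g⁻¹ := fun h2 => by
    obtain ⟨w, h3, b, hb, h4⟩ := h.exists_inverted h2
    have hw := h3.right
    have hwA : w ∉ A := fun h5 => k1 g hg hgA h1 w h5 h3.symm
    have h5 := d.out_sq hw hwA
    have e1 : b * w * b⁻¹ * w⁻¹ = w * w := by
      rw [h4, ← mul_inv_rev, inv_eq_of_mul_eq_one_right h5.2]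
    exact d.sq_ne_c hw hwA (e1 ▸ d.comm_eq_c' hb hw
      (e1 ▸ mt (pf_sq h h3).eq_one_iff.2 h1) (e1 ▸ h5.2))
  have h2 : g⁻¹ * g⁻¹ ≠ 1 := by rwa [← mul_inv_rev, Ne, inv_eq_one]
  have h3 := d.rank_add_le h (R := {g, g⁻¹}) (fun r hr => ?_) fun r hr r' hr' h3 => ?_
  · rw [Finset.card_pair fun h4 => h1 (mul_eq_one_iff_eq_inv.2 h4)] at h3
    have := blockRank_pos h.hM (h.block (d.le d.vA))
    have := blockRank_pos h.hM (h.block (d.le d.uA))
    have := blockRank_pos h.hM (h.block (d.le (mul_mem d.uA d.vA)))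
    omega
  · simp only [Finset.mem_insert, Finset.mem_singleton] at hr
    rcases hr with rfl | rfl
    · exact ⟨hg, hgA, k1 _ hg hgA h1⟩
    · exact ⟨inv_mem hg, mt inv_mem_iff.1 hgA, k1 _ (inv_mem hg) (mt inv_mem_iff.1 hgA) h2⟩
  · simp only [Finset.mem_insert, Finset.mem_singleton] at hr hr'
    rcases hr with rfl | rfl <;> rcases hr' with rfl | rfl
    exacts [rfl, absurd h3 k2, absurd h3.symm k2, rfl]

end UD

end Cfsg.Agent.Block
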