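import Mathlib
import Cfsg.Agent.Block.UDBlk
import Cfsg.Agent.Block.DihData

/-! `2`-blocks whose defect group has an abelian subgroup `C_{2^(n+2)} × C_2` of index two
inverted modulo its involutions have at most three Brauer characters. -/

set_option autoImplicit false
set_option linter.unusedSectionVars false

namespace Cfsg.Agent.Block

open Cfsg Cfsg.Agent.Char Subgroup Cfsg.Agent.Block.Alg Cfsg.Agent.Inv

variable {G : Type*} [Group G] [Finite G]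

namespace UD

variable {P A : Subgroup G} {x u g₀ : G} {n : ℕ} (d : UD P A x u g₀ n) {a b g t : G}
include d

local notation "v" => x ^ 2 ^ (n + 1)

omit d in
/-- The parity of an element outside the abelian subgroup. -/
def Par (A : Subgroup G) (x g₀ : G) (k : ℕ) (t : G) : Prop :=
  ∃ i : ℕ, ∃ o ∈ A, o * o = 1 ∧ t = o * (x ^ (k + 2 * i) * g₀)

theorem par_cases (ht : t ∈ P) (htA : t ∉ A) : Par A x g₀ 0 t ∨ Par A x g₀ 1 t := by
  have h1 := d.two t ht _ (inv_mem d.gP) htA (mt inv_mem_iff.1 d.gA)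
  obtain ⟨o, ho, ho', i, h2⟩ : ∃ o ∈ A, o * o = 1 ∧ ∃ i : ℕ, t = o * (x ^ i * g₀) := by
    rcases d.gen _ h1 with h2 | h2 <;> obtain ⟨i, hi⟩ := exists_pow_of_mem h2
    · exact ⟨1, one_mem _, one_mul _, i, by rw [← hi]; group⟩
    · exact ⟨u, d.uA, d.usq, i, by
        rw [← hi, d.comm _ h1 _ d.uA, ← mul_assoc, ← mul_assoc, d.usq]; group⟩
  rcases Nat.even_or_odd' i with ⟨j, rfl | rfl⟩
  exacts [Or.inl ⟨j, o, ho, ho', by rwa [zero_add]⟩, Or.inr ⟨j, o, ho, ho', by rwa [add_comm]⟩]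

theorem par_mul {k : ℕ} (h1 : Par A x g₀ k t) (ha : a ∈ A) (ha' : a * a = 1) :
    Par A x g₀ k (a * t) := by
  obtain ⟨i, o, ho, ho', rfl⟩ := h1
  exact ⟨i, a * o, mul_mem ha ho, by rw [d.mul_sq ha ho, ha', ho', one_mul], (mul_assoc _ _ _).symm⟩

variable (hall : ∀ g ∈ P, g ∉ A → g * g = 1)
include hall

theorem conj_inv (ha : a ∈ A) : g₀ * a * g₀⁻¹ = a⁻¹ := by
  have h1 := hall _ (mul_mem (d.le ha) d.gP) (d.mul_notMem ha d.gA)
  rw [inv_eq_of_mul_eq_one_right (hall _ d.gP d.gA), eq_inv_iff_mul_eq_one,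
    mul_eq_one_comm, ← h1]
  group

theorem c_eq_v' : x ^ 2 ^ n * g₀ * (x ^ 2 ^ n)⁻¹ * g₀⁻¹ = v := by
  rw [mul_assoc, mul_assoc, ← mul_assoc g₀, d.conj_inv hall (inv_mem d.tA), inv_inv, tsq]

variable {M : Ideal AlgInt} {B : Set (IrrCharacter G)} {e : MonoidAlgebra (resField M) G}
  (h : MP 2 B P e)
include h

theorem key (htA : t ∉ A) (ha : a ∈ A) (h1 : PF 2 P e a t) :
    ∃ w, (w = u ∨ w = u * v) ∧ ∃ t', (t' = t ∨ t' = w * t) ∧ ∃ g ∈ centralizer ({w} : Set G),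
      FM 2 P e g (zpowers w ⊔ zpowers t') ∧ g * t' * g⁻¹ = v := by
  have ht := h1.right
  have ha' : a * a = 1 := of_not_not fun h2 => htA (d.pf_mem h ha h2 h1)
  obtain ⟨g, hg, h2⟩ := h.fm_ext_center h1.symm (d.le_centralizer ha ha')
  have hm : ∀ w ∈ A, w * w = 1 → w ∈ P ⊓ centralizer {t} := fun w hw hw' =>
    ⟨d.le hw, mem_centralizer_singleton_iff.2 (d.central hw hw' ht).symm⟩
  have htm : t ∈ P ⊓ centralizer {t} := ⟨ht, mem_centralizer_singleton_iff.2 rfl⟩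
  have huv : u * v * (u * v) = 1 := by rw [d.mul_sq d.uA d.vA, d.usq, d.vsq, one_mul]
  have h3 : g * v * g⁻¹ ∉ A := fun h3 => d.not_fm h h2 (hm _ d.cA d.csq) htm htA
    (d.c_eq_v' hall ▸ (d.mem_center_iff'.2 ⟨h3, by rw [conj_mul, d.vsq]; simp⟩).2)
    (hg ▸ (d.mem_center_iff'.2 ⟨ha, ha'⟩).2)
  obtain ⟨w, hw, hwA, hw', hwx, h4⟩ : ∃ w, (w = u ∨ w = u * v) ∧ w ∈ A ∧ w * w = 1 ∧
      w ∉ zpowers x ∧ g * w * g⁻¹ ∈ A := by
    by_cases h4 : g * u * g⁻¹ ∈ A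
    · exact ⟨u, Or.inl rfl, d.uA, d.usq, d.unot, h4⟩
    · exact ⟨_, Or.inr rfl, mul_mem d.uA d.vA, huv, d.uv_not, by
        rw [← conj_mul]
        exact d.two _ (h2.mem (hm _ d.uA d.usq)) _ (h2.mem (hm _ d.vA d.vsq)) h4 h3⟩
  have h5 := d.nf h hwA hw' (h.fm_pf h2 (hm w hwA hw')) h4
  have h6 : ∀ t' ∈ P ⊓ centralizer {t}, FM 2 P e g (zpowers w ⊔ zpowers t') := fun t' ht' =>
    h.fm_mono h2 (sup_le (zpowers_le.2 (hm w hwA hw')) (zpowers_le.2 ht'))
  have h7 := mem_centralizer_singleton_iff.2 (mul_inv_eq_iff_eq_mul.1 h5)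
  rcases d.eq_or_eq_mul hwA hw' (fun h8 => hwx (h8 ▸ one_mem _)) d.vA d.vsq ha ha' d.v_ne
    (fun h8 => hwx (h8 ▸ pow_mem (mem_zpowers x) _))
    (fun h8 => htA (h1.eq_one_iff.1 h8 ▸ one_mem _)) (fun h8 => htA (by
      rw [h8, ← h5] at hg
      exact mul_left_cancel (mul_right_cancel hg) ▸ hwA)) with h8 | h8
  · exact ⟨w, hw, t, Or.inl rfl, g, h7, h6 t htm, hg.trans h8⟩
  · exact ⟨w, hw, _, Or.inr rfl, g, h7, h6 _ (mul_mem (hm w hwA hw') htm), by
      rw [← conj_mul, h5, hg, h8, ← mul_assoc, hw', one_mul]⟩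

theorem drank : ∃ l : ℕ → ℕ, blockRank 2 (lblk 2 P e u) + l 0 + l 1 = 3 ∧ (∀ k, l k ≤ 1) ∧
    ∀ k ≤ 1, ∀ t, Par A x g₀ k t → ∀ g ∈ centralizer ({u} : Set G),
      FM 2 P e g (zpowers u ⊔ zpowers t) → g * t * g⁻¹ = v → l k = 0 := by
  classical
  have hP := d.le_centralizer d.uA d.usq
  obtain ⟨e', h', he⟩ := h.exists_sub (d.le d.uA) hP
  obtain ⟨f, h'', hf⟩ := h'.exists_quot_fm (zpowers_cself_le u) (zpowers_le.2 (d.le d.uA))
  have := Fintype.ofFinite (centralizer ({u} : Set G) ⧸ zpowers (cself u))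
  have hr := rank_domSet_cself h.hM (h.order (d.le d.uA)) (h.block (d.le d.uA))
  set π := QuotientGroup.mk' (zpowers (cself u))
  have hk : ∀ y, π y = 1 ↔ (y : G) = 1 ∨ (y : G) = u := fun y => by
    refine (QuotientGroup.eq_one_iff y).trans ⟨fun hy => ?_, fun hy => ?_⟩
    · obtain ⟨i, rfl⟩ := exists_pow_of_mem hy
      exact (pow_of_sq_eq_one d.usq i).imp And.right And.right
    · rcases hy with hy | hy
      exacts [(Subtype.ext hy : y = 1) ▸ one_mem _, (Subtype.ext hy : y = cself u) ▸ mem_zpowers _]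
  let x' : centralizer ({u} : Set G) := ⟨x, hP (d.le d.xA)⟩
  let g' : centralizer ({u} : Set G) := ⟨g₀, hP d.gP⟩
  have hA : ∀ y : centralizer ({u} : Set G), (y : G) ∈ A → π y ∈ zpowers (π x') := fun y hy => by
    rcases d.gen _ hy with h2 | h2 <;> obtain ⟨i, hi⟩ := exists_pow_of_mem h2
    · rw [(Subtype.ext hi : y = x' ^ i), map_pow]
      exact pow_mem (mem_zpowers _) i
    · rw [← mul_one (π y), ← (hk (cself u)).2 (Or.inr rfl), ← map_mul,
        (Subtype.ext hi : y * cself u = x' ^ i), map_pow]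
      exact pow_mem (mem_zpowers _) i
  obtain ⟨γ, hx, hg⟩ := exists_cycExt' (S := (P.subgroupOf _).map π) (x := π x') (y := π g')
    (N := 2 ^ (n + 1 + 1)) (ρ := -1) (τ := 0) (orderOf_eq_prime_pow (by
      rw [← map_pow, hk]
      exact not_or.2 ⟨d.v_ne, fun h1 => d.unot (h1 ▸ pow_mem (mem_zpowers x) _)⟩) (by
      rw [← map_pow, hk]
      exact Or.inl (d.pow_eq_one d.xA))) (-1) 0 (by simp) (by simp)
    (by rw [zpow_neg_one, ← map_inv, ← map_inv, ← map_mul, ← map_mul]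
        exact congrArg π (Subtype.ext (d.conj_inv hall d.xA)))
    (by rw [zpow_zero, ← map_mul, hk]; exact Or.inl (hall _ d.gP d.gA))
    (fun h1 => by
      obtain ⟨i, hi⟩ := exists_pow_of_mem h1
      rw [← map_pow, ← mul_inv_eq_one, ← map_inv, ← map_mul, hk] at hi
      refine d.gA ((mul_mem_cancel_right (inv_mem (pow_mem d.xA i))).1 ?_)
      rcases hi with hi | hi
      exacts [(hi.symm ▸ one_mem A :), (hi.symm ▸ d.uA :)])
    (le_antisymm (by
      rintro _ ⟨y, hy, rfl⟩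
      have h1 : zpowers (π x') ≤ closure {π x', π g'} := zpowers_le.2 (subset_closure (by simp))
      by_cases h2 : (y : G) ∈ A
      · exact h1 (hA y h2)
      · rw [← inv_mul_cancel_right y g', map_mul]
        exact mul_mem (h1 (hA _ (d.two _ hy _ (inv_mem d.gP) h2 (mt inv_mem_iff.1 d.gA))))
          (subset_closure (by simp))) ((closure_le _).2 (Set.pair_subset ⟨_, d.le d.xA, rfl⟩
        ⟨_, d.gP, rfl⟩)))
  have := Fintype.ofFinite (domSet π (QuotientGroup.mk'_surjective _) (lblk 2 P e u))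
  have h1 := (Dih.main γ h'').1
  have h2 := Tame.card_eq γ Dih.hρ h''
  rw [Dih.rank_r' γ h'' Tame.h_ne_zero, h1, hr] at h2
  refine ⟨fun k => if (if k = 0 then Tame.U0 γ f else Tame.U1 γ f) then 1 else 0, by
    simp only [if_true, one_ne_zero, if_false]; omega, fun k => by
    dsimp only; split_ifs <;> simp, fun k hk1 t ⟨i, o, ho, ho', ht⟩ g hgu h3 h4 => ?_⟩
  have htP : t ∈ P := h3.le (mem_sup_right (mem_zpowers t))
  have h5 := h''.fm_pf (hf _ _ (zpowers_le.2 (mem_sup_left (mem_zpowers u) :))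
    (h.fm_sub he h' hP (g := ⟨g, hgu⟩) h3 (centralizer_le (Set.singleton_subset_iff.2
      (mem_sup_left (mem_zpowers u)))))) (u := π ⟨t, hP htP⟩)
    ⟨_, (mem_sup_right (mem_zpowers t) :), rfl⟩
  have hv : π (x' ^ 2 ^ (n + 1)) = γ.r (2 * 2 ^ n) := by
    rw [map_pow, ← hx, γ.r_pow]; congr 1; push_cast; ring
  rw [← map_inv, ← map_mul, ← map_mul, (Subtype.ext h4 : (⟨g, hgu⟩ * ⟨t, hP htP⟩ * ⟨g, hgu⟩⁻¹ :
    centralizer ({u} : Set G)) = x' ^ 2 ^ (n + 1)), hv] at h5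
  obtain ⟨j, hj⟩ : ∃ j, π ⟨o, hP (d.le ho)⟩ = γ.r (2 * j) := by
    have hu := (hk (cself u)).2 (Or.inr rfl)
    rcases d.omega ho ho' with rfl | rfl | rfl | rfl
    · exact ⟨0, by rw [mul_zero, γ.r_zero]; exact map_one π⟩
    · exact ⟨_, hv⟩
    · exact ⟨0, by simpa using hu⟩
    · exact ⟨2 ^ n, (map_mul π (cself u) (x' ^ 2 ^ (n + 1))).trans (by rw [hu, one_mul, hv])⟩
  obtain ⟨m, hm⟩ := Tame.exists_conj_s γ Dih.hρ k (j + i)
  have h6 : π ⟨t, hP htP⟩ = γ.s (k + 2 * (j + i)) := by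
    rw [(Subtype.ext ht : (⟨t, hP htP⟩ : centralizer ({u} : Set G)) =
      ⟨o, hP (d.le ho)⟩ * (x' ^ (k + 2 * i) * g')), map_mul, map_mul,
      map_pow, hj, ← hx, ← hg, γ.r_pow, γ.r_mul_s, γ.r_mul_s]
    congr 1; push_cast; ring
  have h7 := h''.pf_trans (h''.pf_conj (γ.s_mem k) (γ.r_mem m)) (hm ▸ h6 ▸ h5)
  interval_cases k
  · exact if_neg fun h8 => h8 _ (by simpa using h7)
  · exact if_neg fun h8 => h8.1 _ (by simpa using h7)

omit hall in
theorem rank_le_three : blockRank 2 B ≤ 3 := by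
  by_cases hall : ∀ g ∈ P, g ∉ A → g * g = 1
  swap
  · push Not at hall
    obtain ⟨g, hg, hgA, h1⟩ := hall
    exact d.rank_le_of_order_four h hg hgA h1
  have huv : u * v * (u * v) = 1 := by rw [d.mul_sq d.uA d.vA, d.usq, d.vsq, one_mul]
  obtain ⟨l, a1, a2, a3⟩ := d.drank hall h
  obtain ⟨l', b1, b2, b3⟩ := (d.swap (mul_mem d.uA d.vA) huv d.uv_not).drank hall h
  have hv := blockRank_pos h.hM (h.block (d.le d.vA))
  have hk : ∀ k ≤ 1, (∃ t ∉ A, Par A x g₀ k t ∧ ∃ a ∈ A, PF 2 P e a t) → l k + l' k ≤ 1 := by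
    rintro k hk ⟨t, htA, h1, a, ha, h2⟩
    have := a2 k
    have := b2 k
    obtain ⟨w, rfl | rfl, t', h3, g, hg, h4, h5⟩ := d.key hall h htA ha h2
    · have := a3 k hk t' (by
        rcases h3 with rfl | rfl
        exacts [h1, d.par_mul h1 d.uA d.usq]) g hg h4 h5
      omega
    · have := b3 k hk t' (by
        rcases h3 with rfl | rfl
        exacts [h1, d.par_mul h1 (mul_mem d.uA d.vA) huv]) g hg h4 h5
      omega
  have hR : ∀ k, ¬ (∃ t ∉ A, Par A x g₀ k t ∧ ∃ a ∈ A, PF 2 P e a t) → blockRank 2 B +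
      blockRank 2 (lblk 2 P e v) + blockRank 2 (lblk 2 P e u) +
      blockRank 2 (lblk 2 P e (u * v)) + 1 ≤ 8 := fun k hk =>
    d.rank_add_le h (R := {x ^ k * g₀}) (fun r hr => by
      obtain rfl := Finset.mem_singleton.1 hr
      have h1 := d.mul_notMem (pow_mem d.xA k) d.gA
      exact ⟨mul_mem (pow_mem (d.le d.xA) k) d.gP, h1, fun a ha h2 =>
        hk ⟨_, h1, ⟨0, 1, one_mem _, one_mul _, by simp⟩, a, ha, h2⟩⟩) (by simp)
  have h0 := d.rank_add_le h (R := ∅) (by simp) (by simp)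
  rw [Finset.card_empty] at h0
  have := a2 0
  have := a2 1
  have := b2 0
  have := b2 1
  by_cases c0 : ∃ t ∉ A, Par A x g₀ 0 t ∧ ∃ a ∈ A, PF 2 P e a t <;>
    by_cases c1 : ∃ t ∉ A, Par A x g₀ 1 t ∧ ∃ a ∈ A, PF 2 P e a t
  · have := hk 0 zero_le_one c0
    have := hk 1 le_rfl c1
    omega
  · have := hk 0 zero_le_one c0
    have := hR 1 c1
    omega
  · have := hk 1 le_rfl c1
    have := hR 0 c0
    omega
  · exact (d.rank_of_not_pf h fun t htA a ha h1 => (d.par_cases h1.right htA).elim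
      (fun h2 => c0 ⟨t, htA, h2, a, ha, h1⟩) fun h2 => c1 ⟨t, htA, h2, a, ha, h1⟩).trans_le
      (by norm_num)

end UD

end Cfsg.Agent.Block
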