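import Mathlib
import Cfsg.Agent.Block.K16Star
import Cfsg.Agent.Block.K16Act
import Cfsg.Agent.Block.K16Three
import Cfsg.Agent.Block.K16Grp
import Cfsg.Agent.Block.KBound
import Cfsg.Agent.S4539
import Cfsg.Agent.S4544

/-! The bound `k(B) ≤ |D|` when `D` has a central cyclic subgroup of index at most `16`. -/

set_option autoImplicit false
set_option linter.unusedSectionVars false
set_option linter.style.haveILetI false

namespace Cfsg.Agent.Block

open Cfsg Cfsg.Agent.Char Subgroup Cfsg.Agent.Block.Alg K16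

theorem K16.free_nine {E W D : Type*} [Group E] [Finite E] [CommGroup W] [Finite W]
    [MulDistribMulAction E W] [Group D] (hE : ¬ 3 ∣ Nat.card E) (hW : Nat.card W = 9)
    (hf : ∀ a : E, (∀ x : W, a • x = x) → a = 1) {π : D →* W} (hπ : Function.Surjective π)
    {z : D} (hz : z ∈ center D) (hk : π.ker = zpowers z) (hL : Lifts E π z)
    (hn : ∃ a b : D, a * b ≠ b * a) (g : E) (x : W) (hx : x ≠ 1) (h : g • x = x) : g = 1 := by
  obtain ⟨x, rfl⟩ := hπ x
  obtain ⟨α, h1, h2⟩ := hL g
  have hc : ∀ a b, π a = π b → a⁻¹ * b ∈ zpowers z := fun a b e => hk ▸ (π.eq_iff.1 e.symm)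
  have hZ := zpowers_le.2 hz
  have h3 : ∀ H : Subgroup W, H ≠ ⊥ → H ≠ ⊤ → Nat.card H = 3 := fun H a1 a2 => by
    have a3 := card_subgroup_dvd_card H
    have a4 := mt card_eq_one.1 a1
    have a5 := mt (eq_top_of_card_eq H) a2
    rw [hW] at a3 a5
    have := Nat.le_of_dvd (by norm_num) a3
    generalize Nat.card H = n at *
    interval_cases n <;> simp_all
  have h4 : x ∉ center D := fun h4 => by
    obtain ⟨a, b, h5⟩ := hn
    have : Fact (Nat.Prime 3) := ⟨Nat.prime_three⟩
    have : IsCyclic (W ⧸ zpowers (π x)) := isCyclic_of_card_dvd_prime (p := 3) (by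
      by_cases h6 : zpowers (π x) = ⊤
      · rw [← index_eq_card, h6, index_top]; exact one_dvd _
      have h7 := card_mul_index (zpowers (π x))
      rw [h3 _ (mt zpowers_eq_bot.1 hx) h6, hW] at h7
      rw [← index_eq_card, show (zpowers (π x)).index = 3 by omega])
    refine h5 ((((QuotientGroup.mk' (zpowers (π x))).comp
      π).isMulCommutative_of_isCyclic_of_ker_le_center fun d hd => ?_).is_comm.comm a b)
    obtain ⟨k, h6⟩ := (QuotientGroup.eq_one_iff _).1 hd
    rw [← mul_inv_cancel_left (x ^ k) d]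
    exact mul_mem (zpow_mem h4 k) (hZ (hc _ _ ((map_zpow π x k).trans h6)))
  have h5 : zpowers (π x) ≤ (centralizer {x}).map π :=
    zpowers_le.2 ⟨x, mem_centralizer_singleton_iff.2 rfl, rfl⟩
  have h6 : (centralizer {x}).map π ≠ ⊤ := fun h6 => h4 (mem_center_iff.2 fun d => by
    obtain ⟨c, h7, h8⟩ := h6.ge (mem_top (π d))
    rw [← mul_inv_cancel_left c d]
    exact mem_centralizer_singleton_iff.1 (mul_mem h7 (center_le_centralizer _ (hZ (hc _ _ h8)))))
  have h7 := eq_of_le_of_card_ge h5 (by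
    rw [h3 _ (mt zpowers_eq_bot.1 hx) fun e => h6 (top_le_iff.1 (e ▸ h5)),
      h3 _ (fun e => hx (zpowers_eq_bot.1 (le_bot_iff.1 (e ▸ h5)))) h6])
  have h8 : ∀ w : W, w⁻¹ * g • w ∈ zpowers (π x) := fun w => by
    obtain ⟨d, rfl⟩ := hπ w
    refine h7.ge ⟨d⁻¹ * α d, mem_centralizer_singleton_iff.2 ?_, by rw [map_mul, map_inv, h2]⟩
    have a1 := mem_center_iff.1 (hZ (hc x (α x) (by rw [h2, h]))) (α d)
    obtain ⟨k, a2⟩ := hc x (d * x * d⁻¹) (by simp)
    have a3 := congrArg α a2
    simp only [map_zpow, h1, map_mul, map_inv] at a2 a3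
    calc d⁻¹ * α d * x = d⁻¹ * (α d * α x * (α d)⁻¹) * (α d * (x⁻¹ * α x)⁻¹) := by group
      _ = d⁻¹ * (α x * ((α x)⁻¹ * (α d * α x * (α d)⁻¹))) * ((x⁻¹ * α x)⁻¹ * α d) := by
        rw [(show Commute (α d) _ from a1).inv_right.eq]; group
      _ = d⁻¹ * (α x * (z ^ k * (x⁻¹ * α x)⁻¹)) * α d := by rw [← a3]; group
      _ = d⁻¹ * (x * z ^ k) * α d := by
        rw [(show Commute _ (z ^ k) from mem_center_iff.1 (zpow_mem hz k) _).symm.eq]; group
      _ = _ := by rw [a2]; group
  have h9 : g ^ 9 = 1 := hf _ fun w => by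
    obtain ⟨k, a1⟩ := h8 w
    have a2 : ∀ n : ℕ, g ^ n • w = w * (π x ^ k) ^ n := fun n => by
      induction n with
      | zero => simp
      | succ n ih =>
        rw [pow_succ', mul_smul, ih, smul_mul', smul_pow', smul_zpow', h, pow_succ',
          ← mul_assoc, show π x ^ k = w⁻¹ * g • w from a1, mul_inv_cancel_left]
    rw [a2, ← hW, pow_card_eq_one', mul_one]
  exact orderOf_eq_one_iff.1 (Nat.eq_one_of_dvd_coprimes
    (((Nat.prime_three.coprime_iff_not_dvd).2 hE).pow_left 2)
    (orderOf_dvd_of_pow_eq_one h9) (orderOf_dvd_natCard g))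

variable {G : Type*} [Group G] [Finite G] {M : Ideal AlgInt} {p : ℕ} [hp : Fact p.Prime]
  {B : Set (IrrCharacter G)} {P : Subgroup G} {e : MonoidAlgebra (resField M) G} {z : P}

theorem le_cent_of_center (hz : z ∈ center P) : P ≤ centralizer {(z : G)} := fun x hx =>
  mem_centralizer_singleton_iff.2 (congrArg Subtype.val (mem_center_iff.1 hz ⟨x, hx⟩))

theorem order_mul_card_range {X : Type*} [Group X] {π : P →* X} (hk : π.ker = zpowers z) :
    orderOf z * Nat.card π.range = Nat.card P := by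
  rw [← card_mul_index π.ker, index_ker, hk, Nat.card_zpowers]

theorem MP.card_le_of_two (h : MP p B P e) (hz : z ∈ center P)
    (hl : blockRank p (dblk p P e z) ≤ 2) : Nat.card B ≤ Nat.card P := by
  have hP := le_cent_of_center hz
  obtain ⟨e', h', -⟩ := h.exists_sub z.2 hP
  rw [rank_domSet_cself h.hM (h.order z.2) (h.block z.2)] at hl
  exact h.card ▸ S4539.result p M h.hM B h.hB P h.isDefectGroup z z.2
    (fun d hd => mem_centralizer_singleton_iff.1 (hP hd)) _ (h.ind z.2) h'.isDefectGroup hl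

theorem MP.card_le_of_three (h : MP 2 B P e) (hz : z ∈ center P)
    (hl : blockRank 2 (dblk 2 P e z) ≤ 3) : Nat.card B ≤ Nat.card P := by
  have hP := le_cent_of_center hz
  obtain ⟨e', h', -⟩ := h.exists_sub z.2 hP
  rw [rank_domSet_cself h.hM (h.order z.2) (h.block z.2)] at hl
  obtain ⟨h3, h4⟩ := S4540.result M h.hM B h.hB P h.isDefectGroup z z.2
    (fun d hd => mem_centralizer_singleton_iff.1 (hP hd)) _ (h.ind z.2) h'.isDefectGroup hl
  rw [h.card]
  omega

theorem MP.card_le_two_comm (h : MP 2 B P e) (hab : P ≤ centralizer (P : Set G))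
    (hc : Nat.card P ≤ 16 * orderOf z) : Nat.card B ≤ Nat.card P := by
  letI : CommGroup P := { (inferInstance : Group P) with mul_comm := comm_of_le_centralizer hab }
  obtain ⟨u, h2⟩ := ab_two (W := P) (odd_of_not_dvd (h.not_dvd_card_nrho hab)) h.pgroup
    (fun a ha => Subtype.ext (MulEquiv.ext ha)) hc
  have hu : u ∈ center P := mem_center_iff.2 fun x => mul_comm x u
  obtain ⟨Q, f, h3, h4, h5, h6⟩ := h.exists_subquot hab u.2
  rw [← card_stabilizer_nrho] at h6
  refine (le_or_gt _ 3).elim (h.card_le_of_three hu) fun hl => ?_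
  rcases h2 with h2 | ⟨h1, h2, h7⟩
  · exact absurd (rank_le_of_inI_dvd Nat.prime_three _ h3 h4 rfl (h6.trans h2)) hl.not_ge
  have h8 : 2 ≤ orderOf (u : G) := by
    have := orderOf_pos (u : G)
    have := mt orderOf_eq_one_iff.1 fun e => h1 (Subtype.ext e)
    omega
  exact h5 ▸ h.card_le_of_cov u.2 (le_cent_of_center hu)
    (h3.cov_five h4 (by nlinarith) (h6.trans h2) hl)

theorem MP.card_le_two_quot (h : MP 2 B P e) (hn : ∃ a b : P, a * b ≠ b * a) (hz : z ∈ center P)
    (hd : ∀ a b : P, a * b * a⁻¹ * b⁻¹ ∈ zpowers z)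
    (hc : Nat.card P ≤ 16 * orderOf z ∨ Big z) : Nat.card B ≤ Nat.card P := by
  obtain ⟨π, f, h1, h2, h3⟩ := h.exists_lifts hz
  have hab : π.range ≤ centralizer (π.range : Set _) := by
    rintro _ ⟨a, rfl⟩ _ ⟨b, rfl⟩
    have h4 : π _ = 1 := h2.ge (hd b a)
    rwa [map_mul, map_mul, map_mul, map_inv, map_inv, mul_inv_eq_one, mul_inv_eq_iff_eq_mul] at h4
  letI : CommGroup π.range :=
    { (inferInstance : Group π.range) with mul_comm := comm_of_le_centralizer hab }
  have hE := odd_of_not_dvd (h1.not_dvd_card_nrho hab)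
  have hf : ∀ a : (nrho π.range f).range, (∀ x : π.range, a • x = x) → a = 1 :=
    fun a ha => Subtype.ext (MulEquiv.ext ha)
  have h4 := π.ker_rangeRestrict.trans h2
  have h5 := order_mul_card_range h2
  refine (le_or_gt _ 3).elim (h.card_le_of_three hz) fun hl => ?_
  have h6 : ¬ Nat.card (nrho π.range f).range ∣ 3 := fun h6 =>
    hl.not_ge (rank_le_of_inI_dvd Nat.prime_three _ h1 hab rfl (by rwa [← card_nrho]))
  replace hc := hc.resolve_right fun h7 =>
    h6 (big_three hE h1.pgroup hf π.rangeRestrict_surjective h4 (lifts_nrho h3) h7)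
  have h7 : Nat.card π.range ≤ 16 := by
    rw [← h5, mul_comm] at hc
    exact Nat.le_of_mul_le_mul_right hc (orderOf_pos z)
  rw [← h5, ← orderOf_coe]
  refine h.card_le_of_cov z.2 (le_cent_of_center hz) ?_
  rcases cls16 hE h1.pgroup hf h7 (not_seven hE h1.pgroup hf h.pgroup π.rangeRestrict_surjective
    hz h4 (lifts_nrho h3) h7 hn) with h8 | h8 | ⟨h8, h9, h10⟩ | ⟨V₁, V₂, d⟩
  · exact absurd h8 h6
  · exact h1.cov_five hab h7 (by rwa [← card_nrho]) hl
  · exact h1.cov_free hab (free_of_nrho h10) (Or.inl (by rw [← card_nrho, h8, h9]))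
  · exact h1.cov_nine hab d hl

theorem comm_or (P : Subgroup G) : P ≤ centralizer (P : Set G) ∨ ∃ a b : P, a * b ≠ b * a := by
  by_contra! h
  exact h.1 fun a ha b hb => congrArg Subtype.val (h.2 ⟨b, hb⟩ ⟨a, ha⟩)

theorem MP.card_le_two (h : MP 2 B P e) (hz : z ∈ center P) (hc : Nat.card P ≤ 16 * orderOf z) :
    Nat.card B ≤ Nat.card P := by
  rcases comm_or P with hab | hn
  · exact h.card_le_two_comm hab hc
  obtain ⟨π, f, h1, h2, h3⟩ := h.exists_lifts hz
  have h4 : Nat.card π.range ≤ 16 := by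
    have h5 := hc
    rw [← order_mul_card_range h2, mul_comm] at h5
    exact Nat.le_of_mul_le_mul_right h5 (orderOf_pos z)
  rcases grp16 h1.pgroup h4 with h5 | h5 | ⟨w, d⟩
  · refine h.card_le_two_quot hn hz (fun a b => h2.le ?_) (Or.inl hc)
    rw [MonoidHom.mem_ker, map_mul, map_mul, map_mul, h5 _ ⟨a, rfl⟩ _ ⟨b, rfl⟩]
    simp
  · exact h.card_le_of_three hz (S4544.rank_le h1 h5)
  by_cases h5 : ∀ s ∈ nst ⊤ π.range f, ¬ 2 ∣ orderOf s → s ∈ centralizer (π.range : Set _)
  · refine h.card_le_of_three hz ((h1.rank_eq_one_of_centric fun R a1 a2 x a3 a4 a5 => ?_).trans_le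
      (by omega))
    by_cases a6 : R = π.range
    · subst a6
      have := charP_resField h.hM
      exact h5 x (h1.mem_nst_of_fm (PLE.refl h1.hm.of.pair) a3 a4) a5
    · exact d.centric a1 a6 a2 a4 a5
  push Not at h5
  obtain ⟨s, a1, a2, a3⟩ := h5
  obtain ⟨α, a4, a5⟩ := h3 s a1
  obtain ⟨w', a6, a7, a8⟩ := qp_lift h.pgroup hz h2 d a4 a2 a5 a3
  exact h.card_le_two_quot hn a6 a7 a8

theorem MP.card_le_three (h : MP 3 B P e) (hz : z ∈ center P)
    (hc : Nat.card P ≤ 16 * orderOf z) : Nat.card B ≤ Nat.card P := by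
  rcases comm_or P with hab | hn
  · letI : CommGroup P := { (inferInstance : Group P) with mul_comm := comm_of_le_centralizer hab }
    rcases ab_three (W := P) (h.not_dvd_card_nrho hab) h.pgroup
      (fun a ha => Subtype.ext (MulEquiv.ext ha)) hc with ⟨a, b, h1⟩ | ⟨u, h1⟩
    · exact (card_le_of_two_gen h.hM h.hB h.isDefectGroup
        (mem_center_iff.2 fun x => mul_comm x a) h1).1
    obtain ⟨Q, f, h3, h4, h5, h6⟩ := h.exists_subquot hab u.2
    exact h.card_le_of_two (mem_center_iff.2 fun x => mul_comm x u)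
      (rank_le_of_inI_dvd Nat.prime_two _ h3 h4 rfl ((card_stabilizer_nrho u ▸ h6).trans h1))
  obtain ⟨π, f, h1, h2, h3⟩ := h.exists_lifts hz
  have h4 := π.ker_rangeRestrict.trans h2
  have h5 := order_mul_card_range h2
  have h6 : Nat.card π.range = 3 ^ 2 := by
    rw [← h5, mul_comm] at hc
    have h6 := Nat.le_of_mul_le_mul_right hc (orderOf_pos z)
    obtain ⟨n, h7⟩ := IsPGroup.iff_card.1 h1.pgroup
    have h8 : n < 3 := (Nat.pow_lt_pow_iff_right (by norm_num : 1 < 3)).1 (by omega)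
    refine by_contra fun h9 => ?_
    have : IsCyclic π.range := isCyclic_of_card_dvd_prime (p := 3) (by
      rw [h7] at h9 ⊢
      interval_cases n <;> simp at h9 ⊢)
    obtain ⟨a, b, h10⟩ := hn
    exact h10 ((π.rangeRestrict.isMulCommutative_of_isCyclic_of_ker_le_center
      (h4 ▸ zpowers_le.2 hz)).is_comm.comm a b)
  have hab : π.range ≤ centralizer (π.range : Set _) := fun a ha b hb => congrArg Subtype.val
    ((IsPGroup.isMulCommutative_of_card_eq_prime_sq h6).is_comm.comm ⟨b, hb⟩ ⟨a, ha⟩)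
  letI : CommGroup π.range :=
    { (inferInstance : Group π.range) with mul_comm := comm_of_le_centralizer hab }
  have hf := free_of_nrho (free_nine (h1.not_dvd_card_nrho hab) h6
    (fun a ha => Subtype.ext (MulEquiv.ext ha)) π.rangeRestrict_surjective hz h4 (lifts_nrho h3) hn)
  refine (le_or_gt _ 2).elim (h.card_le_of_two hz) fun hl => ?_
  have h7 := (h1.frobenius_count hab hf ((one_lt_card_iff_ne_bot _).1 (by omega)) rfl).2.1
  have := Fintype.ofFinite π.range
  have h8 := card_dorbs_mul (MP.free_nrho hf) (comm_of_le_centralizer hab)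
  rw [index_ker_nrho, h6] at h8
  rw [← h5, ← orderOf_coe]
  refine h.card_le_of_cov z.2 (le_cent_of_center hz) (h1.cov_free hab hf ?_)
  have h9 : inI π.range f ∣ 8 := Dvd.intro_left _ (Nat.add_right_cancel h8)
  have h10 := Nat.le_of_dvd (by norm_num) h9
  rw [← inI] at h7
  rw [h6]
  generalize inI π.range f = n at *
  interval_cases n <;> omega

theorem MP.card_le_of_center (h : MP p B P e) (hz : z ∈ center P)
    (hc : Nat.card P ≤ 16 * orderOf z) : Nat.card B ≤ Nat.card P := by
  by_cases h2 : p = 2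
  · subst h2
    exact h.card_le_two hz hc
  by_cases h3 : p = 3
  · subst h3
    exact h.card_le_three hz hc
  have h5 := hp.out.five_le_of_ne_two_of_ne_three h2 h3
  have : (zpowers z).Normal := ⟨fun n hn g => by
    rwa [mem_center_iff.1 (zpowers_le.2 hz hn) g, mul_inv_cancel_right]⟩
  have : IsCyclic (P ⧸ zpowers z) := isCyclic_of_card_dvd_prime (p := p) (by
    obtain ⟨n, h6⟩ := h.pgroup.index (zpowers z)
    rw [← card_mul_index (zpowers z), Nat.card_zpowers, mul_comm] at hc
    have h7 := Nat.le_of_mul_le_mul_right hc (orderOf_pos z)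
    rw [← index_eq_card, h6]
    refine (pow_dvd_pow p (not_lt.1 fun h8 => ?_)).trans (pow_one p).dvd
    have := Nat.pow_le_pow_right hp.out.pos h8
    nlinarith)
  obtain ⟨w, hw⟩ := IsCyclic.exists_generator (α := P ⧸ zpowers z)
  obtain ⟨w, rfl⟩ := QuotientGroup.mk_surjective w
  refine (card_le_of_two_gen h.hM h.hB h.isDefectGroup hz (w := w) (eq_top_iff.2 fun x _ => ?_)).1
  obtain ⟨k, hk⟩ := hw x
  rw [← mul_inv_cancel_left (w ^ k) x]
  exact mul_mem (mem_sup_right (zpow_mem (mem_zpowers w) k))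
    (mem_sup_left (QuotientGroup.eq.1 hk))

end Cfsg.Agent.Block
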