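import Mathlib
import Cfsg.Agent.Class.Singer
import Cfsg.Agent.Grp.AutCard
import Cfsg.Agent.Inv.Count
import Cfsg.Agent.S3430

/-! Transitive linear groups in which all non-identity elements with "cyclic centraliser" are
conjugate, on a space whose number of nonzero vectors is a sum of two squares. -/

set_option autoImplicit false
set_option linter.unusedSectionVars false
set_option linter.style.haveILetI false

namespace Cfsg.Agent.Block
open Subgroup Polynomial

/-- every element commuting with `g` lies with `g` in a cyclic subgroup -/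
def CycCent {X : Type*} [Group X] (g : X) : Prop :=
  ∀ h, Commute g h → ∃ a, g ∈ zpowers a ∧ h ∈ zpowers a

theorem cycCent_one {X : Type*} [Group X] : CycCent (1 : X) :=
  fun h _ => ⟨h, one_mem _, mem_zpowers h⟩

theorem cycCent_of_isCyclic {X : Type*} [Group X] {g u : X}
    (hc : IsCyclic (centralizer ({u} : Set X))) (hu : u ∈ zpowers g) : CycCent g := by
  intro h hgh
  obtain ⟨a, ha⟩ := hc.exists_generator
  obtain ⟨k, rfl⟩ := hu
  have key : ∀ y, Commute g y → y ∈ zpowers (a : X) := fun y hy => by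
    have hy' : y ∈ centralizer ({g ^ k} : Set X) :=
      mem_centralizer_singleton_iff.2 (hy.zpow_left k).symm.eq
    obtain ⟨m, hm⟩ := ha ⟨y, hy'⟩
    exact ⟨m, congrArg Subtype.val hm⟩
  exact ⟨a, key g (Commute.refl g), key h hgh⟩

theorem CycCent.conj {X : Type*} [Group X] {g g' : X} (h : CycCent g) (e : IsConj g g') :
    CycCent g' := by
  obtain ⟨x, rfl⟩ := isConj_iff.1 e
  intro y hy
  obtain ⟨a, ⟨m, hm⟩, ⟨n, hn⟩⟩ := h (x⁻¹ * y * x) (by
    have := hy.eq
    show g * (x⁻¹ * y * x) = x⁻¹ * y * x * g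
    calc g * (x⁻¹ * y * x) = x⁻¹ * (x * g * x⁻¹ * y) * x := by group
      _ = x⁻¹ * y * x * g := by rw [this]; group)
  refine ⟨x * a * x⁻¹, ⟨m, ?_⟩, ⟨n, ?_⟩⟩
  · simp only at hm ⊢
    rw [conj_zpow, hm]
  · simp only at hn ⊢
    rw [conj_zpow, hn]; group

section Lin
variable {F W : Type*} [Field F] [AddCommGroup W] [Module F W]

/-- `g` acts irreducibly -/
def IrrOn (g : (Module.End F W)ˣ) : Prop :=
  ∀ U : Submodule F W, (∀ x ∈ U, (g : Module.End F W) x ∈ U) → U = ⊥ ∨ U = ⊤

theorem IrrOn.of_pow {g : (Module.End F W)ˣ} {k : ℕ} (h : IrrOn (g ^ k)) : IrrOn g := by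
  intro U hU
  refine h U ?_
  clear h
  induction k with
  | zero => exact fun x hx => hx
  | succ m ih =>
    intro y hy
    rw [pow_succ, Units.val_mul, Module.End.mul_apply]
    exact ih _ (hU y hy)

theorem IrrOn.isDomain [Nontrivial W] {g : (Module.End F W)ˣ} (h : IrrOn g) :
    IsDomain (Subalgebra.centralizer F ({(g : Module.End F W)} : Set (Module.End F W))) := by
  have key : ∀ a : Subalgebra.centralizer F ({(g : Module.End F W)} : Set (Module.End F W)),
      a ≠ 0 → Function.Injective (a : Module.End F W) := fun a ha => by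
    have hc : (g : Module.End F W) * a = a * g := a.2 _ rfl
    rcases h (LinearMap.ker (a : Module.End F W)) (fun x hx => by
      rw [LinearMap.mem_ker] at hx ⊢
      rw [← Module.End.mul_apply, ← hc, Module.End.mul_apply, hx, map_zero]) with h0 | h0
    · exact LinearMap.ker_eq_bot.1 h0
    · exact absurd (Subtype.ext (LinearMap.ker_eq_top.1 h0)) ha
  haveI : NoZeroDivisors
      (Subalgebra.centralizer F ({(g : Module.End F W)} : Set (Module.End F W))) := ⟨fun {a b} e => by
    by_cases ha : a = 0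
    · exact Or.inl ha
    · refine Or.inr (Subtype.ext (LinearMap.ext fun x => key a ha ?_))
      have := congrArg (fun c : Subalgebra.centralizer F
        ({(g : Module.End F W)} : Set (Module.End F W)) => (c : Module.End F W) x) e
      simpa using this⟩
  exact NoZeroDivisors.to_isDomain _

variable [Finite W] [Nontrivial W]

theorem IrrOn.isCyclic {E : Subgroup (Module.End F W)ˣ} {g : E} (h : IrrOn g.1) :
    IsCyclic (centralizer ({g} : Set E)) := by
  haveI : Finite (Module.End F W) := Finite.of_injective _ DFunLike.coe_injective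
  haveI := h.isDomain
  letI := (Finite.isDomain_to_isField
    (Subalgebra.centralizer F ({(g.1 : Module.End F W)} : Set (Module.End F W)))).toField
  let f : centralizer ({g} : Set E) →*
      Subalgebra.centralizer F ({(g.1 : Module.End F W)} : Set (Module.End F W)) :=
    { toFun := fun x => ⟨(x.1.1 : Module.End F W), fun y hy => by
        rw [Set.mem_singleton_iff.1 hy]
        have := x.2 g rfl
        exact congrArg (fun z : E => (z.1 : Module.End F W)) this⟩
      map_one' := rfl
      map_mul' := fun _ _ => rfl }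
  exact isCyclic_of_injective_ringHom f fun x y e =>
    Subtype.ext (Subtype.ext (Units.ext (congrArg Subtype.val e)))

theorem IrrOn.cycCent {E : Subgroup (Module.End F W)ˣ} {g : E} (h : IrrOn g.1) : CycCent g :=
  cycCent_of_isCyclic h.isCyclic (mem_zpowers g)

omit [Finite W] [Nontrivial W] in
theorem aeval_units_conj {A : Type*} [Ring A] [Algebra F A] (x : Aˣ) (a : A) (f : F[X]) :
    aeval ((x : A) * a * ↑x⁻¹) f = x * aeval a f * ↑x⁻¹ := by
  induction f using Polynomial.induction_on' with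
  | add f g hf hg => simp only [map_add, hf, hg, mul_add, add_mul]
  | monomial n c =>
    simp only [aeval_monomial, Units.conj_pow]
    rw [← mul_assoc, ← mul_assoc, ← mul_assoc, Algebra.commutes c (x : A)]

theorem IrrOn.orderOf_le {g : (Module.End F W)ˣ} (h : IrrOn g)
    (hc : ∀ i, 0 < i → i < orderOf g → IsConj g (g ^ i)) :
    orderOf g ≤ Module.finrank F W + 1 := by
  classical
  haveI : Finite (Module.End F W) := Finite.of_injective _ DFunLike.coe_injective
  haveI : Module.Finite F W := Module.Finite.of_finite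
  haveI := h.isDomain
  set K := Subalgebra.centralizer F ({(g : Module.End F W)} : Set (Module.End F W))
  letI := (Finite.isDomain_to_isField K).toField
  let γ : K := ⟨g, fun y hy => by rw [Set.mem_singleton_iff.1 hy]⟩
  let f := (g : Module.End F W).charpoly
  have hf : (f.map (algebraMap F K)).Monic := (LinearMap.charpoly_monic _).map _
  have hroot : ∀ i, 0 < i → i < orderOf g → (f.map (algebraMap F K)).IsRoot (γ ^ i) := by
    intro i h0 h1
    obtain ⟨x, hx⟩ := isConj_iff.1 (hc i h0 h1)
    rw [IsRoot, eval_map_algebraMap]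
    apply Subtype.ext
    have e1 : ((aeval (γ ^ i) f : K) : Module.End F W) = aeval ((γ ^ i : K) : Module.End F W) f :=
      (aeval_algHom_apply K.val (γ ^ i) f).symm
    have e2 : ((γ ^ i : K) : Module.End F W) = (x : Module.End F W) * g * ↑x⁻¹ := by
      rw [← Units.val_mul, ← Units.val_mul, hx, Units.val_pow_eq_pow_val]
      rfl
    rw [e1, e2, aeval_units_conj, LinearMap.aeval_self_charpoly, mul_zero, zero_mul]
    rfl
  have hinj : Set.InjOn (fun i : ℕ => γ ^ i) (Finset.Ico 1 (orderOf g) : Set ℕ) := by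
    intro i hi j hj e
    simp only [Finset.coe_Ico, Set.mem_Ico] at hi hj
    refine pow_injOn_Iio_orderOf (x := g) hi.2 hj.2 (Units.ext ?_)
    have := congrArg Subtype.val e
    simpa [γ] using this
  have h1 := card_le_degree_of_subset_roots (p := f.map (algebraMap F K))
    (Z := (Finset.Ico 1 (orderOf g)).image fun i => γ ^ i) (fun z hz => by
      obtain ⟨i, hi, rfl⟩ := Finset.mem_image.1 (Finset.mem_def.2 hz)
      rw [Finset.mem_Ico] at hi
      exact (mem_roots hf.ne_zero).2 (hroot i hi.1 hi.2))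
  rw [Finset.card_image_of_injOn hinj, Nat.card_Ico, (LinearMap.charpoly_monic _).natDegree_map,
    LinearMap.charpoly_natDegree] at h1
  omega

end Lin

section Count

theorem card_smul_mem {X Ω : Type*} [Group X] [Finite X] [MulAction X Ω] (w : Ω) (U : Set Ω)
    (hU : ∀ u ∈ U, ∃ x : X, x • w = u) :
    Nat.card {x : X // x • w ∈ U} = Nat.card (MulAction.stabilizer X w) * Nat.card U := by
  let e := MulAction.orbitEquivQuotientStabilizer X w
  let t : Set (X ⧸ MulAction.stabilizer X w) := {q | ((e.symm q : MulAction.orbit X w) : Ω) ∈ U}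
  have h1 := QuotientGroup.card_preimage_mk (MulAction.stabilizer X w) t
  have h2 : Nat.card t = Nat.card U := by
    refine Nat.card_congr (Equiv.ofBijective (fun q => ⟨_, q.2⟩) ⟨fun q q' h => ?_, fun u => ?_⟩)
    · exact Subtype.ext (e.symm.injective (Subtype.ext (congrArg (fun u : U => (u : Ω)) h)))
    · obtain ⟨x, hx⟩ := hU u u.2
      refine ⟨⟨(x : X ⧸ MulAction.stabilizer X w), ?_⟩, Subtype.ext ?_⟩
      · show ((e.symm x : MulAction.orbit X w) : Ω) ∈ U
        rw [MulAction.orbitEquivQuotientStabilizer_symm_apply, hx]; exact u.2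
      · show ((e.symm x : MulAction.orbit X w) : Ω) = u
        rw [MulAction.orbitEquivQuotientStabilizer_symm_apply, hx]
  rw [← h2, ← h1]
  refine Nat.card_congr (Equiv.subtypeEquivRight fun x => ?_)
  show _ ↔ ((e.symm x : MulAction.orbit X w) : Ω) ∈ U
  rw [MulAction.orbitEquivQuotientStabilizer_symm_apply]

theorem card_dvd_card_smul_mem {X Ω : Type*} [Group X] [MulAction X Ω] (w : Ω) (U : Set Ω)
    (S : Subgroup X) (hS : ∀ s ∈ S, ∀ u ∈ U, s • u ∈ U) :
    Nat.card S ∣ Nat.card {x : X // x • w ∈ U} := by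
  letI : MulAction S {x : X // x • w ∈ U} :=
    { smul := fun s x => ⟨s * x, by rw [mul_smul]; exact hS _ s.2 _ x.2⟩
      one_smul := fun x => Subtype.ext (one_mul _)
      mul_smul := fun s t x => Subtype.ext (mul_assoc _ _ _) }
  refine Grp.card_dvd_card_of_free fun x => eq_bot_iff.2 fun s hs => ?_
  have : (s : X) * x = x := congrArg Subtype.val hs
  exact Subtype.ext (mul_eq_right.1 this)

theorem exists_central_orderOf {X : Type*} [Group X] [Finite X] {r : ℕ} [hr : Fact r.Prime]
    (S : Sylow r X) (h : r ∣ Nat.card X) :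
    ∃ z ∈ (S : Subgroup X), orderOf z = r ∧ ∀ s ∈ (S : Subgroup X), s * z = z * s := by
  have hS : Nontrivial (S : Subgroup X) := by
    rw [← Finite.one_lt_card_iff_nontrivial, S.card_eq_multiplicity]
    exact Nat.one_lt_pow (hr.out.factorization_pos_of_dvd Nat.card_pos.ne' h).ne' hr.out.one_lt
  haveI := S.2.center_nontrivial
  obtain ⟨y, hy⟩ := exists_ne (1 : center (S : Subgroup X))
  obtain ⟨k, hk⟩ := (IsPGroup.iff_orderOf.1 (S.2.to_subgroup (center (S : Subgroup X)))) y
  have hk0 : k ≠ 0 := fun e => hy (orderOf_eq_one_iff.1 (by rw [hk, e, pow_zero]))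
  obtain ⟨j, rfl⟩ := Nat.exists_eq_succ_of_ne_zero hk0
  have hr0 := hr.out.pos
  have ho : orderOf (y ^ r ^ j) = r := by
    rw [orderOf_pow_of_dvd (by positivity) (hk ▸ pow_dvd_pow r (Nat.le_succ j)), hk, pow_succ,
      Nat.mul_div_cancel_left _ (by positivity)]
  exact ⟨(y ^ r ^ j : center (S : Subgroup X)).1.1, (y ^ r ^ j : center (S : Subgroup X)).1.2,
    by rw [orderOf_coe, orderOf_coe, ho],
    fun s hs => congrArg Subtype.val (mem_center_iff.1 (y ^ r ^ j).2 ⟨s, hs⟩)⟩

theorem zmod_three_cases : ∀ c : ZMod 3, c = 0 ∨ c = 1 ∨ c = -1 := by decide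

end Count

section Trans
variable {p : ℕ} [hp : Fact p.Prime] {W : Type*} [AddCommGroup W] [Module (ZMod p) W] [Finite W]
  {E : Subgroup (Module.End (ZMod p) W)ˣ}

theorem smul_eq_apply (g : E) (w : W) : g • w = (g.1 : Module.End (ZMod p) W) w := rfl

theorem smul_ne_zero_E (g : E) {w : W} (hw : w ≠ 0) : g • w ≠ 0 := fun h =>
  hw ((smul_eq_zero_iff_eq g).1 h)

theorem card_ne_zero_eq (U : Set W) (h0 : (0 : W) ∈ U) :
    Nat.card (U \ {0} : Set W) = Nat.card U - 1 := by
  rw [Nat.card_coe_set_eq, Nat.card_coe_set_eq, Set.ncard_sdiff_singleton_of_mem h0]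

variable (htr : ∀ v w : W, v ≠ 0 → w ≠ 0 → ∃ g : E, g • v = w)
include htr

theorem card_eq_of_trans {w : W} (hw : w ≠ 0) :
    Nat.card E = Nat.card (MulAction.stabilizer E w) * (Nat.card W - 1) := by
  haveI : Finite (Module.End (ZMod p) W) := Finite.of_injective _ DFunLike.coe_injective
  have h := card_smul_mem (X := E) w (Set.univ \ {0}) fun u hu => htr w u hw hu.2
  rw [card_ne_zero_eq _ (Set.mem_univ _), Nat.card_univ] at h
  rw [← h]
  exact (Nat.card_congr (Equiv.subtypeUnivEquiv fun x => ⟨trivial, smul_ne_zero_E x hw⟩)).symm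

/-- If `2 ^ a` divides `|W| - 1` and no `p ^ k - 1` with `0 < k < dim W`, then `-1 ∈ E`. -/
theorem exists_neg [Nontrivial W] {a : ℕ} (ha : a ≠ 0) (h1 : 2 ^ a ∣ Nat.card W - 1)
    (h2 : ∀ k, 0 < k → k < Module.finrank (ZMod p) W → ¬ 2 ^ a ∣ p ^ k - 1) :
    ∃ z : E, z ≠ 1 ∧ z * z = 1 ∧ ∀ w : W, z • w = -w := by
  haveI : Finite (Module.End (ZMod p) W) := Finite.of_injective _ DFunLike.coe_injective
  obtain ⟨w, hw⟩ := exists_ne (0 : W)
  have hE := card_eq_of_trans htr hw
  obtain ⟨S⟩ : Nonempty (Sylow 2 E) := inferInstance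
  have hW : Nat.card W - 1 ≠ 0 := by have := Finite.one_lt_card (α := W); omega
  have hst : Nat.card (MulAction.stabilizer E w) ≠ 0 := Nat.card_pos.ne'
  have hfac : (Nat.card (MulAction.stabilizer E w)).factorization 2 + a ≤
      (Nat.card E).factorization 2 := by
    rw [hE, Nat.factorization_mul hst hW, Finsupp.add_apply]
    exact Nat.add_le_add_left ((Nat.prime_two.pow_dvd_iff_le_factorization hW).1 h1) _
  obtain ⟨z, -, hoz, hcomm⟩ := exists_central_orderOf S (by
    rw [hE]; exact ((dvd_pow_self 2 ha).trans h1).mul_left _)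
  have hz1 : z ≠ 1 := fun e => by rw [e, orderOf_one] at hoz; omega
  have hz2 : z * z = 1 := by rw [← sq, ← hoz, pow_orderOf_eq_one]
  let U : Submodule (ZMod p) W := LinearMap.ker ((z.1 : Module.End (ZMod p) W) - 1)
  have hU : ∀ x, x ∈ U ↔ z • x = x := fun x => by
    simp [U, sub_eq_zero, smul_eq_apply]
  have h3 := card_dvd_card_smul_mem w ((U : Set W) \ {0}) (S : Subgroup E) fun s hs u hu =>
    ⟨(hU _).2 (by rw [← mul_smul, ← hcomm s hs, mul_smul, (hU u).1 hu.1]), smul_ne_zero_E s hu.2⟩
  rw [card_smul_mem w _ fun u hu => htr w u hw hu.2, card_ne_zero_eq _ U.zero_mem,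
    S.card_eq_multiplicity] at h3
  have hU0 : U = ⊥ := by
    by_contra h0
    have h4 : Module.finrank (ZMod p) U < Module.finrank (ZMod p) W := Submodule.finrank_lt fun e =>
      hz1 (Subtype.ext (Units.ext (LinearMap.ext fun x => (hU x).1 (e ▸ Submodule.mem_top))))
    have h5 : Module.finrank (ZMod p) U ≠ 0 := fun e => h0 (Submodule.finrank_eq_zero.1 e)
    have h6 : Nat.card (U : Set W) = p ^ Module.finrank (ZMod p) U := by
      have := Module.natCard_eq_pow_finrank (K := ZMod p) (V := U)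
      rwa [Nat.card_zmod] at this
    rw [h6] at h3
    refine h2 _ (Nat.pos_of_ne_zero h5) h4 ?_
    have h7 : p ^ Module.finrank (ZMod p) U - 1 ≠ 0 := by
      have := Nat.one_lt_pow h5 hp.out.one_lt
      omega
    have h8 := (Nat.prime_two.pow_dvd_iff_le_factorization (mul_ne_zero hst h7)).1 h3
    rw [Nat.factorization_mul hst h7, Finsupp.add_apply] at h8
    exact (Nat.prime_two.pow_dvd_iff_le_factorization h7).2 (by omega)
  refine ⟨z, hz1, hz2, fun x => ?_⟩
  have h9 : z • x + x ∈ U := (hU _).2 (by rw [smul_add, ← mul_smul, hz2, one_smul, add_comm])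
  rw [hU0, Submodule.mem_bot] at h9
  exact eq_neg_of_add_eq_zero_left h9

variable (hcc : ∀ g h : E, CycCent g → CycCent h → g ≠ 1 → h ≠ 1 → IsConj g h)
include hcc

theorem ppd_case [Nontrivial W] {r : ℕ} (hr : Misc.Zsig.IsPPD p (Module.finrank (ZMod p) W) r) :
    r ≤ Module.finrank (ZMod p) W + 1 ∧ ¬ r ^ 2 ∣ p ^ Module.finrank (ZMod p) W - 1 ∧
      ∃ g : E, orderOf g = r ∧ ∀ y, Commute g y → y ∈ zpowers g := by
  haveI : Finite (Module.End (ZMod p) W) := Finite.of_injective _ DFunLike.coe_injective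
  haveI := Fact.mk hr.1
  obtain ⟨w, hw⟩ := exists_ne (0 : W)
  have hE := card_eq_of_trans htr hw
  have hW : Nat.card W = p ^ Module.finrank (ZMod p) W := by
    have := Module.natCard_eq_pow_finrank (K := ZMod p) (V := W)
    rwa [Nat.card_zmod] at this
  rw [hW] at hE
  obtain ⟨R⟩ : Nonempty (Sylow r E) := inferInstance
  obtain ⟨g, -, hg, hcomm⟩ := exists_central_orderOf R (hE ▸ hr.2.1.mul_left _)
  have hirr : IrrOn g.1 := Class.Singer.irreducible_of_ppd (F := ZMod p)
    (by rwa [Nat.card_zmod]) (by rw [orderOf_coe, hg])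
  have hg1 : g ≠ 1 := fun e => hr.1.one_lt.ne (by rw [← hg, e, orderOf_one])
  have hcyc := hirr.isCyclic
  obtain ⟨a, ha⟩ := hcyc.exists_generator
  have hga : g ∈ zpowers (a : E) := by
    obtain ⟨m, hm⟩ := ha ⟨g, mem_centralizer_singleton_iff.2 rfl⟩
    exact ⟨m, congrArg Subtype.val hm⟩
  have ha1 : (a : E) ≠ 1 := fun e => hg1 (by rwa [e, zpowers_one_eq_bot, mem_bot] at hga)
  have hoa : orderOf (a : E) = r := by
    rw [← hg]
    obtain ⟨x, hx⟩ := isConj_iff.1 (hcc g a hirr.cycCent (cycCent_of_isCyclic hcyc hga) hg1 ha1)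
    rw [← hx]
    exact (MulAut.conj x).orderOf_eq g
  have hC : Nat.card (centralizer ({g} : Set E)) = r := by
    rw [← orderOf_eq_card_of_forall_mem_zpowers ha, ← hoa, orderOf_coe]
  refine ⟨?_, fun h => ?_, g, hg, fun y hy => ?_⟩
  · have := hirr.orderOf_le fun i h0 h1 => by
      rw [orderOf_coe, hg] at h1
      have h2 : g ∈ zpowers (g ^ i) := mem_zpowers_pow_iff.2 (by
        rw [hg]; exact (Nat.coprime_of_lt_prime h0.ne' h1 hr.1).symm)
      have h3 : g ^ i ≠ 1 := fun e => hg1 (by rwa [e, zpowers_one_eq_bot, mem_bot] at h2)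
      exact E.subtype.map_isConj (hcc g _ hirr.cycCent (cycCent_of_isCyclic hcyc h2) hg1 h3)
    rwa [orderOf_coe, hg] at this
  · have h1 : (R : Subgroup E) ≤ centralizer {g} := fun s hs =>
      mem_centralizer_singleton_iff.2 (hcomm s hs)
    have h2 := card_le_of_le h1
    rw [hC, R.card_eq_multiplicity] at h2
    have h3 : 2 ≤ (Nat.card E).factorization r :=
      (hr.1.pow_dvd_iff_le_factorization Nat.card_pos.ne').1 (hE ▸ h.mul_left _)
    have h4 := Nat.pow_le_pow_right hr.1.pos h3
    have := hr.1.one_lt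
    nlinarith
  · have h1 : zpowers g ≤ centralizer ({g} : Set E) :=
      zpowers_le.2 (mem_centralizer_singleton_iff.2 rfl)
    rw [eq_of_le_of_card_ge h1 (by rw [hC, Nat.card_zpowers, hg])]
    exact mem_centralizer_singleton_iff.2 hy.symm.eq

theorem nine_case (h3 : p = 3) (h2 : Module.finrank (ZMod p) W = 2) (hp' : ¬ p ∣ Nat.card E) :
    False := by
  classical
  subst h3
  haveI : Finite (Module.End (ZMod 3) W) := Finite.of_injective _ DFunLike.coe_injective
  haveI : Nontrivial W := Module.nontrivial_of_finrank_pos (R := ZMod 3) (by omega)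
  letI : Fintype E := Fintype.ofFinite _
  letI : Fintype W := Fintype.ofFinite _
  have hW : Nat.card W = 9 := by
    have := Module.natCard_eq_pow_finrank (K := ZMod 3) (V := W)
    rwa [Nat.card_zmod, h2] at this
  obtain ⟨z, hz1, hz2, hz⟩ := exists_neg htr (a := 3) (by norm_num) (by rw [hW]; norm_num)
    fun k h0 h1 => by
      obtain rfl : k = 1 := by omega
      norm_num
  have hE16 : Nat.card E ≤ 16 := by
    have h1 : Nat.card (Module.End (ZMod 3) W)ˣ = 48 := by
      have e := Matrix.GeneralLinearGroup.toLin' (Module.finBasisOfFinrankEq (ZMod 3) W h2)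
      rw [← Nat.card_congr e.toEquiv, Matrix.card_GL_field]
      simp [Fin.prod_univ_two]
    have h4 : Nat.card E ∣ 3 * 16 := (show 48 = 3 * 16 from rfl) ▸ h1 ▸ card_subgroup_dvd_card E
    exact Nat.le_of_dvd (by norm_num)
      (((Nat.Prime.coprime_iff_not_dvd Nat.prime_three).2 hp').symm.dvd_of_dvd_mul_left h4)
  have hneg : ∀ w : W, w ≠ 0 → -w ≠ w := fun w hw e => hw (by
    have h1 : (3 : ZMod 3) • w = 0 := by rw [show (3 : ZMod 3) = 0 from rfl, zero_smul]
    have h4 : (3 : ZMod 3) • w = w + w + w := by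
      rw [show (3 : ZMod 3) = 1 + 1 + 1 by norm_num, add_smul, add_smul, one_smul]
    rw [h4] at h1
    nth_rewrite 1 [← e] at h1
    simpa using h1)
  let A : Finset W := Finset.univ.erase 0
  have hA : A.card = 8 := by
    rw [Finset.card_erase_of_mem (Finset.mem_univ _), Finset.card_univ, ← Nat.card_eq_fintype_card,
      hW]
  let F : Finset E := Finset.univ.filter fun h => ∃ w : W, w ≠ 0 ∧ h • w = w
  have hsum : ∑ h : E, (A.filter fun w => h • w = w).card = Nat.card E := by
    have h1 : ∑ h : E, (A.filter fun w => h • w = w).card =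
        ∑ w ∈ A, (Finset.univ.filter fun h : E => h • w = w).card := by
      simp only [Finset.card_filter]
      exact Finset.sum_comm
    have h4 : ∀ w ∈ A, (Finset.univ.filter fun h : E => h • w = w).card * 8 = Nat.card E := by
      intro w hw
      rw [card_eq_of_trans htr (Finset.ne_of_mem_erase hw), hW, Nat.card_eq_fintype_card,
        Fintype.card_subtype]
      rfl
    have h5 : (∑ w ∈ A, (Finset.univ.filter fun h : E => h • w = w).card) * 8 =
        Nat.card E * 8 := by
      rw [Finset.sum_mul, Finset.sum_congr rfl h4, Finset.sum_const, hA, smul_eq_mul, mul_comm]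
    omega
  obtain ⟨w0, hw0⟩ := exists_ne (0 : W)
  have h1F : (1 : E) ∈ F := Finset.mem_filter.2 ⟨Finset.mem_univ _, w0, hw0, one_smul _ _⟩
  have hF : 2 * F.card + 6 ≤ Nat.card E := by
    rw [← hsum]
    have h1 : ∑ h ∈ F, (A.filter fun w => h • w = w).card ≤
        ∑ h : E, (A.filter fun w => h • w = w).card :=
      Finset.sum_le_sum_of_subset (Finset.subset_univ _)
    have h4 : (A.filter fun w => (1 : E) • w = w).card = 8 := by
      rw [Finset.filter_true_of_mem fun w _ => one_smul _ _, hA]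
    have h5 : (F.erase 1).card • 2 ≤ ∑ h ∈ F.erase 1, (A.filter fun w => h • w = w).card :=
      Finset.card_nsmul_le_sum _ _ _ fun h hh => by
        obtain ⟨w, hw, e⟩ := (Finset.mem_filter.1 (Finset.mem_of_mem_erase hh)).2
        exact Finset.one_lt_card.2 ⟨-w, Finset.mem_filter.2
          ⟨Finset.mem_erase.2 ⟨neg_ne_zero.2 hw, Finset.mem_univ _⟩, by rw [smul_neg, e]⟩, w,
          Finset.mem_filter.2 ⟨Finset.mem_erase.2 ⟨hw, Finset.mem_univ _⟩, e⟩, hneg w hw⟩
    rw [← Finset.add_sum_erase _ _ h1F, h4] at h1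
    rw [Finset.card_erase_of_mem h1F, smul_eq_mul] at h5
    have := Finset.card_pos.2 ⟨_, h1F⟩
    omega
  let I : Finset E := Finset.univ \ (F ∪ F.image (z * ·))
  have hI : 6 ≤ I.card := by
    have h1 := Finset.card_union_le F (F.image (z * ·))
    have h4 := Finset.card_image_le (s := F) (f := (z * ·))
    have h5 := Finset.le_card_sdiff (F ∪ F.image (z * ·)) Finset.univ
    rw [Finset.card_univ, ← Nat.card_eq_fintype_card] at h5
    change 6 ≤ (Finset.univ \ (F ∪ F.image (z * ·))).card
    omega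
  have hI1 : ∀ h ∈ I, h ∉ F ∧ z * h ∉ F := fun h hh => by
    have := (Finset.mem_sdiff.1 hh).2
    rw [Finset.mem_union, not_or] at this
    exact ⟨this.1, fun e => this.2 (Finset.mem_image.2
      ⟨_, e, by rw [← mul_assoc, hz2, one_mul]⟩)⟩
  have hirr : ∀ h ∈ I, IrrOn h.1 := fun h hh U hU => by
    by_contra hne
    rw [not_or] at hne
    have h4 : Module.finrank (ZMod 3) U < 2 := h2 ▸ Submodule.finrank_lt hne.2
    have h5 : Module.finrank (ZMod 3) U ≠ 0 := fun e => hne.1 (Submodule.finrank_eq_zero.1 e)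
    obtain ⟨w, hw, hw'⟩ := finrank_eq_one_iff'.1 (show Module.finrank (ZMod 3) U = 1 by omega)
    have hw0 : (w : W) ≠ 0 := fun e => hw (Subtype.ext e)
    obtain ⟨c, hc⟩ := hw' ⟨_, hU w w.2⟩
    have hc' : c • (w : W) = h • (w : W) := congrArg Subtype.val hc
    obtain rfl | rfl | rfl := zmod_three_cases c
    · exact smul_ne_zero_E h hw0 (by rw [← hc', zero_smul])
    · exact (hI1 h hh).1 (Finset.mem_filter.2 ⟨Finset.mem_univ _, w, hw0, by rw [← hc', one_smul]⟩)
    · exact (hI1 h hh).2 (Finset.mem_filter.2 ⟨Finset.mem_univ _, w, hw0, by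
        rw [mul_smul, hz, ← hc', neg_smul, one_smul, neg_neg]⟩)
  have hne1 : ∀ h ∈ I, h ≠ 1 := fun h hh e => (hI1 h hh).1 (e ▸ h1F)
  obtain ⟨g, hg⟩ := Finset.card_pos.1 (show 0 < I.card by omega)
  have hcl : I.card ≤ Nat.card {y : E // IsConj g y} := by
    rw [Nat.card_eq_fintype_card, Fintype.card_subtype]
    exact Finset.card_le_card fun h hh => Finset.mem_filter.2 ⟨Finset.mem_univ _,
      hcc g h (hirr g hg).cycCent (hirr h hh).cycCent (hne1 g hg) (hne1 h hh)⟩
  have hzc : ∀ y : E, y * z = z * y := fun y => Subtype.ext (Units.ext (LinearMap.ext fun w => by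
    change (y * z) • w = (z * y) • w
    rw [mul_smul, mul_smul, hz, hz, smul_neg]))
  have hgz : g ≠ z := fun e => (hI1 g hg).2 (by rw [e, hz2]; exact h1F)
  have hzg1 : z * g ≠ 1 := fun e => (hI1 g hg).2 (e ▸ h1F)
  have hC : 4 ≤ Nat.card (centralizer ({g} : Set E)) := by
    rw [Nat.card_eq_fintype_card, Fintype.card_subtype]
    have : ({1, z, g, z * g} : Finset E).card = 4 := by
      rw [Finset.card_eq_four]
      exact ⟨1, z, g, z * g, hz1.symm, (hne1 g hg).symm, hzg1.symm, hgz.symm,
        fun e => hne1 g hg (left_eq_mul.1 e), fun e => hz1 (right_eq_mul.1 e), rfl⟩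
    rw [← this]
    refine Finset.card_le_card fun y hy => Finset.mem_filter.2 ⟨Finset.mem_univ _, ?_⟩
    rw [mem_centralizer_singleton_iff]
    simp only [Finset.mem_insert, Finset.mem_singleton] at hy
    rcases hy with rfl | rfl | rfl | rfl
    · simp
    · exact (hzc g).symm
    · rfl
    · rw [← mul_assoc, hzc g]
  have := Inv.Count.card_isConj_mul_card_centralizer g
  have h6 := Nat.mul_le_mul (hI.trans hcl) hC
  omega

omit hp htr hcc in
theorem not_sq_add_sq_of_mod_four {m x y k : ℕ} (hm : m % 4 = 3) (h : 2 ^ k * m = x ^ 2 + y ^ 2) :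
    False := by
  induction k generalizing x y with
  | zero =>
    have h1 : ∀ a : ℕ, a ^ 2 % 4 = 0 ∨ a ^ 2 % 4 = 1 := fun a => by
      rcases (by omega : a % 4 = 0 ∨ a % 4 = 1 ∨ a % 4 = 2 ∨ a % 4 = 3) with h | h | h | h <;>
        simp [Nat.pow_mod, h]
    have := h1 x
    have := h1 y
    omega
  | succ k ih =>
    wlog hxy : y ≤ x generalizing x y
    · exact this (x := y) (y := x) (by rw [h, add_comm]) (by omega)
    obtain ⟨d, rfl⟩ := Nat.exists_eq_add_of_le hxy
    have h1 : Even d := by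
      have h2 : Even ((y + d) ^ 2 + y ^ 2) := h ▸ ⟨2 ^ k * m, by ring⟩
      have h3 : (y + d) ^ 2 + y ^ 2 = 2 * (y ^ 2 + y * d) + d ^ 2 := by ring
      rw [h3, Nat.even_add] at h2
      exact (Nat.even_pow.1 (h2.1 (even_two_mul _))).1
    obtain ⟨c, rfl⟩ := h1
    exact ih (x := y + c) (y := c) (by nlinarith [pow_succ 2 k])

theorem card_le_three [Nontrivial W] (hp' : ¬ p ∣ Nat.card E) {x y : ℕ}
    (hsq : Nat.card W - 1 = x ^ 2 + y ^ 2) : Nat.card W ≤ 3 := by
  haveI : Finite (Module.End (ZMod p) W) := Finite.of_injective _ DFunLike.coe_injective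
  have hW : Nat.card W = p ^ Module.finrank (ZMod p) W := by
    have := Module.natCard_eq_pow_finrank (K := ZMod p) (V := W)
    rwa [Nat.card_zmod] at this
  have hn0 : 0 < Module.finrank (ZMod p) W := Module.finrank_pos
  have hp2 := hp.out.two_le
  rcases (show Module.finrank (ZMod p) W = 1 ∨ 2 ≤ Module.finrank (ZMod p) W by omega) with hn | hn
  · -- dimension one
    have hirr : ∀ g : E, IrrOn g.1 := fun g U _ => by
      haveI := (isSimpleModule_iff_finrank_eq_one (R := ZMod p) (M := W)).2 hn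
      exact eq_bot_or_eq_top U
    have hcomm : ∀ g h : E, g * h = h * g := fun g h => by
      have hc := (hirr 1).isCyclic
      letI := hc.commGroup
      have h1 : ∀ a : E, a ∈ centralizer ({1} : Set E) := fun a =>
        mem_centralizer_singleton_iff.2 (by simp)
      exact congrArg Subtype.val (mul_comm (⟨g, h1 g⟩ : centralizer ({1} : Set E)) ⟨h, h1 h⟩)
    have heq : ∀ g h : E, g ≠ 1 → h ≠ 1 → g = h := fun g h hg hh => by
      obtain ⟨c, hc⟩ := isConj_iff.1 (hcc g h (hirr g).cycCent (hirr h).cycCent hg hh)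
      rw [← hc, hcomm c g, mul_inv_cancel_right]
    have hE : Nat.card E ≤ 2 := by
      by_contra h
      letI : Fintype E := Fintype.ofFinite _
      rw [Nat.card_eq_fintype_card] at h
      obtain ⟨a, b, c, h1, h2, h3⟩ := Fintype.two_lt_card_iff.1 (not_le.1 h)
      by_cases ha : a = 1
      · exact h3 (heq b c (fun e => h1 (ha.trans e.symm)) fun e => h2 (ha.trans e.symm))
      by_cases hb : b = 1
      · exact h2 (heq a c ha fun e => h3 (hb.trans e.symm))
      · exact h1 (heq a b ha hb)
    obtain ⟨w, hw⟩ := exists_ne (0 : W)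
    have h1 := card_eq_of_trans htr hw
    have h2 : 0 < Nat.card (MulAction.stabilizer E w) := Nat.card_pos
    have h3 : Nat.card W - 1 ≤ Nat.card E := h1 ▸ Nat.le_mul_of_pos_left _ h2
    omega
  exfalso
  rw [hW] at hsq
  set n := Module.finrank (ZMod p) W with hn'
  have hsq' := Nat.eq_sq_add_sq_iff.1 ⟨x, y, hsq⟩
  have hp2' : p ≠ 2 := by
    rintro rfl
    obtain ⟨k, hk⟩ := Nat.exists_eq_add_of_le hn
    refine not_sq_add_sq_of_mod_four (k := 0) (m := 2 ^ n - 1) (x := x) (y := y) ?_ (by simpa using hsq)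
    have : 2 ^ n = 4 * 2 ^ k := by rw [hk, pow_add]; norm_num
    have : 0 < 2 ^ k := by positivity
    omega
  by_cases h1 : n = 2 ∧ ∃ s t : ℕ, t ≤ 1 ∧ p + 1 = 2 ^ s * 3 ^ t
  · obtain ⟨h1, s, t, ht, hst⟩ := h1
    have hfac : p ^ n - 1 = (p + 1) * (p - 1) := by
      rw [h1, ← Nat.sq_sub_sq, one_pow]
    obtain rfl | rfl : t = 0 ∨ t = 1 := by omega
    · rw [pow_zero, mul_one] at hst
      obtain rfl | rfl | rfl | hs : s = 0 ∨ s = 1 ∨ s = 2 ∨ 3 ≤ s := by omega
      · omega
      · omega
      · exact nine_case htr hcc (by omega) h1 hp'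
      · obtain ⟨k, rfl⟩ := Nat.exists_eq_add_of_le hs
        have h0 : 0 < 2 ^ k := by positivity
        have h2 : 2 ^ (3 + k) = 8 * 2 ^ k := by rw [pow_add]; norm_num
        refine not_sq_add_sq_of_mod_four (k := 3 + k + 1) (m := 4 * 2 ^ k - 1) (x := x) (y := y)
          (by omega) ?_
        rw [← hsq, hfac, hst, pow_succ, mul_assoc]
        congr 1
        omega
    · have h3 : 3 ∣ p + 1 := ⟨2 ^ s, by rw [hst]; ring⟩
      have h4 : p ^ n - 1 ≠ 0 := by rw [hfac]; exact mul_ne_zero (by omega) (by omega)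
      have h5 := hsq' 3 (Nat.mem_primeFactors.2 ⟨Nat.prime_three, hfac ▸ h3.mul_right _, h4⟩) rfl
      haveI := Fact.mk Nat.prime_three
      rw [hfac, padicValNat.mul (by omega) (by omega), hst,
        padicValNat.mul (by positivity) (by positivity), padicValNat.prime_pow,
        padicValNat.eq_zero_of_not_dvd (n := p - 1) (by omega),
        padicValNat.eq_zero_of_not_dvd (n := 2 ^ s) fun h =>
          absurd (Nat.prime_three.dvd_of_dvd_pow h) (by norm_num)] at h5
      exact absurd h5 (by decide)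
  by_cases h3 : p = 3 ∧ (n = 4 ∨ n = 6)
  · obtain ⟨rfl, h4 | h4⟩ := h3
    · obtain ⟨-, -, g, hg, hc⟩ := ppd_case htr hcc (r := 5) ⟨by norm_num, by
        rw [← hn', h4]; norm_num, fun k h0 hk => by
          rw [← hn', h4] at hk
          interval_cases k <;> norm_num⟩
      obtain ⟨z, hz1, hz2, hz⟩ := exists_neg htr (a := 4) (by norm_num) (by rw [hW, h4]; norm_num)
        fun k h0 hk => by
          rw [← hn', h4] at hk
          interval_cases k <;> norm_num
      have hzc : g * z = z * g := Subtype.ext (Units.ext (LinearMap.ext fun w => by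
        change (g * z) • w = (z * g) • w
        rw [mul_smul, mul_smul, hz, hz, smul_neg]))
      have h5 := orderOf_dvd_of_mem_zpowers (hc z hzc)
      have h6 : orderOf z = 2 := orderOf_eq_prime (by rw [sq, hz2]) hz1
      rw [hg, h6] at h5
      omega
    · rw [h4] at hsq
      exact not_sq_add_sq_of_mod_four (k := 3) (m := 91) rfl (by rw [← hsq]; norm_num)
  by_cases h4 : p = 5 ∧ n = 6
  · obtain ⟨rfl, h4⟩ := h4
    rw [h4] at hsq'
    have h5 := hsq' 7 (by norm_num [Nat.mem_primeFactors]) rfl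
    haveI := Fact.mk (show Nat.Prime 7 by norm_num)
    rw [show 5 ^ 6 - 1 = 7 ^ 1 * 2232 by norm_num, padicValNat.mul (by norm_num) (by norm_num),
      padicValNat.prime_pow, padicValNat.eq_zero_of_not_dvd (n := 2232) (by norm_num)] at h5
    exact absurd h5 (by decide)
  obtain ⟨r, hr, hr1, hr2, hr3⟩ := S3430.result p n hp2 hn h1 (fun h => hp2' h.1) h3 h4
  obtain ⟨h5, h6, -⟩ := ppd_case htr hcc (r := r) ⟨hr, hr1, fun k h0 hk => hr2 k h0 hk⟩
  rcases hr3 with h | h
  · omega
  · exact h6 h

end Trans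

end Cfsg.Agent.Block
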