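import Mathlib
import Cfsg.Agent.Block.TwoGood
import Cfsg.Agent.Block.CoverMore
import Cfsg.Agent.Block.FongReynolds
import Cfsg.Agent.Block.NormalDefect
import Cfsg.Agent.Block.RankQuot
import Cfsg.Agent.Block.IBrQuot
import Cfsg.Agent.Char.GoodClass
import Cfsg.Agent.Char.PPrimeDeg
import Cfsg.Agent.PLocal.ElemAb
import Cfsg.Agent.S4607
import Cfsg.Agent.S4648

/-! A block with a normal abelian defect group and at most three characters has defect group of
order at most three. -/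

set_option autoImplicit false
set_option linter.unusedSectionVars false
set_option linter.style.haveILetI false

namespace Cfsg.Agent.Block
open Cfsg Cfsg.Agent.Char MonoidAlgebra Subgroup
open scoped ComplexConjugate

universe u

theorem sum_class_card_centralizer {E : Type*} [Group E] [Fintype E] (s : E)
    [DecidablePred (IsConj s)] :
    ∑ a ∈ Finset.univ.filter (IsConj s), Nat.card (centralizer ({a} : Set E)) = Nat.card E := by
  have h1 : (Finset.univ.filter (IsConj s)).card = Nat.card {y : E // IsConj s y} := by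
    rw [Nat.card_eq_fintype_card, Fintype.card_subtype]
  have h2 : ∀ a ∈ Finset.univ.filter (IsConj s),
      Nat.card {y : E // IsConj s y} * Nat.card (centralizer ({a} : Set E)) = Nat.card E := by
    intro a ha
    have e := (Finset.mem_filter.1 ha).2
    rw [← Inv.Count.card_isConj_mul_card_centralizer a]
    congr 1
    exact Nat.card_congr (Equiv.subtypeEquivRight fun y => ⟨e.symm.trans, e.trans⟩)
  haveI : Nonempty {y : E // IsConj s y} := ⟨⟨s, IsConj.refl s⟩⟩
  refine Nat.eq_of_mul_eq_mul_left (Nat.card_pos (α := {y : E // IsConj s y})) ?_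
  rw [Finset.mul_sum, Finset.sum_congr rfl h2, Finset.sum_const, h1, smul_eq_mul]

theorem sum_comp_surjective_nat {G Q : Type*} [Group G] [Group Q] [Fintype G] [Fintype Q]
    (f : G →* Q) (hf : Function.Surjective f) (F : Q → ℕ) :
    ∑ g, F (f g) = Nat.card f.ker * ∑ q, F q := by
  exact_mod_cast sum_comp_surjective f hf fun q => (F q : ℂ)

/-- three classes of elements with cyclic centraliser give three characters over `θ` -/
theorem three_le_card_over {H E : Type*} [Group H] [Finite H] [Group E] [Finite E]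
    (ρ : H →* E) (hρ : Function.Surjective ρ) {N : Subgroup H} [N.Normal] [Fintype N]
    (hN : ρ.ker = N) {θ : IrrCharacter N} (hθ : InvBy ⊤ θ.1) {g h : E} (hg : CycCent g)
    (hh : CycCent h) (hg1 : g ≠ 1) (hh1 : h ≠ 1) (hgh : ¬ IsConj g h) :
    3 ≤ Nat.card {χ : IrrCharacter H // classInner (fun n : N => χ.1 n) θ.1 ≠ 0} := by
  classical
  letI : Fintype H := Fintype.ofFinite _
  letI : Fintype E := Fintype.ofFinite _
  have hn : (⊤ : Subgroup H) ≤ normalizer (N : Set H) := top_le_normalizer_of_normal N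
  have h1 := card_over_eq_sum_good (le_top : N ≤ ⊤) hn hθ
  have h2 : Nat.card {χ : IrrCharacter (⊤ : Subgroup H) // nmult le_top χ.1 θ.1 ≠ 0} =
      Nat.card {χ : IrrCharacter H // classInner (fun n : N => χ.1 n) θ.1 ≠ 0} := by
    refine (Nat.card_congr (Equiv.subtypeEquiv (irrCongr topEquiv) fun χ => ?_)).symm
    rw [← coe_nmult_topIrr, Nat.cast_ne_zero]
    rfl
  rw [h2] at h1
  set k := Nat.card {χ : IrrCharacter H // classInner (fun n : N => χ.1 n) θ.1 ≠ 0}
  have h3 : k * Nat.card N * Nat.card (⊤ : Subgroup H) = ∑ g : (⊤ : Subgroup H),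
      ∑ x : (⊤ : Subgroup H), if GoodFor θ.1 ⊤ g ∧
        (x : H) * g * (x : H)⁻¹ * (g : H)⁻¹ ∈ N then 1 else 0 := by
    refine Nat.cast_injective (R := ℂ) ?_
    push_cast
    convert h1
  have hgood : ∀ y : H, CycCent (ρ y) → GoodFor θ.1 ⊤ y := by
    intro y hy x _ hx
    rw [← hN, MonoidHom.mem_ker] at hx
    simp only [map_mul, map_inv] at hx
    obtain ⟨a, ⟨m, hm⟩, ⟨n, hn'⟩⟩ := hy (ρ x) (by
      have : ρ x * ρ y = ρ y * ρ x := by
        rw [mul_inv_eq_one, mul_inv_eq_iff_eq_mul] at hx; exact hx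
      exact this.symm)
    obtain ⟨b, rfl⟩ := hρ a
    have key : ∀ (z : H) (m : ℤ), ρ b ^ m = ρ z → zpowers z ≤ N ⊔ zpowers b := fun z m e => by
      rw [zpowers_le]
      have : z = (z * (b ^ m)⁻¹) * b ^ m := by group
      rw [this]
      refine mul_mem (mem_sup_left ?_) (mem_sup_right ⟨m, rfl⟩)
      rw [← hN, MonoidHom.mem_ker, map_mul, map_inv, map_zpow, e, mul_inv_cancel]
    exact (hasExt_sup_zpowers (hn trivial) θ (hθ.mono le_top)).mono
      (le_sup_left.trans le_sup_left) (sup_le (sup_le le_sup_left (key y m hm)) (key x n hn'))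
  let Φ : E → E → ℕ := fun a b => if CycCent a ∧ b * a = a * b then 1 else 0
  have h4 : ∑ y : H, ∑ x : H, Φ (ρ y) (ρ x) ≤ k * Nat.card N * Nat.card (⊤ : Subgroup H) := by
    rw [h3, ← Fintype.sum_equiv (topEquiv (G := H)).toEquiv
      (fun y => ∑ x : H, Φ (ρ y) (ρ x)) _ fun _ => rfl]
    refine Finset.sum_le_sum fun y _ => ?_
    rw [← Fintype.sum_equiv (topEquiv (G := H)).toEquiv
      (fun x => Φ (ρ y) (ρ x)) _ fun _ => rfl]
    refine Finset.sum_le_sum fun x _ => ?_
    by_cases e : CycCent (ρ y) ∧ ρ x * ρ y = ρ y * ρ x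
    · rw [if_pos ⟨hgood y e.1, by
        rw [← hN, MonoidHom.mem_ker, map_mul, map_mul, map_mul, map_inv, map_inv, e.2]
        group⟩]
      simp only [Φ]
      split_ifs <;> simp
    · simp only [Φ, if_neg e]
      exact Nat.zero_le _
  have h5 : ∑ y : H, ∑ x : H, Φ (ρ y) (ρ x) = Nat.card N * (Nat.card N * ∑ a, ∑ b, Φ a b) := by
    rw [sum_comp_surjective_nat ρ hρ fun a => ∑ x : H, Φ a (ρ x), hN]
    congr 1
    rw [Finset.mul_sum]
    exact Finset.sum_congr rfl fun a _ => by rw [sum_comp_surjective_nat ρ hρ (Φ a), hN]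
  have h6 : ∀ a, CycCent a → ∑ b, Φ a b = Nat.card (centralizer ({a} : Set E)) := fun a ha => by
    rw [Nat.card_eq_fintype_card, Fintype.card_subtype, Finset.card_filter]
    exact Finset.sum_congr rfl fun b _ => by simp [Φ, ha, mem_centralizer_singleton_iff]
  have h7 : ∀ s, CycCent s → ∑ a ∈ Finset.univ.filter (IsConj s), ∑ b, Φ a b = Nat.card E :=
    fun s hs => by
      rw [← sum_class_card_centralizer s]
      exact Finset.sum_congr rfl fun a ha => h6 a (hs.conj (Finset.mem_filter.1 ha).2)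
  have hdisj : ∀ s t : E, ¬ IsConj s t →
      Disjoint (Finset.univ.filter (IsConj s)) (Finset.univ.filter (IsConj t)) := fun s t e =>
    Finset.disjoint_filter.2 fun a _ h1 h2 => e (h1.trans h2.symm)
  have h8 : 3 * Nat.card E ≤ ∑ a, ∑ b, Φ a b := by
    have := Finset.sum_le_sum_of_subset (f := fun a => ∑ b, Φ a b) (Finset.subset_univ
      (Finset.univ.filter (IsConj 1) ∪ (Finset.univ.filter (IsConj g) ∪
        Finset.univ.filter (IsConj h))))
    rw [Finset.sum_union (Finset.disjoint_union_right.2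
      ⟨hdisj _ _ fun e => hg1 (isConj_one_right.1 e), hdisj _ _ fun e => hh1 (isConj_one_right.1 e)⟩),
      Finset.sum_union (hdisj _ _ hgh), h7 _ cycCent_one, h7 _ hg, h7 _ hh] at this
    omega
  have h9 : Nat.card (⊤ : Subgroup H) = Nat.card N * Nat.card E := by
    rw [card_top, ← hN, ← ρ.ker.card_mul_index, index_ker, MonoidHom.range_eq_top.2 hρ, card_top]
  rw [h5, h9] at h4
  have h10 : 0 < Nat.card N * (Nat.card N * Nat.card E) :=
    Nat.mul_pos Nat.card_pos (Nat.mul_pos Nat.card_pos Nat.card_pos)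
  have h11 := Nat.mul_le_mul_left (Nat.card N) (Nat.mul_le_mul_left (Nat.card N) h8)
  refine Nat.le_of_mul_le_mul_right ?_ h10
  nlinarith

theorem exists_sq_add_sq_of_mul {m a b d : ℕ} (ha : a ≠ 0) (h : m * (a ^ 2 + b ^ 2) = d ^ 2) :
    ∃ x y, m = x ^ 2 + y ^ 2 := by
  refine Nat.eq_sq_add_sq_iff.2 fun q hq h3 => ?_
  obtain ⟨hq1, -, hm⟩ := Nat.mem_primeFactors.1 hq
  haveI := Fact.mk hq1
  have h0 : a ^ 2 + b ^ 2 ≠ 0 := by positivity
  have h1 : Even (padicValNat q (a ^ 2 + b ^ 2)) := by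
    by_cases e : q ∣ a ^ 2 + b ^ 2
    · exact Nat.eq_sq_add_sq_iff.1 ⟨a, b, rfl⟩ q (Nat.mem_primeFactors.2 ⟨hq1, e, h0⟩) h3
    · rw [padicValNat.eq_zero_of_not_dvd e]; exact Even.zero
  have hd : d ≠ 0 := by
    rintro rfl
    exact mul_ne_zero hm h0 (by simpa using h)
  have h2 := congrArg (padicValNat q) h
  rw [padicValNat.mul hm h0, padicValNat.pow] at h2
  have h4 : Even (padicValNat q m + padicValNat q (a ^ 2 + b ^ 2)) := h2 ▸ even_two_mul _
  exact (Nat.even_add.1 h4).2 h1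

variable {G : Type u} [Group G] [Finite G] {M : Ideal AlgInt} {p : ℕ} [hp : Fact p.Prime]
  {B : Set (IrrCharacter G)} {V : Subgroup G}

theorem dvd_orderOf_of_mem (hV : IsPGroup p V) {v : G} (hv : v ∈ V) (h1 : v ≠ 1) :
    p ∣ orderOf v := by
  obtain ⟨k, hk⟩ := orderOf_eq_pow_of_mem hV hv
  rw [hk]
  exact dvd_pow_self p fun e => h1 (orderOf_eq_one_iff.1 (by rw [hk, e, pow_zero]))

theorem exists_not_ker (hM : IsPModular p M) (hB : IsPBlock M B) (hV : IsPGroup p V)
    (h1 : V ≠ ⊥) : ∃ χ ∈ B, ¬ ∀ v ∈ V, (χ : G → ℂ) v = (χ : G → ℂ) 1 := by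
  classical
  by_contra! h
  obtain ⟨v, hv, hv1⟩ := (V.bot_or_exists_ne_one).resolve_left h1
  have h2 := sum_mul_conj_eq_zero_of_singular_regular hM (val_blockCoeff_le_one hM hB)
    (dvd_orderOf_of_mem hV hv hv1) (y := 1) (by simpa using hp.out.one_lt.ne')
  rw [finsum_mem_irr_eq_sum, Finset.sum_congr rfl
    (g := fun χ : IrrCharacter G => ((charDegree (χ : G → ℂ) ^ 2 : ℕ) : ℂ)) fun χ hχ => by
      rw [h χ (Finset.mem_filter.1 hχ).2 v hv, ← cast_charDegree χ.2.isCharacter, map_natCast,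
        Nat.cast_pow, sq], ← Nat.cast_sum, Nat.cast_eq_zero, Finset.sum_eq_zero_iff] at h2
  obtain ⟨χ, hχ⟩ := block_nonempty hM hB
  exact pow_ne_zero 2 (charDegree_ne_zero χ.2) (h2 χ (Finset.mem_filter.2 ⟨Finset.mem_univ _, hχ⟩))

theorem blockRank_eq_one_of_ker (hM : IsPModular p M) (hB : IsPBlock M B) [V.Normal]
    (hV : IsPGroup p V) {χ₁ : IrrCharacter G}
    (h : ∀ χ ∈ B, (∀ v ∈ V, (χ : G → ℂ) v = (χ : G → ℂ) 1) → χ = χ₁) : blockRank p B = 1 := by
  classical
  have hBi := eSet_mem_intAlg hM hB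
  let π := QuotientGroup.mk' V
  have hπ : Function.Surjective π := QuotientGroup.mk'_surjective V
  have key : ∀ i ∈ ibrOf M B, ∃ c : ℂ, brauer i = c • regPart p (χ₁ : G → ℂ) := by
    intro i hi
    obtain ⟨j, hj⟩ := exists_brauer_eq_quotient hM V hV i
    have hD := eSet_domSet_mem_intAlg π hπ hBi
    have h1 : j ∈ ibrOf M (domSet π hπ B) := by
      by_contra hn
      have e1 := ev_brauer_eSet hM hD j
      have e2 := ev_brauer_eSet hM hBi i
      rw [if_neg hn, ← mapDomain_eSet, ev_mapDomain] at e1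
      rw [if_pos hi] at e2
      have e3 : regPart p (fun g => brauer j (π g)) = brauer i := by
        funext g
        by_cases hg : p ∣ orderOf g
        · rw [regPart_of_dvd _ hg, brauer_eq_zero hM i hg]
        · rw [regPart_of_not_dvd _ hg, hj g hg]; rfl
      rw [← ev_regPart_of_regSet (regSet_of_mem_intAlg hM hBi), e3, e2] at e1
      exact brDeg_ne_zero i (by exact_mod_cast e1)
    obtain ⟨a, ha, -, e⟩ := exists_int_brauer_of_mem hM hD h1
    refine ⟨∑ ψ, (a ψ : ℂ), funext fun g => ?_⟩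
    by_cases hg : p ∣ orderOf g
    · rw [Pi.smul_apply, regPart_of_dvd _ hg, brauer_eq_zero hM i hg, smul_zero]
    · have hg' : ¬ p ∣ orderOf (π g) := fun e => hg (e.trans (orderOf_map_dvd π g))
      rw [Pi.smul_apply, regPart_of_not_dvd _ hg, hj g hg, e, Finset.sum_apply, Finset.sum_smul]
      refine Finset.sum_congr rfl fun ψ _ => ?_
      by_cases hψ : ψ ∈ domSet π hπ B
      · rw [Pi.smul_apply, show ((g : G ⧸ V)) = π g from rfl, regPart_of_not_dvd _ hg',
          ← h _ hψ fun v hv => by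
            change (ψ : G ⧸ V → ℂ) (π v) = (ψ : G ⧸ V → ℂ) (π 1)
            rw [map_one, show π v = 1 from (QuotientGroup.eq_one_iff v).2 hv]]
        rfl
      · simp [ha ψ hψ]
  choose! c hc using key
  refine blockRank_eq_one hM hB (regPart p (χ₁ : G → ℂ)) fun χ hχ =>
    ⟨∑ i ∈ ibrOf M B, (dec (χ : G → ℂ) i : ℂ) * c i, ?_⟩
  rw [regPart_eq_sum_ibrOf hM hχ, Finset.sum_smul]
  exact Finset.sum_congr rfl fun i hi => by rw [hc i hi, smul_smul]

theorem trans_sq (hM : IsPModular p M) (hB : IsPBlock M B) [V.Normal] (hV : IsPGroup p V)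
    {χ₁ χ₂ χ₃ : IrrCharacter G} (h12 : χ₁ ≠ χ₂) (h13 : χ₁ ≠ χ₃) (h23 : χ₂ ≠ χ₃)
    (hBe : B = {χ₁, χ₂, χ₃}) (h1 : ∀ v ∈ V, (χ₁ : G → ℂ) v = (χ₁ : G → ℂ) 1)
    (h2 : ∀ v ∈ V, (χ₂ : G → ℂ) v = (χ₂ : G → ℂ) 1)
    (h3 : ¬ ∀ v ∈ V, (χ₃ : G → ℂ) v = (χ₃ : G → ℂ) 1) :
    (∀ u ∈ V, ∀ v ∈ V, u ≠ 1 → v ≠ 1 → IsConj u v) ∧ ∃ x y, Nat.card V - 1 = x ^ 2 + y ^ 2 := by
  classical
  letI : Fintype V := Fintype.ofFinite _
  have hs : ∀ f : IrrCharacter G → ℂ, ∑ᶠ χ ∈ B, f χ = f χ₁ + f χ₂ + f χ₃ := fun f => by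
    rw [hBe, finsum_mem_insert _ (by simp [h12, h13]) (Set.toFinite _), finsum_mem_pair h23,
      add_assoc]
  set a := charDegree (χ₁ : G → ℂ)
  set b := charDegree (χ₂ : G → ℂ)
  set d := charDegree (χ₃ : G → ℂ)
  have ha : (χ₁ : G → ℂ) 1 = a := (cast_charDegree χ₁.2.isCharacter).symm
  have hb : (χ₂ : G → ℂ) 1 = b := (cast_charDegree χ₂.2.isCharacter).symm
  have hd : (χ₃ : G → ℂ) 1 = d := (cast_charDegree χ₃.2.isCharacter).symm
  have ha0 : a ≠ 0 := charDegree_ne_zero χ₁.2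
  have hd0 : d ≠ 0 := charDegree_ne_zero χ₃.2
  have hv : ∀ v ∈ V, v ≠ 1 → (χ₃ : G → ℂ) v * d = -(a ^ 2 + b ^ 2) := fun v hv hv1 => by
    have := sum_mul_conj_eq_zero_of_singular_regular hM (val_blockCoeff_le_one hM hB)
      (dvd_orderOf_of_mem hV hv hv1) (y := 1) (by simpa using hp.out.one_lt.ne')
    rw [hs, h1 v hv, h2 v hv, ha, hb, hd, map_natCast, map_natCast, map_natCast] at this
    linear_combination this
  constructor
  · intro u hu v hv' hu1 hv1
    by_contra hn
    have e1 := sum_mul_conj_eq_zero_of_val hM (val_blockCoeff_le_one hM hB) (g := u) (h := v) (by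
      rwa [pPart_eq_self_iff.2 (orderOf_eq_pow_of_mem hV hu),
        pPart_eq_self_iff.2 (orderOf_eq_pow_of_mem hV hv')])
    rw [hs, h1 u hu, h1 v hv', h2 u hu, h2 v hv', ha, hb, map_natCast, map_natCast] at e1
    have e2 := hv u hu hu1
    have e3 := congrArg conj (hv v hv' hv1)
    simp only [map_mul, map_natCast, map_neg, map_add, map_pow] at e3
    have e4 : (((a ^ 2 + b ^ 2) * (d ^ 2 + (a ^ 2 + b ^ 2)) : ℕ) : ℂ) = 0 := by
      push_cast
      linear_combination (d : ℂ) ^ 2 * e1 - conj ((χ₃ : G → ℂ) v) * d * e2 +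
        ((a : ℂ) ^ 2 + b ^ 2) * e3
    exact absurd (Nat.cast_eq_zero.1 e4) (by positivity)
  · have e1 : classInner (fun n : V => (χ₃ : G → ℂ) n) (fun _ => 1) = 0 := by
      by_contra hn
      exact h3 ((over_one_iff χ₃.2).1 hn)
    rw [classInner_one_right, mul_eq_zero, or_iff_right (inv_ne_zero (card_ne_zero V)),
      ← Finset.add_sum_erase _ _ (Finset.mem_univ 1)] at e1
    have e2 : (∑ v ∈ Finset.univ.erase (1 : V), (χ₃ : G → ℂ) v) * d =
        (Nat.card V - 1 : ℕ) * -((a : ℂ) ^ 2 + b ^ 2) := by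
      rw [Finset.sum_mul, Finset.sum_congr rfl fun (v : V) hv' => hv v v.2
        fun e => Finset.ne_of_mem_erase hv' (Subtype.ext e), Finset.sum_const,
        Finset.card_erase_of_mem (Finset.mem_univ _), Finset.card_univ, ← Nat.card_eq_fintype_card,
        nsmul_eq_mul]
    refine exists_sq_add_sq_of_mul (b := b) (d := d) ha0 (Nat.cast_injective (R := ℂ) ?_)
    rw [OneMemClass.coe_one, hd] at e1
    push_cast
    linear_combination e2 - (d : ℂ) * e1

theorem normal_centralizer_of_normal (V : Subgroup G) [V.Normal] :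
    (centralizer (V : Set G)).Normal :=
  ⟨fun g hg h => (conj_mem_centralizer_iff_of_normal V g h).2 hg⟩

/-- The local structure of a block with normal abelian defect group whose root is stable. -/
theorem exists_canonical (hM : IsPModular p M) (hB : IsPBlock M B) [V.Normal]
    (hD : IsDefectGroup p M B V) {C : Subgroup G} (hC : centralizer (V : Set G) = C) [C.Normal]
    [Fintype C] (hab : V ≤ C) {b : Set (IrrCharacter C)} (hb : IsPBlock M b)
    (hcov : Covers C B b) (hst : blockStab C b = ⊤) :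
    ¬ p ∣ C.index ∧ ∃ θ : IrrCharacter C, InvBy ⊤ θ.1 ∧ ∀ χ : IrrCharacter G,
      classInner (fun n : C => χ.1 n) θ.1 ≠ 0 → χ ∈ B ∧ ∀ v ∈ V, (χ : G → ℂ) v = (χ : G → ℂ) 1 := by
  letI : Fintype G := Fintype.ofFinite _
  letI : Fintype (⊤ : Subgroup G) := Fintype.ofFinite _
  have hV := isPGroup_of_isDefectGroup hD
  have habove : ∀ B' : Set (IrrCharacter G), IsPBlock M B' → Covers C B' b → B' = above C b :=
    fun B' h1 h2 => h2.eq_above hM h1 hb fun g hg =>
      val_blockCoeff_lt_one_of_normal hM V hV (eSet_mem_intAlg hM h1) (hC ▸ hg)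
  obtain ⟨B', hB', hsub, hdef⟩ := exists_block_aboveIn_defect hM hb (le_top : C ≤ ⊤) hst.ge
  obtain ⟨B'', hind, hcov'⟩ := exists_isInducedBlock_aboveIn hM hb hst.le hB' hsub
  have h1 := blockDefect_of_isInducedBlock_aboveIn (p := p) hM hb hst.le hsub hind
  rw [habove B'' hind.2.1 hcov', ← habove B hB hcov] at h1
  obtain ⟨D, hDb⟩ := exists_isDefectGroup hM hb
  have hV' : IsPGroup p (V.subgroupOf C) := hV.comap_subtype
  have hle := le_defectGroup_of_normal hM hb hDb (V.subgroupOf C) hV'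
  have hcard : Nat.card (V.subgroupOf C) = p ^ blockDefect p B := by
    rw [Nat.card_congr (subgroupOfEquivOfLe hab).toEquiv, card_defectGroup hM hB hD]
  have h2 : blockDefect p B ≤ blockDefect p b := by
    have := card_le_of_le hle
    rw [hcard, card_defectGroup hM hb hDb] at this
    exact (Nat.pow_le_pow_iff_right hp.out.one_lt).1 this
  have hDV : V.subgroupOf C = D := eq_of_le_of_card_ge hle (by
    rw [hcard, card_defectGroup hM hb hDb]
    exact Nat.pow_le_pow_right hp.out.pos (by omega))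
  subst hDV
  refine ⟨fun h => ?_, ?_⟩
  · have := hp.out.factorization_pos_of_dvd index_ne_zero_of_finite h
    rw [relIndex_top_right] at hdef
    omega
  obtain ⟨θ, hθ, hker⟩ := exists_mem_ker_of_normal hM hb hV'
  have htop : V.subgroupOf C ⊔ centralizer (V.subgroupOf C : Set C) = ⊤ :=
    eq_top_iff.2 fun c _ => mem_sup_right fun v hv => Subtype.ext ((hC.ge c.2) v hv)
  have hinv : ∀ g : G, conjIrr C θ g = θ := fun g =>
    eq_of_ker_of_sup_centralizer hM htop hb hDb hθ
      (conjIrr_mem_of_mem_blockStab (hst.ge (mem_top g)) hθ) hker fun x hx => by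
        rw [conjIrr_apply, conjIrr_apply, hker _ (‹V.Normal›.conj_mem _ hx g)]
        exact congrArg (θ : C → ℂ) (Subtype.ext (by simp))
  refine ⟨θ, fun s _ g g' e => ?_, fun χ hχ => ⟨?_, fun v hv => ?_⟩⟩
  · conv_rhs => rw [← hinv s, conjIrr_apply]
    exact congrArg (θ : C → ℂ) (Subtype.ext e)
  · rw [habove B hB hcov]
    exact ⟨θ, hθ, hχ⟩
  · have := clifford_invariant C χ.2 θ.2 hχ fun g => congrArg Subtype.val (hinv g)
    have e1 := congrFun this ⟨v, hab hv⟩
    have e2 := congrFun this 1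
    simp only [Pi.smul_apply, OneMemClass.coe_one] at e1 e2
    rw [e1, e2, hker ⟨v, hab hv⟩ hv]

theorem card_le_three_of_stable (hM : IsPModular p M) (hB : IsPBlock M B) [V.Normal]
    (hD : IsDefectGroup p M B V) {C : Subgroup G} (hC : centralizer (V : Set G) = C) [C.Normal]
    [Fintype C] (hab : V ≤ C) {b : Set (IrrCharacter C)} (hb : IsPBlock M b)
    (hcov : Covers C B b) (hst : blockStab C b = ⊤) (hk : Nat.card B = 3) : Nat.card V ≤ 3 := by
  classical
  by_cases h0 : V = ⊥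
  · rw [h0, card_bot]; norm_num
  have hV := isPGroup_of_isDefectGroup hD
  by_cases hJ : ∃ χ₁, ∀ χ ∈ B, (∀ v ∈ V, (χ : G → ℂ) v = (χ : G → ℂ) 1) → χ = χ₁
  · obtain ⟨χ₁, h⟩ := hJ
    have := (S4648.result p M hM B hB V hD h0 (blockRank_eq_one_of_ker hM hB hV h) (by omega)).2.1
    omega
  push Not at hJ
  obtain ⟨χ₁, hχ₁, h1⟩ := exists_mem_ker_of_normal hM hB hV
  obtain ⟨χ₂, hχ₂, h2, h21⟩ := hJ χ₁
  obtain ⟨χ₃, hχ₃, h3⟩ := exists_not_ker hM hB hV h0
  have h13 : χ₁ ≠ χ₃ := fun e => h3 (e ▸ h1)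
  have h23 : χ₂ ≠ χ₃ := fun e => h3 (e ▸ h2)
  have hBe : B = {χ₁, χ₂, χ₃} := by
    refine (Set.eq_of_subset_of_ncard_le ?_ ?_).symm
    · rintro χ (rfl | rfl | rfl) <;> assumption
    · rw [← Nat.card_coe_set_eq, hk, Set.ncard_eq_three.2 ⟨χ₁, χ₂, χ₃, h21.symm, h13, h23, rfl⟩]
  obtain ⟨htr, x, y, hsq⟩ := trans_sq hM hB hV h21.symm h13 h23 hBe h1 h2 h3
  obtain ⟨hidx, θ, hθ, hover⟩ := exists_canonical hM hB hD hC hab hb hcov hst
  have hEA : IsElementaryAbelian p V := by
    refine ⟨⟨⟨fun a c => Subtype.ext ((hC.ge (hab c.2)) a a.2)⟩⟩, fun a ha => ?_⟩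
    by_cases ha1 : a = 1
    · rw [ha1, one_pow]
    obtain ⟨k, hk⟩ := hV.exists_card_eq
    have hk0 : k ≠ 0 := fun e => h0 (card_eq_one.1 (by rw [hk, e, pow_zero]))
    obtain ⟨u, hu⟩ := exists_prime_orderOf_dvd_card' (G := V) p (hk ▸ dvd_pow_self p hk0)
    have hu1 : (u : G) ≠ 1 := fun e => hp.out.one_lt.ne (by
      rw [← hu, show u = 1 from Subtype.ext e, orderOf_one])
    obtain ⟨g, rfl⟩ := isConj_iff.1 (htr u u.2 a ha hu1 ha1)
    rw [conj_pow, ← coe_pow, ← hu, pow_orderOf_eq_one]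
    simp
  have hn : (⊤ : Subgroup G) ≤ normalizer (V : Set G) := top_le_normalizer_of_normal V
  let ρ₁ : G →* (Module.End (ZMod p) (PLocal.EA hEA))ˣ :=
    ((PLocal.EA.rep hEA ⊤ hn).comp (topEquiv (G := G)).symm.toMonoidHom).toHomUnits
  have hρ : ∀ (g : G) (w : PLocal.EA hEA),
      ((ρ₁ g : Module.End (ZMod p) (PLocal.EA hEA)) w).val = g * w.val * g⁻¹ := fun _ _ => rfl
  have hker : ρ₁.rangeRestrict.ker = C := by
    rw [MonoidHom.ker_rangeRestrict, ← hC]
    ext g
    rw [MonoidHom.mem_ker, ← Units.val_eq_one]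
    exact PLocal.EA.rep_eq_one_iff hn ⟨g, trivial⟩
  haveI : Finite (PLocal.EA hEA) := Finite.of_equiv _ (PLocal.EA.equivV hEA).symm
  haveI : Nontrivial (PLocal.EA hEA) := by
    haveI := (nontrivial_iff_ne_bot V).2 h0
    exact (PLocal.EA.equivV hEA).nontrivial
  haveI : Finite (Module.End (ZMod p) (PLocal.EA hEA)) :=
    Finite.of_injective _ DFunLike.coe_injective
  rw [← PLocal.EA.card_eq hEA] at hsq ⊢
  refine card_le_three (E := ρ₁.range) (fun v w hv hw => ?_) (fun g h hg hh hg1 hh1 => ?_) ?_ hsq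
  · obtain ⟨g, hg⟩ := isConj_iff.1 (htr _ v.val_mem _ w.val_mem
      (fun e => hv (PLocal.EA.val_eq_one_iff.1 e)) fun e => hw (PLocal.EA.val_eq_one_iff.1 e))
    exact ⟨⟨ρ₁ g, g, rfl⟩, PLocal.EA.val_injective ((hρ g v).trans hg)⟩
  · by_contra hn
    have h4 := three_le_card_over ρ₁.rangeRestrict ρ₁.rangeRestrict_surjective hker hθ hg hh hg1
      hh1 hn
    have h5 : Nat.card {χ : IrrCharacter G // classInner (fun n : C => χ.1 n) θ.1 ≠ 0} ≤
        ({χ₁, χ₂} : Set (IrrCharacter G)).ncard := by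
      refine Set.ncard_le_ncard (s := {χ : IrrCharacter G |
        classInner (fun n : C => χ.1 n) θ.1 ≠ 0}) (fun χ hχ => ?_) (Set.toFinite _)
      obtain ⟨e1, e2⟩ := hover χ hχ
      rw [hBe] at e1
      rcases e1 with rfl | rfl | rfl
      · exact Or.inl rfl
      · exact Or.inr rfl
      · exact absurd e2 h3
    rw [Set.ncard_pair h21.symm] at h5
    omega
  · rwa [← index_ker, ← MonoidHom.ker_rangeRestrict, hker]

theorem card_le_three_of_normal_aux (n : ℕ) : ∀ {G : Type u} [Group G] [Finite G]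
    {B : Set (IrrCharacter G)} {V : Subgroup G} [V.Normal], Nat.card G = n → IsPModular p M →
    IsPBlock M B → IsDefectGroup p M B V → V ≤ centralizer (V : Set G) → Nat.card B ≤ 3 →
    Nat.card V ≤ 3 := by
  induction n using Nat.strong_induction_on with
  | _ n ih =>
  intro G _ _ B V _ hn hM hB hD hab hk
  letI : Fintype G := Fintype.ofFinite _
  haveI := normal_centralizer_of_normal V
  letI : Fintype (centralizer (V : Set G)) := Fintype.ofFinite _
  obtain ⟨b, hb, hcov⟩ := exists_covered (N := centralizer (V : Set G)) hM hB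
  by_cases hst : blockStab (centralizer (V : Set G)) b = ⊤
  · by_cases h0 : V = ⊥
    · rw [h0, card_bot]; norm_num
    have hV := isPGroup_of_isDefectGroup hD
    obtain ⟨χ₁, hχ₁, h1⟩ := exists_mem_ker_of_normal hM hB hV
    obtain ⟨χ₃, hχ₃, h3⟩ := exists_not_ker hM hB hV h0
    have h2 : 1 < Nat.card B := Finite.one_lt_card_iff_nontrivial.2
      ⟨⟨χ₁, hχ₁⟩, ⟨χ₃, hχ₃⟩, fun e => h3 ((show χ₁ = χ₃ from congrArg Subtype.val e) ▸ h1)⟩
    by_cases h4 : Nat.card B = 2
    · rw [(S4607.result p M hM B hB V hD).1 h4]; norm_num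
    · exact card_le_three_of_stable hM hB hD rfl hab hb hcov hst (by omega)
  set T := blockStab (centralizer (V : Set G)) b with hT
  letI : Fintype T := Fintype.ofFinite _
  have hCT : centralizer (V : Set G) ≤ T := le_blockStab b
  obtain ⟨B', hB', hsub, hind⟩ := exists_aboveIn_isInducedBlock (hNT := hCT) hM hb le_rfl hB hcov
  obtain ⟨D, hDb⟩ := exists_isDefectGroup hM hB'
  have h1 := defectGroup_eq_of_normal hM hB hD
    (isDefectGroup_map_of_isInducedBlock_aboveIn hM hb le_rfl hsub hind hDb)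
  have h2 : V.subgroupOf T = D := by
    rw [h1]; exact comap_map_eq_self_of_injective T.subtype_injective D
  subst h2
  have h3 : Nat.card B' ≤ Nat.card B := by
    refine Nat.card_le_card_of_injective (fun ψ : B' =>
      (⟨⟨_, isIrr_indFun_of_mem_aboveIn hM hb le_rfl (hsub ψ.2)⟩,
        (mem_iff_of_isInducedBlock_aboveIn hM hb le_rfl hsub hind).2 ⟨ψ, ψ.2, rfl⟩⟩ : B))
      fun ψ η e => Subtype.ext ?_
    have e' : indFun T (ψ.1 : T → ℂ) = indFun T (η.1 : T → ℂ) :=
      congrArg (fun χ : B => (χ.1 : G → ℂ)) e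
    refine eq_of_mem_aboveIn_of_inner hM hb le_rfl (hsub ψ.2) (hsub η.2) ?_
    rw [e', ← blockPart_aboveIn_indFun hM hb le_rfl (hsub η.2)]
    intro h
    have h4 := classInner_blockPart (aboveIn hCT b) (fun t : T => indFun T (η.1 : T → ℂ) t) η.1
    rw [blockPart_aboveIn_indFun hM hb le_rfl (hsub η.2)] at h h4
    rw [if_pos (hsub η.2), h, η.1.2.inner_self] at h4
    exact one_ne_zero h4
  have hlt : Nat.card T < n := by
    rw [← hn]
    exact lt_of_le_of_ne (card_le_card_group T) fun e => hst (eq_top_of_card_eq T e)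
  have := ih _ hlt rfl hM hB' hDb (fun a ha c hc => Subtype.ext (hab ha c hc)) (h3.trans hk)
  rwa [Nat.card_congr (subgroupOfEquivOfLe (hab.trans hCT)).toEquiv] at this

/-- A block with a normal abelian defect group `V` and at most three characters has `|V| ≤ 3`. -/
theorem card_le_three_of_normal (hM : IsPModular p M) (hB : IsPBlock M B) [V.Normal]
    (hD : IsDefectGroup p M B V) (hab : V ≤ centralizer (V : Set G)) (hk : Nat.card B ≤ 3) :
    Nat.card V ≤ 3 := card_le_three_of_normal_aux _ rfl hM hB hD hab hk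

end Cfsg.Agent.Block
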