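import Mathlib

/-! Integer combinatorics for principal `3`-blocks with defect group `3 × 3` and inertial
quotient `2 × 2`: two symmetric integer matrices `R`, `R'` with `R² = 3R`, `R R' = S Sᵀ`. -/

set_option autoImplicit false
set_option linter.unusedSectionVars false

namespace Cfsg.Agent.Block.Nine

open Finset

theorem two_pow_cases (k : ℕ) :
    2 ^ k % 32 = 0 ∨ 2 ^ k = 1 ∨ 2 ^ k = 2 ∨ 2 ^ k = 4 ∨ 2 ^ k = 8 ∨ 2 ^ k = 16 := by
  rcases Nat.lt_or_ge k 5 with h5 | h5
  · interval_cases k <;> omega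
  · obtain ⟨l, rfl⟩ := Nat.exists_eq_add_of_le h5
    rw [pow_add]
    omega

theorem pow_mod_cases (q M l : ℕ) (h : q ^ 2 % M = 1 % M) :
    q ^ l % M = 1 % M ∨ q ^ l % M = q % M := by
  have h1 : ∀ m, (q ^ 2) ^ m ≡ 1 [MOD M] := fun m => by simpa using Nat.ModEq.pow m h
  obtain ⟨m, rfl | rfl⟩ := Nat.even_or_odd' l
  · left; rw [pow_mul]; exact h1 m
  · right
    have := (h1 m).mul_right q
    rwa [one_mul, ← pow_mul, ← pow_succ] at this

theorem eq_pow_mul_pow {q a b x : ℕ} (hq : q.Prime) (hx : x ∣ 9 * 2 ^ a * q ^ b) (h3 : ¬ 3 ∣ x) :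
    ∃ i j, j ≤ b ∧ x = 2 ^ i * q ^ j := by
  have h9 : x.Coprime 9 := Nat.Coprime.pow_right 2 ((Nat.Prime.coprime_iff_not_dvd
    Nat.prime_three).2 h3).symm
  rw [mul_assoc] at hx
  obtain ⟨y, z, hy, hz, rfl⟩ := (Nat.dvd_mul).1 (h9.dvd_of_dvd_mul_left hx)
  obtain ⟨i, -, rfl⟩ := (Nat.dvd_prime_pow Nat.prime_two).1 hy
  obtain ⟨j, hj, rfl⟩ := (Nat.dvd_prime_pow hq).1 hz
  exact ⟨i, j, hj, rfl⟩

/-- Consecutive `{2, q}`-numbers. -/
theorem consec {q a b x : ℕ} (hq : q = 5 ∨ q = 7 ∨ q = 13 ∨ q = 17) (h2 : 2 ≤ x)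
    (hx : x ∣ 9 * 2 ^ a * q ^ b) (hy : x + 1 ∣ 9 * 2 ^ a * q ^ b) (h3 : ¬ 3 ∣ x)
    (h3' : ¬ 3 ∣ x + 1) : (q = 5 ∧ x = 4) ∨ (q = 7 ∧ x = 7) ∨ (q = 17 ∧ x = 16) := by
  have hp : q.Prime := by rcases hq with rfl | rfl | rfl | rfl <;> norm_num
  obtain ⟨i, j, -, e1⟩ := eq_pow_mul_pow hp hx h3
  obtain ⟨k, l, -, e2⟩ := eq_pow_mul_pow hp hy h3'
  have hodd : ∀ n, q ^ n % 2 = 1 := fun n => Nat.odd_iff.1
    (Odd.pow (by rcases hq with rfl | rfl | rfl | rfl <;> decide))
  have hjl : j = 0 ∨ l = 0 := by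
    by_contra h
    push Not at h
    have h1 : q ∣ x := e1 ▸ Dvd.dvd.mul_left (dvd_pow_self q h.1) _
    have h2 : q ∣ x + 1 := e2 ▸ Dvd.dvd.mul_left (dvd_pow_self q h.2) _
    exact hp.one_lt.ne' (Nat.dvd_one.1 ((Nat.dvd_add_right h1).1 h2))
  have hik : i = 0 ∨ k = 0 := by
    by_contra h
    push Not at h
    have h1 : 2 ∣ x := e1 ▸ Dvd.dvd.mul_right (dvd_pow_self 2 h.1) _
    have h2 : 2 ∣ x + 1 := e2 ▸ Dvd.dvd.mul_right (dvd_pow_self 2 h.2) _
    omega
  have hm : ∀ n, q ^ n % 96 = 1 ∨ q ^ n % 96 = q ∨ (q ≠ 17 ∧ (q ^ n % 48 = 1 ∨ q ^ n % 48 = q ∨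
      (q ≠ 7 ∧ (q ^ n % 24 = 1 ∨ q ^ n % 24 = q)))) := fun n => by
    rcases hq with rfl | rfl | rfl | rfl
    · have := pow_mod_cases 5 24 n (by norm_num); omega
    · have := pow_mod_cases 7 48 n (by norm_num); omega
    · have := pow_mod_cases 13 24 n (by norm_num); omega
    · have := pow_mod_cases 17 96 n (by norm_num); omega
  rcases hik with rfl | rfl <;> rcases hjl with rfl | rfl <;>
    simp only [pow_zero, one_mul, mul_one] at e1 e2
  · omega
  · have h4 := hm j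
    have h5 := two_pow_cases k
    rw [← e1] at h4
    rw [← e2] at h5
    rcases hq with rfl | rfl | rfl | rfl <;> omega
  · have h4 := hm l
    have h5 := two_pow_cases i
    rw [← e2] at h4
    rw [← e1] at h5
    rcases hq with rfl | rfl | rfl | rfl <;> omega
  · omega

variable {ι : Type*} [Fintype ι] [DecidableEq ι]

/-- Besides `i`, the vector `r` has exactly two nonzero entries, both `± 1`. -/
structure Tri (r : ι → ℤ) (i j k : ι) : Prop where
  ji : j ≠ i
  ki : k ≠ i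
  jk : j ≠ k
  rj : r j = 1 ∨ r j = -1
  rk : r k = 1 ∨ r k = -1
  zero : ∀ l, l ≠ i → l ≠ j → l ≠ k → r l = 0

theorem Tri.symm {r : ι → ℤ} {i j k : ι} (h : Tri r i j k) : Tri r i k j :=
  ⟨h.ki, h.ji, h.jk.symm, h.rk, h.rj, fun l h1 h2 h3 => h.zero l h1 h3 h2⟩

theorem Tri.sum {r : ι → ℤ} {i j k : ι} (h : Tri r i j k) {A : Type*} [Ring A] (f : ι → A) :
    ∑ l, (r l : A) * f l = r i * f i + r j * f j + r k * f k := by
  rw [← sum_subset (subset_univ {i, j, k}) fun l _ hl => by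
    simp only [mem_insert, mem_singleton, not_or] at hl
    rw [h.zero l hl.1 hl.2.1 hl.2.2, Int.cast_zero, zero_mul],
    sum_insert (by simp [h.ji.symm, h.ki.symm]), sum_pair h.jk, add_assoc]

theorem Tri.cases {r : ι → ℤ} {i j k l : ι} (h : Tri r i j k) (hl : r l ≠ 0) :
    l = i ∨ l = j ∨ l = k := by
  by_contra h1
  push Not at h1
  exact hl (h.zero l h1.1 h1.2.1 h1.2.2)

theorem exists_tri (r : ι → ℤ) (i : ι) (h : ∑ l, r l * r l = r i * r i + 2) :
    ∃ j k, Tri r i j k := by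
  rw [← add_sum_erase _ _ (mem_univ i), add_right_inj] at h
  obtain ⟨j, hj, hj0⟩ : ∃ j ∈ univ.erase i, r j * r j ≠ 0 :=
    exists_ne_zero_of_sum_ne_zero (by rw [h]; norm_num)
  have hle := single_le_sum (f := fun l => r l * r l) (fun l _ => mul_self_nonneg (r l)) hj
  have hj1 : r j * r j = 1 := by
    have h1 : r j ≤ 1 := by nlinarith
    have h2 : -1 ≤ r j := by nlinarith
    generalize r j = c at *
    interval_cases c <;> simp_all
  rw [← add_sum_erase _ _ hj, hj1] at h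
  have h' : ∑ l ∈ (univ.erase i).erase j, r l * r l = 1 := by omega
  obtain ⟨k, hk, hk0⟩ : ∃ k ∈ (univ.erase i).erase j, r k * r k ≠ 0 :=
    exists_ne_zero_of_sum_ne_zero (by rw [h']; norm_num)
  have hle' := single_le_sum (f := fun l => r l * r l) (fun l _ => mul_self_nonneg (r l)) hk
  have hk1 : r k * r k = 1 := by have := mul_self_nonneg (r k); omega
  rw [← add_sum_erase _ _ hk, hk1] at h'
  have h0 := (sum_eq_zero_iff_of_nonneg fun l _ => mul_self_nonneg (r l)).1
    (show ∑ l ∈ ((univ.erase i).erase j).erase k, r l * r l = 0 by omega)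
  simp only [mem_erase, mem_univ, and_true] at hj hk h0
  exact ⟨j, k, hj, hk.2, hk.1.symm, Int.eq_one_or_neg_one_of_mul_eq_one hj1,
    Int.eq_one_or_neg_one_of_mul_eq_one hk1, fun l h1 h2 h3 => mul_self_eq_zero.1 (h0 l ⟨h3, h2, h1⟩)⟩

/-- One of the two matrices. -/
structure Mat (R : ι → ι → ℤ) (S d : ι → ℤ) : Prop where
  symm : ∀ i j, R i j = R j i
  gram : ∀ i j, ∑ l, R i l * R j l = 3 * R i j
  deg : ∀ i, ∑ l, R i l * d l = 0
  val : ∀ i, ∑ l, R i l * S l = 3 * S i

structure Vec (S d : ι → ℤ) (o : ι) : Prop where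
  nine : ∑ l, S l * S l = 9
  So : S o = 1
  ne : ∀ l, S l ≠ 0
  pos : ∀ l, 0 < d l
  one : ∀ l, d l = 1 ↔ l = o

variable {R R' : ι → ι → ℤ} {S d : ι → ℤ} {o : ι}

theorem Vec.bound (hv : Vec S d o) (l : ι) : S l = 1 ∨ S l = -1 ∨ S l = 2 ∨ S l = -2 := by
  by_cases h : l = o
  · exact .inl (h ▸ hv.So)
  have h1 := sum_le_sum_of_subset_of_nonneg (subset_univ {l, o}) (f := fun l => S l * S l)
    fun l _ _ => mul_self_nonneg (S l)
  rw [sum_pair h, hv.nine, hv.So] at h1
  have h2 : S l ≤ 2 := by nlinarith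
  have h3 : -2 ≤ S l := by nlinarith
  have := hv.ne l
  omega

theorem Mat.diag (h : Mat R S d) (hv : Vec S d o) (i : ι) :
    (R i i = 1 ∨ R i i = 2) ∧ ∃ j k, Tri (R i) i j k := by
  have h1 := h.gram i i
  have h2 := single_le_sum (f := fun l => R i l * R i l) (fun l _ => mul_self_nonneg _) (mem_univ i)
  have h0 : R i i ≠ 0 := fun e => by
    rw [e, mul_zero, sum_eq_zero_iff_of_nonneg fun l _ => mul_self_nonneg _] at h1
    have h3 := h.val i
    rw [sum_eq_zero fun l hl => by rw [mul_self_eq_zero.1 (h1 l hl), zero_mul]] at h3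
    have := hv.ne i
    omega
  have h3 : R i i ≠ 3 := fun e => by
    rw [← add_sum_erase _ _ (mem_univ i), e] at h1
    have h4 := (sum_eq_zero_iff_of_nonneg fun l _ => mul_self_nonneg (R i l)).1
      (show ∑ l ∈ univ.erase i, R i l * R i l = 0 by omega)
    have h5 := h.deg i
    rw [← add_sum_erase _ _ (mem_univ i), e,
      sum_eq_zero fun l hl => by rw [mul_self_eq_zero.1 (h4 l hl), zero_mul]] at h5
    have := hv.pos i
    omega
  have h4 : 0 ≤ R i i := by nlinarith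
  have h5 : R i i ≤ 3 := by nlinarith
  have h6 : R i i = 1 ∨ R i i = 2 := by omega
  exact ⟨h6, exists_tri _ i (by rw [h1]; rcases h6 with e | e <;> rw [e] <;> rfl)⟩

/-- A row with diagonal entry `1` at a place where `S = ± 1` is aligned with `S`. -/
theorem Mat.row (h : Mat R S d) (hv : Vec S d o) {i j k : ι} (t : Tri (R i) i j k)
    (h1 : R i i = 1) (hS : S i = 1 ∨ S i = -1) : R i j = S i * S j ∧ R i k = S i * S k ∧
      (S j = 1 ∨ S j = -1) ∧ (S k = 1 ∨ S k = -1) ∧ S i * d i + S j * d j + S k * d k = 0 := by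
  have h2 := h.val i
  have h3 := h.deg i
  have e2 := t.sum S
  have e3 := t.sum d
  simp only [Int.cast_id] at e2 e3
  rw [e2, h1] at h2
  rw [e3, h1] at h3
  have := hv.bound j
  have := hv.bound k
  rcases hS with a | a <;> rcases t.rj with b | b <;> rcases t.rk with c | c <;>
    (rw [a, b, c] at h2 ⊢
     rw [b, c] at h3
     have hj : S j = 1 ∨ S j = -1 := by omega
     have hk : S k = 1 ∨ S k = -1 := by omega
     rcases hj with hj | hj <;> rcases hk with hk | hk <;> rw [hj, hk] at h2 ⊢ <;> omega)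

theorem Mat.diag_one (h : Mat R S d) (hv : Vec S d o) (hS : ∀ l, S l = 1 ∨ S l = -1) (i : ι) :
    R i i = 1 := by
  obtain ⟨h1 | h1, j, k, t⟩ := h.diag hv i
  · exact h1
  have h2 := h.val i
  have e2 := t.sum S
  simp only [Int.cast_id] at e2
  rw [e2, h1] at h2
  rcases hS i with a | a <;> rcases t.rj with b | b <;> rcases t.rk with c | c <;>
    rcases hS j with e | e <;> rcases hS k with f | f <;> simp only [a, b, c, e, f] at h2 <;> omega

/-- The degrees possible in a group of order `9 · 2 ^ a · 7`. -/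
def Dg (x : ℤ) : Prop := (x % 2 = 1 → x = 1 ∨ x = 7) ∧ x % 5 ≠ 0 ∧ x % 11 ≠ 0 ∧ x % 3 ≠ 0

theorem seven_of {c x y s t : ℤ} (hx : Dg x) (hy : Dg y) (x0 : 0 < x) (y0 : 0 < y) (x1 : x ≠ 1)
    (y1 : y ≠ 1) (hs : s = 1 ∨ s = -1) (ht : t = 1 ∨ t = -1) (h : c + s * x + t * y = 0)
    (hc : c = 1 ∨ c = 7) : (s * x = 7 ∧ t * y = -7 - c) ∨ (t * y = 7 ∧ s * x = -7 - c) := by
  unfold Dg at hx hy
  rcases hs with rfl | rfl <;> rcases ht with rfl | rfl <;> omega

theorem seven_aux (h : Mat R S d) (h' : Mat R' S d) (hv : Vec S d o)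
    (hc : ∀ i j, ∑ l, R i l * R' j l = S i * S j) (hd : ∀ l, Dg (d l))
    (hS : ∀ l, S l = 1 ∨ S l = -1) {x y : ι} (hx : R o x ≠ 0) (hy : R' o y ≠ 0)
    (x7 : S x * d x = 7) (y8 : S y * d y = -8) : False := by
  have ho := h.diag_one hv hS
  have ho' := h'.diag_one hv hS
  have xo : x ≠ o := fun e => by rw [e, hv.So, (hv.one o).2 rfl] at x7; omega
  have yo : y ≠ o := fun e => by rw [e, hv.So, (hv.one o).2 rfl] at y8; omega
  -- entries are aligned with `S`
  have al : ∀ {T : ι → ι → ℤ}, Mat T S d → ∀ i l, T i l = 0 ∨ T i l = S i * S l := fun {T} m i l => by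
    obtain ⟨-, j, k, t⟩ := m.diag hv i
    have h1 := m.diag_one hv hS i
    obtain ⟨a, b, -⟩ := m.row hv t h1 (hS i)
    by_cases e : T i l = 0
    · exact .inl e
    rcases t.cases e with rfl | rfl | rfl
    · rcases hS l with a | a <;> simp [h1, a]
    · exact .inr a
    · exact .inr b
  -- the rows meet in at most one place
  have uniq : ∀ i j l m, l ≠ m → R i l ≠ 0 → R' j l ≠ 0 → R i m ≠ 0 → R' j m ≠ 0 → False :=
    fun i j l m hlm a b c e => by
      have h1 := hc i j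
      have h2 : ∀ n, 0 ≤ S i * S j * (R i n * R' j n) := fun n => by
        rcases al h i n with u | u <;> rcases al h' j n with v | v <;> rw [u, v] <;>
          rcases hS i with a | a <;> rcases hS j with b | b <;> rcases hS n with c | c <;>
          simp [a, b, c]
      have h3 : ∀ n, R i n ≠ 0 → R' j n ≠ 0 → S i * S j * (R i n * R' j n) = 1 := fun n u v => by
        rw [(al h i n).resolve_left u, (al h' j n).resolve_left v]
        rcases hS i with a | a <;> rcases hS j with b | b <;> rcases hS n with c | c <;>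
          simp [a, b, c]
      have h4 := sum_le_sum_of_subset_of_nonneg (subset_univ {l, m})
        (f := fun n => S i * S j * (R i n * R' j n)) fun n _ _ => h2 n
      rw [sum_pair hlm, h3 l a b, h3 m c e, ← mul_sum, h1] at h4
      rcases hS i with a | a <;> rcases hS j with b | b <;> simp [a, b] at h4
  have n1 : ∀ {T : ι → ι → ℤ}, Mat T S d → ∀ i, T i i ≠ 0 := fun m i => by
    rw [m.diag_one hv hS i]; exact one_ne_zero
  have xo' : R' x o = 0 := by
    by_contra e
    exact uniq o x x o xo hx (n1 h' x) (n1 h o) e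
  have yo' : R y o = 0 := by
    by_contra e
    exact uniq y o y o yo (n1 h y) hy e (n1 h' o)
  obtain ⟨c, -, hc0⟩ : ∃ c ∈ univ, R y c * R' x c ≠ 0 :=
    exists_ne_zero_of_sum_ne_zero (by rw [hc]; exact mul_ne_zero (hv.ne _) (hv.ne _))
  obtain ⟨c1, c2⟩ := mul_ne_zero_iff.1 hc0
  have trans : ∀ {T : ι → ι → ℤ}, Mat T S d → ∀ i j l, T i l ≠ 0 → T j l ≠ 0 → T i j ≠ 0 :=
    fun {T} m i j l a b e => by
      have h1 := m.gram i j
      have h2 : ∀ n, 0 ≤ S i * S j * (T i n * T j n) := fun n => by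
        rcases al m i n with u | u <;> rcases al m j n with v | v <;> rw [u, v] <;>
          rcases hS i with a | a <;> rcases hS j with b | b <;> rcases hS n with c | c <;>
          simp [a, b, c]
      have h4 := single_le_sum (f := fun n => S i * S j * (T i n * T j n)) (fun n _ => h2 n)
        (mem_univ l)
      rw [← mul_sum, h1, e, (al m i l).resolve_left a, (al m j l).resolve_left b] at h4
      rcases hS i with a | a <;> rcases hS j with b | b <;> rcases hS l with c | c <;>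
        simp [a, b, c] at h4
  have cx : c ≠ x := fun e => trans h y o x (e ▸ c1) hx yo'
  have cy : c ≠ y := fun e => trans h' x o y (e ▸ c2) hy xo'
  have key : ∀ {T : ι → ι → ℤ}, Mat T S d → ∀ i, T i o = 0 → T i c ≠ 0 → c ≠ i → ∃ z, z ≠ o ∧
      S i * d i + S c * d c + S z * d z = 0 := fun {T} m i a b e => by
    obtain ⟨-, j, k, t⟩ := m.diag hv i
    obtain ⟨-, -, -, -, u⟩ := m.row hv t (m.diag_one hv hS i) (hS i)
    have jo : j ≠ o := fun e => by have := t.rj; rw [e, a] at this; omega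
    have ko : k ≠ o := fun e => by have := t.rk; rw [e, a] at this; omega
    rcases t.cases b with rfl | rfl | rfl
    · exact absurd rfl e
    · exact ⟨k, ko, u⟩
    · exact ⟨j, jo, by omega⟩
  obtain ⟨z, zo, hz⟩ := key h' x xo' c2 cx
  obtain ⟨w, wo, hw⟩ := key h y yo' c1 cy
  have co : c ≠ o := fun e => c1 (e ▸ yo')
  rw [x7] at hz
  rw [y8] at hw
  have k1 := seven_of (hd c) (hd z) (hv.pos c) (hv.pos z) (mt (hv.one c).1 co)
    (mt (hv.one z).1 zo) (hS c) (hS z) hz (.inr rfl)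
  have k2 := hd w
  have k3 := mt (hv.one w).1 wo
  have k4 := hv.pos w
  unfold Dg at k2
  rcases hS w with a | a <;> rw [a] at hw <;> omega

theorem seven (h : Mat R S d) (h' : Mat R' S d) (hv : Vec S d o)
    (hc : ∀ i j, ∑ l, R i l * R' j l = S i * S j) (hSd : ∑ l, S l * d l = 0)
    (hd : ∀ l, Dg (d l)) (ho' : R' o o = 1) : False := by
  have d1 := (hv.one o).2 rfl
  have first : ∀ {T : ι → ι → ℤ}, Mat T S d → T o o = 1 → ∃ j k, Tri (T o) o j k ∧
      T o j = S j ∧ T o k = S k ∧ S j = 1 ∧ S k = -1 ∧ d j = 7 ∧ d k = 8 := fun {T} m e => by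
    obtain ⟨-, j, k, t⟩ := m.diag hv o
    obtain ⟨a, b, u, v, w⟩ := m.row hv t e (.inl hv.So)
    rw [hv.So, one_mul] at a b
    rw [hv.So, d1, one_mul] at w
    have pj := hv.pos j
    have pk := hv.pos k
    rcases seven_of (hd j) (hd k) pj pk (mt (hv.one j).1 t.ji) (mt (hv.one k).1 t.ki) u v w
      (.inl rfl) with ⟨e1, e2⟩ | ⟨e1, e2⟩
    · refine ⟨j, k, t, a, b, ?_⟩
      rcases u with u | u <;> rcases v with v | v <;> rw [u] at e1 <;> rw [v] at e2 <;> omega
    · refine ⟨k, j, t.symm, b, a, ?_⟩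
      rcases u with u | u <;> rcases v with v | v <;> rw [v] at e1 <;> rw [u] at e2 <;> omega
  obtain ⟨j, k, t, a1, a2, s1, s2, d7, d8⟩ := first h' ho'
  obtain ⟨ho | ho, l, m, t'⟩ := h.diag hv o
  swap
  · have h1 := hc o o
    have h2 := h.deg o
    have e1 := t'.sum (R' o)
    have e2 := t'.sum d
    simp only [Int.cast_id] at e1 e2
    rw [e1, ho, ho', hv.So] at h1
    rw [e2, ho, d1] at h2
    have c : ∀ n, n ≠ o → R' o n = 0 ∨ (R' o n = 1 ∧ d n = 7) ∨ (R' o n = -1 ∧ d n = 8) :=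
      fun n hn => by
        by_cases e : R' o n = 0
        · exact .inl e
        rcases t.cases e with rfl | rfl | rfl
        · exact absurd rfl hn
        · exact .inr (.inl ⟨a1.trans s1, d7⟩)
        · exact .inr (.inr ⟨a2.trans s2, d8⟩)
    have k1 := hd l
    have k2 := hd m
    unfold Dg at k1 k2
    rcases c l t'.ji with u | ⟨u, u'⟩ | ⟨u, u'⟩ <;> rcases c m t'.ki with v | ⟨v, v'⟩ | ⟨v, v'⟩ <;>
      rcases t'.rj with b | b <;> rcases t'.rk with c | c <;>
      simp only [u, v, b, c] at h1 h2 <;> omega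
  clear t' l m
  obtain ⟨l, m, t', b1, b2, r1, r2, e7, e8⟩ := first h ho
  have h1 := hc o o
  have e1 := t'.sum (R' o)
  simp only [Int.cast_id] at e1
  rw [e1, ho, ho', hv.So, b1, b2, r1, r2] at h1
  have lk : l ≠ k := fun e => by rw [e] at e7; omega
  have mj : m ≠ j := fun e => by rw [e] at e8; omega
  have lj : l ≠ j := fun e => by
    rw [e, a1, s1] at h1
    by_cases e' : m = k
    · rw [e', a2, s2] at h1; omega
    · rw [t.zero m t'.ki mj e'] at h1; omega
  have mk : m ≠ k := fun e => by rw [t.zero l t'.ji lj lk, e, a2, s2] at h1; omega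
  refine seven_aux h h' hv hc hd (fun n => ?_) (x := l) (y := k) (by rw [b1, r1]; norm_num)
    (by rw [a2, s2]; norm_num) (by rw [r1, e7]; norm_num) (by rw [s2, d8]; norm_num)
  by_contra hn
  have hn2 : S n * S n = 4 := by rcases hv.bound n with e | e | e | e <;> simp_all
  have ne : ∀ x, S x = 1 ∨ S x = -1 → n ≠ x := fun x hx e => hn (e ▸ hx)
  have n1 := ne o (.inl hv.So)
  have n2 := ne j (.inl s1)
  have n3 := ne k (.inr s2)
  have n4 := ne l (.inl r1)
  have n5 := ne m (.inr r2)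
  have hsum : ∀ f : ι → ℤ, ∑ x ∈ ({n, o, j, k, l, m} : Finset ι), f x =
      f n + f o + f j + f k + f l + f m := fun f => by
    rw [sum_insert (by simp [n1, n2, n3, n4, n5]),
      sum_insert (by simp [t.ji.symm, t.ki.symm, t'.ji.symm, t'.ki.symm]),
      sum_insert (by simp [t.jk, lj.symm, mj.symm]), sum_insert (by simp [lk.symm, mk.symm]),
      sum_pair t'.jk]
    ring
  have h9 := hv.nine
  rw [← sum_sdiff (subset_univ {n, o, j, k, l, m}), hsum, hn2, hv.So, s1, s2, r1, r2] at h9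
  have h0 := (sum_eq_zero_iff_of_nonneg fun x _ => mul_self_nonneg (S x)).1
    (show ∑ x ∈ univ \ {n, o, j, k, l, m}, S x * S x = 0 by omega)
  rw [← sum_sdiff (subset_univ {n, o, j, k, l, m}), hsum, hv.So, s1, s2, r1, r2, d1, d7, d8, e7, e8,
    sum_eq_zero fun x hx => by rw [mul_self_eq_zero.1 (h0 x hx), zero_mul]] at hSd
  rcases hv.bound n with e | e | e | e <;> rw [e] at hSd hn <;> omega

end Cfsg.Agent.Block.Nine
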