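import Mathlib
import Cfsg.Agent.Block.DGNIso
import Cfsg.Agent.Block.FongRed
import Cfsg.Agent.Block.CoverMore
import Cfsg.Agent.Block.IndTrans

/-!
# Blocks of `p`-solvable groups with abelian defect groups and their Brauer correspondents
-/

set_option autoImplicit false
set_option linter.unusedSectionVars false
set_option linter.style.haveILetI false

namespace Cfsg.Agent.Block

open Cfsg Cfsg.Agent.Char Subgroup Cfsg.Agent.PLocal.Amb
open scoped ComplexConjugate

universe u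

variable {M : Ideal AlgInt} {p : ℕ} [hp : Fact p.Prime] {G : Type u} [Group G] [Finite G]

theorem red_blockCoeff_singleton {X : Type*} [Group X] [Finite X] (hM : IsPModular p M)
    (hX : ¬ p ∣ Nat.card X) (θ : IrrCharacter X) :
    ∃ a ≠ 0, ∀ x, red M (blockCoeff {θ} x) = a * red M (θ.1 x⁻¹) := by
  have h1 := val_inv_of_eq_one ((val_natCast_eq_one_iff hM _).2 hX)
  have h2 : val M (θ.1 1) = 1 := by
    rw [← coe_charDegree_irr, val_natCast_eq_one_iff hM]
    exact fun h => hX (h.trans (θ.2.deg_dvd_card (coe_charDegree_irr θ).symm))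
  have h3 : val M ((Nat.card X : ℂ)⁻¹ * θ.1 1) = 1 := by rw [map_mul, h1, h2, mul_one]
  refine ⟨_, (red_ne_zero_iff h3.le).2 h3, fun x => ?_⟩
  rw [blockCoeff, finsum_mem_singleton, ← isCharacter_apply_inv θ.2.isCharacter, ← mul_assoc,
    red_mul h3.le (val_irr_le_one _ _)]

theorem range_subtype_comp {K P : Subgroup G} [K.Normal] (hK : ¬ p ∣ Nat.card K)
    (hP : IsPGroup p P) :
    ((𝐍[P]).subtype.comp (K.subgroupOf 𝐍[P]).subtype).range = K ⊓ 𝐂[P] := by
  rw [MonoidHom.range_comp, range_subtype, subgroupOf_map_subtype,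
    inf_normalizer_eq_inf_centralizer hK hP]

theorem br_sbar_eq_bar (hM : IsPModular p M) {K P : Subgroup G} [K.Normal]
    (hK : ¬ p ∣ Nat.card K) (hP : IsPGroup p P) {θ : IrrCharacter K} (hθ : P ≤ blockStab K {θ})
    {ξ : IrrCharacter (K.subgroupOf 𝐍[P])} {κ : resField M} (hκ : κ ≠ 0)
    (h : ∀ l : K.subgroupOf 𝐍[P], red M (θ.1 ⟨l, l.2⟩) = κ * red M (ξ.1 l)) :
    Alg.br P (sbar M K {θ}) = bar M ((𝐍[P]).subtype.comp (K.subgroupOf 𝐍[P]).subtype) {ξ} := by
  classical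
  haveI := charP_resField hM
  have hι := (𝐍[P]).subtype_injective.comp (K.subgroupOf 𝐍[P]).subtype_injective
  have hL : ¬ p ∣ Nat.card (K.subgroupOf 𝐍[P]) := fun h0 => hK (h0.trans (by
    rw [← card_map_of_injective (𝐍[P]).subtype_injective, subgroupOf_map_subtype]
    exact card_dvd_of_le inf_le_left))
  obtain ⟨a, ha, h1⟩ := red_blockCoeff_singleton hM hK θ
  obtain ⟨b, hb, h2⟩ := red_blockCoeff_singleton hM hL ξ
  have hθ' := isPBlock_singleton_of_not_dvd hM hK θ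
  have hx := Alg.br_idem hP ((inv_sbar_iff hM hθ').2 hθ) (isPrim_bar_subtype hM hθ').idem
  have hy := isPrim_bar hM (ι := (𝐍[P]).subtype.comp (K.subgroupOf 𝐍[P]).subtype) hι
    (isPBlock_singleton_of_not_dvd hM hL ξ)
  have h3 : b • Alg.br P (sbar M K {θ}) =
      (a * κ) • bar M ((𝐍[P]).subtype.comp (K.subgroupOf 𝐍[P]).subtype) {ξ} := by
    refine Alg.ext_coeff fun g => ?_
    rw [MonoidAlgebra.coeff_smul, MonoidAlgebra.coeff_smul, Finsupp.smul_apply, Finsupp.smul_apply]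
    by_cases hg : g ∈ ((𝐍[P]).subtype.comp (K.subgroupOf 𝐍[P]).subtype).range
    · have h4 := ((range_subtype_comp hK hP).le hg).2
      obtain ⟨l, rfl⟩ := hg
      rw [Alg.coeff_br_of_mem _ h4, coeff_bar hι, h2]
      refine (congrArg _ ((coeff_bar K.subtype_injective _ ⟨l, l.2⟩).trans
        ((h1 _).trans (congrArg _ (h l⁻¹))))).trans ?_
      simp only [smul_eq_mul]
      ring
    · rw [bar_def _ {ξ}, Alg.coeff_emb_of_notMem _ hg, smul_zero, Alg.coeff_br]
      split_ifs with h4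
      · rw [sbar, bar_def, Alg.coeff_emb_of_notMem _ fun h5 => hg ((range_subtype_comp hK hP).ge
          ⟨(range_subtype K).le h5, h4⟩), smul_zero]
      · exact smul_zero _
  have h4 := congrArg₂ (· * ·) h3 h3
  simp only [smul_mul_smul_comm, hx, hy.idem] at h4
  rw [mul_smul b b, h3, smul_smul] at h4
  rw [← mul_right_cancel₀ (mul_ne_zero ha hκ) (smul_left_injective _ hy.ne_zero h4)] at h3
  exact smul_right_injective _ hb h3

theorem PIso.ind_aboveIn (hM : IsPModular p M) {X Y : Type*} [Group X] [Fintype X] [Group Y]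
    [Finite Y] {K T : Subgroup X} [K.Normal] [Fintype K] [Fintype T] {hKT : K ≤ T}
    {b : Set (IrrCharacter K)} (hb : IsPBlock M b) (hT : blockStab K b ≤ T)
    {B' : Set (IrrCharacter T)} (hB' : B' ⊆ aboveIn hKT b) {B : Set (IrrCharacter X)}
    (hind : IsInducedBlock M T B' B) {c : Set (IrrCharacter Y)} (h : PIso p M c B') :
    PIso p M c B := by
  have h1 := fun χ => mem_iff_of_isInducedBlock_aboveIn hM hb hT hB' hind (χ := χ)
  refine h.ind (Equiv.ofBijective (fun ψ : B' => (⟨⟨_, isIrr_indFun_of_mem_aboveIn hM hb hT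
    (hB' ψ.2)⟩, (h1 _).2 ⟨ψ, ψ.2, rfl⟩⟩ : B)) ⟨fun ψ η e => Subtype.ext ?_, fun χ => ?_⟩)
      fun _ => rfl
  · refine eq_of_mem_aboveIn_of_inner hM hb hT (hB' ψ.2) (hB' η.2) ?_
    have h2 := isIrr_indFun_of_mem_aboveIn hM hb hT (hB' η.2)
    rw [show indFun T ψ.1.1 = indFun T η.1.1 from congrArg (·.1.1) e, classInner_conj_symm',
      ← classInner_indFun_left T _ h2.isClassFunction, h2.inner_self, map_one]
    exact one_ne_zero
  · obtain ⟨ψ, hψ, e⟩ := (h1 χ).1 χ.2
    exact ⟨⟨ψ, hψ⟩, Subtype.ext (Subtype.ext e.symm)⟩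

theorem pIso_step (hM : IsPModular p M) {G : Type u} [Group G] [Fintype G] {K T : Subgroup G}
    [K.Normal] [Fintype K] [Fintype T] (hK : ¬ p ∣ Nat.card K) {θ : IrrCharacter K} (hKT : K ≤ T)
    (hT : blockStab K {θ} = T) {B' : Set (IrrCharacter T)} {B : Set (IrrCharacter G)}
    (hB' : B' ⊆ aboveIn hKT {θ}) (hind : IsInducedBlock M T B' B)
    (ih : ∀ P N : Subgroup T, N = 𝐍[P] → IsDefectGroup p M B' P → P ≤ 𝐂[P] →
      ∀ c : Set (IrrCharacter N), IsInducedBlock M N c B' → PIso p M c B') (P : Subgroup G)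
    (hP : IsDefectGroup p M B P) (hab : P ≤ 𝐂[P]) (c : Set (IrrCharacter 𝐍[P]))
    (hc : IsInducedBlock M _ c B) : PIso p M c B := by
  haveI := charP_resField hM
  have hθ := isPBlock_singleton_of_not_dvd hM hK θ
  obtain ⟨D, hD⟩ := exists_isDefectGroup hM hind.1
  have hD' := isDefectGroup_map_of_isInducedBlock_aboveIn hM hθ hT.le hB' hind hD
  wlog hPD : P = D.map T.subtype generalizing P
  · obtain ⟨g, rfl⟩ := exists_conj_eq_defectGroup hM hind.2.1 hD' hP
    let f := ((MulAut.conj g).subgroupMap 𝐍[D.map T.subtype]).trans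
      (MulEquiv.subgroupCongr (normalizer_cj g _).symm)
    rw [centralizer_cj, cj_le_cj_iff] at hab
    have h1 := (isInducedBlock_trSet (MulAut.conj g) f (fun _ => rfl)).2 hc
    rw [trSet_conj] at h1
    exact trSet_symm_trSet f c ▸ ((this _ hD' hab _ h1 rfl).symm.trSet f.symm).symm
  have hp' := isPGroup_of_isDefectGroup hP
  have hPT : P ≤ T := hPD ▸ map_subtype_le _
  have hLT : T ⊓ 𝐍[P] ≤ T := inf_le_left
  have hLN : T ⊓ 𝐍[P] ≤ 𝐍[P] := inf_le_right
  have hN : (T ⊓ 𝐍[P]).subgroupOf T = 𝐍[D] := by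
    rw [inf_subgroupOf_left, normalizer_eq_subgroupOf, hPD]
  obtain ⟨γ, hγ, hγ'⟩ : ∃ γ : Set (IrrCharacter (T ⊓ 𝐍[P] : Subgroup G)),
      IsInducedBlock M _ (trSet (subgroupOfEquivOfLe hLT) γ) B' ∧
        sbar M _ γ = Alg.br P (sbar M T B') := by
    obtain ⟨c', h1, h2⟩ : ∃ c', IsInducedBlock M ((T ⊓ 𝐍[P]).subgroupOf T) c' B' ∧
        Alg.br D (gbar M B') = sbar M _ c' := by
      rw [hN]
      obtain ⟨c', h1, -⟩ := exists_brauerCorrespondent hM hind.1 hD
      exact ⟨c', h1, br_eq_bar_of_induced hM h1 hD⟩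
    refine ⟨trSet (subgroupOfEquivOfLe hLT).symm c', by rwa [trSet_trSet_symm], ?_⟩
    have h3 := Alg.br_emb T.subtype_injective D (gbar M B')
    rw [← hPD, h2, emb_bar,
      ← bar_trSet (subgroupOfEquivOfLe hLT).symm _ (eSet_mem_intAlg hM h1.1)] at h3
    exact h3.symm
  have hγb := (isPBlock_trSet_iff _).1 hγ.1
  have h1 : PIso p M B (trSet (subgroupOfEquivOfLe hLN) γ) := by
    have h2 := (ih D _ hN hD (fun x hx y hy => Subtype.ext
      (hab (hPD.ge ⟨x, hx, rfl⟩) y (hPD.ge ⟨y, hy, rfl⟩))) _ hγ).ind_aboveIn hM hθ hT.le hB' hind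
    have h3 := h2.symm.trSet (subgroupOfEquivOfLe hLT).symm
    rw [trSet_symm_trSet] at h3
    exact h3.trSet _
  have he := isPrim_bar_subtype hM hθ
  have hi := (inv_sbar_iff hM hθ).2 hT.ge
  have hx := he.isPrim_br_of_coprime le_normalizer_of_normal hK hp' (hi.mono hPT)
  obtain ⟨b, hb, hb'⟩ := exists_block_of_isPrim hM
    (ι := (𝐍[P]).subtype.comp (K.subgroupOf 𝐍[P]).subtype)
    ((𝐍[P]).subtype_injective.comp (K.subgroupOf 𝐍[P]).subtype_injective)
    ((range_subtype_comp hK hp').symm ▸ hx)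
  rw [← emb_bar] at hb'
  letI := Fintype.ofFinite 𝐍[P]
  letI := Fintype.ofFinite (K.subgroupOf 𝐍[P])
  letI := Fintype.ofFinite ((T ⊓ 𝐍[P]).subgroupOf 𝐍[P])
  have hKL : K.subgroupOf 𝐍[P] ≤ (T ⊓ 𝐍[P]).subgroupOf 𝐍[P] := fun x hx => ⟨hKT hx, x.2⟩
  have h2 : blockStab (K.subgroupOf 𝐍[P]) b ≤ (T ⊓ 𝐍[P]).subgroupOf 𝐍[P] := fun g hg => by
    refine ⟨hT.le ?_, g.2⟩
    rw [← stab_sbar hM hb, ← Alg.mem_stab_emb (𝐍[P]).subtype_injective, hb'] at hg
    have h3 := he.cj_of_mem (g := g) (le_normalizer_of_normal (mem_top _))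
      (le_normalizer_of_normal (mem_top _))
    rw [← stab_sbar hM hθ]
    refine h3.eq_of_mul_ne_zero (Alg.isComm_Z K) he fun h0 => hx.ne_zero ?_
    rw [← hx.idem, ← map_zero (Alg.br P), ← h0, Alg.br_mul hp' _ (hi.mono hPT),
      Alg.br_cj_of_mem g.2]
    · exact congrArg (· * _) (Alg.mem_stab.1 hg).symm
    · exact (Alg.cj_mem_fix (le_normalizer_of_normal (mem_top _)) g.2
        ⟨he.mem.1, hi.mono hPT⟩).2
  have h3 : trSet (subgroupOfEquivOfLe hLN) γ ⊆ aboveIn hKL b := by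
    refine subset_aboveIn hM hb (isPBlock_trSet _ hγb) ((sbar_mul_sbar_ne_zero_iff_aboveIn hM hKL
      (isPBlock_trSet _ hγb) hb).1 fun h0 => (isPrim_bar_subtype hM hγb).ne_zero ?_)
    have h4 := isPrim_bar_subtype hM hind.1
    obtain ⟨ψ, hψ⟩ := block_nonempty hM hind.1
    have h5 := (Alg.isComm_Z T _ h4.mem _ ⟨he.mem.1.mono hKT, hi⟩)
    have h6 := h4.mul_eq_of_ne_zero ⟨he.mem.1.mono hKT, hi⟩ he.idem (h5 ▸
      (sbar_mul_sbar_ne_zero_iff_aboveIn hM hKT hind.1 hθ).2 ⟨ψ, hψ, hB' hψ⟩)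
    have h7 := congrArg (Alg.emb (𝐍[P]).subtype) h0
    rw [map_mul, map_zero, hb', emb_bar, show (𝐍[P]).subtype.comp (Subgroup.subtype _) =
      (Subgroup.subtype _).comp (subgroupOfEquivOfLe hLN).toMonoidHom from rfl,
      bar_trSet _ _ (eSet_mem_intAlg hM hγb), ← sbar, hγ',
      ← Alg.br_mul hp' (h4.mem.2.mono hPT) (hi.mono hPT), h5, h6] at h7
    exact hγ'.trans h7
  obtain ⟨c₁, h4, -⟩ := exists_isInducedBlock_aboveIn hM hb h2 (isPBlock_trSet _ hγb) h3
  obtain rfl : c₁ = c := bar_inj_of_block hM (𝐍[P]).subtype_injective h4.2.1 hc.1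
    ((br_eq_bar_of_induced hM ((isInducedBlock_trans_subgroupOf hM hLN h4).1
      ((isInducedBlock_trans_subgroupOf hM hLT hγ).2 hind)) hP).symm.trans
        (br_eq_bar_of_induced hM hc hP))
  exact (h1.ind_aboveIn hM hb h2 h3 h4).symm

theorem pIso_of_isPSolvable (hM : IsPModular p M) (hG : IsPSolvable p G) {B : Set (IrrCharacter G)}
    (hB : IsPBlock M B) : ∀ P N : Subgroup G, N = 𝐍[P] → IsDefectGroup p M B P → P ≤ 𝐂[P] →
      ∀ c : Set (IrrCharacter N), IsInducedBlock M N c B → PIso p M c B := by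
  refine fong_induction hM (fun G _ _ B => ∀ P N : Subgroup G, N = 𝐍[P] → IsDefectGroup p M B P →
    P ≤ 𝐂[P] → ∀ c : Set (IrrCharacter N), IsInducedBlock M N c B → PIso p M c B) ?_
      (fun G _ _ _ _ θ T _ hKT _ hT B' B hB' hind ih P _ h => h ▸
        pIso_step hM (Grp.not_dvd_card_pPrimeCore p G) hKT hT hB' hind ih P) G hG B hB
  · rintro G _ _ _ hG θ hθ hB P _ rfl hP hab c hc
    have hK := Grp.not_dvd_card_pPrimeCore p G
    letI := Fintype.ofFinite ((pPrimeCore p G).subgroupOf 𝐍[P])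
    obtain ⟨S, rfl⟩ := (isDefectGroup_above_iff hM hK hθ hB).1 hP
    obtain ⟨ξ, h1, ⟨κ, hκ, h2⟩, h3⟩ := exists_pIso_above hM hK S.isPGroup' (by
      refine PLocal.sup_normalizer_eq_top_of_map_normal _ (Grp.pPrimeCore_coprime p G) S.isPGroup' ?_
      let S' := S.mapSurjective (QuotientGroup.mk'_surjective (pPrimeCore p G))
      have h4 := Grp.pCore_le_sylow S'
      have h5 : S'.toSubgroup ≤ 𝐂[S'.toSubgroup] := by
        rintro _ ⟨x, hx, rfl⟩ _ ⟨y, hy, rfl⟩
        rw [← map_mul, ← map_mul, hab hx y hy]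
      change S'.toSubgroup.Normal
      rw [← le_antisymm h4 ((h5.trans (centralizer_anti h4)).trans (PLocal.isPConstrained_iff.1
        (PLocal.isPConstrained_of_isPSolvable hG)))]
      infer_instance) θ hθ
    have hL : ¬ p ∣ Nat.card ((pPrimeCore p G).subgroupOf 𝐍[(S : Subgroup G)]) := fun h0 =>
      hK (h0.trans (by
        rw [← card_map_of_injective (Subgroup.subtype_injective _), subgroupOf_map_subtype]
        exact card_dvd_of_le inf_le_left))
    convert h3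
    refine bar_inj (Subgroup.subtype_injective _) (eSet_mem_intAlg hM hc.1)
      (eSet_above_mem_intAlg hM (isPBlock_singleton_of_not_dvd hM hL ξ)) ?_
    rw [← br_eq_bar_of_induced hM hc hP, bar_def _ (above _ _), ← gbar, ← gbar,
      gbar_above_of_isStable (isStable_singleton hθ), gbar_above_of_isStable (isStable_singleton h1),
      emb_bar, br_sbar_eq_bar hM hK S.isPGroup'
        ((isStable_iff_blockStab.1 (isStable_singleton hθ)).ge.trans' le_top) hκ h2]

end Cfsg.Agent.Block
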