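import Mathlib
import Cfsg.Agent.Block.Height
import Cfsg.Agent.Block.Principal
import Cfsg.Agent.Block.Induce
import Cfsg.Agent.Block.PPart
import Cfsg.Agent.Char.Clifford

/-!
# `p'`-degree characters in the principal block: the criterion `∑_{x p-regular} χ x ≢ 0`
-/

set_option autoImplicit false
set_option linter.dupNamespace false

namespace Cfsg.Agent.Block

open Cfsg Cfsg.Agent.Char Cfsg.Agent.PLocal MonoidAlgebra Subgroup
open scoped ComplexConjugate

variable {M : Ideal AlgInt} {p : ℕ} {G : Type*} [Group G] [Finite G] [hp : Fact p.Prime]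

/-- `χ` is a `p'`-degree member of the principal block iff the sum of its values on the
`p`-regular elements is a unit. -/
theorem mem_principal_and_not_dvd_iff (hM : IsPModular p M) (χ : IrrCharacter G) :
    (χ ∈ principalBlock M G ∧ ¬ p ∣ charDegree (χ : G → ℂ)) ↔
      val M (ev (χ : G → ℂ) (regElt p (fun _ => 1))) = 1 := by
  have h1 := val_om_regElt_eq_one_iff hM (isPBlock_blockOf χ) (self_mem_blockOf hM χ) (irrOne G)
  have h2 : val M (ev (χ : G → ℂ) (regElt p (fun _ => 1))) =
      val M (om (χ : G → ℂ) (regElt p (irrOne G : G → ℂ))) * val M (charDegree (χ : G → ℂ) : ℂ) := by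
    rw [ev_eq_om_mul χ.2.one_ne_zero, map_mul, cast_charDegree χ.2.isCharacter]; rfl
  rw [h2, ← val_natCast_eq_one_iff hM]
  constructor
  · rintro ⟨h3, h4⟩
    rw [h4, mul_one, h1]
    refine ⟨?_, blockHeight_one _⟩
    rw [← eq_blockOf_of_mem hM isPBlock_principal h3]
    exact irrOne_mem_principal hM
  · intro h
    have a := val_om_regElt_le (M := M) (p := p) χ.2 (irrOne G).2.isGen
    have b := val_natCast_le_one (M := M) (charDegree (χ : G → ℂ))
    have h3 : val M (om (χ : G → ℂ) (regElt p (irrOne G : G → ℂ))) = 1 :=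
      le_antisymm a (by rw [← h]; exact mul_le_of_le_one_right' b)
    refine ⟨?_, by rwa [h3, one_mul] at h⟩
    rw [block_eq_of_mem hM isPBlock_principal (isPBlock_blockOf χ) (irrOne_mem_principal hM)
      (h1.1 h3).1]
    exact self_mem_blockOf hM χ

/-- A character whose sum over the `p`-regular elements is a unit has a `p'`-degree constituent in
the principal block. -/
theorem exists_principal_constituent [Fintype G] (hM : IsPModular p M) {φ : G → ℂ}
    (hφ : IsGeneralizedCharacter G φ) (h : val M (ev φ (regElt p (fun _ => 1))) = 1) :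
    ∃ χ : IrrCharacter G, χ ∈ principalBlock M G ∧ ¬ p ∣ charDegree (χ : G → ℂ) ∧
      val M (classInner φ χ) = 1 := by
  obtain ⟨c, hc, e⟩ := hφ.exists_coeff
  rw [e, ev_sum_fun] at h
  obtain ⟨χ, -, hχ⟩ := exists_one_le_val_of_sum h.not_lt
  rw [ev_smul_fun] at hχ
  have a : val M (ev (χ : G → ℂ) (regElt p (fun _ => 1))) ≤ 1 :=
    val_ev_le_one (val_irr_le_one χ) (regElt_mem_intAlg (irrOne G).2.isGen)
  have b := val_intCast_le_one (M := M) (c χ)
  have h1 : val M (ev (χ : G → ℂ) (regElt p (fun _ => 1))) = 1 :=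
    (val_eq_one_iff_not_lt a).2 fun h => hχ (val_mul_lt_one_right b h)
  have h2 := (mem_principal_and_not_dvd_iff hM χ).2 h1
  exact ⟨χ, h2.1, h2.2, hc χ ▸ (val_eq_one_iff_not_lt b).2 fun h => hχ (val_mul_lt_one_left h a)⟩

/-- A `p'`-degree character in the principal block of a subgroup of `p'`-index lies under a
`p'`-degree character of the principal block. -/
theorem exists_principal_over_of_index (hM : IsPModular p M) (H : Subgroup G) [Fintype H]
    (hH : ¬ p ∣ H.index) {η : IrrCharacter H} (hη : η ∈ principalBlock M H)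
    (hd : ¬ p ∣ charDegree (η : H → ℂ)) :
    ∃ χ : IrrCharacter G, χ ∈ principalBlock M G ∧ ¬ p ∣ charDegree (χ : G → ℂ) ∧
      val M (classInner (fun h : H => (χ : G → ℂ) h) (η : H → ℂ)) = 1 := by
  have := Fintype.ofFinite G
  obtain ⟨χ, h1, h2, h3⟩ := exists_principal_constituent hM
    (isCharacter_indFun H η.2.isCharacter).isGen (by
      rw [ev_indFun H _ (regElt_mem_ZA (ψ := fun _ => 1) (irrOne G).2.isClassFunction), res_regElt, map_mul,
        (val_natCast_eq_one_iff hM _).2 hH, one_mul]
      exact (mem_principal_and_not_dvd_iff hM η).1 ⟨hη, hd⟩)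
  refine ⟨χ, h1, h2, ?_⟩
  rwa [classInner_indFun_eq_restrict H η.2.isGen χ.2.isGen] at h3

/-- The `p`-regular elements lie in a normal subgroup of `p`-power index. -/
theorem ev_regElt_one_of_index (N : Subgroup G) [N.Normal] (hN : ∃ k, N.index = p ^ k)
    (χ : G → ℂ) :
    ev χ (regElt p (fun _ => 1)) = ev (fun n : N => χ n) (regElt p (fun _ => 1)) := by
  rw [← ev_incl, ← res_regElt N (fun _ => 1), incl_res_of_support]
  intro g hg
  rw [coeff_regElt, if_pos]
  by_contra h
  exact hg (mem_of_not_dvd_orderOf_of_index N hN h)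

/-- If `G / N` is a `p`-group and `χ` extends `θ`, of `p'`-degree, they are both in the principal
block or both not. -/
theorem mem_principal_iff_of_extends (hM : IsPModular p M) (N : Subgroup G) [N.Normal]
    (hN : ∃ k, N.index = p ^ k) {χ : IrrCharacter G} {θ : IrrCharacter N}
    (h : ∀ n : N, (χ : G → ℂ) n = (θ : N → ℂ) n) :
    (χ ∈ principalBlock M G ∧ ¬ p ∣ charDegree (χ : G → ℂ)) ↔
      (θ ∈ principalBlock M N ∧ ¬ p ∣ charDegree (θ : N → ℂ)) := by
  rw [mem_principal_and_not_dvd_iff hM, mem_principal_and_not_dvd_iff hM,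
    ev_regElt_one_of_index N hN, funext h]

end Cfsg.Agent.Block
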