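import Mathlib
import Cfsg.Agent.Char.RelMcKay
import Cfsg.Agent.Char.RealClifford
import Cfsg.Agent.Char.GlaubCount
import Cfsg.Agent.Block.CoverBridge
import Cfsg.Agent.Grp.MinNormal

/-! Groups whose real irreducible characters have degree prime to `p` (Isaacs–Navarro). -/

set_option autoImplicit false
set_option linter.unusedSectionVars false
set_option linter.style.haveILetI false

namespace Cfsg.Agent.Block
open Cfsg Cfsg.Agent.Char Subgroup
open scoped ComplexConjugate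

universe u

/-- the subgroup generated by the `q`-elements -/
abbrev elCl (q : ℕ) (G : Type*) [Group G] : Subgroup G := closure {g : G | ∃ k : ℕ, orderOf g = q ^ k}

/-- all real irreducible characters have degree prime to `p` -/
abbrev RealHyp (p : ℕ) (G : Type*) [Group G] : Prop :=
  ∀ χ : IrrCharacter G, (∀ g : G, ((χ : G → ℂ) g).im = 0) → ¬ p ∣ charDegree (χ : G → ℂ)

section Grp
variable {G Q : Type*} [Group G] [Group Q] {q : ℕ}

theorem map_elCl_le [hq : Fact q.Prime] (f : G →* Q) : (elCl q G).map f ≤ elCl q Q := by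
  rw [MonoidHom.map_closure]
  refine closure_mono ?_
  rintro _ ⟨g, ⟨k, hk⟩, rfl⟩
  obtain ⟨j, -, hj⟩ := (Nat.dvd_prime_pow hq.out).1 (hk ▸ orderOf_map_dvd f g)
  exact ⟨j, hj⟩

theorem elCl_normal [Fact q.Prime] : (elCl q G).Normal :=
  ⟨fun x hx g => map_elCl_le (MulAut.conj g).toMonoidHom ⟨x, hx, rfl⟩⟩

theorem le_elCl [Fact q.Prime] {P : Subgroup G} (hP : IsPGroup q P) : P ≤ elCl q G :=
  fun _ hx => subset_closure (orderOf_eq_pow_of_mem hP hx)

theorem not_dvd_index_elCl [Finite G] [Fact q.Prime] : ¬ q ∣ (elCl q G).index := fun h => by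
  obtain ⟨P⟩ : Nonempty (Sylow q G) := inferInstance
  exact P.not_dvd_index (h.trans (index_dvd_of_le (le_elCl P.2)))

theorem odd_index_elCl [Finite G] : Odd (elCl 2 G).index :=
  Nat.not_even_iff_odd.1 fun h => not_dvd_index_elCl h.two_dvd

theorem elCl_subgroupOf_le {U : Subgroup G} (h : elCl q G ≤ U) :
    (elCl q G).subgroupOf U ≤ elCl q U := by
  have : elCl q G ≤ (elCl q U).map U.subtype := (closure_le _).2 fun g hg =>
    ⟨⟨g, h (subset_closure hg)⟩, subset_closure (by simpa using hg), rfl⟩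
  intro x hx
  obtain ⟨y, hy, e⟩ := this hx
  rwa [← Subtype.ext e]

theorem elCl_le_centralizer {M : Subgroup G} [hM : M.Normal]
    (h : ∀ x ∈ M, IsConj x x⁻¹ → x = 1) : elCl 2 G ≤ centralizer (M : Set G) := by
  have key : ∀ k : ℕ, ∀ t : G, t ^ 2 ^ k = 1 → t ∈ centralizer (M : Set G) := by
    intro k
    induction k with
    | zero => intro t ht; rw [pow_zero, pow_one] at ht; rw [ht]; exact one_mem _
    | succ k ih =>
      intro t ht m hm
      have h2 := ih (t ^ 2) (by rw [← pow_mul, ← pow_succ', ht]) m hm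
      have h3 := h (m⁻¹ * (t * m * t⁻¹)) (mul_mem (inv_mem hm) (hM.conj_mem m hm t))
        (isConj_iff.2 ⟨t, by
          calc t * (m⁻¹ * (t * m * t⁻¹)) * t⁻¹
              = t * m⁻¹ * t⁻¹ * (t ^ 2 * m) * (t ^ 2)⁻¹ := by rw [sq]; group
            _ = (m⁻¹ * (t * m * t⁻¹))⁻¹ := by rw [← h2]; group⟩)
      rw [inv_mul_eq_one, eq_mul_inv_iff_mul_eq] at h3
      exact h3
  exact (closure_le _).2 fun t ⟨k, hk⟩ => key k t (by rw [← hk, pow_orderOf_eq_one])

theorem exists_real_lift_of_odd [Finite G] {M : Subgroup G} [hM : M.Normal]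
    (hodd : Odd (Nat.card M)) (x : G ⧸ M) (hx : IsConj x x⁻¹) :
    ∃ g : G, IsConj g g⁻¹ ∧ (g : G ⧸ M) = x := by
  classical
  obtain ⟨t', ht⟩ := isConj_iff.1 hx
  obtain ⟨t, rfl⟩ := QuotientGroup.mk_surjective t'
  obtain ⟨a, m, hm, e⟩ := Nat.exists_eq_two_pow_mul_odd (orderOf_pos t).ne'
  have hinv : ∀ j : ℕ, ((t ^ (2 * j + 1) : G) : G ⧸ M) * x * ((t ^ (2 * j + 1) : G) : G ⧸ M)⁻¹ =
      x⁻¹ := by
    have h4 : (t : G ⧸ M) * x⁻¹ * (t : G ⧸ M)⁻¹ = x := by rw [← conj_inv, ht, inv_inv]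
    intro j
    induction j with
    | zero => simpa using ht
    | succ j ih =>
      rw [show 2 * (j + 1) + 1 = 1 + 1 + (2 * j + 1) by ring, pow_add, pow_add, pow_one,
        QuotientGroup.mk_mul, QuotientGroup.mk_mul]
      calc _ = (t : G ⧸ M) * ((t : G ⧸ M) * (((t ^ (2 * j + 1) : G) : G ⧸ M) * x *
            ((t ^ (2 * j + 1) : G) : G ⧸ M)⁻¹) * (t : G ⧸ M)⁻¹) * (t : G ⧸ M)⁻¹ := by group
        _ = x⁻¹ := by rw [ih, h4, ht]
  obtain ⟨j, rfl⟩ := hm
  set s := t ^ (2 * j + 1) with hs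
  have hs1 : s ^ 2 ^ a = 1 := by rw [hs, ← pow_mul, mul_comm, ← e, pow_orderOf_eq_one]
  have hsx : (s : G ⧸ M) * x * (s : G ⧸ M)⁻¹ = x⁻¹ := hinv j
  clear_value s
  have hsx' : (s : G ⧸ M)⁻¹ * x⁻¹ * (s : G ⧸ M) = x := by rw [← hsx]; group
  let σ : Equiv.Perm {y : G // (y : G ⧸ M) = x} :=
    { toFun := fun y => ⟨s * y.1⁻¹ * s⁻¹, by
        rw [QuotientGroup.mk_mul, QuotientGroup.mk_mul, QuotientGroup.mk_inv, QuotientGroup.mk_inv,
          y.2, ← conj_inv, hsx, inv_inv]⟩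
      invFun := fun y => ⟨s⁻¹ * y.1⁻¹ * s, by
        rw [QuotientGroup.mk_mul, QuotientGroup.mk_mul, QuotientGroup.mk_inv, QuotientGroup.mk_inv,
          y.2, hsx']⟩
      left_inv := fun y => Subtype.ext (by simp [mul_assoc])
      right_inv := fun y => Subtype.ext (by simp [mul_assoc]) }
  have hσ : ∀ (n : ℕ) y, ((σ ^ (2 * n)) y).1 = s ^ (2 * n) * y.1 * (s ^ (2 * n))⁻¹ := by
    intro n
    induction n with
    | zero => intro y; simp
    | succ n ih =>
      intro y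
      rw [show 2 * (n + 1) = 1 + 1 + 2 * n by ring, pow_add, pow_add, pow_one, pow_add, pow_add,
        pow_one, Equiv.Perm.mul_apply, Equiv.Perm.mul_apply]
      change s * (s * ((σ ^ (2 * n)) y).1⁻¹ * s⁻¹)⁻¹ * s⁻¹ = _
      rw [ih]; group
  have hσ1 : σ ^ 2 ^ (a + 1) = 1 := Equiv.ext fun y => Subtype.ext (by
    rw [pow_succ', hσ, mul_comm 2, pow_mul, hs1]; simp)
  letI : Fintype {y : G // (y : G ⧸ M) = x} := Fintype.ofFinite _
  have hc : Fintype.card {y : G // (y : G ⧸ M) = x} = Nat.card M := by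
    have := QuotientGroup.card_preimage_mk M {x}
    rw [Nat.card_unique (α := ({x} : Set (G ⧸ M))), mul_one] at this
    rw [← this, ← Nat.card_eq_fintype_card]
    rfl
  obtain ⟨y, hy⟩ := Equiv.Perm.exists_fixed_point_of_prime (p := 2)
    (by rw [hc]; exact fun h => Nat.not_even_iff_odd.2 hodd (even_iff_two_dvd.2 h)) hσ1
  have h1 : s * y.1⁻¹ * s⁻¹ = y.1 := congrArg Subtype.val hy
  exact ⟨y.1, (isConj_iff.2 ⟨s, h1⟩).symm, y.2⟩

end Grp

section Real
variable {G Q : Type*} [Group G] [Finite G] [Group Q] [Finite Q] {p : ℕ}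

theorem RealHyp.quot (h : RealHyp p G) (f : G →* Q) (hf : Function.Surjective f) :
    RealHyp p Q := fun ψ hψ =>
  charDegree_inflateIrr f hf ψ ▸ h (inflateIrr f hf ψ) fun g => hψ (f g)

theorem RealHyp.sub (h : RealHyp p G) (K : Subgroup G) [K.Normal] (hodd : Odd K.index) :
    RealHyp p K := fun θ hθ hd => by
  letI : Fintype G := Fintype.ofFinite _
  letI : Fintype K := Fintype.ofFinite _
  obtain ⟨χ, ⟨h1, h2⟩, -⟩ := existsUnique_real_over K hodd θ.2 hθ
  have h3 := clifford_degree K χ.2 θ.2 h2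
  rw [(fsInd_eq_and_inner_eq_one_of_real_over K hodd θ.2 hθ χ.2 h1 h2).2, one_mul,
    ← coe_charDegree_irr, ← coe_charDegree_irr] at h3
  have h4 : charDegree (χ : G → ℂ) = (inertia K (θ : K → ℂ)).index * charDegree (θ : K → ℂ) := by
    exact_mod_cast h3
  exact h χ h1 (h4 ▸ hd.mul_left _)

theorem eq_one_of_real {M : Subgroup G} [M.Normal]
    (hker : ∀ χ : IrrCharacter G, (∀ g : G, ((χ : G → ℂ) g).im = 0) →
      ∀ m ∈ M, (χ : G → ℂ) m = (χ : G → ℂ) 1)
    (hlift : ∀ x : G ⧸ M, IsConj x x⁻¹ → ∃ g : G, IsConj g g⁻¹ ∧ (g : G ⧸ M) = x) :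
    ∀ x ∈ M, IsConj x x⁻¹ → x = 1 := by
  intro x hx hxr
  let π := QuotientGroup.mk' M
  have hπ : Function.Surjective π := QuotientGroup.mk'_surjective M
  have hreal : ∀ {X : Type _} [Group X] {a b : X}, IsConj a a⁻¹ → IsConj a b → IsConj b b⁻¹ :=
    fun h1 h2 => by
      obtain ⟨c, rfl⟩ := isConj_iff.1 h2
      exact (h2.symm.trans h1).trans (isConj_iff.2 ⟨c, by group⟩)
  have h1 : Nat.card {χ : IrrCharacter G // ∀ g : G, ((χ : G → ℂ) g).im = 0} ≤
      Nat.card {ψ : IrrCharacter (G ⧸ M) // ∀ g, ((ψ : G ⧸ M → ℂ) g).im = 0} := by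
    refine Nat.card_le_card_of_surjective (fun ψ => ⟨inflateIrr π hπ ψ.1, fun g => ψ.2 (π g)⟩) ?_
    rintro ⟨χ, hχ⟩
    obtain ⟨ψ, rfl⟩ := (mem_range_inflateIrr π hπ χ).2 fun n hn =>
      hker χ hχ n (by rwa [QuotientGroup.ker_mk'] at hn)
    exact ⟨⟨ψ, fun g => by obtain ⟨g, rfl⟩ := hπ g; exact hχ g⟩, rfl⟩
  rw [card_real_irr_eq_card_real_classes, card_real_irr_eq_card_real_classes] at h1
  let F : {C : ConjClasses G // ∀ g : G, ConjClasses.mk g = C → IsConj g g⁻¹} →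
      {C : ConjClasses (G ⧸ M) // ∀ g, ConjClasses.mk g = C → IsConj g g⁻¹} := fun C =>
    ⟨ConjClasses.map π C.1, fun g hg => by
      obtain ⟨C, hC⟩ := C
      obtain ⟨y, rfl⟩ := ConjClasses.mk_surjective C
      have h2 : IsConj (π y) (π y)⁻¹ := by simpa using π.map_isConj (hC y rfl)
      exact hreal h2 (ConjClasses.mk_eq_mk_iff_isConj.1 hg).symm⟩
  have hF : Function.Surjective F := by
    rintro ⟨C, hC⟩
    obtain ⟨y, rfl⟩ := ConjClasses.mk_surjective C
    obtain ⟨g, hg, rfl⟩ := hlift y (hC y rfl)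
    exact ⟨⟨ConjClasses.mk g, fun g' e =>
      hreal hg (ConjClasses.mk_eq_mk_iff_isConj.1 e).symm⟩, rfl⟩
  have hI := (hF.bijective_of_nat_card_le h1).1
  have h3 := @hI ⟨ConjClasses.mk x, fun g' e =>
    hreal hxr (ConjClasses.mk_eq_mk_iff_isConj.1 e).symm⟩ ⟨ConjClasses.mk 1, fun g' e =>
    hreal (by simp) (ConjClasses.mk_eq_mk_iff_isConj.1 e).symm⟩ (Subtype.ext (by
      change ConjClasses.mk (π x) = ConjClasses.mk (π 1)
      rw [map_one, show π x = 1 from (QuotientGroup.eq_one_iff x).2 hx]))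
  exact isConj_one_left.1 (ConjClasses.mk_eq_mk_iff_isConj.1 (congrArg Subtype.val h3))

/-- if `χ` lies over a character `η` of `H ≥ M` that is trivial on the normal subgroup `M`, then
`M` lies in the kernel of `χ` -/
theorem ker_of_nmult {M H : Subgroup G} [M.Normal] (hMH : M ≤ H) (χ : IrrCharacter G)
    (η : IrrCharacter H) (h : nmult le_top (topIrr χ).1 η.1 ≠ 0)
    (h1 : ∀ m : M, η.1 ⟨m, hMH m.2⟩ = 1) : ∀ m ∈ M, (χ : G → ℂ) m = (χ : G → ℂ) 1 := by
  letI : Fintype M := Fintype.ofFinite _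
  have h2 := nmult_trans_ne_zero le_top hMH (topIrr χ).2.isCharacter η
    (ξ := fun _ => 1) isIrrCharacter_one.isCharacter h (by
      rw [nmult_eq_one_of_extends hMH η ⟨_, isIrrCharacter_one⟩ h1]; exact one_ne_zero)
  refine (over_one_iff χ.2).1 ?_
  rw [← coe_nmult_topIrr χ ⟨_, isIrrCharacter_one⟩]
  exact_mod_cast h2

theorem ker_of_le_commutator [hp : Fact p.Prime] {P M : Subgroup G} (hP : IsPGroup p P) [M.Normal]
    (hM : M ≤ ⁅P, P⁆) (χ : IrrCharacter G) (hd : ¬ p ∣ charDegree (χ : G → ℂ)) :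
    ∀ m ∈ M, (χ : G → ℂ) m = (χ : G → ℂ) 1 := by
  obtain ⟨θ, h1, h2⟩ := exists_under_not_dvd (N := P) le_top (topIrr χ) hd
  obtain ⟨k, hk⟩ := hP.exists_card_eq
  have h3 : θ.1 1 = 1 := by
    obtain ⟨j, -, hj⟩ := (Nat.dvd_prime_pow hp.out).1
      (hk ▸ θ.2.deg_dvd_card (coe_charDegree_irr θ).symm)
    rcases j with _ | j
    · rw [← coe_charDegree_irr, hj]; simp
    · exact absurd (hj ▸ dvd_pow_self p j.succ_ne_zero) h2
  refine ker_of_nmult (hM.trans (commutator_le_self P)) χ θ (fun e => h1 (e ▸ dvd_zero p))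
    fun m => ?_
  rw [← h3, ← mem_charKer_irr]
  refine commutator_le_charKer_of_one θ.2.isCharacter h3 ?_
  have := hM m.2
  rw [← map_subtype_commutator] at this
  obtain ⟨y, hy, e⟩ := this
  rwa [show (⟨m, _⟩ : P) = y from Subtype.ext e.symm]

end Real

theorem sylow_normal_aux {p : ℕ} [hp : Fact p.Prime] (n : ℕ) :
    ∀ {G : Type u} [Group G] [Finite G] (L : Subgroup G) [L.Normal], Nat.card G = n →
      Group.IsSolvable L → ¬ p ∣ L.index → (∃ a, (elCl 2 G).index = p ^ a) → RealHyp p G →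
      ∀ P : Sylow p G, (P : Subgroup G).Normal := by
  induction n using Nat.strong_induction_on with
  | _ n ih =>
  intro G _ _ L _ hn hL hLi hK hreal P
  have hPL : (P : Subgroup G) ≤ L := by
    have := (PLocal.Amb.isSyl_top P).inf_of_le (N := L) le_top (le_normalizer_of_normal' L ⊤)
    have h1 := this.card_eq_pow
    have h2 : (Nat.card G).factorization p = (Nat.card L).factorization p := by
      rw [← L.card_mul_index, Nat.factorization_mul Nat.card_pos.ne' index_ne_zero_of_finite,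
        Finsupp.add_apply, Nat.factorization_eq_zero_of_not_dvd hLi, add_zero]
    rw [← h2, ← P.card_eq_multiplicity] at h1
    exact inf_eq_left.1 (eq_of_le_of_card_ge inf_le_left h1.ge)
  by_cases hL0 : L = ⊥
  · rw [show (P : Subgroup G) = ⊥ from eq_bot_iff.2 (hL0 ▸ hPL)]; infer_instance
  obtain ⟨q, N, hq, hN, hN0, hNL, hab, hexp, hNq, hmin⟩ :=
    Grp.exists_minNormal_elementaryAbelian_le L hL0
  let π := QuotientGroup.mk' N
  have hπ : Function.Surjective π := QuotientGroup.mk'_surjective N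
  haveI : (L.map π).Normal := Normal.map inferInstance π hπ
  have hlt : Nat.card (G ⧸ N) < n := by
    rw [← hn, card_eq_card_quotient_mul_card_subgroup N]
    exact lt_mul_of_one_lt_right Nat.card_pos (one_lt_card_iff_ne_bot N |>.2 hN0)
  have h1 := ih _ hlt (L.map π) rfl
    (Group.isSolvable_of_surjective (f := π.subgroupMap L) (π.subgroupMap_surjective L))
    (fun h => hLi (h.trans (index_map_dvd L hπ))) (by
      obtain ⟨a, ha⟩ := hK
      obtain ⟨j, -, hj⟩ := (Nat.dvd_prime_pow hp.out).1 (ha ▸ (index_dvd_of_le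
        (map_elCl_le π)).trans (index_map_dvd _ hπ))
      exact ⟨j, hj⟩) (hreal.quot π hπ) (P.mapSurjective hπ)
  have h2 : (N ⊔ (P : Subgroup G)).Normal := by
    have := h1.comap π
    rwa [Sylow.coe_mapSurjective, comap_map_eq, QuotientGroup.ker_mk', sup_comm] at this
  by_cases hqp : q = p
  · subst hqp
    rwa [sup_eq_right.2 (hNq.le_sylow_of_normal P)] at h2
  set H := normalizer ((P : Subgroup G) : Set G) with hH
  have hHN : H ⊔ N = ⊤ := by
    have := P.normalizer_sup_eq_top' (N := N ⊔ (P : Subgroup G)) le_sup_right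
    change H ⊔ _ = ⊤ at this
    rwa [sup_comm N, ← sup_assoc, sup_eq_left.2 (le_normalizer : (P : Subgroup G) ≤ H)] at this
  have hc : ∀ a ∈ N, ∀ b ∈ N, a * b = b * a := fun a ha b hb =>
    congrArg Subtype.val (hab.1.1 ⟨a, ha⟩ ⟨b, hb⟩)
  have hnorm : ∀ W : Subgroup G, W ≤ N → H ≤ normalizer (W : Set G) → W.Normal := fun W h3 h4 =>
    normalizer_eq_top_iff.1 (eq_top_iff.2 (hHN.ge.trans (sup_le h4 fun a ha =>
      centralizer_le_normalizer _ fun b hb => hc b (h3 hb) a ha)))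
  by_contra hne
  have hNH : N ⊓ H = ⊥ := (hmin _ (hnorm _ inf_le_left fun h hh => mem_normalizer_fintype
      fun b hb => ⟨hN.conj_mem b hb.1 h, H.mul_mem (H.mul_mem hh hb.2) (H.inv_mem hh)⟩)
      inf_le_left).resolve_right fun e => hne (normalizer_eq_top_iff.1 (by
        rw [← hHN, sup_eq_left.2 (e ▸ inf_le_right)]))
  have hW : ⁅(P : Subgroup G), N⁆ = N := (hmin _ (hnorm _ (commutator_le_right _ _) (by
      intro h hh
      refine mem_normalizer_fintype fun b hb => ?_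
      have : ⁅(P : Subgroup G), N⁆.map (MulAut.conj h).toMonoidHom ≤ ⁅(P : Subgroup G), N⁆ := by
        rw [map_commutator]
        refine commutator_mono ?_ ?_
        · rintro _ ⟨x, hx, rfl⟩; exact (hh x).1 hx
        · rintro _ ⟨x, hx, rfl⟩; exact hN.conj_mem x hx h
      exact this ⟨b, hb, rfl⟩)) (commutator_le_right _ _)).resolve_left fun e => by
    rw [commutator_comm, commutator_eq_bot_iff_le_centralizer] at e
    exact hN0 (by rw [← hNH, inf_eq_left.2 (e.trans (centralizer_le_normalizer _))])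
  have hone := eq_one_of_real (M := N) (fun χ hχ => by
      obtain ⟨θ, h3, h4, -⟩ := exists_invBy_under_not_dvd (N := N) le_top P.2
        (le_normalizer_of_normal' ⊤ _) (le_normalizer_of_normal' N _) (topIrr χ)
        (invBy_topIrr _ χ) (hreal χ hχ)
      have h5 : θ.1 1 = 1 := one_eq_one_of_commutator_le θ.2 (by
        rw [(commutator_eq_bot_iff_center_eq_top _).2 (eq_top_iff.2 fun a _ =>
          mem_center_iff.2 fun b => hab.1.1 b a)]
        exact bot_le)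
      refine ker_of_nmult le_rfl χ θ (fun e => h4 (e ▸ dvd_zero p)) fun m => ?_
      have h6 : ⁅(P : Subgroup G), N⁆ ≤ (charKer θ.1).map N.subtype := by
        rw [commutator_le]
        intro x hx b hb
        refine ⟨⟨x * b * x⁻¹, hN.conj_mem b hb x⟩ * ⟨b, hb⟩⁻¹, fun y => ?_, rfl⟩
        obtain ⟨μ, hμ⟩ := exists_hom_of_isCharacter_one θ.2.isCharacter h5
        have h7 := h3 x hx ⟨b, hb⟩ ⟨x * b * x⁻¹, hN.conj_mem b hb x⟩ rfl
        simp only [hμ] at h7 ⊢
        rw [map_mul, map_mul, map_inv, Units.ext h7, mul_inv_cancel, one_mul]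
      obtain ⟨y, hy, e⟩ := h6 (hW.ge m.2)
      rw [← h5, ← mem_charKer_irr]
      rwa [show (⟨m, _⟩ : N) = y from Subtype.ext e.symm]) (fun x hx => by
      have hs : Function.Surjective (π.comp H.subtype) := fun y => by
        obtain ⟨g, rfl⟩ := hπ y
        obtain ⟨h, hh, b, hb, rfl⟩ := mem_sup_of_normal_right.1 (hHN.ge (mem_top g))
        exact ⟨⟨h, hh⟩, by
          rw [map_mul, show π b = 1 from (QuotientGroup.eq_one_iff b).2 hb, mul_one]; rfl⟩
      have hi : Function.Injective (π.comp H.subtype) := by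
        rw [injective_iff_map_eq_one]
        intro h hh
        exact Subtype.ext (hNH.le ⟨(QuotientGroup.eq_one_iff _).1 hh, h.2⟩)
      obtain ⟨t, ht⟩ := isConj_iff.1 hx
      obtain ⟨t, rfl⟩ := hs t
      obtain ⟨y, rfl⟩ := hs x
      rw [← map_inv, ← map_inv, ← map_mul, ← map_mul] at ht
      exact ⟨y, isConj_iff.2 ⟨t, congrArg Subtype.val (hi ht)⟩, rfl⟩)
  have hKC := elCl_le_centralizer hone
  haveI := Fact.mk hq
  have hq2 : q ≠ 2 := by
    rintro rfl
    refine hN0 (eq_bot_iff.2 fun x hx => hone x hx ?_)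
    rw [inv_eq_of_mul_eq_one_left (by rw [← sq]; exact hexp x hx)]
  haveI : (elCl 2 G).Normal := elCl_normal
  have hNK : N ≤ elCl 2 G := fun x hx => by
    obtain ⟨a, ha⟩ := hK
    obtain ⟨k, hk⟩ := orderOf_eq_pow_of_mem hNq hx
    refine mem_of_pow_coprime (a := p ^ a) (b := q ^ k)
      (Nat.Coprime.pow _ _ ((Nat.coprime_primes hp.out hq).2 (Ne.symm hqp)))
      (ha ▸ (elCl 2 G).pow_index_mem x) (by rw [← hk, pow_orderOf_eq_one]; exact one_mem _)
  have hKH : elCl 2 G ≤ H := (closure_le _).2 fun t ⟨k, hk⟩ => by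
    obtain ⟨h, hh, b, hb, e⟩ := mem_sup_of_normal_right.1 (hHN.ge (mem_top t))
    have h3 : Commute t b := (hKC (subset_closure ⟨k, hk⟩) b hb).symm
    have h4 : h = t * b⁻¹ := by rw [← e, mul_inv_cancel_right]
    have h5 : h ^ 2 ^ k = b⁻¹ ^ 2 ^ k := by
      rw [h4, h3.inv_right.mul_pow, ← hk, pow_orderOf_eq_one, one_mul]
    have h6 : b⁻¹ ^ 2 ^ k = 1 := hNH.le ⟨pow_mem (inv_mem hb) _, h5 ▸ pow_mem hh _⟩
    obtain ⟨j, hj⟩ := orderOf_eq_pow_of_mem hNq (inv_mem hb)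
    have h7 : b⁻¹ = 1 := orderOf_eq_one_iff.1 (Nat.eq_one_of_dvd_coprimes
      (Nat.Coprime.pow k j ((Nat.coprime_primes Nat.prime_two hq).2 (Ne.symm hq2)))
      (orderOf_dvd_of_pow_eq_one h6) hj.dvd)
    rw [h7, mul_one] at h4
    exact h4 ▸ hh
  exact hN0 (by rw [← hNH, inf_eq_left.2 (hNK.trans hKH)])

/-- The Sylow `p`-subgroup of `U` is normal when `U / O^{2'}(G)` is a `p`-group. -/
theorem sylow_normal_of_realHyp {G : Type u} [Group G] [Finite G] {p : ℕ} [hp : Fact p.Prime]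
    (hsolv : Group.IsSolvable (elCl p G)) (hreal : RealHyp p G) (U : Subgroup G) [U.Normal]
    (hKU : elCl 2 G ≤ U) (hUp : ∃ a : ℕ, (elCl 2 G).relIndex U = p ^ a) (Q : Sylow p U) :
    (Q : Subgroup U).Normal := by
  haveI : (elCl p G).Normal := elCl_normal
  refine sylow_normal_aux _ ((elCl p G).subgroupOf U) rfl ?_ ?_ ?_
    (hreal.sub U (Odd.of_dvd_nat odd_index_elCl (index_dvd_of_le hKU))) Q
  · let f : (elCl p G).subgroupOf U →* elCl p G :=
      (U.subtype.comp ((elCl p G).subgroupOf U).subtype).codRestrict _ fun x => x.2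
    exact Group.isSolvable_of_isSolvable_injective (f := f) fun x y e =>
      Subtype.ext (Subtype.ext (congrArg (fun z : elCl p G => (z : G)) e))
  · exact fun h => not_dvd_index_elCl (h.trans (relIndex_dvd_index_of_normal _ U))
  · obtain ⟨a, ha⟩ := hUp
    obtain ⟨j, -, hj⟩ := (Nat.dvd_prime_pow hp.out).1
      ((index_dvd_of_le (elCl_subgroupOf_le hKU)).trans (dvd_of_eq ha))
    exact ⟨j, hj⟩

section Amb
variable {Γ : Type*} [Group Γ] [Finite Γ] {L H : Subgroup Γ} (hLH : L ≤ H)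
  (hH : H ≤ normalizer (L : Set Γ)) (hodd : ¬ 2 ∣ L.relIndex H)
include hH hodd

theorem real_under_amb {χ : IrrCharacter H} (hχ : irrConj χ = χ) {ν : IrrCharacter L}
    (h : nmult hLH χ.1 ν.1 ≠ 0) : irrConj ν = ν := by
  obtain ⟨x, hx⟩ := exists_smul_eq_of_nmult hLH hH χ ν (irrConj ν) h
    (by rwa [← hχ, nmult_irrConj])
  have h1 : inclusion hH x ∈ MulAction.stabilizer (normalizer (L : Set Γ)) ν :=
    mem_of_pow_coprime (a := 2) (b := L.relIndex H)
      ((Nat.Prime.coprime_iff_not_dvd Nat.prime_two).2 hodd)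
      (by rw [MulAction.mem_stabilizer_iff, sq, mul_smul, hx, ← irrConj_smul, hx,
        irrConj_involutive ν])
      (irr_smul_of_mem ν (pow_relIndex_mem_amb hH x.2))
  rw [← hx]; exact h1

theorem exists_real_over_amb {ν : IrrCharacter L} (hν : irrConj ν = ν) :
    ∃ χ : IrrCharacter H, irrConj χ = χ ∧ nmult hLH χ.1 ν.1 ≠ 0 := by
  letI : Fintype H := Fintype.ofFinite H
  letI : Fintype (L.subgroupOf H) := Fintype.ofFinite _
  haveI := Subgroup.normal_subgroupOf_of_le_normalizer hH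
  obtain ⟨χ, ⟨h1, h2⟩, -⟩ := existsUnique_real_over (L.subgroupOf H) (by
    rwa [← Nat.not_even_iff_odd, even_iff_two_dvd]) (isIrr_subgroupOf hLH ν.2)
    (fun n => irrConj_eq_self_iff.1 hν _)
  refine ⟨χ, irrConj_eq_self_iff.2 h1, ?_⟩
  rw [← coe_nmult_subgroupOf hLH χ.2.isCharacter ν.2.isCharacter] at h2
  exact_mod_cast h2

theorem deg_real_over_amb {χ : IrrCharacter H} (hχ : irrConj χ = χ) {ν : IrrCharacter L}
    (h : nmult hLH χ.1 ν.1 ≠ 0) :
    charDegree χ.1 = (H ⊓ invSubgroup ν.1).relIndex H * charDegree ν.1 := by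
  have hν := real_under_amb hLH hH hodd hχ h
  have hLT : L ≤ H ⊓ invSubgroup ν.1 :=
    le_inf hLH ((invBy_iff_le le_normalizer).1 (invBy_self ν.2.isClassFunction))
  obtain ⟨ψ, h1, h2⟩ := exists_nmult_between (inf_le_left : H ⊓ invSubgroup ν.1 ≤ H) hLT
    χ.2.isCharacter ν.2.isCharacter h
  have h3 : irrConj ψ = ψ := clifford_amb_uniq hLT inf_le_left hH le_rfl χ
    (by have := nmult_irrConj hLT ψ ν; rw [hν] at this; rwa [this])
    (by have := nmult_irrConj inf_le_left χ ψ; rw [hχ] at this; rwa [this]) h2 h1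
  rw [clifford_amb_degree hLT inf_le_left hH le_rfl χ ψ h2 h1,
    (isRes_of_real_over hLT (inf_le_left.trans hH) (fun e => hodd (e.trans
      ⟨_, (relIndex_mul_relIndex L _ H hLT inf_le_left).symm⟩)) hν
      ((invBy_iff_le (inf_le_left.trans hH)).2 inf_le_right) h3 h2).charDegree_eq]

end Amb

theorem relIndex_normalizer_eq_one {G : Type*} [Group G] [Finite G] {p : ℕ} [Fact p.Prime]
    (P : Sylow p G) {T : Subgroup G} (hT : (P : Subgroup G) ≤ T) :
    ((normalizer ((P : Subgroup G) : Set G)).relIndex T : ZMod p) = 1 := by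
  have h1 := card_sylow_modEq_one p T
  rw [(P.subtype hT).card_eq_index_normalizer] at h1
  change (normalizer ((P : Subgroup G).subgroupOf T : Set T)).index ≡ 1 [MOD p] at h1
  rw [← subgroupOf_normalizer_eq hT] at h1
  exact_mod_cast (ZMod.natCast_eq_natCast_iff _ _ _).2 h1

theorem index_eq_relIndex_zmod {G : Type*} [Group G] [Finite G] {p : ℕ} [Fact p.Prime]
    (P : Sylow p G) {T : Subgroup G} (hT : (P : Subgroup G) ≤ T) :
    (T.index : ZMod p) = T.relIndex (normalizer ((P : Subgroup G) : Set G)) := by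
  set N := normalizer ((P : Subgroup G) : Set G)
  have h1 := relIndex_mul_index (inf_le_left : T ⊓ N ≤ T)
  have h2 := relIndex_mul_index (inf_le_right : T ⊓ N ≤ N)
  rw [inf_relIndex_left] at h1
  rw [inf_relIndex_right] at h2
  have h3 := congrArg (Nat.cast : ℕ → ZMod p) (h1.trans h2.symm)
  have h4 := relIndex_normalizer_eq_one P (le_top : (P : Subgroup G) ≤ ⊤)
  rw [relIndex_top_right] at h4
  rwa [Nat.cast_mul, Nat.cast_mul, relIndex_normalizer_eq_one P hT, h4, one_mul, mul_one] at h3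

theorem exists_real_bij {G : Type*} [Group G] [Finite G] {p : ℕ} [hp : Fact p.Prime]
    {K Q : Subgroup G} [hK : K.Normal] [Q.Normal] (hodd : Odd K.index) (hQK : Q ≤ K)
    (hQ : IsPGroup p Q) (hi : ¬ p ∣ Q.relIndex K) (hreal : RealHyp p G) (P : Sylow p G) :
    ∃ f : {χ : IrrCharacter G // ∀ g : G, ((χ : G → ℂ) g).im = 0} →
      {ξ : IrrCharacter (normalizer ((P : Subgroup G) : Set G)) //
        (∀ n, (ξ.1 n).im = 0) ∧ ¬ p ∣ charDegree ξ.1}, Function.Bijective f ∧ ∀ χ,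
      ((charDegree (f χ).1.1 : ZMod p) = charDegree χ.1.1 ∨
        (charDegree (f χ).1.1 : ZMod p) = -(charDegree χ.1.1 : ZMod p)) := by
  set N := normalizer ((P : Subgroup G) : Set G) with hN
  have hPN : (P : Subgroup G) ≤ N := le_normalizer
  have hQP : Q ≤ P := hQ.le_sylow_of_normal P
  have hnK : ∀ H : Subgroup G, H ≤ normalizer (K : Set G) := fun H => le_normalizer_of_normal' K H
  have hPK : (P : Subgroup G) ⊓ K ≤ Q :=
    (PLocal.Amb.isSyl_of_not_dvd_relIndex hQ hQK hi).max _ (P.2.to_le inf_le_left)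
      (le_inf hQP hQK) inf_le_right
  have hCK : K ⊓ N ≤ K := inf_le_left
  have hCN : K ⊓ N ≤ N := inf_le_right
  have hNC : N ≤ normalizer ((K ⊓ N : Subgroup G) : Set G) := fun n hn =>
    mem_normalizer_fintype fun c hc =>
      ⟨hK.conj_mem c hc.1 n, N.mul_mem (N.mul_mem hn hc.2) (N.inv_mem hn)⟩
  have hg : GCorr p P hCK := gcorr_relCent P.2 (le_normalizer_of_normal' Q _) K hQK
    (le_normalizer_of_normal' Q _) (hnK _) hi _ (by
      ext g
      refine ⟨fun h => ⟨h.1, fun x hx => hPK ⟨?_, ?_⟩⟩, fun h => ⟨h.1, ?_⟩⟩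
      · have := (P : Subgroup G).mul_mem hx ((h.2 x⁻¹).1 (inv_mem hx))
        rwa [show x * (g * x⁻¹ * g⁻¹) = x * g * x⁻¹ * g⁻¹ by group] at this
      · exact K.mul_mem (hK.conj_mem g h.1 x) (inv_mem h.1)
      · refine mem_normalizer_fintype fun x hx => ?_
        have := (P : Subgroup G).mul_mem hx (hQP (h.2 x⁻¹ (inv_mem hx)))
        rwa [show x * (x⁻¹ * g * x⁻¹⁻¹ * g⁻¹) = g * x * g⁻¹ by group] at this) hCK
  have o1 : ¬ 2 ∣ K.relIndex ⊤ := by
    rw [relIndex_top_right]; exact fun h => Nat.not_even_iff_odd.2 hodd (even_iff_two_dvd.2 h)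
  have o2 : ¬ 2 ∣ (K ⊓ N).relIndex N := by
    rw [inf_relIndex_right]
    exact fun h => o1 (by rw [relIndex_top_right]; exact h.trans (relIndex_dvd_index_of_normal K N))
  have hre : ∀ χ : IrrCharacter G, irrConj (topIrr χ) = topIrr χ ↔ ∀ g, (χ.1 g).im = 0 :=
    fun χ => irrConj_eq_self_iff.trans ⟨fun h g => h ⟨g, trivial⟩, fun h g => h g⟩
  let R : IrrCharacter G → IrrCharacter N → Prop := fun χ ξ =>
    ∃ (θ : IrrCharacter K) (φ : IrrCharacter ↥(K ⊓ N)), InvBy P θ.1 ∧ InvBy P φ.1 ∧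
      nmult le_top (topIrr χ).1 θ.1 ≠ 0 ∧ nmult hCN ξ.1 φ.1 ≠ 0 ∧ ¬ p ∣ nmult hCK θ.1 φ.1
  have hsm : ∀ (θ : IrrCharacter K) (φ : IrrCharacter ↥(K ⊓ N)) (n : G) (hn : n ∈ N),
      nmult hCK ((⟨n, hnK ⊤ trivial⟩ : normalizer (K : Set G)) • θ : IrrCharacter K).1
        ((⟨n, hNC hn⟩ : normalizer ((K ⊓ N : Subgroup G) : Set G)) • φ :
          IrrCharacter ↥(K ⊓ N)).1 = nmult hCK θ.1 φ.1 :=
    fun θ φ n hn => nmult_smul hCK θ φ _ _ rfl
  have hdeg : ∀ χ ξ, (∀ g, (χ.1 g).im = 0) → (∀ g, (ξ.1 g).im = 0) → R χ ξ →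
      ((charDegree ξ.1 : ZMod p) = charDegree χ.1 ∨
        (charDegree ξ.1 : ZMod p) = -(charDegree χ.1 : ZMod p)) := by
    rintro χ ξ hχ hξ ⟨θ, φ, h1, h2, h3, h4, h5⟩
    have e1 := deg_real_over_amb le_top (hnK ⊤) o1 ((hre χ).2 hχ) h3
    have e2 := deg_real_over_amb hCN hNC o2 (irrConj_eq_self_iff.2 hξ) h4
    have e3 : N ⊓ invSubgroup φ.1 = N ⊓ invSubgroup θ.1 := by
      ext n
      refine and_congr_right fun hn => ⟨fun h => ⟨hnK ⊤ trivial, ?_⟩, fun h => ⟨hNC hn, ?_⟩⟩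
      · refine (irr_smul_eq_iff ⟨n, hnK ⊤ trivial⟩ θ).1
          (hg.inj _ _ (h1.smul (hnK _) _ hn) h1 φ h2 ?_ h5)
        rwa [← (irr_smul_eq_iff ⟨n, hNC hn⟩ φ).2 h.2, hsm θ φ n hn]
      · refine (irr_smul_eq_iff ⟨n, hNC hn⟩ φ).1
          (hg.uniq θ h1 _ _ (h2.smul (hPN.trans hNC) _ hn) h2 ?_ h5)
        rwa [← (irr_smul_eq_iff ⟨n, hnK ⊤ trivial⟩ θ).2 h.2, hsm θ φ n hn]
    rw [charDegree_topIrr, top_inf_eq, relIndex_top_right] at e1
    rw [e3, inf_relIndex_left] at e2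
    have e4 := index_eq_relIndex_zmod P ((invBy_iff_le (hnK _)).1 h1)
    have e5 := hg.degree P.2 (hnK _) (hPN.trans hNC) h1 h2 h5
    rw [e1, e2, Nat.cast_mul, Nat.cast_mul, e4, e5]
    rcases hg.pm θ h1 φ h2 h5 with h | h
    · left
      rw [show (nmult hCK θ.1 φ.1 : ZMod p) = 1 by
        exact_mod_cast (ZMod.intCast_eq_intCast_iff _ _ _).2 h, one_mul]
    · right
      rw [show (nmult hCK θ.1 φ.1 : ZMod p) = -1 by
        exact_mod_cast (ZMod.intCast_eq_intCast_iff _ _ _).2 h]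
      ring
  have ha : ∀ χ : {χ : IrrCharacter G // ∀ g : G, ((χ : G → ℂ) g).im = 0},
      ∃ ξ : {ξ : IrrCharacter N // (∀ n, (ξ.1 n).im = 0) ∧ ¬ p ∣ charDegree ξ.1}, R χ.1 ξ.1 := by
    rintro ⟨χ, hχ⟩
    obtain ⟨θ, h1, h2, -⟩ := exists_invBy_under_not_dvd (N := K) le_top P.2
      (le_normalizer_of_normal' ⊤ _) (hnK _) (topIrr χ) (invBy_topIrr _ χ) (hreal χ hχ)
    have h3 : nmult le_top (topIrr χ).1 θ.1 ≠ 0 := fun e => h2 (e ▸ dvd_zero p)
    obtain ⟨φ, h4, h5⟩ := hg.ex θ h1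
    have h6 := (hg.real_iff h1 h4 h5).1
      (irrConj_eq_self_iff.1 (real_under_amb le_top (hnK ⊤) o1 ((hre χ).2 hχ) h3))
    obtain ⟨ξ, h7, h8⟩ := exists_real_over_amb hCN hNC o2 (irrConj_eq_self_iff.2 h6)
    have hR : R χ ξ := ⟨θ, φ, h1, h4, h3, h8, h5⟩
    refine ⟨⟨ξ, irrConj_eq_self_iff.1 h7, fun hd => hreal χ hχ ?_⟩, hR⟩
    rw [← ZMod.natCast_eq_zero_iff] at hd ⊢
    rcases hdeg χ ξ hχ (irrConj_eq_self_iff.1 h7) hR with h | h
    · rw [← h, hd]
    · rw [← neg_eq_zero, ← h, hd]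
  choose f hf using ha
  refine ⟨f, ⟨fun χ χ' e => Subtype.ext ?_, fun ξ => ?_⟩,
    fun χ => hdeg _ _ χ.2 (f χ).2.1 (hf χ)⟩
  · obtain ⟨θ, φ, h1, h2, h3, h4, h5⟩ := hf χ
    obtain ⟨θ', φ', h1', h2', h3', h4', h5'⟩ := hf χ'
    rw [← e] at h4'
    obtain ⟨n, hn⟩ := exists_smul_eq_of_nmult hCN hNC _ φ φ' h4 h4'
    have h6 := hg.inj _ _ (h1.smul (hnK _) ⟨n, hnK ⊤ trivial⟩ n.2) h1' φ' h2'
      (by rw [← hn]; exact (hsm θ φ n n.2).symm ▸ h5) h5'
    refine (irrCongr topEquiv).injective (eq_of_real_over le_top (hnK ⊤) o1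
      (real_under_amb le_top (hnK ⊤) o1 ((hre χ).2 χ.2) h3) ((hre χ).2 χ.2) ((hre χ').2 χ'.2)
      h3 ?_)
    rwa [← h6, nmult_smul_of_mem _ _ _ _ (mem_top _)] at h3'
  · obtain ⟨φ, h2, h4, -⟩ := exists_invBy_under_not_dvd hCN P.2 (hPN.trans le_normalizer)
      (hPN.trans hNC) ξ.1 ((invBy_self ξ.1.2.isClassFunction).mono hPN) ξ.2.2
    have h4' : nmult hCN ξ.1.1 φ.1 ≠ 0 := fun e => h4 (e ▸ dvd_zero p)
    obtain ⟨θ, h1, h5⟩ := hg.surj φ h2
    have hφ := real_under_amb hCN hNC o2 (irrConj_eq_self_iff.2 ξ.2.1) h4'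
    obtain ⟨χ₀, h6, h3⟩ := exists_real_over_amb le_top (hnK ⊤) o1
      (irrConj_eq_self_iff.2 ((hg.real_iff h1 h2 h5).2 (irrConj_eq_self_iff.1 hφ)))
    obtain ⟨χ, rfl⟩ := exists_topIrr_eq χ₀
    refine ⟨⟨χ, (hre χ).1 h6⟩, Subtype.ext ?_⟩
    obtain ⟨θ', φ', h1', h2', h3', h7, h5'⟩ := hf ⟨χ, (hre χ).1 h6⟩
    obtain ⟨n, hn, e⟩ := exists_smul_eq_of_isSyl le_top (hnK ⊤) (PLocal.Amb.isSyl_top P) _
      h1 h1' h3 h3'
    have hn' : (n : G) ∈ N := hn.2
    have h8 := hg.uniq θ' h1' _ _ (h2.smul (hPN.trans hNC) ⟨n, hNC hn'⟩ hn') h2'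
      (by rw [← e]; exact (hsm θ φ n hn').symm ▸ h5) h5'
    refine eq_of_real_over hCN hNC o2 hφ (irrConj_eq_self_iff.2 (f _).2.1)
      (irrConj_eq_self_iff.2 ξ.2.1) ?_ h4'
    rwa [← h8, nmult_smul_of_mem hCN _ φ ⟨(n : G), hNC hn'⟩ hn'] at h7

/-- the normal Sylow `p`-subgroup of `O^{2'}(G)` -/
theorem exists_normal_sylow_elCl {G : Type u} [Group G] [Finite G] {p : ℕ} [hp : Fact p.Prime]
    (hsolv : Group.IsSolvable (elCl p G)) (hreal : RealHyp p G) :
    ∃ Q : Subgroup G, Q.Normal ∧ Q ≤ elCl 2 G ∧ IsPGroup p Q ∧ ¬ p ∣ Q.relIndex (elCl 2 G) := by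
  haveI : (elCl 2 G).Normal := elCl_normal
  obtain ⟨Q⟩ : Nonempty (Sylow p (elCl 2 G)) := inferInstance
  have h := sylow_normal_of_realHyp hsolv hreal (elCl 2 G) le_rfl ⟨0, by simp⟩ Q
  haveI := Sylow.characteristic_of_normal Q h
  have hs := PLocal.Amb.isSyl_map_subtype Q
  exact ⟨_, ConjAct.normal_of_characteristic_of_normal, hs.le, hs.pgrp, hs.not_dvd_relIndex⟩

theorem exists_conj_mem_normalizer_of_not_dvd {G : Type*} [Group G] [Finite G] {p : ℕ}
    [hp : Fact p.Prime] {K : Subgroup G} [hK : K.Normal] (hodd : Odd K.index)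
    (hi : ¬ p ∣ Nat.card K) (hreal : RealHyp p G) (P : Sylow p G) (x : G) (hx : IsConj x x⁻¹) :
    ∃ y ∈ normalizer ((P : Subgroup G) : Set G), IsConj x y := by
  have h1 : Nat.card {χ : IrrCharacter G // ∀ g : G, ((χ : G → ℂ) g).im = 0} ≤
      Nat.card {ψ : IrrCharacter (normalizer ((P : Subgroup G) : Set G)) //
        ∀ g, ((ψ : normalizer ((P : Subgroup G) : Set G) → ℂ) g).im = 0} := by
    obtain ⟨f, hf, -⟩ := exists_real_bij (Q := ⊥) hodd bot_le IsPGroup.of_bot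
      (by rwa [relIndex_bot_left]) hreal P
    refine Nat.card_le_card_of_injective (fun χ => ⟨(f χ).1, (f χ).2.1⟩) fun χ χ' e => ?_
    have e' := Subtype.ext_iff.1 e
    exact hf.1 (Subtype.ext e')
  set N := normalizer ((P : Subgroup G) : Set G) with hN
  rw [card_real_irr_eq_card_real_classes, card_real_irr_eq_card_real_classes] at h1
  have hr : ∀ {X : Type _} [Group X] {a b : X}, IsConj a a⁻¹ → IsConj a b → IsConj b b⁻¹ :=
    fun h1 h2 => by
      obtain ⟨c, rfl⟩ := isConj_iff.1 h2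
      exact (h2.symm.trans h1).trans (isConj_iff.2 ⟨c, by group⟩)
  let F : {C : ConjClasses N // ∀ g, ConjClasses.mk g = C → IsConj g g⁻¹} →
      {C : ConjClasses G // ∀ g : G, ConjClasses.mk g = C → IsConj g g⁻¹} := fun C =>
    ⟨ConjClasses.map N.subtype C.1, fun g hg => by
      obtain ⟨C, hC⟩ := C
      obtain ⟨y, rfl⟩ := ConjClasses.mk_surjective C
      have h2 : IsConj (y : G) (y : G)⁻¹ := N.subtype.map_isConj (hC y rfl)
      exact hr h2 (ConjClasses.mk_eq_mk_iff_isConj.1 hg).symm⟩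
  have hcen : ∀ y : N, IsConj y y⁻¹ → (P : Subgroup G) ≤ centralizer {(y : G)} := by
    intro y hy z hz
    letI : Fintype G := Fintype.ofFinite _
    letI : Fintype K := Fintype.ofFinite _
    have h2 : (y : G) ∈ K := mem_of_isConj_inv_of_odd_index K hodd (one_mem K)
      (by rw [one_mul]; exact N.subtype.map_isConj hy)
    have h3 : z * y * z⁻¹ * (y : G)⁻¹ ∈ (P : Subgroup G) ⊓ K := ⟨by
      have := (P : Subgroup G).mul_mem hz ((y.2 z⁻¹).1 (inv_mem hz))
      rwa [show z * (y * z⁻¹ * (y : G)⁻¹) = z * y * z⁻¹ * (y : G)⁻¹ by group] at this,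
      K.mul_mem (hK.conj_mem _ h2 z) (inv_mem h2)⟩
    have h4 : (P : Subgroup G) ⊓ K = ⊥ := disjoint_iff.1 <| disjoint_of_coprime_natCard (by
      obtain ⟨k, hk⟩ := P.2.exists_card_eq
      rw [hk]
      exact Nat.Coprime.pow_left _ ((Nat.Prime.coprime_iff_not_dvd hp.out).2 hi))
    rw [h4, mem_bot, mul_inv_eq_one, mul_inv_eq_iff_eq_mul] at h3
    exact mem_centralizer_singleton_iff.2 h3
  have hF : Function.Injective F := by
    rintro ⟨C, hC⟩ ⟨D, hD⟩ e
    obtain ⟨y, rfl⟩ := ConjClasses.mk_surjective C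
    obtain ⟨z, rfl⟩ := ConjClasses.mk_surjective D
    obtain ⟨g, hg⟩ := isConj_iff.1 (ConjClasses.mk_eq_mk_iff_isConj.1
      (congrArg Subtype.val e : ConjClasses.mk (y : G) = ConjClasses.mk (z : G)))
    have h2 := hcen y (hC y rfl)
    have h3 := hcen z (hD z rfl)
    have hg' : g⁻¹⁻¹ * y * g⁻¹ = z := by rw [inv_inv]; exact hg
    obtain ⟨n, hn, e'⟩ := P.conj_eq_normalizer_conj_of_mem_centralizer y g⁻¹
      (fun w hw => mem_centralizer_singleton_iff.1 (h2 hw))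
      (hg' ▸ fun w hw => mem_centralizer_singleton_iff.1 (h3 hw))
    refine Subtype.ext (ConjClasses.mk_eq_mk_iff_isConj.2 (isConj_iff.2 ⟨⟨n, hn⟩⁻¹, ?_⟩))
    exact Subtype.ext (by rw [← hg', e']; simp)
  obtain ⟨⟨C, hC⟩, e⟩ := (hF.bijective_of_nat_card_le h1).2
    ⟨ConjClasses.mk x, fun g' e => hr hx (ConjClasses.mk_eq_mk_iff_isConj.1 e).symm⟩
  obtain ⟨y, rfl⟩ := ConjClasses.mk_surjective C
  exact ⟨y, y.2, (ConjClasses.mk_eq_mk_iff_isConj.1
    (congrArg Subtype.val e : ConjClasses.mk (y : G) = ConjClasses.mk x)).symm⟩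

end Cfsg.Agent.Block
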