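import Mathlib
import Cfsg.Agent.Block.FusChain
import Cfsg.Agent.Block.TNGrp
import Cfsg.Agent.Block.UDBlk

/-! `2`-blocks whose defect group is a two-generator group of order `32` and class three with
centre of order two have one Brauer character. -/

set_option autoImplicit false
set_option linter.unusedSectionVars false

namespace Cfsg.Agent.Block

open Cfsg Cfsg.Agent.Char Subgroup Cfsg.Agent.Block.Alg TK

variable {G : Type*} [Group G] [Finite G] {α β : Fin 2}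

/-- Coordinates. -/
structure TM (P : Subgroup G) (ι : TK α β → G) : Prop where
  inj : Function.Injective ι
  mul : ∀ a b, ι (a * b) = ι a * ι b
  one : ι 1 = 1
  inv : ∀ a, ι a⁻¹ = (ι a)⁻¹
  mem : ∀ g, g ∈ P ↔ ∃ a, ι a = g

namespace TM

variable {P Q : Subgroup G} {ι : TK α β → G} (d : TM P ι) {g q : G}

/-- The terms of the chain. -/
def L (n : ℕ) : Subgroup G where
  carrier := {g | ∃ a, lv n a ∧ ι a = g}
  mul_mem' := by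
    rintro _ _ ⟨a, ha, rfl⟩ ⟨b, hb, rfl⟩
    exact ⟨a * b, (lt_or_ge n 5).elim (fun h => (lv_mul n h a b ha hb).1) (lv_of_le · _),
      d.mul a b⟩
  one_mem' := ⟨1, by simp [lv, show (1 : TK α β) = (0 : Fin 32) from rfl, i, j, k, l], d.one⟩
  inv_mem' := by
    rintro _ ⟨a, ha, rfl⟩
    exact ⟨a⁻¹, (lt_or_ge n 5).elim (fun h => (lv_mul n h a a ha ha).2) (lv_of_le · _), d.inv a⟩

theorem mem_L {n : ℕ} {a : TK α β} : ι a ∈ d.L n ↔ lv n a :=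
  ⟨fun ⟨_, h, h'⟩ => d.inj h' ▸ h, fun h => ⟨a, h, rfl⟩⟩

include d

theorem eq_iff {a b : TK α β} : a = b ↔ ι a = ι b := d.inj.eq_iff.symm

theorem W_central : P ≤ centralizer {ι W} := fun g hg => by
  obtain ⟨a, rfl⟩ := (d.mem g).1 hg
  rw [mem_centralizer_singleton_iff, ← d.mul, comm_W, d.mul]

theorem mem_cent {a t : TK α β} (h : a * t = t * a) : ι a ∈ P ⊓ centralizer {ι t} :=
  ⟨(d.mem _).2 ⟨a, rfl⟩, mem_centralizer_singleton_iff.2 (by rw [← d.mul, h, d.mul])⟩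

variable {M : Ideal AlgInt} {B : Set (IrrCharacter G)} {e : MonoidAlgebra (resField M) G}
  (h : MP 2 B P e)
include h

theorem eq_W_of_comm {t : TK α β} (h1 : PF 2 P e (ι t) (ι W))
    (h2 : ∃ a, a * t = t * a ∧ ∃ b, b * t = t * b ∧ W = br a b) : t = W := by
  obtain ⟨g, hg, h3⟩ := h.fm_ext_center h1 d.W_central
  obtain ⟨a, ha, b, hb, h4⟩ := h2
  obtain ⟨a', ha'⟩ := (d.mem _).1 (h3.mem (d.mem_cent ha))
  obtain ⟨b', hb'⟩ := (d.mem _).1 (h3.mem (d.mem_cent hb))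
  have h5 : ι (br a' b') = g * ι W * g⁻¹ := by
    simp only [h4, d.mul, d.inv, ha', hb']
    group
  have h6 : ∀ c c', ι c' = g * ι c * g⁻¹ → br a' b' * c' = c' * br a' b' := fun c c' hc => by
    rw [d.eq_iff, d.mul, d.mul c', h5, hc, conj_mul, conj_mul, ← d.mul, ← d.mul, comm_W]
  rcases class_two a' b' (h6 a a' ha') (h6 b b' hb') with h7 | h7 <;> rw [h7] at h5
  · exact absurd (d.inj ((conj_eq_one_iff.1 (h5.symm.trans d.one)).trans d.one.symm))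
      C_facts.2.2.2.1
  · exact d.inj (mul_left_cancel (mul_right_cancel (hg.trans h5)))

theorem eq_W {t : TK α β} (h1 : PF 2 P e (ι t) (ι W)) : t = W := by
  obtain ⟨cc, ww, c1, w1, cw1, -, hC⟩ := C_facts (α := α) (β := β)
  have h0 : t * t = 1 := by
    rw [d.eq_iff, d.mul, d.one, (UD.pf_sq h h1).eq_one_iff, ← d.mul, ww, d.one]
  rcases inv_cases t h0 with rfl | h2 | h2 | ⟨h2, n1, n2, a1, a2, a3⟩
  · exact absurd (d.inj ((h1.eq_one_iff.1 d.one).trans d.one.symm)) w1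
  · exact h2
  · exact d.eq_W_of_comm h h1 h2
  obtain ⟨g, hg, h3⟩ := h.fm_ext_center h1 d.W_central
  have hc := d.mem_cent h2
  have hw := d.mem_cent (comm_W t).symm
  have ht := d.mem_cent (rfl : t * t = t * t)
  obtain ⟨c, ec⟩ := (d.mem _).1 (h3.mem hc)
  obtain ⟨w, ew⟩ := (d.mem _).1 (h3.mem hw)
  have k1 : ∀ a a', ι a' = g * ι a * g⁻¹ → (a' = 1 ↔ a = 1) ∧ (a' = W ↔ a = t) := fun a a' ha => by
    rw [d.eq_iff, d.eq_iff (a := a), d.eq_iff (a := a'), d.eq_iff (b := t), ha, ← hg, d.one,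
      conj_eq_one_iff, mul_left_inj, mul_right_inj]
    exact ⟨Iff.rfl, Iff.rfl⟩
  have k2 : ∀ {a a' b b'}, ι a' = g * ι a * g⁻¹ → ι b' = g * ι b * g⁻¹ →
      ι (a' * b') = g * ι (a * b) * g⁻¹ := fun ha hb => by rw [d.mul, d.mul, ha, hb, conj_mul]
  have k3 : ∀ a a', ι a ∈ P ⊓ centralizer {ι t} → ι a' = g * ι a * g⁻¹ →
      (∃ b, b * t * b⁻¹ = t * a) → PF 2 P e (ι (W * a')) (ι W) := fun a a' ha ha' ⟨b, hb⟩ => by
    have h4 := h.pf_conj ht.1 ((d.mem _).2 ⟨b, rfl⟩)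
    rw [← d.inv, ← d.mul, ← d.mul, hb] at h4
    have h5 := h.fm_pf h3 (mul_mem ht ha)
    rw [← d.mul, ← k2 hg.symm ha'] at h5
    exact h.pf_trans h5.symm (h.pf_trans h4.symm h1)
  rcases eight c w ⟨(k1 _ _ (k2 ec ec)).1.2 cc, (k1 _ _ (k2 ew ew)).1.2 ww,
    d.inj ((k2 ec ew).trans (by rw [comm_W, k2 ew ec])), mt (k1 _ _ ec).1.1 c1,
    mt (k1 _ _ ec).2.1 n1.symm, mt (k1 _ _ ew).1.1 w1, mt (k1 _ _ (k2 ec ew)).1.1 cw1,
    mt (k1 _ _ (k2 ec ew)).2.1 n2.symm⟩ with h4 | ⟨a, h4, h5⟩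
  · exact ((k1 _ _ ew).2.1 h4).symm
  refine absurd (d.eq_W_of_comm h ?_ (hC a h5).2) (hC a h5).1
  rcases h4 with rfl | rfl | rfl | rfl
  exacts [ew ▸ (h.fm_pf h3 hw).symm, k3 _ _ hc ec a1, k3 _ _ hw ew a2,
    k3 _ _ (d.mul _ _ ▸ mul_mem hc hw) (k2 ec ew) a3]

theorem inv_one (h1 : FM 2 P e g Q) (hq : q ∈ Q) (h2 : q ∈ d.L 1) : g * q * g⁻¹ ∈ d.L 1 := by
  obtain ⟨a, ha, rfl⟩ := h2
  rcases (lv_one a).1 ha with rfl | rfl
  · simp [d.one, one_mem]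
  · obtain ⟨b, hb⟩ := (d.mem _).1 (h1.mem hq)
    rw [← hb, d.mem_L, lv_one, d.eq_W h (t := b) (hb ▸ (h.fm_pf h1 hq).symm)]
    exact Or.inr rfl

theorem inv_four (h1 : FM 2 P e g Q) (hq : q ∈ Q) (h2 : q ∈ d.L 4) : g * q * g⁻¹ ∈ d.L 4 := by
  obtain ⟨a, ha, rfl⟩ := h2
  obtain ⟨b, hb⟩ := (d.mem _).1 (h1.mem hq)
  rw [← hb, d.mem_L, lv_four, ← d.mem_L, d.mul, hb, conj_mul]
  exact d.inv_one h h1 (mul_mem hq hq) (by rwa [← d.mul, d.mem_L, ← lv_four])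

theorem inv_four' (h1 : FM 2 P e g Q) (hN : g ∈ normalizer (Q : Set G)) (hq : q ∈ Q)
    (h2 : q ∈ d.L 4) : g⁻¹ * q * g ∈ d.L 4 := by
  have h3 := h1.inv
  rw [map_cm_eq_iff.2 hN] at h3
  simpa using d.inv_four h h3 hq h2

theorem inv_two (h1 : FM 2 P e g Q) (hN : g ∈ normalizer (Q : Set G)) (hQ : d.L 4 ≤ Q)
    (hq : q ∈ Q) (h2 : q ∈ d.L 2) : g * q * g⁻¹ ∈ d.L 2 := by
  obtain ⟨a, ha, rfl⟩ := h2
  obtain ⟨b, hb⟩ := (d.mem _).1 (h1.mem hq)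
  rw [← hb, d.mem_L, lv_two']
  intro r hr
  obtain ⟨s, hs, h3⟩ := d.inv_four' h h1 hN (hQ (d.mem_L.2 hr)) (d.mem_L.2 hr)
  have h4 := d.eq_iff.1 ((lv_two' a).1 ha s hs)
  rw [d.mul, d.mul, h3] at h4
  rw [d.eq_iff, d.mul, d.mul, hb]
  calc _ = g * (ι a * (g⁻¹ * ι r * g)) * g⁻¹ := by group
    _ = _ := by rw [h4]; group

theorem inv_three (h1 : FM 2 P e g P) (hN : g ∈ normalizer (P : Set G)) (h2 : q ∈ d.L 3) :
    g * q * g⁻¹ ∈ d.L 3 := by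
  obtain ⟨a, ha, rfl⟩ := h2
  have hP : ∀ a, ι a ∈ P := fun a => (d.mem _).2 ⟨a, rfl⟩
  obtain ⟨b, hb⟩ := (d.mem _).1 (h1.mem (hP a))
  rw [← hb, d.mem_L, lv_three]
  refine ((lv_three a).1 ha).imp (fun h3 => ?_) fun ⟨r, hr, h3⟩ => ?_
  · rw [← d.mem_L, hb]
    exact d.inv_two h h1 hN (fun _ ⟨a, _, h⟩ => h ▸ hP a) (hP a) (d.mem_L.2 h3)
  · obtain ⟨s, hs⟩ := (d.mem _).1 (h1.mem (hP r))
    refine ⟨s, fun h4 => hr ?_, by rw [d.eq_iff, hb, h3, d.mul, d.mul, hs, conj_mul]⟩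
    simpa [hs, mul_assoc, d.mem_L] using d.inv_four' h h1 hN (hP s) (d.mem_L.2 h4)

theorem rank_eq_one : blockRank 2 B = 1 := by
  have hP : ∀ a, ι a ∈ P := fun a => (d.mem _).2 ⟨a, rfl⟩
  have h0 : d.L 0 = ⊥ := eq_bot_iff.2 fun _ ⟨a, ha, h⟩ => by
    rw [← h, (lv_zero a).1 ha, d.one]; exact one_mem _
  have hc : ∀ {n} s q, lv n (q⁻¹ * (s * q * s⁻¹)) → (ι q)⁻¹ * (ι s * ι q * (ι s)⁻¹) ∈ d.L n :=
    fun s q h => by rwa [← d.mem_L, d.mul, d.mul, d.mul, d.inv, d.inv] at h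
  have i0 : ∀ g q : G, q ∈ d.L 0 → g * q * g⁻¹ ∈ d.L 0 := fun g q => by simp [h0]
  refine h.rank_eq_one_of_chain fun Q hQ hC => ?_
  have h5 : Q ≤ d.L 5 := fun q hq => let ⟨a, ha⟩ := (d.mem _).1 (hQ hq); ⟨a, lv_of_le le_rfl a, ha⟩
  have h1 : d.L 1 ≤ Q := by
    rintro _ ⟨a, ha, rfl⟩
    rcases (lv_one a).1 ha with rfl | rfl
    exacts [d.one ▸ one_mem _, hC ⟨hP _, fun q hq =>
      mem_centralizer_singleton_iff.1 (d.W_central (hQ hq))⟩]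
  have hN : ∀ s, (∀ q, (ι q)⁻¹ * (ι s * ι q * (ι s)⁻¹) ∈ Q) → ι s ∈ normalizer (Q : Set G) :=
    fun s hs => mem_normalizer_fintype fun q hq => by
      obtain ⟨a, rfl⟩ := (d.mem _).1 (hQ hq)
      exact (mul_mem_cancel_left (inv_mem hq)).1 (hs a)
  by_cases h4 : d.L 4 ≤ Q
  · by_cases hPQ : P ≤ Q
    · obtain rfl := le_antisymm hQ hPQ
      refine ⟨d.L, 5, h0, h5, fun i hi g hg h2 q hq h3 => ?_, Or.inr ?_⟩
      · interval_cases i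
        exacts [i0 g q h3, d.inv_one h h2 hq h3, d.inv_two h h2 hg h4 hq h3,
          d.inv_three h h2 hg h3, d.inv_four h h2 hq h3]
      · rintro i hi _ - _ - ⟨a, ha, rfl⟩ ⟨b, hb, rfl⟩ ha' hb'
        rw [← d.mul, d.mem_L]
        exact lv_two i hi a b ⟨ha, hb, mt d.mem_L.2 ha', mt d.mem_L.2 hb'⟩
    obtain ⟨_, hs, hsQ⟩ := SetLike.not_le_iff_exists.1 hPQ
    obtain ⟨s, rfl⟩ := (d.mem _).1 hs
    refine ⟨fun i => d.L ([0, 1, 2].getD i 5), 3, h0, h5, fun i hi g hg h2 q hq h3 => ?_,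
      Or.inl ⟨_, hs, hN s fun q => h4 (hc s q (lv_two_cases _ (comm_lv s q).1).1), hsQ,
        fun i hi q _ ⟨a, ha, h2⟩ => h2 ▸ hc s a ?_⟩⟩ <;> interval_cases i
    exacts [i0 g q h3, d.inv_one h h2 hq h3, d.inv_two h h2 hg h4 hq h3, (comm_lv s a).2.2 ha,
      (comm_lv s a).2.1 (Or.inr (Or.inr ha)), (comm_lv s a).1]
  obtain ⟨s, hs, hsN, hsQ⟩ : ∃ s, lv 4 s ∧ ι s ∈ normalizer (Q : Set G) ∧ ι s ∉ Q := by
    have h2 := (C_facts (α := α) (β := β)).2.2.2.2.2.1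
    by_cases h3 : ι C ∈ Q
    · obtain ⟨_, ⟨s, hs, rfl⟩, hsQ⟩ := SetLike.not_le_iff_exists.1 h4
      refine ⟨s, hs, hN s fun q => ?_, hsQ⟩
      obtain ⟨a, ha, h6⟩ := hc s q (comm_lv s q).1
      rcases (lv_two_cases a ha).2 with h7 | rfl | rfl <;> rw [← h6]
      exacts [h1 (d.mem_L.2 h7), h3,
        d.mul _ _ ▸ mul_mem h3 (h1 (d.mem_L.2 ((lv_one _).2 (Or.inr rfl))))]
    · exact ⟨C, (lv_two_cases _ h2).1,
        hN _ fun q => h1 (hc _ q ((comm_lv _ q).2.1 (Or.inr (Or.inl h2)))), h3⟩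
  refine ⟨fun i => d.L ([0, 1, 4].getD i 5), 3, h0, h5, fun i hi g hg h2 q hq h3 => ?_,
    Or.inl ⟨_, hP s, hsN, hsQ, fun i hi q _ ⟨a, ha, h2⟩ => h2 ▸ hc s a ?_⟩⟩ <;> interval_cases i
  exacts [i0 g q h3, d.inv_one h h2 hq h3, d.inv_four h h2 hq h3, (comm_lv s a).2.2 ha,
    (comm_lv s a).2.1 (Or.inl ⟨hs, ha⟩), (lv_two_cases _ (comm_lv s a).1).1]

end TM

theorem TN.rank_eq_one {P : Subgroup G} {x y c w : G} (d : TN P x y c w α β) {M : Ideal AlgInt}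
    {B : Set (IrrCharacter G)} {e : MonoidAlgebra (resField M) G} (h : MP 2 B P e) :
    blockRank 2 B = 1 :=
  let ⟨_, h1, h2, h3, h4, h5⟩ := d.exists_hom
  TM.rank_eq_one ⟨h1, h2, h3, h4, h5⟩ h

end Cfsg.Agent.Block
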